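import Mathlib
import Cfsg.Prelude.Def_GeometricClasses
import Cfsg.Agent.Lib.Helper61.AschDefs

/-!
Shared vocabulary for S5673 (Aschbacher's theorem for subgroups of `Ω_{2m+1}(q)`, `q` odd), architect helper46.
Everything happens on `Fin n → F` with a quadratic form `Q` given as a function; the statement on
`Unit ⊕ (Fin m ⊕ Fin m)` is obtained by transport along a bijection of index types.
-/

set_option autoImplicit false

namespace Cfsg.Agent.Lib.Helper46.AschO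

open Cfsg Cfsg.Geo
open scoped Matrix Kronecker MatrixGroups

variable {F : Type*} [Field F] [Fintype F]

/-- The shapes of the members of the classes for the odd-dimensional orthogonal group, before the intersection
with the isometry group, for a quadratic form `Q` on `F^ι`; `d` is the dimension (used for the class-3 side condition). -/
def OShape {ι : Type} [Fintype ι] [DecidableEq ι] (d : ℕ) (Q : (ι → F) → F) (X : Subgroup (GL ι F)) : Prop :=
  (∃ W : Submodule F (ι → F), W ≠ ⊥ ∧ IsTotallySingularQuad Q W ∧ X = subspaceStabilizer W) ∨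
  (∃ W : Submodule F (ι → F), W ≠ ⊥ ∧ W ≠ ⊤ ∧ IsNondegenerateOn (QuadraticMap.polar Q) W ∧
      X = subspaceStabilizer W) ∨
  (∃ (t k : ℕ) (D : Fin t → Submodule F (ι → F)), 1 < k ∧ IsOrthogonalMDecomposition Q k D ∧
      X = decompositionStabilizer D) ∨
  (∃ (t : ℕ) (D : Fin t → Submodule F (ι → F)), (Fintype.card F).Prime ∧ IsOrthogonalMDecomposition Q 1 D ∧
      X = decompositionStabilizer D) ∨
  (∃ (r : ℕ) (K : Subalgebra F (Matrix ι ι F)), r.Prime ∧ d ≠ r ∧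
      IsFieldSubalgebra r K ∧ IsSelfAdjointFor (QuadraticMap.polar Q) K ∧ X = subalgebraNormalizer K) ∨
  (∃ (n₁ n₂ : ℕ) (e : ι ≃ Fin n₁ × Fin n₂) (P : GL ι F)
      (f₁ : (Fin n₁ → F) → (Fin n₁ → F) → F) (f₂ : (Fin n₂ → F) → (Fin n₂ → F) → F),
      3 ≤ n₁ ∧ n₁ < n₂ ∧ IsSymmetricForm f₁ ∧ IsSymmetricForm f₂ ∧
      IsTensorFormStructure id (QuadraticMap.polar Q) f₁ f₂ e P ∧ X = tensorProductSubgroup n₁ n₂ e P) ∨
  (∃ (F₀ : Subfield F) (r : ℕ) (P : GL ι F), r.Prime ∧ Fintype.card F = Nat.card F₀ ^ r ∧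
      IsQuadFormRationalStructure Q F₀ P ∧ X = subfieldSubgroup F₀ P) ∨
  (∃ (k t : ℕ) (e : ι ≃ (Fin t → Fin k)) (P : GL ι F) (f₁ : (Fin k → F) → (Fin k → F) → F),
      3 ≤ k ∧ 2 ≤ t ∧ ¬ (Fintype.card F = 3 ∧ k = 3) ∧ IsSymmetricForm f₁ ∧
      IsTensorPowerFormStructure id (QuadraticMap.polar Q) f₁ e P ∧ X = tensorWreathSubgroup k t e P)

/-- The conclusion "`K` lies in a member of one of the classes" (before intersecting with the isometry group). -/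
def OGeom {n : ℕ} (Q : (Fin n → F) → F) (K : Subgroup (GL (Fin n) F)) : Prop :=
  ∃ X : Subgroup (GL (Fin n) F), OShape n Q X ∧ K ≤ X

/-- The discriminant of `Q` (determinant of the Gram matrix of the polar form) is an element of the prime field
times a non-zero square. -/
def DiscInPrimeField {ι : Type} [Fintype ι] [DecidableEq ι] (Q : (ι → F) → F) : Prop :=
  ∃ (k : ℤ) (s : F), s ≠ 0 ∧ (gramMatrix (QuadraticMap.polar Q)).det = (k : F) * s ^ 2

theorem OShape.of_class {m : ℕ} {X : Subgroup (GL (Unit ⊕ (Fin m ⊕ Fin m)) F)}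
    (h : OShape (2 * m + 1) (quadFormOdd m F) X) :
    InOrthogonalOddClass m F (X ⊓ isometryGroup F (quadFormOdd m F)) := by
  unfold InOrthogonalOddClass
  rcases h with ⟨W, h1, h2, rfl⟩ | ⟨W, h1, h2, h3, rfl⟩ | ⟨t, k, D, h1, h2, rfl⟩ | ⟨t, D, h1, h2, rfl⟩ |
    ⟨r, K, h1, h2, h3, h4, rfl⟩ | ⟨n₁, n₂, e, P, f₁, f₂, h1, h2, h3, h4, h5, rfl⟩ |
    ⟨F₀, r, P, h1, h2, h3, rfl⟩ | ⟨k, t, e, P, f₁, h1, h2, h3, h4, h5, rfl⟩
  · exact Or.inl ⟨W, h1, h2, rfl⟩
  · exact Or.inr (Or.inl ⟨W, h1, h2, h3, rfl⟩)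
  · exact Or.inr (Or.inr (Or.inl ⟨t, k, D, h1, h2, rfl⟩))
  · exact Or.inr (Or.inr (Or.inr (Or.inl ⟨t, D, h1, h2, rfl⟩)))
  · exact Or.inr (Or.inr (Or.inr (Or.inr (Or.inl ⟨r, K, h1, h2, h3, h4, rfl⟩))))
  · exact Or.inr (Or.inr (Or.inr (Or.inr (Or.inr (Or.inl ⟨n₁, n₂, e, P, f₁, f₂, h1, h2, h3, h4, h5, rfl⟩)))))
  · exact Or.inr (Or.inr (Or.inr (Or.inr (Or.inr (Or.inr (Or.inl ⟨F₀, r, P, h1, h2, h3, rfl⟩))))))
  · exact Or.inr (Or.inr (Or.inr (Or.inr (Or.inr (Or.inr (Or.inr ⟨k, t, e, P, f₁, h1, h2, h3, h4, h5, rfl⟩))))))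

end Cfsg.Agent.Lib.Helper46.AschO
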