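import Mathlib
import Cfsg.Prelude.Def_GeometricClasses
import Cfsg.Agent.Lib.Helper61.AschDefs
import Cfsg.Agent.Lib.Helper61.AschBasic
import Cfsg.Agent.Lib.Helper61.AschGlueC
import Cfsg.Agent.Lib.Helper46.AschODefs

/-!
Basic API for S5673: Gram matrix of the polar form of a quadratic form given as a function, adjoints,
similarities.  Everything on `ι → F`, `ι` a finite type.
-/

set_option autoImplicit false
set_option linter.unusedSectionVars false

namespace Cfsg.Agent.Lib.Helper46.AschO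

open Cfsg Cfsg.Geo Cfsg.Agent.Lib.Helper61.Asch
open scoped Matrix Kronecker MatrixGroups

variable {F : Type*} [Field F] {ι : Type} [Fintype ι] [DecidableEq ι]

/-- the Gram matrix of the polar form of `Q` in the standard basis -/
def gramQ (Q : (ι → F) → F) : Matrix ι ι F := gramMatrix (QuadraticMap.polar Q)

theorem gramQ_apply (Q : (ι → F) → F) (i j : ι) :
    gramQ Q i j = QuadraticMap.polar Q (Pi.single i 1) (Pi.single j 1) := rfl

theorem gramQ_transpose (Q : (ι → F) → F) : (gramQ Q)ᵀ = gramQ Q := by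
  ext i j
  rw [Matrix.transpose_apply, gramQ_apply, gramQ_apply, QuadraticMap.polar_comm]

/-- a bilinear form in terms of its Gram matrix -/
theorem bilin_eq_gram (f : (ι → F) → (ι → F) → F) (hf : IsBilinearForm f) (u v : ι → F) :
    f u v = u ⬝ᵥ (gramMatrix f *ᵥ v) := by
  let g : LinearMap.BilinForm F (ι → F) :=
    LinearMap.mk₂ F f hf.add_left (fun c x w => by rw [hf.smul_left]; rfl)
      hf.add_right (fun c x w => by rw [hf.smul_right]; rfl)
  have h1 : f u v = g u v := rfl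
  have h2 : gramMatrix f = LinearMap.BilinForm.toMatrix' g := by
    ext i j
    rw [LinearMap.BilinForm.toMatrix'_apply]
    rfl
  rw [h1, h2, ← Matrix.toBilin'_apply', Matrix.toBilin'_toMatrix']

theorem polar_eq_gram {Q : (ι → F) → F} (hQ : IsNondegenerateQuadraticForm Q) (u v : ι → F) :
    QuadraticMap.polar Q u v = u ⬝ᵥ (gramQ Q *ᵥ v) :=
  bilin_eq_gram _ hQ.polar_bilinear u v

theorem isUnit_gram_of_nondegenerate (f : (ι → F) → (ι → F) → F) (hf : IsBilinearForm f)
    (hnd : IsNondegenerateForm f) : IsUnit (gramMatrix f) := by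
  rw [← Matrix.mulVec_injective_iff_isUnit]
  intro w w' hww
  by_contra hne
  have hd : w - w' ≠ 0 := sub_ne_zero.mpr hne
  obtain ⟨x, hx⟩ := (hnd _ hd).1
  apply hx
  rw [bilin_eq_gram f hf, Matrix.mulVec_sub, hww, sub_self, dotProduct_zero]

theorem isUnit_gramQ {Q : (ι → F) → F} (hQ : IsNondegenerateQuadraticForm Q) : IsUnit (gramQ Q) :=
  isUnit_gram_of_nondegenerate _ hQ.polar_bilinear hQ.nondegenerate

theorem isUnit_det_gramQ {Q : (ι → F) → F} (hQ : IsNondegenerateQuadraticForm Q) : IsUnit (gramQ Q).det :=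
  (Matrix.isUnit_iff_isUnit_det _).mp (isUnit_gramQ hQ)

theorem two_mul_Q {Q : (ι → F) → F} (hQ : IsNondegenerateQuadraticForm Q) (v : ι → F) :
    2 * Q v = QuadraticMap.polar Q v v := by
  have h := hQ.smul 2 v
  unfold QuadraticMap.polar
  rw [← two_smul F v, h]
  ring

theorem Q_eq_half {Q : (ι → F) → F} (hQ : IsNondegenerateQuadraticForm Q) (h2 : (2 : F) ≠ 0) (v : ι → F) :
    Q v = 2⁻¹ * QuadraticMap.polar Q v v := by
  rw [← two_mul_Q hQ, ← mul_assoc, inv_mul_cancel₀ h2, one_mul]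

/-- the adjoint of a matrix for the polar form of `Q` -/
noncomputable def adjQ (Q : (ι → F) → F) (x : Matrix ι ι F) : Matrix ι ι F := (gramQ Q)⁻¹ * xᵀ * gramQ Q

theorem gramQ_mul_adjQ {Q : (ι → F) → F} (hQ : IsNondegenerateQuadraticForm Q) (x : Matrix ι ι F) :
    gramQ Q * adjQ Q x = xᵀ * gramQ Q := by
  unfold adjQ
  rw [← mul_assoc, ← mul_assoc, Matrix.mul_nonsing_inv _ (isUnit_det_gramQ hQ), one_mul]

theorem polar_adjQ {Q : (ι → F) → F} (hQ : IsNondegenerateQuadraticForm Q) (x : Matrix ι ι F) (u v : ι → F) :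
    QuadraticMap.polar Q (x *ᵥ u) v = QuadraticMap.polar Q u (adjQ Q x *ᵥ v) := by
  rw [polar_eq_gram hQ, polar_eq_gram hQ, Matrix.mulVec_mulVec, gramQ_mul_adjQ hQ, ← Matrix.mulVec_mulVec,
    Matrix.dotProduct_mulVec u, Matrix.vecMul_transpose]

theorem eq_of_polar_eq {Q : (ι → F) → F} (hQ : IsNondegenerateQuadraticForm Q) (y z : Matrix ι ι F)
    (h : ∀ u v, QuadraticMap.polar Q u (y *ᵥ v) = QuadraticMap.polar Q u (z *ᵥ v)) : y = z := by
  have h1 : gramQ Q * y = gramQ Q * z := by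
    ext i j
    have := h (Pi.single i 1) (Pi.single j 1)
    rw [polar_eq_gram hQ, polar_eq_gram hQ, Matrix.mulVec_mulVec, Matrix.mulVec_mulVec] at this
    simpa using this
  have h2 := congrArg (fun M => (gramQ Q)⁻¹ * M) h1
  simp only [← mul_assoc, Matrix.nonsing_inv_mul _ (isUnit_det_gramQ hQ), one_mul] at h2
  exact h2

theorem adjQ_unique {Q : (ι → F) → F} (hQ : IsNondegenerateQuadraticForm Q) (x y : Matrix ι ι F)
    (h : ∀ u v, QuadraticMap.polar Q (x *ᵥ u) v = QuadraticMap.polar Q u (y *ᵥ v)) : y = adjQ Q x :=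
  eq_of_polar_eq hQ _ _ fun u v => by rw [← h, polar_adjQ hQ]

theorem adjQ_mul {Q : (ι → F) → F} (hQ : IsNondegenerateQuadraticForm Q) (x y : Matrix ι ι F) :
    adjQ Q (x * y) = adjQ Q y * adjQ Q x := by
  symm
  apply adjQ_unique hQ
  intro u v
  rw [← Matrix.mulVec_mulVec, polar_adjQ hQ, polar_adjQ hQ, Matrix.mulVec_mulVec]

theorem adjQ_add (Q : (ι → F) → F) (x y : Matrix ι ι F) : adjQ Q (x + y) = adjQ Q x + adjQ Q y := by
  unfold adjQ
  rw [Matrix.transpose_add, mul_add, add_mul]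

theorem adjQ_smul (Q : (ι → F) → F) (c : F) (x : Matrix ι ι F) : adjQ Q (c • x) = c • adjQ Q x := by
  unfold adjQ
  rw [Matrix.transpose_smul, Matrix.mul_smul, Matrix.smul_mul]

theorem adjQ_one {Q : (ι → F) → F} (hQ : IsNondegenerateQuadraticForm Q) : adjQ Q 1 = 1 := by
  unfold adjQ
  rw [Matrix.transpose_one, mul_one, Matrix.nonsing_inv_mul _ (isUnit_det_gramQ hQ)]

theorem adjQ_algebraMap {Q : (ι → F) → F} (hQ : IsNondegenerateQuadraticForm Q) (c : F) :
    adjQ Q (algebraMap F (Matrix ι ι F) c) = algebraMap F (Matrix ι ι F) c := by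
  rw [Algebra.algebraMap_eq_smul_one, adjQ_smul, adjQ_one hQ]

theorem adjQ_adjQ {Q : (ι → F) → F} (hQ : IsNondegenerateQuadraticForm Q) (x : Matrix ι ι F) :
    adjQ Q (adjQ Q x) = x := by
  symm
  apply adjQ_unique hQ
  intro u v
  rw [QuadraticMap.polar_comm, ← polar_adjQ hQ, QuadraticMap.polar_comm]

theorem adjQ_injective {Q : (ι → F) → F} (hQ : IsNondegenerateQuadraticForm Q) :
    Function.Injective (adjQ Q) := fun x y h => by
  rw [← adjQ_adjQ hQ x, h, adjQ_adjQ hQ]

/-- membership in the isometry group -/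
theorem mem_isometryGroup_iff (Q : (ι → F) → F) (g : GL ι F) :
    g ∈ isometryGroup F Q ↔ ∀ v, Q ((g : Matrix ι ι F) *ᵥ v) = Q v := by
  constructor
  · intro h v
    exact h v v
  · intro h u _
    exact h u

theorem isometryGroup_le_quadSimilarityGroup (Q : (ι → F) → F) :
    isometryGroup F Q ≤ quadSimilarityGroup Q := by
  intro g hg
  rw [mem_isometryGroup_iff] at hg
  exact ⟨1, fun v => by rw [hg, Units.val_one, one_mul]⟩

theorem scalars_le_quadSimilarityGroup {Q : (ι → F) → F} (hQ : IsNondegenerateQuadraticForm Q) :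
    scalars ι F ≤ quadSimilarityGroup Q := by
  intro g hg
  rw [mem_scalars_iff] at hg
  obtain ⟨c, hc⟩ := hg
  refine ⟨c ^ 2, fun v => ?_⟩
  rw [hc, Matrix.smul_mulVec, Matrix.one_mulVec, hQ.smul]
  simp

theorem sup_scalars_le_quadSimilarityGroup {Q : (ι → F) → F} (hQ : IsNondegenerateQuadraticForm Q)
    {H : Subgroup (GL ι F)} (hH : H ≤ isometryGroup F Q) : H ⊔ scalars ι F ≤ quadSimilarityGroup Q :=
  sup_le (hH.trans (isometryGroup_le_quadSimilarityGroup Q)) (scalars_le_quadSimilarityGroup hQ)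

/-- a similarity multiplies the polar form by its multiplier -/
theorem polar_similarity {Q : (ι → F) → F} {g : GL ι F} {c : Fˣ}
    (hc : ∀ v, Q ((g : Matrix ι ι F) *ᵥ v) = (c : F) * Q v) (u v : ι → F) :
    QuadraticMap.polar Q ((g : Matrix ι ι F) *ᵥ u) ((g : Matrix ι ι F) *ᵥ v) = (c : F) * QuadraticMap.polar Q u v := by
  unfold QuadraticMap.polar
  rw [← Matrix.mulVec_add, hc, hc, hc]
  ring

/-- the adjoint of a similarity is its multiplier times its inverse -/
theorem adjQ_similarity {Q : (ι → F) → F} (hQ : IsNondegenerateQuadraticForm Q) {g : GL ι F} {c : Fˣ}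
    (hc : ∀ v, Q ((g : Matrix ι ι F) *ᵥ v) = (c : F) * Q v) :
    adjQ Q (g : Matrix ι ι F) = (c : F) • ((g⁻¹ : GL ι F) : Matrix ι ι F) := by
  symm
  apply adjQ_unique hQ
  intro u v
  have h := polar_similarity hc u (((g⁻¹ : GL ι F) : Matrix ι ι F) *ᵥ v)
  rw [Matrix.mulVec_mulVec, ← Units.val_mul, mul_inv_cancel, Units.val_one, Matrix.one_mulVec] at h
  rw [h, Matrix.smul_mulVec, hQ.polar_bilinear.smul_right]

theorem adjQ_mem_spanAlg {Q : (ι → F) → F} (hQ : IsNondegenerateQuadraticForm Q) {N : Subgroup (GL ι F)}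
    (hN : N ≤ quadSimilarityGroup Q) {x : Matrix ι ι F} (hx : x ∈ spanAlg N) : adjQ Q x ∈ spanAlg N := by
  induction hx using Algebra.adjoin_induction with
  | mem x hx =>
    obtain ⟨g, hg, rfl⟩ := hx
    obtain ⟨c, hc⟩ := hN hg
    rw [adjQ_similarity hQ hc]
    exact (spanAlg N).smul_mem (coe_mem_spanAlg (N.inv_mem hg)) _
  | algebraMap r =>
    rw [adjQ_algebraMap hQ]
    exact (spanAlg N).algebraMap_mem r
  | add x y _ _ hx hy =>
    rw [adjQ_add]
    exact (spanAlg N).add_mem hx hy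
  | mul x y _ _ hx hy =>
    rw [adjQ_mul hQ]
    exact (spanAlg N).mul_mem hy hx

theorem isAdjointClosedFor_spanAlg {Q : (ι → F) → F} (hQ : IsNondegenerateQuadraticForm Q)
    {N : Subgroup (GL ι F)} (hN : N ≤ quadSimilarityGroup Q) :
    IsAdjointClosedFor (QuadraticMap.polar Q) (spanAlg N) :=
  fun k hk => ⟨adjQ Q k, adjQ_mem_spanAlg hQ hN hk, fun u v => polar_adjQ hQ k u v⟩

/-- the orthogonal complement of a subspace for the polar form -/
def perpQ (Q : (ι → F) → F) (hQ : IsNondegenerateQuadraticForm Q) (W : Submodule F (ι → F)) :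
    Submodule F (ι → F) where
  carrier := {v | ∀ w ∈ W, QuadraticMap.polar Q w v = 0}
  zero_mem' := fun w _ => by
    have := hQ.polar_bilinear.smul_right 0 w 0
    simpa using this
  add_mem' := fun {a b} ha hb w hw => by
    rw [hQ.polar_bilinear.add_right, ha w hw, hb w hw, add_zero]
  smul_mem' := fun c a ha w hw => by
    rw [hQ.polar_bilinear.smul_right, ha w hw, mul_zero]

theorem mem_perpQ {Q : (ι → F) → F} (hQ : IsNondegenerateQuadraticForm Q) (W : Submodule F (ι → F))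
    (v : ι → F) : v ∈ perpQ Q hQ W ↔ ∀ w ∈ W, QuadraticMap.polar Q w v = 0 := Iff.rfl

end Cfsg.Agent.Lib.Helper46.AschO
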