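import Mathlib
import Cfsg.Prelude.Def_GeometricClasses
import Cfsg.Agent.Lib.Helper61.AschDefs

/-!
Shared vocabulary for the even-dimensional orthogonal Aschbacher theorem (subgroups of the isometry group of a non-degenerate
quadratic form `Q` on `Fin n → F`, `n` even, `F` finite of any characteristic), architect helper46.
Target rows: S5826 (Ω₈⁻) S5874 (Ω₁₂⁻) S5850 (Ω₁₀⁻) S5847 (Ω₁₀⁺) S5871 (Ω₁₂⁺).
-/

set_option autoImplicit false

namespace Cfsg.Agent.Lib.Helper46.AschE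

open Cfsg Cfsg.Geo Cfsg.Agent.Lib.Helper61.Asch
open scoped Matrix Kronecker MatrixGroups

variable {F : Type*} [Field F] [Fintype F]

/-- The eleven shapes (GL-level stabilisers; the class members are `X ⊓ isometryGroup F Q` or `X ⊓ omegaGL Q`). -/
def EShape {n : ℕ} (Q : (Fin n → F) → F) (X : Subgroup (GL (Fin n) F)) : Prop :=
  -- (1a) totally singular subspace
  (∃ W : Submodule F (Fin n → F), W ≠ ⊥ ∧ IsTotallySingularQuad Q W ∧ X = subspaceStabilizer W) ∨
  -- (1b) non-degenerate subspace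
  (∃ W : Submodule F (Fin n → F), W ≠ ⊥ ∧ W ≠ ⊤ ∧ IsNondegenerateOn (QuadraticMap.polar Q) W ∧
      X = subspaceStabilizer W) ∨
  -- (1c) non-singular point, characteristic 2
  (∃ v : Fin n → F, (2 : F) = 0 ∧ Q v ≠ 0 ∧ X = subspaceStabilizer (Submodule.span F {v})) ∨
  -- (2a) `t ≥ 2` pairwise orthogonal, pairwise isometric non-degenerate `k`-spaces (`k = 1` only over a prime field)
  (∃ (t k : ℕ) (D : Fin t → Submodule F (Fin n → F)), 2 ≤ t ∧ (k = 1 → (Fintype.card F).Prime) ∧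
      IsOrthogonalMDecomposition Q k D ∧ X = decompositionStabilizer D) ∨
  -- (2b) a pair of complementary totally singular subspaces
  (∃ (k : ℕ) (D : Fin 2 → Submodule F (Fin n → F)), IsMDecomposition k D ∧ (∀ i, IsTotallySingularQuad Q (D i)) ∧
      X = decompositionStabilizer D) ∨
  -- (3a) self-adjoint field of prime degree
  (∃ (r : ℕ) (E : Subalgebra F (Matrix (Fin n) (Fin n) F)), r.Prime ∧ IsFieldSubalgebra r E ∧
      IsSelfAdjointFor (QuadraticMap.polar Q) E ∧ X = subalgebraNormalizer E) ∨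
  -- (3b) quadratic field on which the adjoint is the non-trivial automorphism (unitary type)
  (∃ E : Subalgebra F (Matrix (Fin n) (Fin n) F), IsFieldSubalgebra 2 E ∧ IsAdjointClosedFor (QuadraticMap.polar Q) E ∧
      ¬ IsSelfAdjointFor (QuadraticMap.polar Q) E ∧
      (∀ k ∈ E, ∃ c : F, ∀ v : Fin n → F, Q (k *ᵥ v) = c * Q v) ∧ X = subalgebraNormalizer E) ∨
  -- (4) tensor product of two symmetric forms (`q` odd) or of two symplectic forms with `Q = 0` on pure tensors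
  (∃ (n₁ n₂ : ℕ) (e : Fin n ≃ Fin n₁ × Fin n₂) (P : GL (Fin n) F)
      (f₁ : (Fin n₁ → F) → (Fin n₁ → F) → F) (f₂ : (Fin n₂ → F) → (Fin n₂ → F) → F),
      2 ≤ n₁ ∧ n₁ ≤ n₂ ∧
      ((IsSymmetricForm f₁ ∧ IsSymmetricForm f₂ ∧ (2 : F) ≠ 0) ∨
       (IsSymplecticForm f₁ ∧ IsSymplecticForm f₂ ∧
         ∀ (x₁ : Fin n₁ → F) (x₂ : Fin n₂ → F),
           Q ((P : Matrix (Fin n) (Fin n) F) *ᵥ ((fun a : Fin n₁ × Fin n₂ => x₁ a.1 * x₂ a.2) ∘ e)) = 0)) ∧
      IsTensorFormStructure id (QuadraticMap.polar Q) f₁ f₂ e P ∧ X = tensorProductSubgroup n₁ n₂ e P) ∨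
  -- (5) subfield, the rational structure carries a multiple of `Q`
  (∃ (F₀ : Subfield F) (r : ℕ) (P : GL (Fin n) F) (ζ : F), r.Prime ∧ Fintype.card F = Nat.card F₀ ^ r ∧ ζ ≠ 0 ∧
      IsQuadFormRationalStructure (fun v : Fin n → F => ζ * Q v) F₀ P ∧ X = subfieldSubgroup F₀ P) ∨
  -- (6) symplectic-type `r`-group spanning the matrix algebra, consisting of similarities of `Q`; `n = r ^ m`
  (∃ (R : Subgroup (GL (Fin n) F)) (r m : ℕ), R ≤ quadSimilarityGroup Q ∧ spanAlg R = ⊤ ∧ IsSymplecticTypeGroup r R ∧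
      ¬ (r ∣ Fintype.card F) ∧
      (∀ x ∈ R, x ∈ scalars (Fin n) F ∨ Matrix.trace ((x : GL (Fin n) F) : Matrix (Fin n) (Fin n) F) = 0) ∧
      (∀ x ∈ R, x ^ (r * Nat.gcd 2 r) = 1) ∧ 1 ≤ m ∧ n = r ^ m ∧
      Nat.card (Subgroup.center R) = Nat.gcd (r * Nat.gcd 2 r) (Fintype.card F - 1) ∧
      Nat.card R = Nat.card (Subgroup.center R) * r ^ (2 * m) ∧ X = subgroupNormalizer R) ∨
  -- (7) tensor-induced: `n = m ^ t`; for factors of dimension 2 the form `Q` is of plus type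
  (∃ (m t : ℕ) (e : Fin n ≃ (Fin t → Fin m)) (P : GL (Fin n) F), 2 ≤ m ∧ 2 ≤ t ∧
      (m = 2 → IsPlusTypeOn Q ⊤) ∧ X = tensorWreathSubgroup m t e P)

/-- The conclusion "`K` lies in a member of one of the classes" (before intersecting with the isometry group). -/
def EGeom {n : ℕ} (Q : (Fin n → F) → F) (K : Subgroup (GL (Fin n) F)) : Prop :=
  ∃ X : Subgroup (GL (Fin n) F), EShape Q X ∧ K ≤ X

theorem EGeom.mono {n : ℕ} {Q : (Fin n → F) → F} {K K' : Subgroup (GL (Fin n) F)} (h : EGeom Q K) (hle : K' ≤ K) :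
    EGeom Q K' := by
  obtain ⟨X, hX, hK⟩ := h
  exact ⟨X, hX, hle.trans hK⟩

end Cfsg.Agent.Lib.Helper46.AschE
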