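import Mathlib

set_option autoImplicit false

namespace Cfsg.Agent.Lib.Helper46

section cyclic

/-- In a finite cyclic group of order `a * b`, the `a`-th powers are exactly the elements killed
by `b`. -/
theorem exists_pow_eq_of_pow_eq_one {C : Type*} [CommGroup C] [Finite C] [IsCyclic C] (a b : ℕ)
    (hab : Nat.card C = a * b) (y : C) (hy : y ^ b = 1) : ∃ x : C, x ^ a = y := by
  have hpos : 0 < Nat.card C := Nat.card_pos
  have ha : 0 < a := by
    rcases Nat.eq_zero_or_pos a with h | h
    · rw [h, zero_mul] at hab; omega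
    · exact h
  have hle : (powMonoidHom a : C →* C).range ≤ (powMonoidHom b : C →* C).ker := by
    rintro _ ⟨x, rfl⟩
    rw [MonoidHom.mem_ker, powMonoidHom_apply, powMonoidHom_apply, ← pow_mul, ← hab]
    exact pow_card_eq_one'
  have hK : Nat.card (powMonoidHom b : C →* C).ker = b := by
    rw [IsCyclic.card_powMonoidHom_ker, hab]
    exact Nat.gcd_eq_right (Dvd.intro_left a rfl)
  have hR : Nat.card (powMonoidHom a : C →* C).range = b := by
    rw [IsCyclic.card_powMonoidHom_range, hab]
    have : (a * b).gcd a = a := Nat.gcd_eq_right (Dvd.intro b rfl)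
    rw [this, Nat.mul_div_cancel_left b ha]
  have heq : (powMonoidHom a : C →* C).range = (powMonoidHom b : C →* C).ker :=
    Subgroup.eq_of_le_of_card_ge hle (by rw [hK, hR])
  have hy' : y ∈ (powMonoidHom b : C →* C).ker := by
    rw [MonoidHom.mem_ker, powMonoidHom_apply, hy]
  rw [← heq] at hy'
  obtain ⟨x, hx⟩ := hy'
  exact ⟨x, hx⟩

end cyclic

section frob

variable {F : Type*} [Field F] [Fintype F] {q : ℕ}

/-- If `|F| = q^2` then `x ↦ x^q` is a ring endomorphism of `F`. -/
theorem exists_frobRing (hF : Fintype.card F = q ^ 2) :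
    ∃ φ : F →+* F, ∀ x, φ x = x ^ q := by
  obtain ⟨p, hchar⟩ := CharP.exists F
  have hp : p.Prime := CharP.char_is_prime F p
  have : Fact p.Prime := ⟨hp⟩
  obtain ⟨k, _, hk⟩ := FiniteField.card F p
  have hdvd : q ∣ p ^ (k : ℕ) := by
    rw [← hk, hF]; exact Dvd.intro_left (q ^ 1) (by ring)
  obtain ⟨j, _, hj⟩ := (Nat.dvd_prime_pow hp).mp hdvd
  refine ⟨iterateFrobenius F p j, ?_⟩
  intro x
  rw [iterateFrobenius_def, hj]

/-- The ring endomorphism `x ↦ x^q` of a field with `q^2` elements. -/
noncomputable def frobRing (hF : Fintype.card F = q ^ 2) : F →+* F := (exists_frobRing hF).choose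

theorem frobRing_apply (hF : Fintype.card F = q ^ 2) (x : F) : frobRing hF x = x ^ q :=
  (exists_frobRing hF).choose_spec x

theorem frobRing_frobRing (hF : Fintype.card F = q ^ 2) (x : F) :
    frobRing hF (frobRing hF x) = x := by
  rw [frobRing_apply, frobRing_apply, ← pow_mul, ← sq, ← hF, FiniteField.pow_card]

theorem one_lt_of_card (hF : Fintype.card F = q ^ 2) : 1 < q := by
  have h1 : 1 < Fintype.card F := Fintype.one_lt_card
  rw [hF] at h1
  by_contra h
  rw [not_lt] at h
  have : q ^ 2 ≤ 1 ^ 2 := Nat.pow_le_pow_left h 2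
  omega

theorem card_units_eq (hF : Fintype.card F = q ^ 2) : Nat.card Fˣ = (q + 1) * (q - 1) := by
  rw [Nat.card_units, Nat.card_eq_fintype_card, hF]
  have hq := one_lt_of_card hF
  obtain ⟨r, rfl⟩ : ∃ r, q = r + 1 := ⟨q - 1, by omega⟩
  simp only [Nat.add_sub_cancel]
  have : (r + 1) ^ 2 = (r + 1 + 1) * r + 1 := by ring
  rw [this, Nat.add_sub_cancel]

/-- There is `α` with `α * α^q = -1`. -/
theorem exists_norm_neg_one (hF : Fintype.card F = q ^ 2) :
    ∃ α : F, α * frobRing hF α = -1 := by
  have hq := one_lt_of_card hF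
  have hy : (-1 : Fˣ) ^ (q - 1) = 1 := by
    apply Units.ext
    have h1 : ((-1 : F)) ^ (q - 1) * (-1) = -1 := by
      rw [← pow_succ, Nat.sub_add_cancel (by omega), ← frobRing_apply hF, map_neg, map_one]
    have h2 : ((-1 : F)) ^ (q - 1) = 1 := by
      have := congrArg (fun t => t * (-1 : F)) h1
      simpa [mul_assoc] using this
    simpa using h2
  obtain ⟨x, hx⟩ := exists_pow_eq_of_pow_eq_one (C := Fˣ) (q + 1) (q - 1) (card_units_eq hF) (-1) hy
  refine ⟨(x : F), ?_⟩
  rw [frobRing_apply, ← pow_succ']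
  have := congrArg Units.val hx
  simpa using this

/-- There is `δ ≠ 0` with `δ^q = -δ`. -/
theorem exists_trace_zero (hF : Fintype.card F = q ^ 2) :
    ∃ δ : F, δ ≠ 0 ∧ frobRing hF δ = -δ := by
  have hq := one_lt_of_card hF
  have hy : (-1 : Fˣ) ^ (q + 1) = 1 := by
    apply Units.ext
    have h1 : ((-1 : F)) ^ (q + 1) = 1 := by
      rw [pow_succ, ← frobRing_apply hF, map_neg, map_one]
      simp
    simpa using h1
  have hcard : Nat.card Fˣ = (q - 1) * (q + 1) := by rw [card_units_eq hF, mul_comm]
  obtain ⟨x, hx⟩ := exists_pow_eq_of_pow_eq_one (C := Fˣ) (q - 1) (q + 1) hcard (-1) hy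
  refine ⟨(x : F), Units.ne_zero x, ?_⟩
  rw [frobRing_apply]
  have h2 : (x : F) ^ (q - 1) = -1 := by
    have := congrArg Units.val hx
    simpa using this
  calc (x : F) ^ q = (x : F) ^ (q - 1) * x := by
        rw [← pow_succ, Nat.sub_add_cancel (by omega)]
    _ = -x := by rw [h2]; ring

/-- There is `μ ≠ 1` with `μ * μ^q = 1`. -/
theorem exists_norm_one_ne_one (hF : Fintype.card F = q ^ 2) :
    ∃ μ : F, μ ≠ 1 ∧ μ * frobRing hF μ = 1 := by
  have hq := one_lt_of_card hF
  have hK : Nat.card (powMonoidHom (q + 1) : Fˣ →* Fˣ).ker = q + 1 := by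
    rw [IsCyclic.card_powMonoidHom_ker, card_units_eq hF]
    exact Nat.gcd_eq_right (Dvd.intro _ rfl)
  have : Nontrivial (powMonoidHom (q + 1) : Fˣ →* Fˣ).ker := by
    rw [← Finite.one_lt_card_iff_nontrivial, hK]; omega
  obtain ⟨u, hu⟩ := exists_ne (1 : (powMonoidHom (q + 1) : Fˣ →* Fˣ).ker)
  refine ⟨((u : Fˣ) : F), ?_, ?_⟩
  · intro h
    apply hu
    apply Subtype.ext
    apply Units.ext
    simpa using h
  · rw [frobRing_apply, ← pow_succ']
    have h1 : (u : Fˣ) ^ (q + 1) = 1 := by
      have := u.2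
      rwa [MonoidHom.mem_ker, powMonoidHom_apply] at this
    have := congrArg Units.val h1
    simpa using this

/-- The fixed field of `x ↦ x^q`. -/
noncomputable def fixedField (hF : Fintype.card F = q ^ 2) : Subfield F :=
  (frobRing hF).eqLocusField (RingHom.id F)

theorem mem_fixedField (hF : Fintype.card F = q ^ 2) (x : F) :
    x ∈ fixedField hF ↔ frobRing hF x = x := Iff.rfl

theorem frobRing_fixed (hF : Fintype.card F = q ^ 2) (x : fixedField hF) :
    frobRing hF (x : F) = x := x.2

/-- The fixed field has at least `q` elements. -/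
theorem le_card_fixedField (hF : Fintype.card F = q ^ 2) : q ≤ Nat.card (fixedField hF) := by
  have hq := one_lt_of_card hF
  have hK : Nat.card (powMonoidHom (q - 1) : Fˣ →* Fˣ).ker = q - 1 := by
    rw [IsCyclic.card_powMonoidHom_ker, card_units_eq hF]
    exact Nat.gcd_eq_right (Dvd.intro_left _ rfl)
  have hmem : ∀ u : (powMonoidHom (q - 1) : Fˣ →* Fˣ).ker, (((u : Fˣ) : F)) ∈ fixedField hF := by
    intro u
    rw [mem_fixedField, frobRing_apply]
    have h1 : (u : Fˣ) ^ (q - 1) = 1 := by
      have := u.2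
      rwa [MonoidHom.mem_ker, powMonoidHom_apply] at this
    have h2 : (((u : Fˣ) : F)) ^ (q - 1) = 1 := by
      have := congrArg Units.val h1
      simpa using this
    calc (((u : Fˣ) : F)) ^ q = (((u : Fˣ) : F)) ^ (q - 1) * ((u : Fˣ) : F) := by
          rw [← pow_succ, Nat.sub_add_cancel (by omega)]
      _ = ((u : Fˣ) : F) := by rw [h2, one_mul]
  let f : Option (powMonoidHom (q - 1) : Fˣ →* Fˣ).ker → fixedField hF := fun o =>
    match o with
    | none => 0
    | some u => ⟨((u : Fˣ) : F), hmem u⟩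
  have hf : Function.Injective f := by
    intro a b hab
    cases a with
    | none =>
      cases b with
      | none => rfl
      | some v =>
        exfalso
        have : (0 : F) = ((v : Fˣ) : F) := congrArg Subtype.val hab
        exact Units.ne_zero (v : Fˣ) this.symm
    | some u =>
      cases b with
      | none =>
        exfalso
        have : ((u : Fˣ) : F) = 0 := congrArg Subtype.val hab
        exact Units.ne_zero (u : Fˣ) this
      | some v =>
        have : ((u : Fˣ) : F) = ((v : Fˣ) : F) := congrArg Subtype.val hab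
        rw [Subtype.ext (Units.ext this)]
  have h1 := Nat.card_le_card_of_injective f hf
  have h2 : Nat.card (Option (powMonoidHom (q - 1) : Fˣ →* Fˣ).ker) = q := by
    rw [Finite.card_option, hK]; omega
  omega

end frob

end Cfsg.Agent.Lib.Helper46
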