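import Mathlib
import Cfsg.Agent.Lib.Helper46.UnitaryField

set_option autoImplicit false

namespace Cfsg.Agent.Lib.Helper46

section frob2

variable {F : Type*} [Field F] [Fintype F] {q : ℕ}

/-- The norm `x ↦ x * x^q` is onto the non-zero fixed elements. -/
theorem exists_norm_eq (hF : Fintype.card F = q ^ 2) (c : F) (hc : frobRing hF c = c)
    (hc0 : c ≠ 0) : ∃ l : F, l * frobRing hF l = c := by
  have hq := one_lt_of_card hF
  have hy : (Units.mk0 c hc0) ^ (q - 1) = 1 := by
    apply Units.ext
    rw [Units.val_pow_eq_pow_val, Units.val_mk0, Units.val_one]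
    rw [frobRing_apply] at hc
    have h1 : c ^ (q - 1) * c = 1 * c := by
      rw [← pow_succ, Nat.sub_add_cancel (by omega), hc, one_mul]
    exact mul_right_cancel₀ hc0 h1
  obtain ⟨x, hx⟩ := exists_pow_eq_of_pow_eq_one (C := Fˣ) (q + 1) (q - 1) (card_units_eq hF)
    (Units.mk0 c hc0) hy
  refine ⟨(x : F), ?_⟩
  rw [frobRing_apply, ← pow_succ']
  have := congrArg Units.val hx
  simpa using this

/-- Some element is moved by `x ↦ x^q`. -/
theorem exists_frobRing_ne (hF : Fintype.card F = q ^ 2) : ∃ z : F, frobRing hF z ≠ z := by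
  obtain ⟨δ, hδ0, hδ⟩ := exists_trace_zero hF
  obtain ⟨μ, hμ1, hμ⟩ := exists_norm_one_ne_one hF
  by_cases h1 : frobRing hF δ = δ
  · have h2 : (2 : F) = 0 := by
      have h3 : 2 * δ = 0 := by
        have := h1.symm.trans hδ
        linear_combination this
      rcases mul_eq_zero.1 h3 with h | h
      · exact h
      · exact absurd h hδ0
    refine ⟨μ, ?_⟩
    intro h4
    apply hμ1
    rw [h4] at hμ
    have h5 : (μ - 1) * (μ - 1) = 0 := by linear_combination hμ + (1 - μ) * h2
    rcases mul_eq_zero.1 h5 with h | h
    · exact sub_eq_zero.1 h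
    · exact sub_eq_zero.1 h
  · exact ⟨δ, h1⟩

/-- Some element has non-zero trace. -/
theorem exists_trace_ne_zero (hF : Fintype.card F = q ^ 2) :
    ∃ z : F, z + frobRing hF z ≠ 0 := by
  by_cases h2 : (2 : F) = 0
  · obtain ⟨z, hz⟩ := exists_frobRing_ne hF
    refine ⟨z, ?_⟩
    intro h
    apply hz
    linear_combination h - z * h2
  · refine ⟨1, ?_⟩
    rw [map_one]
    intro h
    apply h2
    linear_combination h

/-- The number of fixed elements of `x ↦ x^q`, as a filter. -/
theorem le_card_filter_fixed [DecidableEq F] (hF : Fintype.card F = q ^ 2) :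
    q ≤ (Finset.univ.filter (fun c : F => frobRing hF c = c)).card := by
  classical
  have h1 := le_card_fixedField hF
  have h2 : Nat.card (fixedField hF)
      = (Finset.univ.filter (fun c : F => frobRing hF c = c)).card := by
    rw [Nat.card_eq_fintype_card, Fintype.card_subtype]
    congr 1
    ext c
    simp [mem_fixedField]
  rw [← h2]
  exact h1

/-- The number of non-zero fixed elements of `x ↦ x^q`, as a filter. -/
theorem le_card_filter_fixed_ne_zero [DecidableEq F] (hF : Fintype.card F = q ^ 2) :
    q - 1 ≤ (Finset.univ.filter (fun c : F => frobRing hF c = c ∧ c ≠ 0)).card := by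
  classical
  have h1 := le_card_filter_fixed hF
  have h2 : (Finset.univ.filter (fun c : F => frobRing hF c = c ∧ c ≠ 0))
      = (Finset.univ.filter (fun c : F => frobRing hF c = c)).erase 0 := by
    ext c
    simp only [Finset.mem_filter, Finset.mem_univ, true_and, Finset.mem_erase]
    tauto
  rw [h2, Finset.card_erase_of_mem]
  · omega
  · simp

end frob2

end Cfsg.Agent.Lib.Helper46
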