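import Mathlib

set_option autoImplicit false
set_option linter.unusedSimpArgs false
set_option linter.unusedVariables false

/-! Artin–Schreier over a finite field of characteristic two: an anisotropic binary form
`z₁² + a z₁ z₂ + b z₂²` has `a ≠ 0` and absolute trace `Tr (b / a²) = 1`. -/

namespace Cfsg.Agent.Lib.Helper46.AS2

open Polynomial

variable {F : Type*} [Field F] [Fintype F]

/-- the absolute trace, as a sum of iterated squares -/
def tr (f : ℕ) (c : F) : F := ∑ k ∈ Finset.range f, c ^ (2 ^ k)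

theorem two_eq_zero {f : ℕ} (hF : Fintype.card F = 2 ^ f) : (2 : F) = 0 := by
  have h := Nat.cast_card_eq_zero F
  rw [hF, Nat.cast_pow, Nat.cast_ofNat] at h
  exact pow_eq_zero_iff (by
    rintro rfl
    have := Fintype.one_lt_card (α := F)
    rw [hF] at this
    simp at this) |>.1 h

theorem one_le_f {f : ℕ} (hF : Fintype.card F = 2 ^ f) : 1 ≤ f := by
  rcases Nat.eq_zero_or_pos f with rfl | h
  · have := Fintype.one_lt_card (α := F)
    rw [hF] at this
    simp at this
  · exact h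

theorem charP_two {f : ℕ} (hF : Fintype.card F = 2 ^ f) : CharP F 2 :=
  CharTwo.of_one_ne_zero_of_two_eq_zero one_ne_zero (two_eq_zero hF)

theorem tr_add {f : ℕ} (hF : Fintype.card F = 2 ^ f) (x y : F) :
    tr f (x + y) = tr f x + tr f y := by
  have := charP_two hF
  unfold tr
  rw [← Finset.sum_add_distrib]
  refine Finset.sum_congr rfl fun k _ => ?_
  exact add_pow_char_pow x y 2 k

theorem tr_sq {f : ℕ} (hF : Fintype.card F = 2 ^ f) (c : F) : tr f (c ^ 2) = tr f c := by
  unfold tr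
  have h1 : ∀ k, (c ^ 2) ^ (2 ^ k) = c ^ (2 ^ (k + 1)) := by
    intro k
    rw [← pow_mul, pow_succ, mul_comm]
  simp_rw [h1]
  have h2 : c ^ (2 ^ f) = c := by rw [← hF]; exact FiniteField.pow_card c
  have h3 := Finset.sum_range_succ' (fun k => c ^ (2 ^ k)) f
  have h4 := Finset.sum_range_succ (fun k => c ^ (2 ^ k)) f
  rw [h3] at h4
  simp only [pow_zero, pow_one, h2] at h4
  exact add_right_cancel h4

theorem tr_sq_self {f : ℕ} (hF : Fintype.card F = 2 ^ f) (c : F) : tr f c ^ 2 = tr f c := by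
  have := charP_two hF
  have h1 : tr f c ^ 2 = tr f (c ^ 2) := by
    unfold tr
    rw [sum_pow_char 2]
    refine Finset.sum_congr rfl fun k _ => ?_
    rw [← pow_mul, ← pow_mul, mul_comm]
  rw [h1, tr_sq hF]

theorem tr_wp {f : ℕ} (hF : Fintype.card F = 2 ^ f) (y : F) : tr f (y ^ 2 + y) = 0 := by
  rw [tr_add hF, tr_sq hF]
  have h2 := two_eq_zero hF
  linear_combination tr f y * h2

/-- the polynomial whose values are the trace -/
noncomputable def trPoly (f : ℕ) : F[X] := ∑ k ∈ Finset.range f, (X : F[X]) ^ (2 ^ k)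

theorem eval_trPoly (f : ℕ) (c : F) : (trPoly f).eval c = tr f c := by
  unfold trPoly tr
  rw [Polynomial.eval_finsetSum]
  simp

theorem natDegree_trPoly_le (f : ℕ) (hf : 1 ≤ f) : (trPoly (F := F) f).natDegree ≤ 2 ^ (f - 1) := by
  unfold trPoly
  apply Polynomial.natDegree_sum_le_of_forall_le
  intro k hk
  rw [Polynomial.natDegree_X_pow]
  apply Nat.pow_le_pow_right (by norm_num)
  have := Finset.mem_range.1 hk
  omega

theorem trPoly_ne_zero (f : ℕ) (hf : 1 ≤ f) : trPoly (F := F) f ≠ 0 := by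
  intro h
  have h1 : (trPoly (F := F) f).coeff 1 = 1 := by
    unfold trPoly
    rw [Polynomial.finsetSum_coeff]
    simp_rw [Polynomial.coeff_X_pow]
    rw [Finset.sum_eq_single 0]
    · simp
    · intro k _ hk
      have : (1 : ℕ) ≠ 2 ^ k := by
        intro h1
        have := Nat.one_lt_two_pow hk
        omega
      simp [this]
    · intro h0
      exfalso
      exact h0 (Finset.mem_range.2 (by omega))
  rw [h, Polynomial.coeff_zero] at h1
  exact zero_ne_one h1

open Classical in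
theorem card_ker_tr_le {f : ℕ} (hf : 1 ≤ f) :
    (Finset.univ.filter fun c : F => tr f c = 0).card ≤ 2 ^ (f - 1) := by
  have hsub : (Finset.univ.filter fun c : F => tr f c = 0) ⊆ (trPoly (F := F) f).roots.toFinset := by
    intro c hc
    rw [Finset.mem_filter] at hc
    rw [Multiset.mem_toFinset, Polynomial.mem_roots (trPoly_ne_zero f hf), Polynomial.IsRoot,
      eval_trPoly]
    exact hc.2
  calc (Finset.univ.filter fun c : F => tr f c = 0).card
      ≤ (trPoly (F := F) f).roots.toFinset.card := Finset.card_le_card hsub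
    _ ≤ Multiset.card (trPoly (F := F) f).roots := Multiset.toFinset_card_le _
    _ ≤ (trPoly (F := F) f).natDegree := Polynomial.card_roots' _
    _ ≤ 2 ^ (f - 1) := natDegree_trPoly_le f hf

open Classical in
/-- additive Hilbert 90 for `F / F₂`: trace zero elements are of the form `y² + y` -/
theorem exists_wp_of_tr_eq_zero {f : ℕ} (hF : Fintype.card F = 2 ^ f) (c : F)
    (hc : tr f c = 0) : ∃ y : F, y ^ 2 + y = c := by
  have hf := one_le_f hF
  have h2 := two_eq_zero hF
  set wp : F → F := fun y => y ^ 2 + y with hwp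
  have hfib : ∀ a ∈ Finset.univ.image wp, (Finset.univ.filter fun y => wp y = a).card ≤ 2 := by
    intro a ha
    obtain ⟨y₀, _, rfl⟩ := Finset.mem_image.1 ha
    have hsub : (Finset.univ.filter fun y => wp y = wp y₀) ⊆ {y₀, y₀ + 1} := by
      intro y hy
      rw [Finset.mem_filter] at hy
      have h3 : (y - y₀) * (y - y₀ - 1) = 0 := by
        have := hy.2
        simp only [hwp] at this
        linear_combination this + (-y * y₀ + y₀ ^ 2 - y + y₀) * h2
      rw [Finset.mem_insert, Finset.mem_singleton]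
      rcases mul_eq_zero.1 h3 with h | h
      · left; linear_combination h
      · right; linear_combination h
    exact (Finset.card_le_card hsub).trans Finset.card_le_two
  have h4 := Finset.card_le_mul_card_image (Finset.univ : Finset F) 2 hfib
  rw [Finset.card_univ, hF] at h4
  have himg : Finset.univ.image wp ⊆ Finset.univ.filter fun c : F => tr f c = 0 := by
    intro a ha
    obtain ⟨y, _, rfl⟩ := Finset.mem_image.1 ha
    rw [Finset.mem_filter]
    exact ⟨Finset.mem_univ _, tr_wp hF y⟩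
  have h5 : 2 ^ f = 2 * 2 ^ (f - 1) := by
    rw [← pow_succ']
    congr 1
    omega
  have h6 : (Finset.univ.filter fun c : F => tr f c = 0).card ≤ (Finset.univ.image wp).card := by
    have := card_ker_tr_le (F := F) hf
    omega
  have h7 := Finset.eq_of_subset_of_card_le himg h6
  have h8 : c ∈ Finset.univ.image wp := by
    rw [h7, Finset.mem_filter]
    exact ⟨Finset.mem_univ _, hc⟩
  obtain ⟨y, _, hy⟩ := Finset.mem_image.1 h8
  exact ⟨y, hy⟩

theorem a_ne_zero {f : ℕ} (hF : Fintype.card F = 2 ^ f) (a b : F)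
    (hab : ∀ z₁ z₂ : F, z₁ ^ 2 + a * z₁ * z₂ + b * z₂ ^ 2 = 0 → z₁ = 0 ∧ z₂ = 0) : a ≠ 0 := by
  rintro rfl
  have h2 := two_eq_zero hF
  have hinj : Function.Injective (fun x : F => x ^ 2) := by
    intro x y hxy
    have h3 : (x - y) ^ 2 = 0 := by
      have : x ^ 2 = y ^ 2 := hxy
      linear_combination this + (y ^ 2 - x * y) * h2
    have := pow_eq_zero_iff (two_ne_zero) |>.1 h3
    linear_combination this
  obtain ⟨s, hs⟩ := (Finite.injective_iff_surjective.1 hinj) b
  have hs' : s ^ 2 = b := hs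
  have h3 := hab s 1 (by rw [hs']; linear_combination b * h2)
  exact one_ne_zero h3.2

/-- **Artin–Schreier**: the trace of `b / a²` is one for an anisotropic form -/
theorem trace_eq_one {f : ℕ} (hF : Fintype.card F = 2 ^ f) (a b : F)
    (hab : ∀ z₁ z₂ : F, z₁ ^ 2 + a * z₁ * z₂ + b * z₂ ^ 2 = 0 → z₁ = 0 ∧ z₂ = 0) :
    a ≠ 0 ∧ ∑ k ∈ Finset.range f, (b / a ^ 2) ^ (2 ^ k) = 1 := by
  have ha := a_ne_zero hF a b hab
  refine ⟨ha, ?_⟩
  have h2 := two_eq_zero hF
  have h1 := tr_sq_self hF (b / a ^ 2)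
  have h3 : tr f (b / a ^ 2) * (tr f (b / a ^ 2) - 1) = 0 := by linear_combination h1
  rcases mul_eq_zero.1 h3 with h | h
  · exfalso
    obtain ⟨y, hy⟩ := exists_wp_of_tr_eq_zero hF _ h
    have h4 := hab (a * y) 1 (by
      have h5 : b = a ^ 2 * (y ^ 2 + y) := by
        rw [hy]; field_simp
      rw [h5]
      linear_combination (a ^ 2 * y ^ 2 + a ^ 2 * y) * h2)
    exact one_ne_zero h4.2
  · show tr f (b / a ^ 2) = 1
    linear_combination h

/-- the twisted norm form: `Σ_k b^(2^k) a^(2^f - 2^(k+1)) = a` -/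
theorem twisted_sum_eq {f : ℕ} (hF : Fintype.card F = 2 ^ f) (a b : F)
    (hab : ∀ z₁ z₂ : F, z₁ ^ 2 + a * z₁ * z₂ + b * z₂ ^ 2 = 0 → z₁ = 0 ∧ z₂ = 0) :
    ∑ k ∈ Finset.range f, b ^ (2 ^ k) * a ^ (2 ^ f - 2 ^ (k + 1)) = a := by
  obtain ⟨ha, h1⟩ := trace_eq_one hF a b hab
  have haq : a ^ (2 ^ f) = a := by rw [← hF]; exact FiniteField.pow_card a
  have h3 : ∀ k ∈ Finset.range f, b ^ (2 ^ k) * a ^ (2 ^ f - 2 ^ (k + 1)) =
      a * (b / a ^ 2) ^ (2 ^ k) := by
    intro k hk
    have hk' := Finset.mem_range.1 hk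
    have hle : 2 ^ (k + 1) ≤ 2 ^ f := Nat.pow_le_pow_right (by norm_num) (by omega)
    have h4 : a ^ (2 ^ f - 2 ^ (k + 1)) * a ^ (2 ^ (k + 1)) = a := by
      rw [← pow_add, Nat.sub_add_cancel hle, haq]
    have h5 : (a ^ 2) ^ (2 ^ k) = a ^ (2 ^ (k + 1)) := by
      rw [← pow_mul, pow_succ, mul_comm]
    rw [div_pow, h5]
    have h6 : a ^ (2 ^ (k + 1)) ≠ 0 := pow_ne_zero _ ha
    field_simp
    linear_combination b ^ (2 ^ k) * h4
  rw [Finset.sum_congr rfl h3, ← Finset.mul_sum, h1, mul_one]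

/-- squaring in `F[θ]`, `θ² = aθ + b`, in the coordinates `(z₁, z₂) ↔ z₁ + z₂θ` (characteristic 2) -/
def psi (a b : F) (z : F × F) : F × F := (z.1 ^ 2 + b * z.2 ^ 2, a * z.2 ^ 2)

theorem tr_succ (k : ℕ) (c : F) : tr (k + 1) c = tr k c + c ^ (2 ^ k) := by
  unfold tr
  rw [Finset.sum_range_succ]

theorem tr_succ_sq {f : ℕ} (hF : Fintype.card F = 2 ^ f) (k : ℕ) (c : F) :
    tr (k + 1) c = tr k c ^ 2 + c := by
  have := charP_two hF
  have h1 : tr k c ^ 2 = ∑ j ∈ Finset.range k, c ^ (2 ^ (j + 1)) := by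
    unfold tr
    rw [sum_pow_char 2]
    refine Finset.sum_congr rfl fun j _ => ?_
    rw [← pow_mul, pow_succ]
  rw [h1]
  unfold tr
  rw [Finset.sum_range_succ']
  simp

theorem psi_iterate {f : ℕ} (hF : Fintype.card F = 2 ^ f) (a b : F) (ha : a ≠ 0) (k : ℕ)
    (z : F × F) :
    (psi a b)^[k] z =
      (z.1 ^ (2 ^ k) + a ^ (2 ^ k) * tr k (b / a ^ 2) * z.2 ^ (2 ^ k),
        a ^ (2 ^ k) / a * z.2 ^ (2 ^ k)) := by
  have h2 := two_eq_zero hF
  induction k with
  | zero =>
    simp [tr, ha]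
  | succ k ih =>
    rw [Function.iterate_succ_apply', ih]
    unfold psi
    simp only
    rw [tr_succ_sq hF k]
    have e1 : ∀ x : F, x ^ (2 ^ (k + 1)) = (x ^ (2 ^ k)) ^ 2 := by
      intro x
      rw [← pow_mul, pow_succ]
    rw [e1 z.1, e1 z.2, e1 a]
    generalize z.1 ^ (2 ^ k) = u
    generalize z.2 ^ (2 ^ k) = v
    generalize a ^ (2 ^ k) = A
    generalize tr k (b / a ^ 2) = t
    refine Prod.ext ?_ ?_
    · simp only
      field_simp
      linear_combination (A * t * u * v * a ^ 2) * h2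
    · simp only
      field_simp

/-- the `f`-th power of the Frobenius of `F[θ]` is the conjugation `θ ↦ θ + a` -/
theorem psi_iterate_card {f : ℕ} (hF : Fintype.card F = 2 ^ f) (a b : F)
    (hab : ∀ z₁ z₂ : F, z₁ ^ 2 + a * z₁ * z₂ + b * z₂ ^ 2 = 0 → z₁ = 0 ∧ z₂ = 0) (z : F × F) :
    (psi a b)^[f] z = (z.1 + a * z.2, z.2) := by
  obtain ⟨ha, h1⟩ := trace_eq_one hF a b hab
  have hq : ∀ x : F, x ^ (2 ^ f) = x := by
    intro x
    rw [← hF]; exact FiniteField.pow_card x
  rw [psi_iterate hF a b ha f z, hq, hq, hq]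
  have h3 : tr f (b / a ^ 2) = 1 := h1
  rw [h3, mul_one, div_self ha, one_mul]

/-- `psi` preserves the norm form up to Frobenius -/
theorem norm_psi {f : ℕ} (hF : Fintype.card F = 2 ^ f) (a b : F) (z : F × F) :
    (psi a b z).1 ^ 2 + a * (psi a b z).1 * (psi a b z).2 + b * (psi a b z).2 ^ 2 =
      (z.1 ^ 2 + a * z.1 * z.2 + b * z.2 ^ 2) ^ 2 := by
  have h2 := two_eq_zero hF
  unfold psi
  simp only
  linear_combination (a ^ 2 * b * z.2 ^ 4 -
    a * z.1 ^ 3 * z.2 - a * b * z.1 * z.2 ^ 3) * h2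

end Cfsg.Agent.Lib.Helper46.AS2
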