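import Cfsg.Agent.Lib.Helper46.AOLinA

set_option autoImplicit false
set_option linter.unusedSimpArgs false
set_option linter.unusedVariables false
set_option linter.unusedSectionVars false

/-! Irreducibility of a non-degenerate subspace `Y` (dimension at least 5) under the Siegel
transformations with parameters in `Y`. -/

namespace Cfsg.Agent.Lib.Helper46.AO

open Module Cfsg.Agent.Lib.Helper43 Cfsg.Agent.Lib.Helper19

variable {F : Type*} [Field F] [Fintype F] {ι : Type} [Fintype ι] [DecidableEq ι]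
variable (Q : QuadraticForm F (ι → F))

local notation "B" => QuadraticMap.polarBilin Q

/-- two independent functionals: a vector perpendicular to the singular `u` and not to `x` -/
theorem exists_perp_not_perp (hQ : (QuadraticMap.polarBilin Q).Nondegenerate)
    (Y : Submodule F (ι → F)) (hd : Disjoint Y (orthC Q Y))
    (u x : ι → F) (huY : u ∈ Y) (hxY : x ∈ Y) (hu0 : u ≠ 0) (hu : Q u = 0)
    (hx : ∀ c : F, x ≠ c • u) (t : F) :
    ∃ w ∈ Y, B u w = 0 ∧ B x w = t := by
  obtain ⟨u', hu'Y, hu', huu'⟩ := exists_partner Q Y hd u huY hu0 hu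
  have h1 : ∃ w ∈ Y, B u w = 0 ∧ B x w ≠ 0 := by
    by_contra hcon
    push Not at hcon
    apply hx (B x u')
    have h2 : x - B x u' • u = 0 := by
      apply eq_zero_of_perp Q Y hd _ (Y.sub_mem hxY (Y.smul_mem _ huY))
      intro z hz
      have h3 := hcon (z - B u z • u') (Y.sub_mem hz (Y.smul_mem _ hu'Y))
        (by rw [map_sub, map_smul, smul_eq_mul, huu']; ring)
      rw [map_sub, map_smul, smul_eq_mul] at h3
      rw [map_sub, map_smul, LinearMap.sub_apply, LinearMap.smul_apply, smul_eq_mul]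
      linear_combination h3
    exact sub_eq_zero.1 h2
  obtain ⟨w, hwY, huw, hxw⟩ := h1
  refine ⟨(t / B x w) • w, Y.smul_mem _ hwY, ?_, ?_⟩
  · rw [map_smul, huw, smul_zero]
  · rw [map_smul, smul_eq_mul, div_mul_cancel₀ t hxw]

/-- a subspace of dimension at least two is not contained in a line -/
theorem exists_mem_not_smul (W : Submodule F (ι → F)) (hW : 2 ≤ finrank F W) (u : ι → F) :
    ∃ z ∈ W, ∀ c : F, z ≠ c • u := by
  by_contra hcon
  push Not at hcon
  have hle : W ≤ Submodule.span F {u} := by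
    intro z hz
    obtain ⟨c, hc⟩ := hcon z hz
    rw [hc]
    exact Submodule.smul_mem _ _ (Submodule.subset_span rfl)
  have h1 := Submodule.finrank_mono hle
  have h2 := finrank_span_singleton_le (F := F) u
  omega

theorem exists_ne_zero_of_finrank (W : Submodule F (ι → F)) (hW : 1 ≤ finrank F W) :
    ∃ z ∈ W, z ≠ 0 := by
  have : W ≠ ⊥ := by
    intro h
    rw [h, finrank_bot] at hW
    omega
  exact Submodule.exists_mem_ne_zero_of_ne_bot this

/-- **irreducibility** of `Y` under its Siegel transformations -/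
theorem irr (hQ : (QuadraticMap.polarBilin Q).Nondegenerate)
    (Y : Submodule F (ι → F)) (hd : Disjoint Y (orthC Q Y)) (hY : 5 ≤ finrank F Y)
    (M : Submodule F (ι → F)) (hMY : M ≤ Y) (hM0 : M ≠ ⊥)
    (hinv : ∀ u w : ι → F, u ∈ Y → w ∈ Y → Q u = 0 → B u w = 0 →
      ∀ x ∈ M, siegelLin Q u w x ∈ M) : M = Y := by
  -- Step 1: a non-zero singular vector in `M`
  have step1 : ∃ u ∈ M, u ≠ 0 ∧ Q u = 0 := by
    obtain ⟨x, hxM, hx0⟩ := Submodule.exists_mem_ne_zero_of_ne_bot hM0
    by_cases hxQ : Q x = 0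
    · exact ⟨x, hxM, hx0, hxQ⟩
    have hfr := finrank_relOrth_ge Q hQ Y (Submodule.span F {x})
    have hsp := finrank_span_singleton_le (F := F) x
    obtain ⟨u, huW, hu0, hu⟩ := exists_singular_mem_notMem Q (relOrth Q Y (Submodule.span F {x}))
      ⊥ (by rw [finrank_bot]; omega)
    have hu0 : u ≠ 0 := fun h => hu0 (by rw [h]; exact Submodule.zero_mem _)
    obtain ⟨huY, hux⟩ := (mem_relOrth Q hQ Y _ u).1 huW
    have hxu : B x u = 0 := hux x (Submodule.subset_span rfl)
    have hxne : ∀ c : F, x ≠ c • u := by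
      intro c hc
      apply hxQ
      rw [hc, Q_smul, hu, mul_zero]
    obtain ⟨w, hwY, huw, hxw⟩ := exists_perp_not_perp Q hQ Y hd u x huY (hMY hxM) hu0 hu hxne 1
    have h1 := hinv u w huY hwY hu huw x hxM
    rw [siegelLin_apply, hxu, hxw] at h1
    have h2 : u ∈ M := by
      have := M.sub_mem h1 hxM
      simpa using this
    exact ⟨u, h2, hu0, hu⟩
  obtain ⟨u, huM, hu0, hu⟩ := step1
  obtain ⟨u', hu'Y, hu', huu'⟩ := exists_partner Q Y hd u (hMY huM) hu0 hu
  have hp : HPair Q Y u u' := ⟨hMY huM, hu'Y, hu, hu', huu'⟩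
  have hfr := hp.finrank_Y0 Q hQ
  have hdY0 := hp.disjoint_Y0 Q hQ hd
  -- for `w ∈ Y₀`: `w + Q(w) u' ∈ M`
  have key : ∀ w ∈ Y0 Q Y u u', w + Q w • u' ∈ M := by
    intro w hw
    obtain ⟨hwY, huw, hu'w⟩ := (mem_Y0 Q hQ Y u u' w).1 hw
    have h1 := hinv u' w hu'Y hwY hu' hu'w u huM
    rw [siegelLin_apply, huw, huu'] at h1
    have h2 := M.sub_mem huM h1
    have e : u - (u + (0 - Q w * 1) • u' + -(1 : F) • w) = w + Q w • u' := by
      module
    rw [e] at h2
    exact h2
  obtain ⟨w1, hw1, hw10⟩ := exists_ne_zero_of_finrank (Y0 Q Y u u') (by omega)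
  have h2 : ∃ w2 ∈ Y0 Q Y u u', B w1 w2 ≠ 0 := by
    by_contra hcon
    push Not at hcon
    exact hw10 (eq_zero_of_perp Q _ hdY0 w1 hw1 hcon)
  obtain ⟨w2, hw2, hw12⟩ := h2
  have hu'M : u' ∈ M := by
    have h3 := M.sub_mem (M.sub_mem (key (w1 + w2) (Submodule.add_mem _ hw1 hw2)) (key w1 hw1))
      (key w2 hw2)
    have e : w1 + w2 + Q (w1 + w2) • u' - (w1 + Q w1 • u') - (w2 + Q w2 • u') =
        B w1 w2 • u' := by
      rw [Q_add]
      module
    rw [e] at h3
    have h4 := M.smul_mem (B w1 w2)⁻¹ h3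
    rwa [smul_smul, inv_mul_cancel₀ hw12, one_smul] at h4
  have hY0M : ∀ w ∈ Y0 Q Y u u', w ∈ M := by
    intro w hw
    have h3 := M.sub_mem (key w hw) (M.smul_mem (Q w) hu'M)
    simpa using h3
  apply le_antisymm hMY
  intro y hy
  have h3 := hY0M _ (hp.decomp Q hQ y hy)
  have h4 := M.add_mem (M.add_mem h3 (M.smul_mem (B y u') huM)) (M.smul_mem (B y u) hu'M)
  have e : y - B y u' • u - B y u • u' + B y u' • u + B y u • u' = y := by abel
  rwa [e] at h4

end Cfsg.Agent.Lib.Helper46.AO
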