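import Mathlib
import Cfsg.Prelude.Def_Classical
import Cfsg.Agent.Lib.Helper08.QuadCount

set_option autoImplicit false

/-!
# Counting vectors of given norm

* in the standard odd-dimensional quadratic space;
* in a 3-dimensional non-degenerate isotropic quadratic space.
-/

namespace Cfsg.Agent.Lib.Helper46.Spec

open Module

section roots

variable {F : Type*} [Field F]

/-- the equation `d γ² = c` has no or exactly two solutions (`c ≠ 0`, odd characteristic) -/
theorem card_sq_roots (h2 : (2 : F) ≠ 0) (d c : F) (hc : c ≠ 0) :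
    Nat.card {γ : F // d * γ ^ 2 - c = 0} = 0 ∨ Nat.card {γ : F // d * γ ^ 2 - c = 0} = 2 := by
  by_cases hex : ∃ γ : F, d * γ ^ 2 - c = 0
  · right
    obtain ⟨γ₀, hγ₀⟩ := hex
    have hγ0 : γ₀ ≠ 0 := by
      intro h
      rw [h] at hγ₀
      apply hc
      linear_combination -hγ₀
    have hd : d ≠ 0 := by
      intro h
      rw [h] at hγ₀
      apply hc
      linear_combination -hγ₀
    have hneg : d * (-γ₀) ^ 2 - c = 0 := by rw [neg_sq]; exact hγ₀
    rw [Nat.card_eq_two_iff]
    refine ⟨⟨γ₀, hγ₀⟩, ⟨-γ₀, hneg⟩, ?_, ?_⟩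
    · intro h
      have h' : γ₀ = -γ₀ := congrArg Subtype.val h
      have : (2 : F) * γ₀ = 0 := by linear_combination h'
      rcases mul_eq_zero.mp this with h'' | h''
      · exact h2 h''
      · exact hγ0 h''
    · ext ⟨γ, hγ⟩
      simp only [Set.mem_insert_iff, Set.mem_singleton_iff, Set.mem_univ, iff_true, Subtype.mk.injEq]
      have : d * ((γ - γ₀) * (γ + γ₀)) = 0 := by linear_combination hγ - hγ₀
      rcases mul_eq_zero.mp this with h | h
      · exact absurd h hd
      · rcases mul_eq_zero.mp h with h' | h'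
        · left; linear_combination h'
        · right; linear_combination h'
  · left
    rw [Nat.card_eq_zero]
    left
    exact ⟨fun ⟨γ, hγ⟩ => hex ⟨γ, hγ⟩⟩

/-- the equation `γ² = 1` has exactly two solutions -/
theorem card_sq_roots_one (h2 : (2 : F) ≠ 0) :
    Nat.card {γ : F // γ ^ 2 - 1 = 0} = 2 := by
  have hone : (1 : F) ^ 2 - 1 = 0 := by ring
  have hneg : (-1 : F) ^ 2 - 1 = 0 := by ring
  rw [Nat.card_eq_two_iff]
  refine ⟨⟨1, hone⟩, ⟨-1, hneg⟩, ?_, ?_⟩
  · intro h
    have h' : (1 : F) = -1 := congrArg Subtype.val h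
    apply h2
    linear_combination h'
  · ext ⟨γ, hγ⟩
    simp only [Set.mem_insert_iff, Set.mem_singleton_iff, Set.mem_univ, iff_true, Subtype.mk.injEq]
    have : (γ - 1) * (γ + 1) = 0 := by linear_combination hγ
    rcases mul_eq_zero.mp this with h' | h'
    · left; linear_combination h'
    · right; linear_combination h'

end roots

section odd

variable {F : Type*} [Field F] [Fintype F]

/-- coordinates on the standard odd-dimensional space -/
def oddEquiv (n : ℕ) : (Unit ⊕ (Fin n ⊕ Fin n) → F) ≃ (Fin n → F) × (Fin n → F) × F where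
  toFun v := (fun i => v (Sum.inr (Sum.inl i)), fun i => v (Sum.inr (Sum.inr i)), v (Sum.inl ()))
  invFun t := Sum.elim (fun _ => t.2.2) (Sum.elim t.1 t.2.1)
  left_inv v := by
    funext j
    rcases j with _ | j | j <;> rfl
  right_inv t := rfl

/-- the number of vectors of norm `c` in the standard odd-dimensional quadratic space -/
theorem card_sphere_odd (n : ℕ) (c : F) :
    Nat.card {v : Unit ⊕ (Fin n ⊕ Fin n) → F // Cfsg.quadFormOdd n F v = c} =
      Fintype.card F ^ n * Nat.card {a : F // a ^ 2 - c = 0} +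
        (Fintype.card F ^ n - 1) * (Fintype.card F ^ (n - 1) * Fintype.card F) := by
  classical
  have h := Cfsg.Agent.Lib.Helper08.natCard_zeros_of_equiv (F := F) (ι := Fin n) (A := F)
    (Q := fun v : Unit ⊕ (Fin n ⊕ Fin n) → F => Cfsg.quadFormOdd n F v - c)
    (c := fun a : F => a ^ 2 - c) (oddEquiv n)
    (by
      intro v
      show Cfsg.quadFormOdd n F v - c = ∑ i, v (Sum.inr (Sum.inl i)) * v (Sum.inr (Sum.inr i)) +
        (v (Sum.inl ()) ^ 2 - c)
      unfold Cfsg.quadFormOdd
      ring)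
  rw [Fintype.card_fin] at h
  rw [← h]
  apply Nat.card_congr
  exact Equiv.subtypeEquivRight (fun v => by rw [sub_eq_zero])

theorem card_sphere_odd_one (h2 : (2 : F) ≠ 0) (n : ℕ) (hn : 1 ≤ n) :
    Nat.card {v : Unit ⊕ (Fin n ⊕ Fin n) → F // Cfsg.quadFormOdd n F v = 1} =
      Fintype.card F ^ (2 * n) + Fintype.card F ^ n := by
  rw [card_sphere_odd, card_sq_roots_one h2]
  obtain ⟨k, rfl⟩ : ∃ k, n = k + 1 := ⟨n - 1, by omega⟩
  have hq : 1 ≤ Fintype.card F ^ (k + 1) := Nat.one_le_pow _ _ Fintype.card_pos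
  obtain ⟨t, ht⟩ : ∃ t, Fintype.card F ^ (k + 1) = t + 1 := ⟨_, (Nat.sub_add_cancel hq).symm⟩
  have e1 : Fintype.card F ^ (k + 1 - 1) * Fintype.card F = t + 1 := by
    rw [Nat.add_sub_cancel, ← pow_succ, ht]
  have e2 : Fintype.card F ^ (2 * (k + 1)) = (t + 1) * (t + 1) := by
    rw [two_mul, pow_add, ht]
  rw [e1, e2, ht, Nat.add_sub_cancel]
  ring

end odd

section three

variable {F : Type*} [Field F] {C : Type*} [AddCommGroup C] [Module F C]

/-- hyperbolic coordinates on a 3-dimensional non-degenerate isotropic quadratic space -/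
theorem exists_hyp_coords [FiniteDimensional F C] (hC : finrank F C = 3)
    (Q : QuadraticForm F C) (hnd : ∀ x : C, (∀ y, QuadraticMap.polar Q x y = 0) → x = 0)
    (e₁ : C) (he₁ : e₁ ≠ 0) (hQe : Q e₁ = 0) :
    ∃ (d : F) (φ : (F × F × F) ≃ₗ[F] C), ∀ a b c : F, Q (φ (a, b, c)) = a * b + d * c ^ 2 := by
  obtain ⟨y, hy⟩ : ∃ y, QuadraticMap.polar Q e₁ y ≠ 0 := by
    by_contra hcon
    push Not at hcon
    exact he₁ (hnd _ hcon)
  have hee : QuadraticMap.polar Q e₁ e₁ = 0 := by
    rw [QuadraticMap.polar_self, hQe, smul_zero]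
  obtain ⟨y', hey'⟩ : ∃ y', QuadraticMap.polar Q e₁ y' = 1 := by
    refine ⟨(QuadraticMap.polar Q e₁ y)⁻¹ • y, ?_⟩
    rw [QuadraticMap.polar_smul_right, smul_eq_mul, inv_mul_cancel₀ hy]
  obtain ⟨f₁, hef, hQf⟩ : ∃ f₁, QuadraticMap.polar Q e₁ f₁ = 1 ∧ Q f₁ = 0 := by
    refine ⟨y' + (-(Q y')) • e₁, ?_, ?_⟩
    · rw [QuadraticMap.polar_add_right, QuadraticMap.polar_smul_right, hee, smul_zero,
        add_zero, hey']
    · rw [QuadraticMap.map_add Q, QuadraticMap.map_smul, hQe, QuadraticMap.polar_smul_right,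
        QuadraticMap.polar_comm, hey']
      simp
  -- a vector orthogonal to both
  let ψ : C →ₗ[F] F × F :=
    (QuadraticMap.polarBilin Q e₁).prod (QuadraticMap.polarBilin Q f₁)
  have hψ : LinearMap.ker ψ ≠ ⊥ := by
    apply LinearMap.ker_ne_bot_of_finrank_lt
    rw [hC, Module.finrank_prod, Module.finrank_self]
    norm_num
  obtain ⟨z, hz, hz0⟩ := (Submodule.ne_bot_iff _).mp hψ
  have hz' : ψ z = 0 := LinearMap.mem_ker.mp hz
  have hez : QuadraticMap.polar Q e₁ z = 0 := congrArg Prod.fst hz'
  have hfz : QuadraticMap.polar Q f₁ z = 0 := congrArg Prod.snd hz'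
  let φ₀ : (F × F × F) →ₗ[F] C :=
    (LinearMap.fst F F (F × F)).smulRight e₁ +
      ((LinearMap.fst F F F).comp (LinearMap.snd F F (F × F))).smulRight f₁ +
      ((LinearMap.snd F F F).comp (LinearMap.snd F F (F × F))).smulRight z
  have hφ₀ : ∀ a b c : F, φ₀ (a, b, c) = a • e₁ + b • f₁ + c • z := by
    intro a b c
    simp [φ₀]
  have hinj : Function.Injective φ₀ := by
    rw [← LinearMap.ker_eq_bot, Submodule.eq_bot_iff]
    rintro ⟨a, b, c⟩ h
    rw [LinearMap.mem_ker, hφ₀] at h
    have hb : b = 0 := by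
      have := congrArg (fun t => QuadraticMap.polar Q e₁ t) h
      simp only [QuadraticMap.polar_add_right, QuadraticMap.polar_smul_right, hee, hef, hez,
        smul_eq_mul, mul_zero, mul_one, zero_add, add_zero, QuadraticMap.polar_zero_right] at this
      exact this
    have ha : a = 0 := by
      have := congrArg (fun t => QuadraticMap.polar Q f₁ t) h
      have hfe : QuadraticMap.polar Q f₁ e₁ = 1 := by rw [QuadraticMap.polar_comm]; exact hef
      have hff : QuadraticMap.polar Q f₁ f₁ = 0 := by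
        rw [QuadraticMap.polar_self, hQf, smul_zero]
      simp only [QuadraticMap.polar_add_right, QuadraticMap.polar_smul_right, hfe, hff, hfz,
        smul_eq_mul, mul_zero, mul_one, zero_add, add_zero, QuadraticMap.polar_zero_right] at this
      exact this
    have hc : c = 0 := by
      rw [ha, hb, zero_smul, zero_smul, zero_add, zero_add] at h
      rcases smul_eq_zero.mp h with h' | h'
      · exact h'
      · exact absurd h' hz0
    rw [ha, hb, hc]
    rfl
  have hdim : finrank F (F × F × F) = finrank F C := by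
    rw [hC, Module.finrank_prod, Module.finrank_prod, Module.finrank_self]
  refine ⟨Q z, φ₀.linearEquivOfInjective hinj hdim, ?_⟩
  intro a b c
  rw [LinearMap.linearEquivOfInjective_apply, hφ₀]
  rw [QuadraticMap.map_add Q, QuadraticMap.map_add Q, QuadraticMap.map_smul, QuadraticMap.map_smul,
    QuadraticMap.map_smul, hQe, hQf, QuadraticMap.polar_add_left, QuadraticMap.polar_smul_left,
    QuadraticMap.polar_smul_left, QuadraticMap.polar_smul_left, QuadraticMap.polar_smul_right,
    QuadraticMap.polar_smul_right, QuadraticMap.polar_smul_right, hef, hez, hfz]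
  simp only [smul_eq_mul]
  ring

/-- the number of vectors of norm `c` in a 3-dimensional non-degenerate isotropic space -/
theorem card_sphere_three [Fintype F] [FiniteDimensional F C] (hC : finrank F C = 3)
    (Q : QuadraticForm F C) (hnd : ∀ x : C, (∀ y, QuadraticMap.polar Q x y = 0) → x = 0)
    (e₁ : C) (he₁ : e₁ ≠ 0) (hQe : Q e₁ = 0) :
    ∃ d : F, ∀ c : F, Nat.card {v : C // Q v = c} =
      Fintype.card F * Nat.card {γ : F // d * γ ^ 2 - c = 0} +
        (Fintype.card F - 1) * Fintype.card F := by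
  classical
  obtain ⟨d, φ, hφ⟩ := exists_hyp_coords hC Q hnd e₁ he₁ hQe
  refine ⟨d, fun c => ?_⟩
  let e : C ≃ (Unit → F) × (Unit → F) × F :=
    { toFun := fun v => (fun _ => (φ.symm v).1, fun _ => (φ.symm v).2.1, (φ.symm v).2.2)
      invFun := fun t => φ (t.1 (), t.2.1 (), t.2.2)
      left_inv := fun v => by simp
      right_inv := fun t => by
        obtain ⟨a, b, c⟩ := t
        simp only [LinearEquiv.symm_apply_apply]
        }
  have h := Cfsg.Agent.Lib.Helper08.natCard_zeros_of_equiv (F := F) (ι := Unit) (A := F)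
    (Q := fun v : C => Q v - c) (c := fun γ : F => d * γ ^ 2 - c) e
    (by
      intro v
      show Q v - c = ∑ _i : Unit, (φ.symm v).1 * (φ.symm v).2.1 + (d * (φ.symm v).2.2 ^ 2 - c)
      have hv : v = φ ((φ.symm v).1, (φ.symm v).2.1, (φ.symm v).2.2) := by simp
      conv_lhs => rw [hv, hφ]
      simp only [Finset.univ_unique, Finset.sum_singleton]
      ring)
  simp only [Fintype.card_unit, pow_one, Nat.sub_self, pow_zero, one_mul] at h
  rw [← h]
  apply Nat.card_congr
  exact Equiv.subtypeEquivRight (fun v => by rw [sub_eq_zero])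

end three

end Cfsg.Agent.Lib.Helper46.Spec
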