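/-
K-UTi pack (S5953, architect helper46): hermitian twin of helper98's Sy/Ti toolkit.
Shared definitions: (possibly degenerate) hermitian forms `H : V → V → F` with respect to
`a ↦ a ^ q` over a field with `q ^ 2` elements, nondegenerate / orthogonal subspaces, isometries,
orthogonal complements, and the standard form `Cfsg.hermForm n F q` as an instance.
-/
import Mathlib
import Cfsg.Prelude.Def_Classical
import Cfsg.Agent.Lib.Helper19.Unitary
import Cfsg.Agent.Lib.Helper98.Elus3

set_option autoImplicit false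
set_option linter.unusedSectionVars false
set_option linter.unusedVariables false

namespace Cfsg.Agent.Lib.Helper46.UTi

open Module Cfsg.Agent.Lib.Helper98.Elus
open Cfsg.Agent.Lib.Helper19 (pow_q_pow_q add_pow_q sum_pow_q q_pos one_lt_q)

universe u
variable {F : Type u} [Field F] {V : Type u} [AddCommGroup V] [Module F V]

/-- a (possibly degenerate) hermitian form with respect to `a ↦ a ^ q` -/
structure IsHerm (q : ℕ) (H : V → V → F) : Prop where
  add_left : ∀ x x' y, H (x + x') y = H x y + H x' y
  smul_left : ∀ (c : F) x y, H (c • x) y = c * H x y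
  conj : ∀ x y, H y x = (H x y) ^ q

/-- nondegenerate subspace -/
def NonDeg (H : V → V → F) (W : Submodule F V) : Prop :=
  ∀ u ∈ W, (∀ v ∈ W, H u v = 0) → u = 0

/-- orthogonal subspaces -/
def Ort (H : V → V → F) (W W' : Submodule F V) : Prop :=
  ∀ u ∈ W, ∀ v ∈ W', H u v = 0

/-- isometries -/
def Iso (H : V → V → F) (y : V →ₗ[F] V) : Prop := ∀ u v, H (y u) (y v) = H u v

section basic

variable {q : ℕ} {H : V → V → F}

theorem IsHerm.zero_left (hH : IsHerm q H) (y : V) : H 0 y = 0 := by
  have := hH.smul_left 0 0 y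
  rwa [zero_smul, zero_mul] at this

theorem IsHerm.neg_left (hH : IsHerm q H) (x y : V) : H (-x) y = - H x y := by
  have := hH.smul_left (-1) x y
  rwa [neg_one_smul, neg_one_mul] at this

theorem IsHerm.sub_left (hH : IsHerm q H) (x x' y : V) : H (x - x') y = H x y - H x' y := by
  rw [sub_eq_add_neg, hH.add_left, hH.neg_left, ← sub_eq_add_neg]

theorem IsHerm.smul_right (hH : IsHerm q H) (c : F) (x y : V) :
    H x (c • y) = c ^ q * H x y := by
  rw [hH.conj (c • y) x, hH.smul_left, mul_pow, ← hH.conj]

theorem IsHerm.sum_left (hH : IsHerm q H) {ι : Type*} (s : Finset ι) (c : ι → F) (v : ι → V)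
    (y : V) : H (∑ i ∈ s, c i • v i) y = ∑ i ∈ s, c i * H (v i) y := by
  classical
  induction s using Finset.induction_on with
  | empty => simp [hH.zero_left]
  | insert a s ha ih =>
    rw [Finset.sum_insert ha, Finset.sum_insert ha, hH.add_left, hH.smul_left, ih]

theorem IsHerm.eq_zero_symm (hH : IsHerm q H) (hq : 0 < q) {x y : V} (h : H x y = 0) :
    H y x = 0 := by
  rw [hH.conj x y, h, zero_pow hq.ne']

variable [Fintype F]

theorem IsHerm.add_right (hF : Fintype.card F = q ^ 2) (hH : IsHerm q H) (x y y' : V) :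
    H x (y + y') = H x y + H x y' := by
  rw [hH.conj (y + y') x, hH.add_left, add_pow_q hF, ← hH.conj, ← hH.conj]

theorem IsHerm.zero_right (hF : Fintype.card F = q ^ 2) (hH : IsHerm q H) (x : V) :
    H x 0 = 0 := by
  rw [hH.conj 0 x, hH.zero_left, zero_pow (q_pos hF).ne']

theorem IsHerm.neg_right (hF : Fintype.card F = q ^ 2) (hH : IsHerm q H) (x y : V) :
    H x (-y) = - H x y := by
  have h := hH.add_right hF x y (-y)
  rw [add_neg_cancel, hH.zero_right hF] at h
  exact eq_neg_of_add_eq_zero_right h.symm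

theorem IsHerm.sub_right (hF : Fintype.card F = q ^ 2) (hH : IsHerm q H) (x y y' : V) :
    H x (y - y') = H x y - H x y' := by
  rw [sub_eq_add_neg, hH.add_right hF, hH.neg_right hF, ← sub_eq_add_neg]

theorem IsHerm.sum_right (hF : Fintype.card F = q ^ 2) (hH : IsHerm q H) {ι : Type*}
    (s : Finset ι) (c : ι → F) (v : ι → V) (x : V) :
    H x (∑ i ∈ s, c i • v i) = ∑ i ∈ s, c i ^ q * H x (v i) := by
  classical
  induction s using Finset.induction_on with
  | empty => simp [hH.zero_right hF]
  | insert a s ha ih =>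
    rw [Finset.sum_insert ha, Finset.sum_insert ha, hH.add_right hF, hH.smul_right, ih]

/-- `H v v` lies in the fixed field of `a ↦ a ^ q` -/
theorem IsHerm.self_pow (hH : IsHerm q H) (v : V) : (H v v) ^ q = H v v := (hH.conj v v).symm

theorem Ort.symm (hF : Fintype.card F = q ^ 2) (hH : IsHerm q H) {W W' : Submodule F V}
    (h : Ort H W W') : Ort H W' W :=
  fun u hu v hv => hH.eq_zero_symm (q_pos hF) (h v hv u hu)

omit [Fintype F] in
/-- the orthogonal complement `{v | ∀ w ∈ W, H v w = 0}` (equivalently `H w v = 0`) -/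
def orth (hH : IsHerm q H) (W : Submodule F V) : Submodule F V where
  carrier := {v | ∀ w ∈ W, H v w = 0}
  add_mem' := by
    intro a b ha hb w hw
    rw [hH.add_left, ha w hw, hb w hw, add_zero]
  zero_mem' := by
    intro w _
    exact hH.zero_left w
  smul_mem' := by
    intro c a ha w hw
    rw [hH.smul_left, ha w hw, mul_zero]

omit [Fintype F] in
theorem mem_orth (hH : IsHerm q H) (W : Submodule F V) (v : V) :
    v ∈ orth hH W ↔ ∀ w ∈ W, H v w = 0 := Iff.rfl

theorem mem_orth' (hF : Fintype.card F = q ^ 2) (hH : IsHerm q H) (W : Submodule F V) (v : V) :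
    v ∈ orth hH W ↔ ∀ w ∈ W, H w v = 0 :=
  ⟨fun h w hw => hH.eq_zero_symm (q_pos hF) (h w hw),
    fun h w hw => hH.eq_zero_symm (q_pos hF) (h w hw)⟩

omit [Fintype F] in
theorem ort_iff_le_orth (hH : IsHerm q H) (W W' : Submodule F V) :
    Ort H W W' ↔ W ≤ orth hH W' :=
  ⟨fun h u hu v hv => h u hu v hv, fun h u hu v hv => h hu v hv⟩

omit [Fintype F] in
theorem orth_anti (hH : IsHerm q H) {W W' : Submodule F V} (h : W ≤ W') :
    orth hH W' ≤ orth hH W := fun _ hv w hw => hv w (h hw)

omit [Fintype F] in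
theorem nonDeg_iff_disjoint (hH : IsHerm q H) (W : Submodule F V) :
    NonDeg H W ↔ Disjoint W (orth hH W) := by
  rw [Submodule.disjoint_def]
  exact ⟨fun h u hu hu' => h u hu hu', fun h u hu hu' => h u hu hu'⟩

omit [Fintype F] in
theorem nonDeg_bot : NonDeg H (⊥ : Submodule F V) := fun _ hu _ => (Submodule.mem_bot F).mp hu

omit [Fintype F] in
theorem iso_pow (y : V →ₗ[F] V) (hiso : Iso H y) (k : ℕ) : Iso H (y ^ k) := by
  induction k with
  | zero => intro u v; simp
  | succ k ih =>
    intro u v
    rw [pow_succ', Module.End.mul_apply, Module.End.mul_apply, hiso, ih]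

end basic

section standard

variable [Fintype F] {q : ℕ}

/-- the standard hermitian form is hermitian -/
theorem isHerm_hermForm (hF : Fintype.card F = q ^ 2) (n : ℕ) :
    IsHerm q (Cfsg.hermForm n F q) where
  add_left := Cfsg.Agent.Lib.Helper19.hermForm_add_left
  smul_left := Cfsg.Agent.Lib.Helper19.hermForm_smul_left
  conj := fun x y => (Cfsg.Agent.Lib.Helper19.hermForm_conj hF x y).symm

/-- the standard hermitian form is nondegenerate -/
theorem nonDeg_hermForm (hF : Fintype.card F = q ^ 2) (n : ℕ) :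
    NonDeg (Cfsg.hermForm n F q) (⊤ : Submodule F (Fin n → F)) := by
  classical
  intro u _ hu
  funext k
  have h := hu (Pi.single k 1) Submodule.mem_top
  unfold Cfsg.hermForm at h
  rw [Finset.sum_eq_single k] at h
  · simpa using h
  · intro j _ hjk
    rw [Pi.single_eq_of_ne hjk, zero_pow (q_pos hF).ne', mul_zero]
  · intro hk
    exact absurd (Finset.mem_univ k) hk

/-- matrices preserving the standard form give isometries -/
theorem iso_toLin' (n : ℕ) (A : Matrix (Fin n) (Fin n) F)
    (hA : ∀ u v, Cfsg.hermForm n F q (A.mulVec u) (A.mulVec v) = Cfsg.hermForm n F q u v) :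
    Iso (Cfsg.hermForm n F q) (Matrix.toLin' A) := by
  intro u v
  rw [Matrix.toLin'_apply, Matrix.toLin'_apply]
  exact hA u v

end standard

section concrete

variable (F : Type u) [Field F]

/-- the totally isotropic `m`-subspaces of the standard hermitian space (the set `Ω` of S5953) -/
abbrev TISub (n m q : ℕ) : Type u :=
  {W : Submodule F (Fin n → F) // Module.finrank F ↥W = m ∧
    (∀ u ∈ W, ∀ v ∈ W, Cfsg.hermForm n F q u v = 0)}

variable {F}

/-- the matrix `A` fixes a totally isotropic `m`-subspace of the standard hermitian space -/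
def FixesTI (n m q : ℕ) (A : Matrix (Fin n) (Fin n) F) : Prop :=
  ∃ W : Submodule F (Fin n → F), Module.finrank F ↥W = m ∧
    (∀ u ∈ W, ∀ v ∈ W, Cfsg.hermForm n F q u v = 0) ∧ W.map (Matrix.toLin' A) ≤ W

variable (F)

/-- "every element of order `r` of `PSU_n(q)` fixes a totally isotropic `m`-space" -/
def AllFix (n m q r : ℕ) : Prop :=
  ∀ x : Matrix.SpecialLinearGroup (Fin n) F, x ∈ Cfsg.SU n F q →
    (∃ z : F, ((x ^ r : Matrix.SpecialLinearGroup (Fin n) F) : Matrix (Fin n) (Fin n) F) =
      z • (1 : Matrix (Fin n) (Fin n) F)) →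
    (∀ z : F, (x : Matrix (Fin n) (Fin n) F) ≠ z • (1 : Matrix (Fin n) (Fin n) F)) →
    FixesTI n m q (x : Matrix (Fin n) (Fin n) F)

end concrete

end Cfsg.Agent.Lib.Helper46.UTi
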