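import Cfsg.Agent.Lib.Helper46.UnitaryEmb

set_option autoImplicit false

namespace Cfsg.Agent.Lib.Helper46

open Matrix Polynomial

section

variable {F : Type*} [Field F] [Fintype F] {q : ℕ}

/-- Preserving the hermitian form means `Mᵀ M^(q) = 1`. -/
theorem unitary_of_herm (hF : Fintype.card F = q ^ 2) {n : ℕ} (M : Matrix (Fin n) (Fin n) F)
    (h : ∀ u v, Cfsg.hermForm n F q (M *ᵥ u) (M *ᵥ v) = Cfsg.hermForm n F q u v) :
    Mᵀ * M.map (frobRing hF) = 1 := by
  ext i j
  have hij := h (Pi.single i 1) (Pi.single j 1)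
  unfold Cfsg.hermForm at hij
  simp only [Matrix.mulVec_single_one, Matrix.col_apply] at hij
  rw [Matrix.mul_apply]
  simp only [Matrix.transpose_apply, Matrix.map_apply, frobRing_apply]
  rw [hij, Matrix.one_apply]
  have hq : q ≠ 0 := by
    have := one_lt_of_card hF
    omega
  by_cases hne : i = j
  · subst hne
    simp [Pi.single_apply, hq]
  · simp only [hne, if_false]
    apply Finset.sum_eq_zero
    intro k _
    by_cases hk : k = i
    · subst hk
      have : (Pi.single j (1 : F) : Fin n → F) k = 0 := by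
        rw [Pi.single_apply, if_neg hne]
      rw [this, zero_pow hq, mul_zero]
    · have : (Pi.single i (1 : F) : Fin n → F) k = 0 := by
        rw [Pi.single_apply, if_neg hk]
      rw [this, zero_mul]

/-- The fixed field has exactly `q` elements. -/
theorem card_fixedField (hF : Fintype.card F = q ^ 2) : Nat.card (fixedField hF) = q := by
  apply le_antisymm _ (le_card_fixedField hF)
  classical
  have hq := one_lt_of_card hF
  have hne : (X ^ q - X : F[X]) ≠ 0 := FiniteField.X_pow_card_sub_X_ne_zero F hq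
  have hdeg : (X ^ q - X : F[X]).natDegree = q := FiniteField.X_pow_card_sub_X_natDegree_eq F hq
  let f : fixedField hF → {x // x ∈ (X ^ q - X : F[X]).roots.toFinset} := fun x =>
    ⟨(x : F), by
      rw [Multiset.mem_toFinset, Polynomial.mem_roots hne, Polynomial.IsRoot.def]
      simp only [eval_sub, eval_pow, eval_X]
      have := frobRing_fixed hF x
      rw [frobRing_apply] at this
      rw [this, sub_self]⟩
  have hf : Function.Injective f := by
    intro a b hab
    apply Subtype.ext
    have h : ((f a).1 : F) = ((f b).1 : F) := by rw [hab]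
    exact h
  have h1 := Nat.card_le_card_of_injective f hf
  have h2 : Nat.card {x // x ∈ (X ^ q - X : F[X]).roots.toFinset} ≤ q := by
    rw [Nat.card_eq_fintype_card, Fintype.card_coe]
    calc (X ^ q - X : F[X]).roots.toFinset.card ≤ Multiset.card (X ^ q - X : F[X]).roots :=
          Multiset.toFinset_card_le _
      _ ≤ (X ^ q - X : F[X]).natDegree := Polynomial.card_roots' _
      _ = q := hdeg
  omega

/-- `SL₂` of the fixed field is isomorphic to `SU₂`. -/
theorem nonempty_mulEquiv_sl2_SU2 (hF : Fintype.card F = q ^ 2) :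
    Nonempty (Matrix.SpecialLinearGroup (Fin 2) (fixedField hF) ≃* ↥(Cfsg.SU 2 F q)) := by
  obtain ⟨α, hα⟩ := exists_norm_neg_one hF
  obtain ⟨δ, hδ0, hδ⟩ := exists_trace_zero hF
  obtain ⟨μ, hμ1, hμ⟩ := exists_norm_one_ne_one hF
  have hμ' : (1 : F) - μ ≠ 0 := sub_ne_zero.2 (Ne.symm hμ1)
  set ε : F := δ / (1 - μ) with hεdef
  have hε : ε * (1 - μ) = δ := by
    rw [hεdef]; field_simp
  have hε0 : ε ≠ 0 := by
    intro h
    rw [h, zero_mul] at hε
    exact hδ0 hε.symm
  have hα0 : α ≠ 0 := by
    intro h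
    rw [h, zero_mul] at hα
    exact absurd hα (by simp)
  have hPdet : (baseP α μ ε).det ≠ 0 := by
    rw [det_baseP]
    exact mul_ne_zero (mul_ne_zero hε0 hα0) (sub_ne_zero.2 hμ1)
  set Pg : Matrix.GeneralLinearGroup (Fin 2) F :=
    Matrix.GeneralLinearGroup.mkOfDetNeZero (baseP α μ ε) hPdet with hPg
  have hPgval : (Pg : Matrix (Fin 2) (Fin 2) F) = baseP α μ ε := rfl
  have hgram := baseP_gram (frobRing hF) α μ ε δ hα hμ hδ hε
  set Ψ₂ : Matrix.SpecialLinearGroup (Fin 2) (fixedField hF) →* Matrix.GeneralLinearGroup (Fin 2) F :=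
    (MulAut.conj Pg).toMonoidHom.comp
      (Matrix.SpecialLinearGroup.toGL.comp
        (Matrix.SpecialLinearGroup.map (fixedField hF).subtype)) with hΨ₂
  have hΨ₂val : ∀ A : Matrix.SpecialLinearGroup (Fin 2) (fixedField hF),
      ((Ψ₂ A : Matrix.GeneralLinearGroup (Fin 2) F) : Matrix (Fin 2) (Fin 2) F)
        = (Pg : Matrix (Fin 2) (Fin 2) F)
          * ((A : Matrix (Fin 2) (Fin 2) (fixedField hF)).map (fixedField hF).subtype)
          * ((Pg⁻¹ : Matrix.GeneralLinearGroup (Fin 2) F) : Matrix (Fin 2) (Fin 2) F) := by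
    intro A
    rfl
  have hΨ₂inj : Function.Injective Ψ₂ := by
    intro A B hAB
    have h1 := (MulAut.conj Pg).injective hAB
    have h2 := Matrix.SpecialLinearGroup.toGL_injective h1
    apply Subtype.ext
    have h3 : (A : Matrix (Fin 2) (Fin 2) (fixedField hF)).map (fixedField hF).subtype
        = (B : Matrix (Fin 2) (Fin 2) (fixedField hF)).map (fixedField hF).subtype :=
      congrArg Subtype.val h2
    ext i j
    have := congrFun (congrFun h3 i) j
    simpa using this
  have hdet : ∀ A, ((Ψ₂ A : Matrix.GeneralLinearGroup (Fin 2) F) : Matrix (Fin 2) (Fin 2) F).det = 1 := by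
    intro A
    rw [hΨ₂val, Matrix.det_units_conj]
    exact (Matrix.SpecialLinearGroup.map (fixedField hF).subtype A).2
  have hunit : ∀ A, ((Ψ₂ A : Matrix.GeneralLinearGroup (Fin 2) F) : Matrix (Fin 2) (Fin 2) F)ᵀ
      * ((Ψ₂ A : Matrix.GeneralLinearGroup (Fin 2) F) : Matrix (Fin 2) (Fin 2) F).map (frobRing hF) = 1 := by
    intro A
    set A' : Matrix (Fin 2) (Fin 2) F :=
      (A : Matrix (Fin 2) (Fin 2) (fixedField hF)).map (fixedField hF).subtype with hA'
    have hA'det : A'.det = 1 := (Matrix.SpecialLinearGroup.map (fixedField hF).subtype A).2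
    have hA'map : A'.map (frobRing hF) = A' := by
      ext i j
      simp only [hA', Matrix.map_apply]
      exact frobRing_fixed hF _
    apply unitary_of_conj (frobRing hF) (baseP α μ ε) A'
    · exact isUnit_iff_ne_zero.2 hPdet
    · rw [hΨ₂val, hPgval.symm, Matrix.mul_assoc, ← Units.val_mul, inv_mul_cancel, Units.val_one,
        Matrix.mul_one]
    · rw [hgram, hA'map]
      exact gram_invariant A' hA'det δ
  have hmem : ∀ A, liftSL Ψ₂ hdet A ∈ Cfsg.SU 2 F q := by
    intro A u v
    exact herm_of_unitary hF _ (hunit A) u v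
  let Ψ : Matrix.SpecialLinearGroup (Fin 2) (fixedField hF) →* ↥(Cfsg.SU 2 F q) :=
    (liftSL Ψ₂ hdet).codRestrict (Cfsg.SU 2 F q) hmem
  have hΨinj : Function.Injective Ψ := by
    intro a b hab
    exact liftSL_injective Ψ₂ hdet hΨ₂inj (congrArg Subtype.val hab)
  have hΨsurj : Function.Surjective Ψ := by
    rintro ⟨M, hM⟩
    have hMpres : ∀ u v, Cfsg.hermForm 2 F q ((M : Matrix (Fin 2) (Fin 2) F) *ᵥ u)
        ((M : Matrix (Fin 2) (Fin 2) F) *ᵥ v) = Cfsg.hermForm 2 F q u v := hM
    have hU := unitary_of_herm hF (M : Matrix (Fin 2) (Fin 2) F) hMpres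
    set Bg : Matrix.GeneralLinearGroup (Fin 2) F :=
      Pg⁻¹ * Matrix.SpecialLinearGroup.toGL M * Pg with hBg
    set B : Matrix (Fin 2) (Fin 2) F := (Bg : Matrix (Fin 2) (Fin 2) F) with hB
    have hPB : baseP α μ ε * B = (M : Matrix (Fin 2) (Fin 2) F) * baseP α μ ε := by
      have : Pg * Bg = Matrix.SpecialLinearGroup.toGL M * Pg := by
        rw [hBg]; group
      have h2 := congrArg (fun g : Matrix.GeneralLinearGroup (Fin 2) F =>
        (g : Matrix (Fin 2) (Fin 2) F)) this
      simpa [hPgval] using h2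
    have hBdet : B.det = 1 := by
      have h1 : baseP α μ ε * B * ((Pg⁻¹ : Matrix.GeneralLinearGroup (Fin 2) F) :
          Matrix (Fin 2) (Fin 2) F) = (M : Matrix (Fin 2) (Fin 2) F) := by
        rw [hPB, Matrix.mul_assoc, ← hPgval, ← Units.val_mul, mul_inv_cancel, Units.val_one,
          Matrix.mul_one]
      have h2 : (baseP α μ ε * B * ((Pg⁻¹ : Matrix.GeneralLinearGroup (Fin 2) F) :
          Matrix (Fin 2) (Fin 2) F)).det = B.det := by
        rw [← hPgval]
        exact Matrix.det_units_conj Pg B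
      rw [← h2, h1]
      exact M.2
    have hB1 : Bᵀ * !![0, -δ; δ, 0] * B.map (frobRing hF) = !![0, -δ; δ, 0] := by
      rw [← hgram]
      calc Bᵀ * ((baseP α μ ε)ᵀ * (baseP α μ ε).map (frobRing hF)) * B.map (frobRing hF)
          = (baseP α μ ε * B)ᵀ * (baseP α μ ε * B).map (frobRing hF) := by
            rw [Matrix.transpose_mul, Matrix.map_mul]
            simp only [Matrix.mul_assoc]
        _ = ((M : Matrix (Fin 2) (Fin 2) F) * baseP α μ ε)ᵀ
              * ((M : Matrix (Fin 2) (Fin 2) F) * baseP α μ ε).map (frobRing hF) := by rw [hPB]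
        _ = (baseP α μ ε)ᵀ * ((M : Matrix (Fin 2) (Fin 2) F)ᵀ
              * (M : Matrix (Fin 2) (Fin 2) F).map (frobRing hF)) * (baseP α μ ε).map (frobRing hF) := by
            rw [Matrix.transpose_mul, Matrix.map_mul]
            simp only [Matrix.mul_assoc]
        _ = (baseP α μ ε)ᵀ * (baseP α μ ε).map (frobRing hF) := by
            rw [hU, Matrix.mul_one]
    have hB2 := gram_invariant B hBdet δ
    have hunitBH : IsUnit (Bᵀ * !![0, -δ; δ, 0]) := by
      rw [Matrix.isUnit_iff_isUnit_det, Matrix.det_mul, Matrix.det_transpose, hBdet, one_mul,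
        Matrix.det_fin_two_of]
      apply isUnit_iff_ne_zero.2
      have : (0 : F) * 0 - -δ * δ = δ * δ := by ring
      rw [this]
      exact mul_ne_zero hδ0 hδ0
    have hBfix : B.map (frobRing hF) = B := hunitBH.mul_left_cancel (hB1.trans hB2.symm)
    have hBmem : ∀ i j, B i j ∈ fixedField hF := by
      intro i j
      rw [mem_fixedField]
      have := congrFun (congrFun hBfix i) j
      simpa using this
    set A₀ : Matrix (Fin 2) (Fin 2) (fixedField hF) := Matrix.of fun i j => ⟨B i j, hBmem i j⟩ with hA₀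
    have hA₀map : A₀.map (fixedField hF).subtype = B := by
      ext i j
      simp [hA₀]
    have hA₀det : A₀.det = 1 := by
      have h1 : (fixedField hF).subtype A₀.det = 1 := by
        rw [RingHom.map_det]
        have : (fixedField hF).subtype.mapMatrix A₀ = A₀.map (fixedField hF).subtype := rfl
        rw [this, hA₀map, hBdet]
      have h2 : ((A₀.det : fixedField hF) : F) = ((1 : fixedField hF) : F) := by
        simpa using h1
      exact Subtype.ext h2
    obtain ⟨Asl, hAsl⟩ : ∃ Asl : Matrix.SpecialLinearGroup (Fin 2) (fixedField hF),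
        (Asl : Matrix (Fin 2) (Fin 2) (fixedField hF)) = A₀ := ⟨⟨A₀, hA₀det⟩, rfl⟩
    refine ⟨Asl, ?_⟩
    apply Subtype.ext
    apply Subtype.ext
    change ((Ψ₂ Asl : Matrix.GeneralLinearGroup (Fin 2) F) : Matrix (Fin 2) (Fin 2) F)
      = (M : Matrix (Fin 2) (Fin 2) F)
    rw [hΨ₂val Asl, hAsl]
    rw [hA₀map, hPgval, hPB, Matrix.mul_assoc, ← hPgval, ← Units.val_mul, mul_inv_cancel,
      Units.val_one, Matrix.mul_one]
  exact ⟨MulEquiv.ofBijective Ψ ⟨hΨinj, hΨsurj⟩⟩

end

end Cfsg.Agent.Lib.Helper46
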