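import Mathlib
import Cfsg.Agent.Lib.Helper28.AschER
import Cfsg.Agent.Lib.Helper42.AschEA2p
import Cfsg.Agent.Lib.Helper94.AschEA2o
import Cfsg.Agent.Lib.Helper27.AschEA2c
import Cfsg.Agent.Lib.Helper79.AschEB2a
import Cfsg.Agent.Lib.Helper67.AschEB2b
import Cfsg.Agent.Lib.Helper40.AschEB6a
import Cfsg.Agent.Lib.Helper90.AschEB6q
import Cfsg.Agent.Lib.Helper72.AschECf
import Cfsg.Agent.Lib.Helper01.AschEE5a
import Cfsg.Agent.Lib.Helper97.AschEE7b
import Cfsg.Agent.Lib.Helper54.AschEE7g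
import Cfsg.Agent.Lib.Helper39.AschEB6b
import Cfsg.Agent.Lib.Helper70.AschEE7a
import Cfsg.Agent.Lib.Helper85.AschEA2t
import Cfsg.Prelude.Def_GeometricClasses
import Cfsg.Agent.Lib.Helper61.AschDefs
import Cfsg.Agent.Lib.Helper61.AschBasic
import Cfsg.Agent.Lib.Helper04.AschE3
import Cfsg.Agent.Lib.Helper46.AschOBasic
import Cfsg.Agent.Lib.Helper46.AschEDefs

/-!
# Hub: the 15 delivered leaves of the even-dimensional orthogonal Aschbacher pack, re-exported with the exact spec signatures.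

TARGET (glue by helper46, `Cfsg/Agent/Lib/Helper46/AschEMain.lean`):
  theorem aschbacher_orth_even (hn : 3 ≤ n) (Q : V → F) (hQ : IsNondegenerateQuadraticForm Q)
      (H : Subgroup (GL (Fin n) F)) (hH : H ≤ isometryGroup F Q) : EGeom Q (H ⊔ Z) ∨ InOrthogonalResidualClass H

EXACT-SIGNATURE KEYSTONES.  Deliver each as `Cfsg/Agent/Lib/<Seat>/AschE<Tag>.lean`, namespace
`Cfsg.Agent.Lib.<Seat>.AschE`, theorem name and signature exactly as below (binder names may differ, extra imports and extra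
exported lemmas fine, FEWER hypotheses fine).  Claim in the `keystone` table (ids 582601..), msg helper46 when on main.
On main: `Cfsg.Agent.Lib.Helper46.AschEDefs` (`EShape`, `EGeom`), `Cfsg.Agent.Lib.Helper46.AschOBasic` (characteristic-free:
`gramQ`, `polar_eq_gram`, `isUnit_gramQ`, `two_mul_Q`, `adjQ` = adjoint for the polar form with `polar_adjQ`, `adjQ_unique`,
`adjQ_mul/add/smul/one/adjQ`, `adjQ_similarity`, `adjQ_mem_spanAlg`, `mem_isometryGroup_iff`, `perpQ`, `mem_perpQ` ...).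
MOST LEAVES ARE ADAPTATIONS of a landed leaf of the odd-dimensional pack S5673 (`notes/S5673_keystones.lean.txt`, files
`Lib/<Seat>/AschO*.lean`, hub `Lib/Helper46/AschOLeaves.lean` lists who did what) or of helper43's symplectic pack S5662
(`notes/S5662_keystones.lean.txt`, files `Lib/<Seat>/SpAsch*.lean`): COPY THAT FILE AND EDIT.  The original author is the fastest.

SETTING.  `V = Fin n → F`, `F` finite, ANY characteristic, `Q : V → F` non-degenerate quadratic form (function), `B = polar Q`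
(symmetric; alternating when `2 = 0`), `I = isometryGroup F Q`, `Δ = quadSimilarityGroup Q`, `Z` scalars, `H ≤ I`, `K = H ⊔ Z ≤ Δ`.
NO parity assumption on `n`, NO assumption on `q`.
-/

set_option autoImplicit false

namespace Cfsg.Agent.Lib.Helper46.AschEL

open Cfsg Cfsg.Geo Cfsg.Agent.Lib.Helper61.Asch Cfsg.Agent.Lib.Helper46.AschO Cfsg.Agent.Lib.Helper46.AschE
open Cfsg.Agent.Lib.Helper04.Asch (pureAt PT ptGL permMat)
open scoped Matrix Kronecker MatrixGroups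

variable {F : Type*} [Field F] [Fintype F] {n : ℕ}

local notation "V" => (Fin n → F)
local notation "Mat" => Matrix (Fin n) (Fin n) F
local notation "Z" => scalars (Fin n) F

/-! ## Block R : reducible groups -/

/-- K-OEven-R (adapt `Helper81.AschO.ogeom_of_reducible`).  `W` proper non-zero invariant; `W^⊥ = perpQ Q hQ W` invariant;
`R = W ⊓ W^⊥`.  `R = ⊥`: `W` non-degenerate (1b).  `R ≠ ⊥`: the polar form vanishes on `R`, so `Q` is additive on `R` and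
`R₀ = {u ∈ R | Q u = 0}` is a `K`-invariant subspace.  `R₀ ≠ ⊥`: shape (1a).  `R₀ = ⊥`: then `2 = 0` (`two_mul_Q`) and `R` is a
line: for `u, v ∈ R` non-zero pick `c` with `c² = Q u / Q v` (squaring is bijective), `Q (u + c v) = 0`, so `u = c v`; (1c). -/
theorem egeom_of_reducible (Q : V → F) (hQ : IsNondegenerateQuadraticForm Q)
    (K : Subgroup (GL (Fin n) F)) (hK : K ≤ quadSimilarityGroup Q)
    (hred : ¬ ActsIrreducibly (matrixSet K)) : EGeom Q K := by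
  exact Cfsg.Agent.Lib.Helper28.AschE.egeom_of_reducible Q hQ K hK hred

/-! ## Block A : isotypic components and the form (input = output of the landed `c2_components`, helper81) -/

/-- K-OEven-A2p (first half of `Helper30.AschO.isOrthogonalMDecomposition_of_components`).  `W_i = perpQ (D i)` is invariant
under `A` (adjoint-closed) and under the commutant of `A`, so `W_i = ⨆_{j ∈ s_i} D j`; `dim W_i = n - m` gives `|s_i| = t - 1`. -/
theorem components_pairing (Q : V → F) (hQ : IsNondegenerateQuadraticForm Q)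
    (A : Subalgebra F Mat) (hA : ∀ x ∈ A, adjQ Q x ∈ A)
    (t m : ℕ) (D : Fin t → Submodule F V) (hD : IsMDecomposition m D)
    (hinvA : ∀ i, ∀ a ∈ A, (D i).map (Matrix.toLin' a) ≤ D i)
    (hinvC : ∀ i, ∀ M : Mat, (∀ a ∈ A, M * a = a * M) → (D i).map (Matrix.toLin' M) ≤ D i)
    (hfull : ∀ W : Submodule F V, (∀ a ∈ A, W.map (Matrix.toLin' a) ≤ W) →
        (∀ M : Mat, (∀ a ∈ A, M * a = a * M) → W.map (Matrix.toLin' M) ≤ W) →
        ∃ s : Finset (Fin t), W = ⨆ i ∈ s, D i) :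
    ∀ i, ∃ j, ∀ l, l ≠ j → AreOrthogonalFor (QuadraticMap.polar Q) (D i) (D l) := by
  exact Cfsg.Agent.Lib.Helper42.AschE.components_pairing Q hQ A hA t m D hD hinvA hinvC hfull

/-- K-OEven-A2o (second half of `Helper30.AschO.isOrthogonalMDecomposition_of_components`).  Pairwise orthogonal components are
non-degenerate (`V = ⨁ D i`, `B` non-degenerate) and isometric: `k = h z` (`AschGlueC.mem_sup_scalars`), `h ∈ H` an isometry
mapping `D i` onto `D j`. -/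
theorem isOrthogonalMDecomposition_of_orthogonal (Q : V → F) (hQ : IsNondegenerateQuadraticForm Q)
    (H K : Subgroup (GL (Fin n) F)) (hK : K = H ⊔ Z) (hH : H ≤ isometryGroup F Q)
    (t m : ℕ) (D : Fin t → Submodule F V) (hD : IsMDecomposition m D) (hKD : K ≤ decompositionStabilizer D)
    (htr : ∀ i j, ∃ k ∈ K, (D i).map (Matrix.toLin' (k : Mat)) = D j)
    (horth : ∀ i j, i ≠ j → AreOrthogonalFor (QuadraticMap.polar Q) (D i) (D j)) :
    IsOrthogonalMDecomposition Q m D := by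
  exact Cfsg.Agent.Lib.Helper94.AschE.isOrthogonalMDecomposition_of_orthogonal Q hQ H K hK hH t m D hD hKD htr horth

/-- K-OEven-A2t (adapt `Helper05.SpAsch.sgeom_or_tsPair_of_paired_decomposition`, S5662 leaf S2b).  `σ i` := the unique `j`
with `D i` not orthogonal to `D j` (exists as `B` is non-degenerate); `σ` is an involution commuting with the action of `K`; by `hno` and
transitivity it has no fixed point, so every `D i` is totally isotropic for `B`.  TOTALLY SINGULAR FOR `Q`: clear if `2 ≠ 0`.  If `2 = 0`: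
`Q` is additive on `D i`, `D i⁰ = {u ∈ D i | Q u = 0}` has codimension ≤ 1 in `D i`; `⨁ D i⁰` is `K`-invariant (similarities), so it is `⊥`
or `⊤` (`hKirr`); if `⊥` then `m = 1`, `D i = F v_i` with `Q v_i = 1` after rescaling (squaring is onto), every `h ∈ H` permutes the `v_i`
(`Q (h v_i) = 1` and `h v_i = c v_j` force `c² = 1`, `c = 1`), so `Σ v_i ≠ 0` is fixed by `H`: `F (Σ v_i)` is `K`-invariant, contradiction
with `hKirr` (`t ≥ 2`).  So all `D i` are totally singular.  `t = 2`: shape (2b).  `t > 2`: the `t/2 ≥ 2` sums `D i ⊔ D (σ i)` (enumerate the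
`σ`-orbits by `Fintype.equivFin`) are non-degenerate, pairwise orthogonal, pairwise isometric (`k = h z` maps `D i ⊔ D (σ i)` onto
`D j ⊔ D (σ j)`, `h` isometry): shape (2a) with `k = 2 m ≥ 2`. -/
theorem egeom_of_paired_components (Q : V → F) (hQ : IsNondegenerateQuadraticForm Q)
    (H K : Subgroup (GL (Fin n) F)) (hK : K = H ⊔ Z) (hH : H ≤ isometryGroup F Q)
    (hKirr : ActsIrreducibly (matrixSet K))
    (t m : ℕ) (D : Fin t → Submodule F V) (hD : IsMDecomposition m D) (hKD : K ≤ decompositionStabilizer D)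
    (htr : ∀ i j, ∃ k ∈ K, (D i).map (Matrix.toLin' (k : Mat)) = D j)
    (hpair : ∀ i, ∃ j, ∀ l, l ≠ j → AreOrthogonalFor (QuadraticMap.polar Q) (D i) (D l))
    (hno : ¬ ∀ i j, i ≠ j → AreOrthogonalFor (QuadraticMap.polar Q) (D i) (D j)) :
    EGeom Q K := by
  exact Cfsg.Agent.Lib.Helper85.AschE.egeom_of_paired_components Q hQ H K hK hH hKirr t m D hD hKD htr hpair hno

/-- K-OEven-A2c (adapt `Helper90.AschO.ogeom_of_frame`; EASIER: no discriminant).  Choose `v_i` spanning `D i` with `Q (v_i) = a ≠ 0`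
for all `i` (isometries `D 0 ≃ D i`), `P` = matrix with columns `v_i` (`t = n`).  `h ∈ H` maps `v_i` to `± v_{σ i}`, so `P⁻¹ h P` is a signed
permutation matrix (entries in the prime field).  `F₀` maximal subfield (`Helper72.Asch.exists_subfield_prime_index ⊥`), `ζ = a⁻¹`:
`ζ Q (P u) = Σ u_i² ∈ F₀`.  Shape (5). -/
theorem egeom_of_frame (Q : V → F) (hQ : IsNondegenerateQuadraticForm Q)
    (H : Subgroup (GL (Fin n) F)) (hH : H ≤ isometryGroup F Q)
    (t : ℕ) (D : Fin t → Submodule F V) (hD : IsOrthogonalMDecomposition Q 1 D)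
    (hHD : H ≤ decompositionStabilizer D) (hp : ¬ (Fintype.card F).Prime) : EGeom Q (H ⊔ Z) := by
  exact Cfsg.Agent.Lib.Helper27.AschE.egeom_of_frame Q hQ H hH t D hD hHD hp

/-! ## Block B : isotypic case -/

/-- K-OEven-B2a (adapt `Helper39.SpAsch.exists_adjointClosed_field`, S5662 leaf S3a, or `Helper42.AschO.ogeom_of_center_ne_bot`).
`L = centre of A`, `A = spanAlg N`, is a finite field, normalized by `K`, stable under the adjoint `adjQ Q` (an anti-automorphism of `A`,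
`adjQ_mem_spanAlg`); `E` = its unique subfield of prime degree `r` over `F`: adjoint-closed by uniqueness; the adjoint is an
`F`-automorphism of `E` of order `≤ 2`, so it is trivial (self-adjoint) or `r = 2`. -/
theorem exists_adjointClosed_field (Q : V → F) (hQ : IsNondegenerateQuadraticForm Q)
    (K N : Subgroup (GL (Fin n) F)) (hK : K ≤ quadSimilarityGroup Q) (hNK : N ≤ K) (hKN : NormBy K N)
    (hsimple : IsSimpleRing (spanAlg N)) (hc : Subalgebra.center F (spanAlg N) ≠ ⊥) :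
    ∃ (r : ℕ) (E : Subalgebra F Mat), r.Prime ∧ IsFieldSubalgebra r E ∧ K ≤ subalgebraNormalizer E ∧
      (∀ x ∈ E, x ∈ spanAlg N ∧ ∀ y ∈ spanAlg N, x * y = y * x) ∧
      IsAdjointClosedFor (QuadraticMap.polar Q) E ∧ (IsSelfAdjointFor (QuadraticMap.polar Q) E ∨ r = 2) := by
  exact Cfsg.Agent.Lib.Helper79.AschE.exists_adjointClosed_field Q hQ K N hK hNK hKN hsimple hc

/-- K-OEven-B2b.  `E` quadratic field, adjoint `*` non-trivial on `E` (so `* ` is the Frobenius of `E/F`), `k ∈ E`: `k* k = c ∈ F` (fixed by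
`*`).  `B (k u, k v) = B (u, k* k v) = c B (u, v)`.  `2 ≠ 0`: `Q (k v) = c Q v`.  `2 = 0`: `ψ v = Q (k v) - c Q v` has polar form `0`, so it is
additive with `ψ (a v) = a² ψ v`: `ker ψ` is a subspace of codimension ≤ 1; for `g ∈ N` with multiplier `μ`, `ψ (g v) = μ ψ v` (`g` commutes
with `k`), so `ker ψ` is `N`-invariant, hence invariant under `A = spanAlg N`.  If `ker ψ ≠ ⊤` then `V / ker ψ` is a 1-dimensional `A`-module,
giving an algebra map `A → F`, injective as `A` is simple, so `A = F`, contradicting `hc`.  (Related: `Helper38.SpAsch.quadFor_of_field_even`.) -/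
theorem similarity_of_unitary_field (Q : V → F) (hQ : IsNondegenerateQuadraticForm Q)
    (N : Subgroup (GL (Fin n) F)) (hN : N ≤ quadSimilarityGroup Q)
    (hsimple : IsSimpleRing (spanAlg N)) (hc : Subalgebra.center F (spanAlg N) ≠ ⊥)
    (E : Subalgebra F Mat) (hE : IsFieldSubalgebra 2 E)
    (hEc : ∀ x ∈ E, x ∈ spanAlg N ∧ ∀ y ∈ spanAlg N, x * y = y * x)
    (hac : IsAdjointClosedFor (QuadraticMap.polar Q) E) (hns : ¬ IsSelfAdjointFor (QuadraticMap.polar Q) E) :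
    ∀ k ∈ E, ∃ c : F, ∀ v : V, Q (k *ᵥ v) = c * Q v := by
  exact Cfsg.Agent.Lib.Helper67.AschE.similarity_of_unitary_field Q hQ N hN hsimple hc E hE hEc hac hns

/-- K-OEven-B6a (adapt `Helper38.AschO.exists_tensor_forms` / `Helper70.SpAsch.exists_gram_kronecker`).  Gram matrix in a tensor
basis: `G' = reindex e e (Pᵀ * gramQ Q * P) = g₁ ⊗ g₂` (Skolem-Noether + centraliser, `Helper97.Asch.kron_core`).  `G'` symmetric:
`g₁ᵀ = ε g₁`, `g₂ᵀ = ε⁻¹ g₂`, `ε² = 1`. -/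
theorem exists_tensor_forms_even (Q : V → F) (hQ : IsNondegenerateQuadraticForm Q)
    (A : Subalgebra F Mat) (hA : ∀ x ∈ A, adjQ Q x ∈ A) (a b : ℕ) (ha : 0 < a) (hb : 0 < b)
    (e : Fin n ≃ Fin a × Fin b) (P : GL (Fin n) F) (hT : IsTensorLeft A a b e P) :
    ∃ (g₁ : Matrix (Fin a) (Fin a) F) (g₂ : Matrix (Fin b) (Fin b) F) (ε : F), (ε = 1 ∨ ε = -1) ∧
      g₁ᵀ = ε • g₁ ∧ g₂ᵀ = ε • g₂ ∧ IsUnit g₁ ∧ IsUnit g₂ ∧
      ∀ x y : Fin a × Fin b → F,
        QuadraticMap.polar Q ((P : Mat) *ᵥ (x ∘ e)) ((P : Mat) *ᵥ (y ∘ e)) = formOfGram id (g₁ ⊗ₖ g₂) x y := by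
  exact Cfsg.Agent.Lib.Helper40.AschE.exists_tensor_forms_even Q hQ A hA a b ha hb e P hT

/-- K-OEven-B6q (characteristic 2; cf. S5662 leaves S4q / S4d2 / S4dt of helper86 / helper81 / helper80).
(i) `d₁ w = g₁(w,w)` is additive with `d₁ (c w) = c² d₁ w`, so `ker d₁` has codimension ≤ 1; every `s ∈ N` is `P (x ⊗ 1) P⁻¹` (`hT`) and a
similarity of `B = g₁ ⊗ g₂`, so `xᵀ g₁ x = μ g₁` and `x` preserves `ker d₁`; these `x` span `M_a(F)` (`hT`), `a ≥ 2`: `ker d₁ = ⊤`.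
(ii) every `k ∈ K` is `P (x ⊗ y) P⁻¹` (`hKT`) with `yᵀ g₂ y = c g₂`, so `y` preserves `U₀ = ker d₂` and `k` preserves `P (F^a ⊗ U₀)`; `hKirr`,
`b ≥ 2`: `U₀ = ⊤`.  (iii) for fixed `u`, `w ↦ Q (P (w ⊗ u))` has polar form `g₁(w,w') g₂(u,u) = 0`, its kernel has codimension ≤ 1 and is
invariant under the `x` of (i) (`Q (s v) = μ Q v`): it is `⊤`. -/
theorem tensor_forms_char_two (h2 : (2 : F) = 0) (Q : V → F) (hQ : IsNondegenerateQuadraticForm Q)
    (K N : Subgroup (GL (Fin n) F)) (hK : K ≤ quadSimilarityGroup Q) (hNK : N ≤ K)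
    (hKirr : ActsIrreducibly (matrixSet K)) (a b : ℕ) (ha : 2 ≤ a) (hb : 2 ≤ b)
    (e : Fin n ≃ Fin a × Fin b) (P : GL (Fin n) F) (hT : IsTensorLeft (spanAlg N) a b e P)
    (hKT : K ≤ tensorProductSubgroup a b e P)
    (g₁ : Matrix (Fin a) (Fin a) F) (g₂ : Matrix (Fin b) (Fin b) F) (h₁ : g₁ᵀ = g₁) (h₂ : g₂ᵀ = g₂)
    (hu₁ : IsUnit g₁) (hu₂ : IsUnit g₂)
    (hform : ∀ x y : Fin a × Fin b → F,
      QuadraticMap.polar Q ((P : Mat) *ᵥ (x ∘ e)) ((P : Mat) *ᵥ (y ∘ e)) = formOfGram id (g₁ ⊗ₖ g₂) x y) :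
    (∀ i, g₁ i i = 0) ∧ (∀ i, g₂ i i = 0) ∧
      ∀ (x₁ : Fin a → F) (x₂ : Fin b → F),
        Q ((P : Mat) *ᵥ ((fun p : Fin a × Fin b => x₁ p.1 * x₂ p.2) ∘ e)) = 0 := by
  exact Cfsg.Agent.Lib.Helper90.AschE.tensor_forms_char_two h2 Q hQ K N hK hNK hKirr a b ha hb e P hT hKT g₁ g₂ h₁ h₂ hu₁ hu₂ hform

/-- K-OEven-B6b (adapt `Helper97.AschO.ogeom_of_tensor_forms`).  Shape (4).  `f_i = fun x y => x ⬝ᵥ (g_i *ᵥ y)`, `gramMatrix f_i = g_i`.
`2 ≠ 0`, `ε = 1`: symmetric ⊗ symmetric.  `2 ≠ 0`, `ε = -1`: both skew, hence alternating, and `Q (P (x₁ ⊗ x₂)) = ½ g₁(x₁,x₁) g₂(x₂,x₂) = 0`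
(`two_mul_Q`).  `2 = 0`: use `hchar2`.  For `b < a` swap the factors (`Helper63.Asch.tensorProductSubgroup_le_swap`,
`Helper54.SpAsch.kronForm_swap`); `a = b` is allowed. -/
theorem egeom_of_tensor_forms_even (Q : V → F) (hQ : IsNondegenerateQuadraticForm Q)
    (K : Subgroup (GL (Fin n) F)) (a b : ℕ) (ha : 2 ≤ a) (hb : 2 ≤ b)
    (e : Fin n ≃ Fin a × Fin b) (P : GL (Fin n) F) (hKT : K ≤ tensorProductSubgroup a b e P)
    (g₁ : Matrix (Fin a) (Fin a) F) (g₂ : Matrix (Fin b) (Fin b) F) (ε : F) (hε : ε = 1 ∨ ε = -1)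
    (h₁ : g₁ᵀ = ε • g₁) (h₂ : g₂ᵀ = ε • g₂) (hu₁ : IsUnit g₁) (hu₂ : IsUnit g₂)
    (hform : ∀ x y : Fin a × Fin b → F,
      QuadraticMap.polar Q ((P : Mat) *ᵥ (x ∘ e)) ((P : Mat) *ᵥ (y ∘ e)) = formOfGram id (g₁ ⊗ₖ g₂) x y)
    (hchar2 : (2 : F) = 0 → (∀ i, g₁ i i = 0) ∧ (∀ i, g₂ i i = 0) ∧
      ∀ (x₁ : Fin a → F) (x₂ : Fin b → F),
        Q ((P : Mat) *ᵥ ((fun p : Fin a × Fin b => x₁ p.1 * x₂ p.2) ∘ e)) = 0) :
    EGeom Q K := by
  exact Cfsg.Agent.Lib.Helper39.AschE.egeom_of_tensor_forms_even Q hQ K a b ha hb e P hKT g₁ g₂ ε hε h₁ h₂ hu₁ hu₂ hform hchar2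

/-! ## Block C : subfields -/

/-- K-OEven-Cf (adapt `Helper18.AschO.exists_rational_structure`; no discriminant).  `Q' u = Q (B⁻¹ u)` is invariant under `X^B`
(entries in `F₁`, spanning the matrix algebra); Gram matrix `G'` of its polar form; pick `G'_{ij} ≠ 0`, `ζ = G'_{ij}⁻¹`, `M = ζ G'`; the entrywise
Frobenius `φ = (· ^ |F₁|)` fixes `X^B`, so `φ(M)` is again invariant, `φ(M) = λ M`, `λ = 1`: `M` has entries in `F₁`.  `2 ≠ 0`:
`ζ Q' u = ½ uᵀ M u ∈ F₁`.  `2 = 0`: `Q₁ = ζ Q'` and `Q₁^φ u = φ (Q₁ (φ⁻¹ u))` are quadratic forms invariant under `X^B` with the same polar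
form `M`, so `Q₁^φ - Q₁` is additive, `= λ²` for a linear functional `λ` whose kernel is `X^B`-invariant, hence `λ = 0` (absolute
irreducibility, `n ≥ 2`): `φ (Q₁ u) = Q₁ u` for `u` with entries in `F₁`. -/
theorem exists_rational_structure_even (hn : 2 ≤ n) (Q : V → F) (hQ : IsNondegenerateQuadraticForm Q)
    (X : Subgroup (GL (Fin n) F)) (hX : spanAlg X = ⊤) (hXI : X ≤ isometryGroup F Q)
    (F₁ : Subfield F) (B : GL (Fin n) F)
    (hB : ∀ s ∈ matrixSet X, ∀ i j, ((B : Mat) * s * ((B⁻¹ : GL (Fin n) F) : Mat)) i j ∈ F₁) :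
    ∃ ζ : F, ζ ≠ 0 ∧ IsQuadFormRationalStructure (fun v : V => ζ * Q v) F₁ B⁻¹ := by
  exact Cfsg.Agent.Lib.Helper72.AschE.exists_rational_structure_even hn Q hQ X hX hXI F₁ B hB

/-! ## Block E : tensor-induced groups -/

/-- K-OEven-E5a (adapt `Helper41.AschO.exists_tensorPower_form` / `Helper53.SpAsch.exists_gram_power`).  Gram matrix in a
tensor-power basis: `G' = reindex e e (Pᵀ * gramQ Q * P) = ⊗ g_i` with `g_iᵀ = ε_i g_i`, `ε_i = ± 1`. -/
theorem exists_tensorPower_form_even (Q : V → F) (hQ : IsNondegenerateQuadraticForm Q)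
    (m t : ℕ) (hm : 0 < m) (ht : 0 < t) (e : Fin n ≃ (Fin t → Fin m)) (P : GL (Fin n) F)
    (hadj : ∀ i x, ∃ y, adjQ Q ((P : Mat) * Matrix.reindex e.symm e.symm (pureAt m t i x) * ((P⁻¹ : GL (Fin n) F) : Mat)) =
      (P : Mat) * Matrix.reindex e.symm e.symm (pureAt m t i y) * ((P⁻¹ : GL (Fin n) F) : Mat)) :
    ∃ (g : Fin t → Matrix (Fin m) (Fin m) F) (ε : Fin t → F), (∀ i, ε i = 1 ∨ ε i = -1) ∧
      (∀ i, (g i)ᵀ = ε i • g i) ∧ (∀ i, IsUnit (g i)) ∧
      ∀ x y : (Fin t → Fin m) → F,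
        QuadraticMap.polar Q ((P : Mat) *ᵥ (x ∘ e)) ((P : Mat) *ᵥ (y ∘ e)) = ∑ a, ∑ b, x a * PT g a b * y b := by
  exact Cfsg.Agent.Lib.Helper01.AschE.exists_tensorPower_form_even Q hQ m t hm ht e P hadj

/-- K-OEven-E7g (pure group theory).  `C = ⨆ Qs j`; `⁅N, N⁆ ≤ ⁅C ⊔ Z, C ⊔ Z⁆ = ⁅C, C⁆ ≤ ⨆ j, ⁅Qs j, Qs j⁆` (pairwise commuting factors, `Z` central:
`Helper61.Asch.commutator_sup_scalars`), so `x ∈ Qs i ≤ N = ⁅N, N⁆ ⊔ Z` is `x = (∏ c_j) z` with `c_j ∈ ⁅Qs j, Qs j⁆`; `y = c_i⁻¹ x ∈ Qs i` commutes with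
`Qs i` (it is a product of elements of the `Qs j`, `j ≠ i`, and a scalar), so `y ∈ Z` by `hcen`, and `x = c_i y`. -/
theorem factor_perfect (N : Subgroup (GL (Fin n) F)) (t : ℕ) (Qs : Fin t → Subgroup (GL (Fin n) F))
    (hQN : ∀ i, Qs i ≤ N) (hQcomm : ∀ i j, i ≠ j → ∀ x ∈ Qs i, ∀ y ∈ Qs j, x * y = y * x)
    (hNQ : N ≤ (⨆ i, Qs i) ⊔ Z) (hperf : ⁅N, N⁆ ⊔ Z = N)
    (hcen : ∀ i, ∀ x ∈ Qs i, (∀ y ∈ Qs i, x * y = y * x) → x ∈ Z) :
    ∀ i, Qs i ≤ ⁅Qs i, Qs i⁆ ⊔ Z := by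
  exact Cfsg.Agent.Lib.Helper54.AschE.factor_perfect N t Qs hQN hQcomm hNQ hperf hcen

/-- K-OEven-E7a.  Factors of dimension 2: every `g i` is alternating.  Every `s ∈ Qs i` is `P (pureAt i x) P⁻¹` (`hmem`) and a similarity
of `B = ⊗ g_j`, so `xᵀ (g i) x = c (g i)`.  Suppose `g i` is not alternating.  `2 = 0`: `w ↦ (g i)(w,w)` is additive, its kernel is a line
preserved by all these `x`, which span `M_2(F)` (`hgen`): contradiction.  `2 ≠ 0`: `g i` is symmetric (`ε i = 1`, as skew gives alternating);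
the similarities `x` of a symmetric form in dimension 2 with `det x = c` form an abelian group of index ≤ 2 in the group of all
similarities, so `Qs i` has an abelian subgroup `T` of index ≤ 2, `⁅Qs i, Qs i⁆ ≤ T`, and `Qs i ≤ T ⊔ Z` (`hperf`) is abelian, so
`spanAlg (Qs i)` is commutative, contradicting `hgen` (`M_2(F)` is not commutative). -/
theorem alternating_of_perfect_two (Q : V → F) (hQ : IsNondegenerateQuadraticForm Q) (t : ℕ) (ht : 2 ≤ t)
    (e : Fin n ≃ (Fin t → Fin 2)) (P : GL (Fin n) F) (Qs : Fin t → Subgroup (GL (Fin n) F))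
    (hQs : ∀ i, Qs i ≤ quadSimilarityGroup Q)
    (hmem : ∀ i, ∀ s ∈ Qs i, ∃ x : Matrix (Fin 2) (Fin 2) F,
      ((s : GL (Fin n) F) : Mat) = (P : Mat) * Matrix.reindex e.symm e.symm (pureAt 2 t i x) * ((P⁻¹ : GL (Fin n) F) : Mat))
    (hgen : ∀ i (x : Matrix (Fin 2) (Fin 2) F),
      (P : Mat) * Matrix.reindex e.symm e.symm (pureAt 2 t i x) * ((P⁻¹ : GL (Fin n) F) : Mat) ∈ spanAlg (Qs i))
    (hperf : ∀ i, Qs i ≤ ⁅Qs i, Qs i⁆ ⊔ Z)
    (g : Fin t → Matrix (Fin 2) (Fin 2) F) (ε : Fin t → F) (hε : ∀ i, ε i = 1 ∨ ε i = -1)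
    (hg : ∀ i, (g i)ᵀ = ε i • g i) (hunit : ∀ i, IsUnit (g i))
    (hform : ∀ x y : (Fin t → Fin 2) → F,
      QuadraticMap.polar Q ((P : Mat) *ᵥ (x ∘ e)) ((P : Mat) *ᵥ (y ∘ e)) = ∑ a, ∑ b, x a * PT g a b * y b) :
    ∀ i, (∀ a, g i a a = 0) ∧ (g i)ᵀ = -(g i) := by
  exact Cfsg.Agent.Lib.Helper70.AschE.alternating_of_perfect_two Q hQ t ht e P Qs hQs hmem hgen hperf g ε hε hg hunit hform

/-- K-OEven-E7b.  All `g i` alternating, factors of dimension 2: `Q` is of plus type.  `w_a = P *ᵥ (Pi.single a 1 ∘ e)` (`a : Fin t → Fin 2`)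
is the tensor basis.  (i) `Q (w_a) = 0`: if `2 ≠ 0`, `2 Q (w_a) = B(w_a,w_a) = ∏ (g i)(a i, a i) = 0`; if `2 = 0`: for `i = 0` and fixed other
coordinates, `ψ w = Q (P (w ⊗ e_{a 1} ⊗ ..))` (`w ∈ F²`) has polar form `0`, `ker ψ` has codimension ≤ 1 and is invariant under the `x` with
`P (pureAt 0 x) P⁻¹ ∈ Qs 0` (similarities of `Q`), which span `M_2(F)`: `ψ = 0`.  (ii) `U = span {w_a | a 0 = 0}` has dimension `2^(t-1) = n/2`,
`B (w_a, w_b) = ∏ (g i)(a i, b i) = 0` for `a 0 = b 0 = 0`, so `Q` vanishes on `U`. -/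
theorem plus_of_tensorPower_alternating (Q : V → F) (hQ : IsNondegenerateQuadraticForm Q) (t : ℕ) (ht : 2 ≤ t)
    (e : Fin n ≃ (Fin t → Fin 2)) (P : GL (Fin n) F) (Qs : Fin t → Subgroup (GL (Fin n) F))
    (hQs : ∀ i, Qs i ≤ quadSimilarityGroup Q)
    (hmem : ∀ i, ∀ s ∈ Qs i, ∃ x : Matrix (Fin 2) (Fin 2) F,
      ((s : GL (Fin n) F) : Mat) = (P : Mat) * Matrix.reindex e.symm e.symm (pureAt 2 t i x) * ((P⁻¹ : GL (Fin n) F) : Mat))
    (hgen : ∀ i (x : Matrix (Fin 2) (Fin 2) F),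
      (P : Mat) * Matrix.reindex e.symm e.symm (pureAt 2 t i x) * ((P⁻¹ : GL (Fin n) F) : Mat) ∈ spanAlg (Qs i))
    (g : Fin t → Matrix (Fin 2) (Fin 2) F) (halt : ∀ i, (∀ a, g i a a = 0) ∧ (g i)ᵀ = -(g i))
    (hform : ∀ x y : (Fin t → Fin 2) → F,
      QuadraticMap.polar Q ((P : Mat) *ᵥ (x ∘ e)) ((P : Mat) *ᵥ (y ∘ e)) = ∑ a, ∑ b, x a * PT g a b * y b) :
    IsPlusTypeOn Q ⊤ := by
  exact Cfsg.Agent.Lib.Helper97.AschE.plus_of_tensorPower_alternating Q hQ t ht e P Qs hQs hmem hgen g halt hform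

end Cfsg.Agent.Lib.Helper46.AschEL
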