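import Mathlib
import Cfsg.Prelude.Def_GeometricClasses
import Cfsg.Agent.Lib.Helper61.AschDefs
import Cfsg.Agent.Lib.Helper61.AschBasic
import Cfsg.Agent.Lib.Helper04.AschE3
import Cfsg.Agent.Lib.Helper46.AschODefs
import Cfsg.Agent.Lib.Helper46.AschOBasic
import Cfsg.Agent.Lib.Helper14.AschOT1
import Cfsg.Agent.Lib.Helper45.AschOT2
import Cfsg.Agent.Lib.Helper32.AschOT3
import Cfsg.Agent.Lib.Helper81.AschOR
import Cfsg.Agent.Lib.Helper81.AschOA2a
import Cfsg.Agent.Lib.Helper30.AschOA2b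
import Cfsg.Agent.Lib.Helper42.AschOB2
import Cfsg.Agent.Lib.Helper38.AschOB6a
import Cfsg.Agent.Lib.Helper97.AschOB6b
import Cfsg.Agent.Lib.Helper19.AschOSS
import Cfsg.Agent.Lib.Helper05.AschOE5n
import Cfsg.Agent.Lib.Helper41.AschOE5a
import Cfsg.Agent.Lib.Helper79.AschOC6p
import Cfsg.Agent.Lib.Helper18.AschOCf
import Cfsg.Agent.Lib.Helper66.AschOU
import Cfsg.Agent.Lib.Helper48.AschOE5bSS
import Cfsg.Agent.Lib.Helper90.AschOA2c
import Cfsg.Agent.Lib.Helper97.AschOF33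

/-!
S5673: hub re-exporting the delivered keystone leaves with the exact spec signatures (single switch point for the glue).
-/

set_option autoImplicit false

namespace Cfsg.Agent.Lib.Helper46.AschOL

open Cfsg Cfsg.Geo Cfsg.Agent.Lib.Helper61.Asch Cfsg.Agent.Lib.Helper46.AschO
open Cfsg.Agent.Lib.Helper04.Asch (pureAt PT ptGL permMat)
open scoped Matrix Kronecker MatrixGroups

variable {F : Type*} [Field F] [Fintype F] {n : ℕ}

local notation "V" => (Fin n → F)
local notation "Mat" => Matrix (Fin n) (Fin n) F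
local notation "Z" => scalars (Fin n) F

/-! ## Block T : transport along a bijection of index types (form-agnostic bookkeeping) -/

/-- K-S5673-T1.  Transport of the eight shapes along `e : ι ≃ κ`.  `glReindex e : GL ι F ≃* GL κ F`,
`(glReindex e g) *ᵥ (v ∘ e.symm) = (g *ᵥ v) ∘ e.symm`.  Shape by shape: subspaces / decompositions are pulled back along the
linear equivalence `v ↦ v ∘ e.symm`; subalgebras along `Matrix.reindexAlgEquiv`; `tensorProductSubgroup n₁ n₂ e' P'` becomes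
`tensorProductSubgroup n₁ n₂ (e.trans e') ((glReindex e).symm P')`, same for `tensorWreathSubgroup`, `subfieldSubgroup`. -/
theorem OShape.transport {ι κ : Type} [Fintype ι] [DecidableEq ι] [Fintype κ] [DecidableEq κ] (e : ι ≃ κ)
    (d : ℕ) (Q : (ι → F) → F) (X' : Subgroup (GL κ F))
    (h : OShape d (fun v : κ → F => Q (v ∘ e)) X') :
    OShape d Q (X'.comap (glReindex (F := F) e).toMonoidHom) :=
  Cfsg.Agent.Lib.Helper14.AschO.OShape.transport e d Q X' h

/-- K-S5673-T2.  Transport of the residual class (all eight fields of `IsResidualCore` and the unitary-form clause). -/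
theorem residual_transport {ι κ : Type} [Fintype ι] [DecidableEq ι] [Fintype κ] [DecidableEq κ] (e : ι ≃ κ)
    (H : Subgroup (GL ι F))
    (h : InOrthogonalResidualClass (H.map (glReindex (F := F) e).toMonoidHom)) :
    InOrthogonalResidualClass H :=
  Cfsg.Agent.Lib.Helper45.AschO.residual_transport e H h

/-- K-S5673-T3.  The standard odd-dimensional form read on `Fin (2m+1)`: non-degenerate (helper43's `qdataOdd43`),
Gram determinant `2 (-1)^m` (helper50 `IsometryClass.det_odd_gram`), isometry group transported. -/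
theorem quadFormOdd_transport (hq : Odd (Fintype.card F)) (m : ℕ) (e : (Unit ⊕ (Fin m ⊕ Fin m)) ≃ Fin (2 * m + 1)) :
    IsNondegenerateQuadraticForm (fun v : Fin (2 * m + 1) → F => quadFormOdd m F (v ∘ e)) ∧
    DiscInPrimeField (fun v : Fin (2 * m + 1) → F => quadFormOdd m F (v ∘ e)) ∧
    ∀ H : Subgroup (GL (Unit ⊕ (Fin m ⊕ Fin m)) F), H ≤ isometryGroup F (quadFormOdd m F) →
      H.map (glReindex (F := F) e).toMonoidHom ≤
        isometryGroup F (fun v : Fin (2 * m + 1) → F => quadFormOdd m F (v ∘ e)) :=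
  Cfsg.Agent.Lib.Helper32.AschO.quadFormOdd_transport hq m e

/-! ## Block R : reducible groups -/

/-- K-S5673-R.  `W` proper non-zero invariant (`¬ ActsIrreducibly`); `W^⊥ = perpQ Q hQ W` is invariant (similarities);
`R = W ⊓ W^⊥`.  `R ≠ ⊥`: `Q` vanishes on `R` (`two_mul_Q`), `K ≤ subspaceStabilizer R` (`AschGlueA.le_subspaceStabilizer`).
`R = ⊥`: `W` is non-degenerate for the polar form. -/
theorem ogeom_of_reducible (Q : V → F) (hQ : IsNondegenerateQuadraticForm Q) (h2 : (2 : F) ≠ 0)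
    (K : Subgroup (GL (Fin n) F)) (hK : K ≤ quadSimilarityGroup Q)
    (hred : ¬ ActsIrreducibly (matrixSet K)) : OGeom Q K :=
  Cfsg.Agent.Lib.Helper81.AschO.ogeom_of_reducible Q hQ h2 K hK hred

/-! ## Block A : isotypic components and the form -/

/-- K-S5673-A2a (form-agnostic; copy of helper38's `AschA2.c2_core` + Mathlib
`isFullyInvariant_iff_sSup_isotypicComponents`).  The isotypic components form an `m`-decomposition permuted
transitively by `K`; they are invariant under `A` and under the commutant of `A`; every subspace invariant under `A` and under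
the commutant of `A` (= fully invariant `A`-submodule) is a sum of components.  (`V` is semisimple by helper42's A1.) -/
theorem c2_components (K : Subgroup (GL (Fin n) F)) (A : Subalgebra F Mat)
    (hK : ActsIrreducibly (matrixSet K)) (hKA : NormAlg K A) (hiso : ¬ IsIsotypic A V) :
    ∃ (t m : ℕ) (D : Fin t → Submodule F V), IsMDecomposition m D ∧ K ≤ decompositionStabilizer D ∧
      (∀ i j, ∃ k ∈ K, (D i).map (Matrix.toLin' (k : Mat)) = D j) ∧
      (∀ i, ∀ a ∈ A, (D i).map (Matrix.toLin' a) ≤ D i) ∧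
      (∀ i, ∀ M : Mat, (∀ a ∈ A, M * a = a * M) → (D i).map (Matrix.toLin' M) ≤ D i) ∧
      (∀ W : Submodule F V, (∀ a ∈ A, W.map (Matrix.toLin' a) ≤ W) →
        (∀ M : Mat, (∀ a ∈ A, M * a = a * M) → W.map (Matrix.toLin' M) ≤ W) →
        ∃ s : Finset (Fin t), W = ⨆ i ∈ s, D i) :=
  Cfsg.Agent.Lib.Helper81.AschO.c2_components K A hK hKA hiso

/-- K-S5673-A2b.  `W_i = perpQ (D i)` is invariant under `A` (adjoint-closed) and under the commutant of `A` (the adjoint of a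
matrix commuting with `A` commutes with `A`), so `W_i = ⨆_{j ∈ s_i} D j`; `dim W_i = n - m` gives `|s_i| = t - 1`; the missing
index `i'` is the only `j` with `D j` not orthogonal to `D i`; `'` is an involution (symmetry of the form) commuting with `K`;
if `i' ≠ i` for one (hence all) `i` then `t` is even (`Equiv.Perm.card_fixedPoints_modEq`, p = 2) and `n = t m` is even.  So the
`D i` are pairwise orthogonal, hence non-degenerate.  Isometric: `k = h z` (`AschGlueC.mem_sup_scalars`), `h ∈ H` an isometry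
mapping `D i` onto `D j`. -/
theorem isOrthogonalMDecomposition_of_components (hodd : Odd n) (h2 : (2 : F) ≠ 0) (Q : V → F)
    (hQ : IsNondegenerateQuadraticForm Q) (H K : Subgroup (GL (Fin n) F)) (hK : K = H ⊔ Z)
    (hH : H ≤ isometryGroup F Q) (A : Subalgebra F Mat) (hA : ∀ x ∈ A, adjQ Q x ∈ A)
    (t m : ℕ) (D : Fin t → Submodule F V) (hD : IsMDecomposition m D) (hKD : K ≤ decompositionStabilizer D)
    (htr : ∀ i j, ∃ k ∈ K, (D i).map (Matrix.toLin' (k : Mat)) = D j)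
    (hinvA : ∀ i, ∀ a ∈ A, (D i).map (Matrix.toLin' a) ≤ D i)
    (hinvC : ∀ i, ∀ M : Mat, (∀ a ∈ A, M * a = a * M) → (D i).map (Matrix.toLin' M) ≤ D i)
    (hfull : ∀ W : Submodule F V, (∀ a ∈ A, W.map (Matrix.toLin' a) ≤ W) →
        (∀ M : Mat, (∀ a ∈ A, M * a = a * M) → W.map (Matrix.toLin' M) ≤ W) →
        ∃ s : Finset (Fin t), W = ⨆ i ∈ s, D i) :
    IsOrthogonalMDecomposition Q m D :=
  Cfsg.Agent.Lib.Helper30.AschO.isOrthogonalMDecomposition_of_components hodd h2 Q hQ H K hK hH A hA t m D hD hKD htr hinvA hinvC hfull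

/-- K-S5673-A2c.  An orthogonal frame of isometric 1-spaces over a non-prime field: class 5.  Choose `v_i` spanning `D i` with
`Q (v_i) = a` for all `i` (use the isometries `D 0 ≃ D i`), `P₀` = matrix with columns `v_i` (`t = n`).  `h ∈ H` maps `v_i` to
`± v_{σ i}`, so `P₀⁻¹ h P₀` is a signed permutation matrix (entries in the prime field).  `F₀` maximal subfield
(`Helper72.Asch.exists_subfield_prime_index ⊥`).  Gram: `P₀ᵀ G P₀ = diag (2a)`, so `(2a)^n = det(P₀)² det G = k (s det P₀)²` and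
`2a = k λ²` (n odd); `P = P₀ λ⁻¹`: `Q (P u) = (k/2) Σ u_i² ∈ F₀`. -/
theorem ogeom_of_frame (hodd : Odd n) (h2 : (2 : F) ≠ 0) (Q : V → F) (hQ : IsNondegenerateQuadraticForm Q)
    (hdisc : DiscInPrimeField Q) (H : Subgroup (GL (Fin n) F)) (hH : H ≤ isometryGroup F Q)
    (t : ℕ) (D : Fin t → Submodule F V) (hD : IsOrthogonalMDecomposition Q 1 D)
    (hHD : H ≤ decompositionStabilizer D) (hp : ¬ (Fintype.card F).Prime) : OGeom Q (H ⊔ Z) :=
  Cfsg.Agent.Lib.Helper90.AschO.ogeom_of_frame hodd h2 Q hQ hdisc H hH t D hD hHD hp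

/-! ## Block B : isotypic case -/

/-- K-S5673-B2.  Extension-field class.  `A = spanAlg N` simple with centre `E ≠ F`, adjoint-closed.  `V` is an `E`-vector
space so `[E:F] | n`, odd.  Take `r` prime dividing `[E:F]` and `E' = {x ∈ E | x^(q^r) = x}` as in helper41's B2
(`exists_fieldSubalgebra_of_embedding`): normalized by `K` (B2's proof), stable under `adjQ` (anti-automorphism preserving `E`).
`adjQ` on the commutative `E'` is an `F`-automorphism `τ` with `τ² = 1`; if `τ ≠ 1` the (-1)-eigenspace is a 1-dimensional space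
over the fixed field, so `r` is even: impossible.  So `E'` is self-adjoint.  `r ≠ n`: else `[E:F] = n`, `dim_E V = 1`, `A = E`
commutative and self-adjoint, each `g ∈ N` has `g = adjQ g = c g⁻¹`, `g² = c ∈ F`, `[F(g):F] ≤ 2` divides `n`: `g ∈ F`, so
`A = F`, contradiction. -/
theorem ogeom_of_center_ne_bot (hodd : Odd n) (h2 : (2 : F) ≠ 0) (Q : V → F) (hQ : IsNondegenerateQuadraticForm Q)
    (K N : Subgroup (GL (Fin n) F)) (hK : K ≤ quadSimilarityGroup Q) (hNK : N ≤ K) (hKN : NormBy K N)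
    (hsimple : IsSimpleRing (spanAlg N)) (hc : Subalgebra.center F (spanAlg N) ≠ ⊥) : OGeom Q K :=
  Cfsg.Agent.Lib.Helper42.AschO.ogeom_of_center_ne_bot hodd h2 Q hQ K N hK hNK hKN hsimple hc

/-- K-S5673-B6a.  Gram matrix in a tensor basis.  `G' = reindex e e (Pᵀ * gramQ Q * P)`; `M_a ⊗ 1_b` is stable under
`X ↦ G'⁻¹ Xᵀ G'`; `x ↦ τ(x)` with `G'⁻¹ (xᵀ ⊗ 1) G' = τ(x) ⊗ 1` is an algebra automorphism after composing with transpose, hence
inner (`Helper97.Asch.skolem_noether_matrix`): `τ(x) = g⁻¹ xᵀ g`... so `G' (g ⊗ 1)⁻¹` centralizes `M_a ⊗ 1` and is `1 ⊗ h`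
(`Helper97.Asch.centralizer_kron`): `G' = g ⊗ h`.  `G'` symmetric: `gᵀ = λ g`, `hᵀ = λ⁻¹ h`, `λ = ±1`; `λ = -1` makes `g` skew and
invertible, so `a` is even (`det`), contradiction with `n = a b` odd. -/
theorem exists_tensor_forms (hodd : Odd n) (h2 : (2 : F) ≠ 0) (Q : V → F) (hQ : IsNondegenerateQuadraticForm Q)
    (A : Subalgebra F Mat) (hA : ∀ x ∈ A, adjQ Q x ∈ A) (a b : ℕ) (ha : 0 < a) (hb : 0 < b)
    (e : Fin n ≃ Fin a × Fin b) (P : GL (Fin n) F) (hT : IsTensorLeft A a b e P) :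
    ∃ (g₁ : Matrix (Fin a) (Fin a) F) (g₂ : Matrix (Fin b) (Fin b) F), g₁ᵀ = g₁ ∧ g₂ᵀ = g₂ ∧ IsUnit g₁ ∧ IsUnit g₂ ∧
      ∀ x y : Fin a × Fin b → F,
        QuadraticMap.polar Q ((P : Mat) *ᵥ (x ∘ e)) ((P : Mat) *ᵥ (y ∘ e)) = formOfGram id (g₁ ⊗ₖ g₂) x y :=
  Cfsg.Agent.Lib.Helper38.AschO.exists_tensor_forms hodd h2 Q hQ A hA a b ha hb e P hT

/-- K-S5673-B6b.  Class 4 for `a ≠ b` (`a, b` odd ≥ 3 as `a b = n`); for `b < a` swap the factors
(`Helper63.Asch.tensorProductSubgroup_le_swap`).  `f_i = fun x y => x ⬝ᵥ (g_i *ᵥ y)`, `gramMatrix f_i = g_i`. -/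
theorem ogeom_of_tensor_forms (hodd : Odd n) (Q : V → F) (hQ : IsNondegenerateQuadraticForm Q)
    (K : Subgroup (GL (Fin n) F)) (a b : ℕ) (ha : 2 ≤ a) (hb : 2 ≤ b) (hab : a ≠ b)
    (e : Fin n ≃ Fin a × Fin b) (P : GL (Fin n) F) (hKT : K ≤ tensorProductSubgroup a b e P)
    (g₁ : Matrix (Fin a) (Fin a) F) (g₂ : Matrix (Fin b) (Fin b) F) (h₁ : g₁ᵀ = g₁) (h₂ : g₂ᵀ = g₂)
    (hu₁ : IsUnit g₁) (hu₂ : IsUnit g₂)
    (hform : ∀ x y : Fin a × Fin b → F,
      QuadraticMap.polar Q ((P : Mat) *ᵥ (x ∘ e)) ((P : Mat) *ᵥ (y ∘ e)) = formOfGram id (g₁ ⊗ₖ g₂) x y) :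
    OGeom Q K :=
  Cfsg.Agent.Lib.Helper97.AschO.ogeom_of_tensor_forms hodd Q hQ K a b ha hb hab e P hKT g₁ g₂ h₁ h₂ hu₁ hu₂ hform

/-- K-S5673-SS.  Non-degenerate symmetric bilinear forms of the same odd dimension over a finite field of odd order are
similar (helper50 `IsometryDisc.isometric_of_disc`: isometric iff the product of the discriminants is a square; scaling by a
non-square changes the discriminant class in odd dimension). -/
theorem exists_similar (h2 : (2 : F) ≠ 0) (k : ℕ) (hk : Odd k) (g g' : Matrix (Fin k) (Fin k) F)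
    (hg : gᵀ = g) (hg' : g'ᵀ = g') (hu : IsUnit g) (hu' : IsUnit g') :
    ∃ (h : GL (Fin k) F) (c : F), c ≠ 0 ∧ (h : Matrix (Fin k) (Fin k) F)ᵀ * g * (h : Matrix (Fin k) (Fin k) F) = c • g' :=
  Cfsg.Agent.Lib.Helper19.AschO.exists_similar h2 k hk g g' hg hg' hu hu'

/-! ## Block E : tensor powers -/

/-- K-S5673-E5n.  Normal form of an element permuting the factor algebras (inside helper4's proof of
`AschE3.mem_tensorWreathSubgroup_of_permutes`: `(permGL σ)⁻¹ g` normalizes every factor algebra, `exists_pure_of_normalizes`). -/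
theorem normal_form_of_permutes (m t : ℕ) (hm : 0 < m) (ht : 0 < t)
    (e : Fin n ≃ (Fin t → Fin m)) (P k : GL (Fin n) F) (σ : Equiv.Perm (Fin t))
    (hk : ∀ i x, ∃ y, (k : Mat) * ((P : Mat) * Matrix.reindex e.symm e.symm (pureAt m t i x) * ((P⁻¹ : GL (Fin n) F) : Mat))
        * ((k⁻¹ : GL (Fin n) F) : Mat) =
      (P : Mat) * Matrix.reindex e.symm e.symm (pureAt m t (σ i) y) * ((P⁻¹ : GL (Fin n) F) : Mat)) :
    ∃ (u : Fin t → GL (Fin m) F) (d : F), d ≠ 0 ∧
      (k : Mat) = d • ((P : Mat) * Matrix.reindex e.symm e.symm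
        ((permMat m σ : Matrix (Fin t → Fin m) (Fin t → Fin m) F) * PT (fun i => (u i : Matrix (Fin m) (Fin m) F))) *
        ((P⁻¹ : GL (Fin n) F) : Mat)) :=
  Cfsg.Agent.Lib.Helper05.AschO.normal_form_of_permutes m t hm ht e P k σ hk

/-- K-S5673-E5a.  Gram matrix in a tensor-power basis.  `G' = reindex e e (Pᵀ * gramQ Q * P)`.  For each `i`, `x ↦ y` with
`G'⁻¹ (pureAt i x)ᵀ G' = pureAt i y` is an anti-automorphism of `M_m(F)`: `y = g_i⁻¹ xᵀ g_i` (Skolem-Noether).  `T = PT g` satisfies the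
same relations, so `G' T⁻¹` commutes with all `pureAt i x`, which generate the matrix algebra: `G' = c T`; absorb `c` into `g 0`.
`G'` symmetric forces `g_iᵀ = ± g_i`, and skew invertible forces `m` even (`n = m^t` odd). -/
theorem exists_tensorPower_form (hodd : Odd n) (h2 : (2 : F) ≠ 0) (Q : V → F) (hQ : IsNondegenerateQuadraticForm Q)
    (m t : ℕ) (hm : 0 < m) (ht : 0 < t) (e : Fin n ≃ (Fin t → Fin m)) (P : GL (Fin n) F)
    (hadj : ∀ i x, ∃ y, adjQ Q ((P : Mat) * Matrix.reindex e.symm e.symm (pureAt m t i x) * ((P⁻¹ : GL (Fin n) F) : Mat)) =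
      (P : Mat) * Matrix.reindex e.symm e.symm (pureAt m t i y) * ((P⁻¹ : GL (Fin n) F) : Mat)) :
    ∃ g : Fin t → Matrix (Fin m) (Fin m) F, (∀ i, (g i)ᵀ = g i) ∧ (∀ i, IsUnit (g i)) ∧
      ∀ x y : (Fin t → Fin m) → F,
        QuadraticMap.polar Q ((P : Mat) *ᵥ (x ∘ e)) ((P : Mat) *ᵥ (y ∘ e)) = ∑ a, ∑ b, x a * PT g a b * y b :=
  Cfsg.Agent.Lib.Helper41.AschO.exists_tensorPower_form hodd h2 Q hQ m t hm ht e P hadj

/-- K-S5673-F33.  `q = 3`, factors of dimension 3: the frame of the tensor basis (class 2 with `k = 1`, `F` prime).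
(i) every symmetric invertible `g` over `F_3` in dimension 3 has `T` with `Tᵀ g T = ± 1`; (ii) `xᵀ x = c • 1`, `c ≠ 0`, over `F_3`
in dimension 3 forces `x` monomial (each column has `c` = number of non-zero entries mod 3, so 1 or 2 of them; two columns with two
non-zero entries each are not orthogonal unless equal support, and three columns with the same support of size 2 are dependent);
(iii) `k = d • P (permMat σ * PT u) P⁻¹` similarity of `⊗ g_i`: `PT u` is a similarity, so each `u iᵀ g_i u i = c_i g_i` (compare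
entries of the pure tensors); (iv) in the basis `w_a = P (⊗ T_i) e_a` every `k` is monomial, the lines `F w_a` are pairwise orthogonal, and
`polar Q w_a w_a = ∏ ε_i` does not depend on `a`, so they are non-degenerate and pairwise isometric. -/
theorem ogeom_of_tensor_three (hq : Fintype.card F = 3) (Q : V → F) (hQ : IsNondegenerateQuadraticForm Q)
    (K : Subgroup (GL (Fin n) F)) (hK : K ≤ quadSimilarityGroup Q) (t : ℕ) (ht : 2 ≤ t)
    (e : Fin n ≃ (Fin t → Fin 3)) (P : GL (Fin n) F) (g : Fin t → Matrix (Fin 3) (Fin 3) F)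
    (hsymm : ∀ i, (g i)ᵀ = g i) (hunit : ∀ i, IsUnit (g i))
    (hform : ∀ x y : (Fin t → Fin 3) → F,
      QuadraticMap.polar Q ((P : Mat) *ᵥ (x ∘ e)) ((P : Mat) *ᵥ (y ∘ e)) = ∑ a, ∑ b, x a * PT g a b * y b)
    (hnf : ∀ k ∈ K, ∃ (σ : Equiv.Perm (Fin t)) (u : Fin t → GL (Fin 3) F) (d : F), d ≠ 0 ∧
      (k : Mat) = d • ((P : Mat) * Matrix.reindex e.symm e.symm
        ((permMat 3 σ : Matrix (Fin t → Fin 3) (Fin t → Fin 3) F) * PT (fun i => (u i : Matrix (Fin 3) (Fin 3) F))) *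
        ((P⁻¹ : GL (Fin n) F) : Mat))) :
    OGeom Q K :=
  Cfsg.Agent.Lib.Helper97.AschO.ogeom_of_tensor_three hq Q hQ K hK t ht e P g hsymm hunit hform hnf

/-- K-S5673-E5b.  Class 7 from a tensor-power Gram matrix and the normal form.  SS gives `h_i`, `c_i` with
`h_iᵀ g_i h_i = c_i g_0`; `P' = P * glReindex e.symm (ptGL h)`: the form in the basis `P'` is `(∏ c_i) ⊗ g_0`, so
`IsTensorPowerFormStructure id (polar Q) f₁ e P'` with `f₁ x y = x ⬝ᵥ (g 0 *ᵥ y)`; `K ≤ tensorWreathSubgroup m t e P'` since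
`k = d • P' ((ptGL h)⁻¹ permMat σ PT u ptGL h) P'⁻¹` and pure tensors, factor permutations and scalars lie in
`tensorWreathStandard`.  Excluded case `q = 3 = m`: F33. -/
theorem ogeom_of_tensorPower (hodd : Odd n) (h2 : (2 : F) ≠ 0) (Q : V → F) (hQ : IsNondegenerateQuadraticForm Q)
    (K : Subgroup (GL (Fin n) F)) (hK : K ≤ quadSimilarityGroup Q) (m t : ℕ) (hm : 3 ≤ m) (ht : 2 ≤ t)
    (e : Fin n ≃ (Fin t → Fin m)) (P : GL (Fin n) F) (g : Fin t → Matrix (Fin m) (Fin m) F)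
    (hsymm : ∀ i, (g i)ᵀ = g i) (hunit : ∀ i, IsUnit (g i))
    (hform : ∀ x y : (Fin t → Fin m) → F,
      QuadraticMap.polar Q ((P : Mat) *ᵥ (x ∘ e)) ((P : Mat) *ᵥ (y ∘ e)) = ∑ a, ∑ b, x a * PT g a b * y b)
    (hnf : ∀ k ∈ K, ∃ (σ : Equiv.Perm (Fin t)) (u : Fin t → GL (Fin m) F) (d : F), d ≠ 0 ∧
      (k : Mat) = d • ((P : Mat) * Matrix.reindex e.symm e.symm
        ((permMat m σ : Matrix (Fin t → Fin m) (Fin t → Fin m) F) * PT (fun i => (u i : Matrix (Fin m) (Fin m) F))) *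
        ((P⁻¹ : GL (Fin n) F) : Mat))) :
    OGeom Q K :=
  Cfsg.Agent.Lib.Helper48.AschO.ogeom_of_tensorPower_of_F33 hodd h2 Q K m t hm ht e P g hsymm hunit hform hnf
    (fun hq t ht e g hsymm hunit hform hnf => ogeom_of_tensor_three hq Q hQ K hK t ht e P g hsymm hunit hform hnf)

/-- K-S5673-B6c.  Equal factors `a = b`: reduce to E5b with `t = 2` through `finTwoArrowEquiv` (as in
`Helper63.Asch.tensorProductSubgroup_le_tensorWreathSubgroup`): `e' = e.trans (finTwoArrowEquiv (Fin a)).symm`, `g = ![g₁, g₂]`,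
an element `P (x ⊗ y) P⁻¹` of `tensorProductSubgroup a a e P` is `P (PT ![x, y]) P⁻¹` read through `e'` (σ = 1, d = 1). -/
theorem ogeom_of_tensor_forms_eq (hodd : Odd n) (h2 : (2 : F) ≠ 0) (Q : V → F) (hQ : IsNondegenerateQuadraticForm Q)
    (K : Subgroup (GL (Fin n) F)) (hK : K ≤ quadSimilarityGroup Q) (a : ℕ) (ha : 2 ≤ a)
    (e : Fin n ≃ Fin a × Fin a) (P : GL (Fin n) F) (hKT : K ≤ tensorProductSubgroup a a e P)
    (g₁ g₂ : Matrix (Fin a) (Fin a) F) (h₁ : g₁ᵀ = g₁) (h₂ : g₂ᵀ = g₂) (hu₁ : IsUnit g₁) (hu₂ : IsUnit g₂)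
    (hform : ∀ x y : Fin a × Fin a → F,
      QuadraticMap.polar Q ((P : Mat) *ᵥ (x ∘ e)) ((P : Mat) *ᵥ (y ∘ e)) = formOfGram id (g₁ ⊗ₖ g₂) x y) :
    OGeom Q K :=
  Cfsg.Agent.Lib.Helper48.AschO.ogeom_of_tensor_forms_eq_of_F33 hodd h2 Q K a ha e P hKT g₁ g₂ h₁ h₂ hu₁ hu₂ hform
    (fun hq t ht e g hsymm hunit hform hnf => ogeom_of_tensor_three hq Q hQ K hK t ht e P g hsymm hunit hform hnf)

/-! ## Block C : subfields and unitary forms -/

/-- K-S5673-C6'.  helper72's `AschC6.le_subfieldSubgroup_of_realisable` with the realising matrix made explicit (same proof). -/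
theorem le_subfieldSubgroup_of_conj_mem (K X : Subgroup (GL (Fin n) F)) (hX : spanAlg X = ⊤) (hKX : NormBy K X)
    (F₁ : Subfield F) (B : GL (Fin n) F)
    (hB : ∀ s ∈ matrixSet X, ∀ i j, ((B : Mat) * s * ((B⁻¹ : GL (Fin n) F) : Mat)) i j ∈ F₁) :
    K ≤ subfieldSubgroup F₁ B⁻¹ :=
  Cfsg.Agent.Lib.Helper79.AschO.le_subfieldSubgroup_of_conj_mem K X hX hKX F₁ B hB

/-- K-S5673-Cf.  Rationality of the form.  `G' = B⁻ᵀ (gramQ Q) B⁻¹` is invariant under `X^B` (entries in `F₁`, spanning the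
matrix algebra); pick `G'_{ij} ≠ 0`, `M = G'_{ij}⁻¹ G'`; the entrywise Frobenius `φ = (· ^ |F₁|)` fixes `X^B`, so `φ(M)` is again
invariant, `φ(M) = λ M` (absolute irreducibility: `M⁻¹ φ(M)` commutes with `X^B`), `λ = 1` from the entry `(i,j)`: `M` has entries in
`F₁`.  With `ζ = G'_{ij}⁻¹`: `ζ^n det G' = det M ∈ F₁` and `det G' = det G / (det B)²`, `det G = k s²`: `ζ = c₁ a²`, `c₁ ∈ F₁`
(n odd).  `P = B⁻¹ * (a • 1)`: `Q (P u) = (2 c₁)⁻¹ uᵀ M u ∈ F₁`; conjugation by `P` and by `B⁻¹` agree. -/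
theorem exists_rational_structure (hodd : Odd n) (h2 : (2 : F) ≠ 0) (Q : V → F) (hQ : IsNondegenerateQuadraticForm Q)
    (hdisc : DiscInPrimeField Q) (X : Subgroup (GL (Fin n) F)) (hX : spanAlg X = ⊤) (hXI : X ≤ isometryGroup F Q)
    (F₁ : Subfield F) (B : GL (Fin n) F)
    (hB : ∀ s ∈ matrixSet X, ∀ i j, ((B : Mat) * s * ((B⁻¹ : GL (Fin n) F) : Mat)) i j ∈ F₁) :
    ∃ P : GL (Fin n) F, IsQuadFormRationalStructure Q F₁ P ∧ subfieldSubgroup F₁ P = subfieldSubgroup F₁ B⁻¹ :=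
  Cfsg.Agent.Lib.Helper18.AschO.exists_rational_structure hodd h2 Q hQ hdisc X hX hXI F₁ B hB

/-- K-S5673-U.  An isometry `x` of `Q` has `x⁻¹ = G⁻¹ xᵀ G`, so `tr x⁻¹ = tr x`; fixing the unitary form `f` (Gram `U`,
`Helper22.Asch.gram_fix`, `isSesq_of_unitary`) gives `σ(x) = U⁻¹ x⁻ᵀ U` entrywise, so `σ (tr x) = tr x⁻¹ = tr x`. -/
theorem trace_fixed_of_fixes_unitary (Q : V → F) (hQ : IsNondegenerateQuadraticForm Q)
    (X : Subgroup (GL (Fin n) F)) (hXI : X ≤ isometryGroup F Q) (σ : F ≃+* F)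
    (f : V → V → F) (hf : IsUnitaryForm σ f) (hfix : FixesForm (matrixSet X) f) :
    ∀ x ∈ X, σ (Matrix.trace ((x : GL (Fin n) F) : Mat)) = Matrix.trace ((x : GL (Fin n) F) : Mat) :=
  Cfsg.Agent.Lib.Helper66.AschO.trace_fixed_of_fixes_unitary Q hQ X hXI σ f hf hfix

end Cfsg.Agent.Lib.Helper46.AschOL
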