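import Mathlib
import Cfsg.Prelude.Def_GeometricClasses
import Cfsg.Agent.Lib.Helper61.AschDefs
import Cfsg.Agent.Lib.Helper61.AschBasic
import Cfsg.Agent.Lib.Helper61.AschGlueA
import Cfsg.Agent.Lib.Helper61.AschGlueC
import Cfsg.Agent.Lib.Helper61.AschGlueD
import Cfsg.Agent.Lib.Helper61.AschGlueF
import Cfsg.Agent.Lib.Helper80.AschD1
import Cfsg.Agent.Lib.Helper19.AschD2Core
import Cfsg.Agent.Lib.Helper46.AschOBasic
import Cfsg.Agent.Lib.Helper46.AschEDefs
import Cfsg.Agent.Lib.Helper46.AschEGlueA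
import Cfsg.Agent.Lib.Helper46.AschEGlueE
import Cfsg.Agent.Lib.Helper46.AschEGlueF

/-!
Aschbacher's theorem for groups of isometries of a non-degenerate quadratic form `Q` on `Fin n → F` (`n ≥ 3`, `F` finite of any
characteristic; intended for `n` even): `H ⊔ Z` lies in one of the eleven shapes `EShape Q X`, or `H` is in the residual class.
-/

set_option autoImplicit false

namespace Cfsg.Agent.Lib.Helper46.AschE

open Cfsg Cfsg.Geo Cfsg.Agent.Lib.Helper61.Asch Cfsg.Agent.Lib.Helper46.AschO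
open scoped Matrix Kronecker MatrixGroups commutatorElement

variable {F : Type*} [Field F] [Fintype F] {n : ℕ}

local notation "V" => (Fin n → F)
local notation "Mat" => Matrix (Fin n) (Fin n) F
local notation "Z" => scalars (Fin n) F

theorem aschbacher_orth_even (hn : 3 ≤ n) (Q : V → F)
    (hQ : IsNondegenerateQuadraticForm Q)
    (H : Subgroup (GL (Fin n) F)) (hH : H ≤ isometryGroup F Q) :
    EGeom Q (H ⊔ Z) ∨ InOrthogonalResidualClass H := by
  obtain ⟨K, hK⟩ : ∃ K : Subgroup (GL (Fin n) F), K = H ⊔ Z := ⟨_, rfl⟩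
  rw [← hK]
  have hHK : H ≤ K := by rw [hK]; exact le_sup_left
  have hZK : Z ≤ K := by rw [hK]; exact le_sup_right
  have hKΔ : K ≤ quadSimilarityGroup Q := by
    rw [hK]; exact sup_scalars_le_quadSimilarityGroup hQ hH
  by_cases hG : EGeom Q K
  · exact Or.inl hG
  right
  have hKirr : ActsIrreducibly (matrixSet K) := by
    by_contra h
    exact hG (Cfsg.Agent.Lib.Helper46.AschEL.egeom_of_reducible Q hQ K hKΔ h)
  have hKZ : ¬ K ≤ Z := not_le_scalars_of_irreducible (by omega) hKirr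
  have hT : ∀ N : Subgroup (GL (Fin n) F), N ≤ K → NormBy K N → N ≤ Z ∨ spanAlg N = ⊤ := by
    intro N hNK hN
    rcases normal_trichotomy_even hn Q hQ H K N hK hH hKirr hNK hN with h | h
    · exact absurd h hG
    · exact h
  obtain ⟨N, hZN, hNK, hKN, hNZ, hmin⟩ := exists_minimal_normal K hZK hKZ
  have hspan : spanAlg N = ⊤ := (hT N hNK hKN).resolve_left hNZ
  have hD1 : Z ≤ ⁅N, N⁆ ⊔ Z := le_sup_right
  have hD2 : ⁅N, N⁆ ⊔ Z ≤ N := sup_le (commutator_le_self N) hZN
  have hD3 : NormBy K (⁅N, N⁆ ⊔ Z) := (hKN.commutator hKN).sup (normBy_scalars K)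
  rcases hmin _ hD1 hD2 hD3 with hD | hD
  · exfalso
    have hcomm : ∀ x ∈ N, ∀ y ∈ N, x * y * x⁻¹ * y⁻¹ ∈ Z := by
      intro x hx y hy
      have : ⁅x, y⁆ ∈ ⁅N, N⁆ ⊔ Z := Subgroup.mem_sup_left (Subgroup.commutator_mem_commutator hx hy)
      rw [hD, commutatorElement_def] at this
      exact this
    obtain ⟨r, hr, hexp⟩ := exists_prime_exponent K N hZN hNZ hKN hcomm hmin
    have hab : ∀ B : Subgroup (GL (Fin n) F), B ≤ N → NormBy K B → (∀ x ∈ B, ∀ y ∈ B, x * y = y * x) →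
        B ≤ Z := by
      intro B hBN hKB hB
      rcases hT B (hBN.trans hNK) hKB with h | h
      · exact h
      · intro b hb
        exact mem_scalars_of_commute h b (fun x hx => hB b hb x hx)
    obtain ⟨R, hRN, hKR, hspanR, hR, hrq, htr, hRexp, m, hm, hnm, hcen, hcard⟩ :=
      Cfsg.Agent.Lib.Helper80.Asch.exists_symplecticType K N (by omega) hZN hNK hKN hspan r hr hcomm hexp hmin hab
    apply hG
    refine ⟨subgroupNormalizer R, ?_, Cfsg.Agent.Lib.Helper19.Asch.le_subgroupNormalizer_of_normBy K R hKR⟩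
    exact Or.inr (Or.inr (Or.inr (Or.inr (Or.inr (Or.inr (Or.inr (Or.inr (Or.inr (Or.inl
      ⟨R, r, m, (hRN.trans hNK).trans hKΔ, hspanR, hR, hrq, htr, hRexp, hm, hnm, hcen, hcard, rfl⟩)))))))))
  · by_cases hns : ∃ M : Subgroup (GL (Fin n) F), Z ≤ M ∧ M ≤ N ∧ NormBy N M ∧ M ≠ Z ∧ M ≠ N
    · exfalso
      exact hG (egeom_of_nonsimple_perfect hn Q hQ K N hKΔ hZN hNK hKN hspan hD hmin hns)
    · exact residual_of_simple_even (by omega) Q hQ H K N hK hH hG hNZ hKN hNK hspan hD hns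

end Cfsg.Agent.Lib.Helper46.AschE
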