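import Mathlib
import Cfsg.Prelude.Def_GeometricClasses
import Cfsg.Agent.Lib.Helper79.SUMaxXA
import Cfsg.Agent.Lib.Helper20.OPlus10X9d

/-!
# K-O12-X2m3 (587106): `q = 3`, anisotropic planes refine to `2 t` isometric orthogonal lines

An anisotropic non-degenerate plane over the field with three elements has an orthogonal frame `a, b` of vectors of norm one, and its
vectors of norm one are `± a, ± b`.  The frames of the members of an orthogonal decomposition into such planes give `2 t` isometric
orthogonal lines, permuted by the isometries that stabilise the decomposition.  The second half is the argument of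
`Helper20.OPlus10.planes_five` (written there for `q = 5`), here isolated as `lines_of_frames` for any field in which `2 ≠ 0` and
`x² + y² = 1` forces `x = 0` or `y = 0`.
-/

set_option autoImplicit false

namespace Cfsg.Agent.Lib.Helper46.O12

open Cfsg Cfsg.Geo
open scoped Matrix MatrixGroups

variable {F : Type*} [Field F] [Fintype F] {n : ℕ}

omit [Fintype F] in
open Cfsg.Agent.Lib.Helper20.OPlus10 in
/-- generic refinement: frames of norm-one vectors in the members of a decomposition into planes -/
theorem lines_of_frames (h2ne : (2 : F) ≠ 0)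
    (hsq : ∀ x y : F, x ^ 2 + y ^ 2 = 1 → x = 0 ∨ y = 0)
    (Q : (Fin n → F) → F) (hQ : IsNondegenerateQuadraticForm Q)
    {t : ℕ} (D : Fin t → Submodule F (Fin n → F)) (hD : IsOrthogonalMDecomposition Q 2 D)
    (hfr : ∀ i, ∃ a b : Fin n → F, a ∈ D i ∧ b ∈ D i ∧ Q a = 1 ∧ Q b = 1 ∧
      QuadraticMap.polar Q a b = 0 ∧ ∀ v ∈ D i, ∃ x y : F, v = x • a + y • b) :
    ∃ D' : Fin (t * 2) → Submodule F (Fin n → F), IsOrthogonalMDecomposition Q 1 D' ∧
      decompositionStabilizer D ⊓ isometryGroup F Q ≤ decompositionStabilizer D' := by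
  classical
  have hB := hQ.polar_bilinear
  have hDd := hD.decomp
  choose a b haW hbW haa hbb hab hsp using hfr
  let c : Fin t × Fin 2 → Fin n → F := fun k => if k.2 = 0 then a k.1 else b k.1
  have hc0 : ∀ i, c (i, 0) = a i := fun i => by simp [c]
  have hc1 : ∀ i, c (i, 1) = b i := fun i => by simp [c]
  have hcW : ∀ k, c k ∈ D k.1 := by
    rintro ⟨i, j⟩
    fin_cases j
    · show c (i, 0) ∈ D i
      rw [hc0]; exact haW i
    · show c (i, 1) ∈ D i
      rw [hc1]; exact hbW i
  have hcc : ∀ k, Q (c k) = 1 := by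
    rintro ⟨i, j⟩
    fin_cases j
    · show Q (c (i, 0)) = 1
      rw [hc0]; exact haa i
    · show Q (c (i, 1)) = 1
      rw [hc1]; exact hbb i
  have hcB : ∀ k, QuadraticMap.polar Q (c k) (c k) = 2 := by
    intro k
    rw [X9d.polar_self Q hQ, hcc, mul_one]
  have hcorth : ∀ k k', k ≠ k' → QuadraticMap.polar Q (c k) (c k') = 0 := by
    rintro ⟨i, j⟩ ⟨i', j'⟩ hkk'
    by_cases h1 : i = i'
    · subst h1
      have hjj' : j ≠ j' := fun h => hkk' (by rw [h])
      fin_cases j <;> fin_cases j'
      · exact absurd rfl hjj'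
      · show QuadraticMap.polar Q (c (i, 0)) (c (i, 1)) = 0
        rw [hc0, hc1]; exact hab i
      · show QuadraticMap.polar Q (c (i, 1)) (c (i, 0)) = 0
        rw [hc0, hc1, QuadraticMap.polar_comm]; exact hab i
      · exact absurd rfl hjj'
    · exact hDd.orthogonal i i' h1 _ (hcW (i, j)) _ (hcW (i', j'))
  let D'' : Fin t × Fin 2 → Submodule F (Fin n → F) := fun k => Submodule.span F {c k}
  have hD''def : ∀ k, D'' k = Submodule.span F {c k} := fun k => rfl
  have hc_ne : ∀ k, c k ≠ 0 := by
    intro k h0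
    have := hcc k
    rw [h0, X9d.Q_zero Q hQ] at this
    exact zero_ne_one this
  have hli : LinearIndependent F c :=
    X9d.linearIndependent_of_orthogonal Q hQ c (fun k => by rw [hcB k]; exact h2ne) hcorth
  have hindep : iSupIndep D'' := hli.iSupIndep_span_singleton
  have hDle : ∀ i, D i ≤ D'' (i, 0) ⊔ D'' (i, 1) := by
    intro i v hv
    obtain ⟨x, y, rfl⟩ := hsp i v hv
    apply Submodule.add_mem_sup
    · rw [hD''def, hc0]
      exact Submodule.smul_mem _ _ (Submodule.subset_span rfl)
    · rw [hD''def, hc1]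
      exact Submodule.smul_mem _ _ (Submodule.subset_span rfl)
  have htop : iSup D'' = ⊤ := by
    rw [eq_top_iff, ← hDd.decomp.iSup_eq_top]
    apply iSup_le
    intro i
    exact (hDle i).trans (sup_le (le_iSup D'' (i, 0)) (le_iSup D'' (i, 1)))
  -- the norm-one vectors of `D i`
  have hP4 : ∀ i, ∀ v ∈ D i, Q v = 1 → ∃ j, v ∈ D'' (i, j) := by
    intro i v hv hvv
    obtain ⟨x, y, rfl⟩ := hsp i v hv
    rw [X9d.Q_comb Q hQ, haa, hbb, hab] at hvv
    have hxy : x ^ 2 + y ^ 2 = 1 := by linear_combination hvv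
    rcases hsq x y hxy with hx | hy
    · refine ⟨1, ?_⟩
      rw [hx, zero_smul, zero_add, hD''def, hc1]
      exact Submodule.smul_mem _ _ (Submodule.subset_span rfl)
    · refine ⟨0, ?_⟩
      rw [hy, zero_smul, add_zero, hD''def, hc0]
      exact Submodule.smul_mem _ _ (Submodule.subset_span rfl)
  let e : Fin t × Fin 2 ≃ Fin (t * 2) := finProdFinEquiv
  let D' : Fin (t * 2) → Submodule F (Fin n → F) := fun m => D'' (e.symm m)
  have hD'def : ∀ m, D' m = Submodule.span F {c (e.symm m)} := fun m => rfl
  have hD'inj : Function.Injective D' := by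
    have h1 : Function.Injective D'' := hindep.injective (fun k => by
      rw [hD''def, Ne, Submodule.span_singleton_eq_bot]; exact hc_ne k)
    exact h1.comp e.symm.injective
  refine ⟨D', ⟨⟨⟨?_, one_pos, ?_, ?_, ?_⟩, ?_, ?_⟩, ?_⟩, ?_⟩
  · have := hDd.decomp.two_le
    omega
  · intro m
    rw [hD'def]
    exact finrank_span_singleton (hc_ne _)
  · exact hindep.comp e.symm.injective
  · rw [← htop]
    exact e.symm.iSup_comp (g := D'')
  · -- non-degenerate
    intro m w hw hw0
    rw [hD'def] at hw
    obtain ⟨x, rfl⟩ := Submodule.mem_span_singleton.mp hw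
    have hx0 : x ≠ 0 := by
      rintro rfl
      exact hw0 (zero_smul _ _)
    refine ⟨⟨c (e.symm m), Submodule.subset_span rfl, ?_⟩, ⟨c (e.symm m), Submodule.subset_span rfl, ?_⟩⟩
    · rw [hB.smul_right, hcB]
      exact mul_ne_zero hx0 h2ne
    · rw [hB.smul_left, hcB]
      exact mul_ne_zero hx0 h2ne
  · -- orthogonal
    intro m m' hmm' u hu v hv
    rw [hD'def] at hu hv
    obtain ⟨x, rfl⟩ := Submodule.mem_span_singleton.mp hu
    obtain ⟨y, rfl⟩ := Submodule.mem_span_singleton.mp hv
    rw [hB.smul_left, hB.smul_right,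
      hcorth _ _ (fun h => hmm' (e.symm.injective h))]
    ring
  · -- isometric
    intro m m'
    let e1 := LinearEquiv.toSpanNonzeroSingleton F (Fin n → F) (c (e.symm m)) (hc_ne _)
    let e2 := LinearEquiv.toSpanNonzeroSingleton F (Fin n → F) (c (e.symm m')) (hc_ne _)
    refine ⟨e1.symm.trans e2, ?_⟩
    intro w
    obtain ⟨x, rfl⟩ := e1.surjective w
    rw [LinearEquiv.trans_apply, LinearEquiv.symm_apply_apply]
    change Q (x • c (e.symm m')) = Q (x • c (e.symm m))
    rw [hQ.smul, hQ.smul, hcc, hcc]
  · -- the stabiliser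
    intro g hg
    obtain ⟨⟨σ, hσ⟩, hgI⟩ := hg
    have hgI' : ∀ u : Fin n → F, Q ((g : Matrix (Fin n) (Fin n) F) *ᵥ u) = Q u := fun u => hgI u u
    apply Helper79.SUMax.XA.mem_decompStab_of_forall_exists D' hD'inj g
    intro m
    have hv : (g : Matrix (Fin n) (Fin n) F) *ᵥ c (e.symm m) ∈ D (σ (e.symm m).1) := by
      rw [← hσ (e.symm m).1]
      exact ⟨c (e.symm m), hcW _, by rw [Matrix.toLin'_apply]⟩
    have hvv : Q ((g : Matrix (Fin n) (Fin n) F) *ᵥ c (e.symm m)) = 1 := by
      rw [hgI', hcc]
    obtain ⟨j, hj⟩ := hP4 _ _ hv hvv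
    refine ⟨e (σ (e.symm m).1, j), ?_⟩
    rw [hD'def, hD'def, Equiv.symm_apply_apply, Submodule.map_span, Set.image_singleton,
      Matrix.toLin'_apply]
    rw [hD''def] at hj
    obtain ⟨x, hx⟩ := Submodule.mem_span_singleton.mp hj
    have hx0 : x ≠ 0 := by
      rintro rfl
      rw [zero_smul] at hx
      rw [← hx, X9d.Q_zero Q hQ] at hvv
      exact zero_ne_one hvv
    rw [← hx]
    exact Submodule.span_singleton_smul_eq (IsUnit.mk0 x hx0) _

/-! ### the field with three elements -/

theorem three_eq_zero (hq : Fintype.card F = 3) : (3 : F) = 0 := by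
  have h : ((Fintype.card F : ℕ) : F) = 0 := Nat.cast_card_eq_zero F
  rw [hq] at h
  exact_mod_cast h

theorem two_ne_zero_three (hq : Fintype.card F = 3) : (2 : F) ≠ 0 := by
  intro h2
  have h3 := three_eq_zero hq
  have : (1 : F) = 0 := by linear_combination h3 - h2
  exact one_ne_zero this

theorem sq_eq_one_three (hq : Fintype.card F = 3) {x : F} (hx : x ≠ 0) : x ^ 2 = 1 := by
  have := FiniteField.pow_card_sub_one_eq_one x hx
  rwa [hq] at this

theorem eq_one_or_neg_one_three (hq : Fintype.card F = 3) {x : F} (hx : x ≠ 0) : x = 1 ∨ x = -1 := by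
  have h := sq_eq_one_three hq hx
  have : (x - 1) * (x + 1) = 0 := by linear_combination h
  rcases mul_eq_zero.mp this with h | h
  · left; linear_combination h
  · right; linear_combination h

theorem eq_zero_or_eq_zero_of_sq_add_sq_three (hq : Fintype.card F = 3) (x y : F)
    (h : x ^ 2 + y ^ 2 = 1) : x = 0 ∨ y = 0 := by
  by_contra hcon
  push Not at hcon
  obtain ⟨hx, hy⟩ := hcon
  rw [sq_eq_one_three hq hx, sq_eq_one_three hq hy] at h
  exact one_ne_zero (by linear_combination h : (1 : F) = 0)

open Cfsg.Agent.Lib.Helper20.OPlus10 in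
/-- an anisotropic non-degenerate plane over `F₃` has an orthogonal frame of two norm-one vectors -/
theorem exists_frame_minus (Q : (Fin n → F) → F) (hQ : IsNondegenerateQuadraticForm Q)
    (hq : Fintype.card F = 3) (W : Submodule F (Fin n → F))
    (hfr : Module.finrank F W = 2) (hminus : ¬ IsPlusTypeOn Q W) :
    ∃ a b : Fin n → F, a ∈ W ∧ b ∈ W ∧ Q a = 1 ∧ Q b = 1 ∧ QuadraticMap.polar Q a b = 0 ∧
      ∀ v ∈ W, ∃ x y : F, v = x • a + y • b := by
  classical
  have hB := hQ.polar_bilinear
  have h3 := three_eq_zero hq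
  have h2ne := two_ne_zero_three hq
  -- anisotropic
  have haniso : ∀ v ∈ W, v ≠ 0 → Q v ≠ 0 := by
    intro v hv hv0 hQv
    apply hminus
    refine ⟨Submodule.span F {v}, ?_, ?_, ?_⟩
    · rw [Submodule.span_le]
      intro x hx
      rw [Set.mem_singleton_iff] at hx
      rw [hx]
      exact hv
    · intro w hw
      obtain ⟨x, rfl⟩ := Submodule.mem_span_singleton.mp hw
      rw [hQ.smul, hQv, mul_zero]
    · rw [finrank_span_singleton hv0, hfr]
  have : Module.Finite F W := Module.finite_of_finrank_pos (by rw [hfr]; norm_num)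
  -- a non-zero vector
  have hWne : W ≠ ⊥ := by
    rintro rfl
    rw [finrank_bot] at hfr
    omega
  obtain ⟨v, hvW, hv0⟩ := Submodule.exists_mem_ne_zero_of_ne_bot hWne
  -- a vector outside its span
  have hlt : Submodule.span F {v} < W := by
    refine lt_of_le_of_ne ?_ ?_
    · rw [Submodule.span_le]
      intro x hx
      rw [Set.mem_singleton_iff] at hx
      rw [hx]
      exact hvW
    · intro h
      have := finrank_span_singleton (K := F) hv0
      rw [h, hfr] at this
      omega
  obtain ⟨w, hwW, hwv⟩ := SetLike.exists_of_lt hlt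
  have hQv := haniso v hvW hv0
  have hvv : QuadraticMap.polar Q v v = 2 * Q v := X9d.polar_self Q hQ v
  have hvvne : QuadraticMap.polar Q v v ≠ 0 := by rw [hvv]; exact mul_ne_zero h2ne hQv
  -- the orthogonal vector
  set u : Fin n → F := (QuadraticMap.polar Q v v) • w + (-QuadraticMap.polar Q w v) • v with hu
  have huW : u ∈ W := W.add_mem (W.smul_mem _ hwW) (W.smul_mem _ hvW)
  have huv : QuadraticMap.polar Q u v = 0 := by
    rw [hu, hB.add_left, hB.smul_left, hB.smul_left]
    ring
  have hu0 : u ≠ 0 := by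
    intro h0
    apply hwv
    rw [Submodule.mem_span_singleton]
    refine ⟨(QuadraticMap.polar Q v v)⁻¹ * QuadraticMap.polar Q w v, ?_⟩
    have h1 : (QuadraticMap.polar Q v v) • w = (QuadraticMap.polar Q w v) • v := by
      have : (QuadraticMap.polar Q v v) • w + (-QuadraticMap.polar Q w v) • v = 0 := h0
      rw [neg_smul] at this
      exact eq_of_sub_eq_zero (by rw [← this, sub_eq_add_neg])
    rw [mul_smul, ← h1, smul_smul, inv_mul_cancel₀ hvvne, one_smul]
  have hQu := haniso u huW hu0
  -- spanning
  have hspan : ∀ z ∈ W, ∃ x y : F, z = x • u + y • v := by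
    have hli : LinearIndependent F ![u, v] := by
      rw [LinearIndependent.pair_iff]
      intro s t hst
      have h1 : QuadraticMap.polar Q (s • u + t • v) v = 0 := by
        rw [hst]
        have := hB.smul_left 0 (0 : Fin n → F) v
        simpa using this
      have h2 : QuadraticMap.polar Q (s • u + t • v) u = 0 := by
        rw [hst]
        have := hB.smul_left 0 (0 : Fin n → F) u
        simpa using this
      have hvu : QuadraticMap.polar Q v u = 0 := by rw [QuadraticMap.polar_comm]; exact huv
      have huu : QuadraticMap.polar Q u u = 2 * Q u := X9d.polar_self Q hQ u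
      rw [hB.add_left, hB.smul_left, hB.smul_left, huv] at h1
      rw [hB.add_left, hB.smul_left, hB.smul_left, hvu, huu] at h2
      have ht : t = 0 := by
        have : t * QuadraticMap.polar Q v v = 0 := by linear_combination h1
        exact (mul_eq_zero.mp this).resolve_right hvvne
      have hs : s = 0 := by
        have : s * (2 * Q u) = 0 := by linear_combination h2
        exact (mul_eq_zero.mp this).resolve_right (mul_ne_zero h2ne hQu)
      exact ⟨hs, ht⟩
    have hle : Submodule.span F (Set.range ![u, v]) ≤ W := by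
      rw [Submodule.span_le]
      rintro _ ⟨i, rfl⟩
      fin_cases i
      · exact huW
      · exact hvW
    have hfin : Module.finrank F (Submodule.span F (Set.range ![u, v])) = 2 := by
      rw [finrank_span_eq_card hli]
      simp
    have hEq : Submodule.span F (Set.range ![u, v]) = W :=
      Submodule.eq_of_le_of_finrank_eq hle (by rw [hfin, hfr])
    intro z hz
    rw [← hEq, Matrix.range_cons_cons_empty, Submodule.mem_span_pair] at hz
    obtain ⟨s, t, rfl⟩ := hz
    exact ⟨s, t, rfl⟩
  have huv_ne : ∀ s t : F, s ≠ 0 → s • u + t • v ≠ 0 := by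
    intro s t hs h0
    have h1 : QuadraticMap.polar Q (s • u + t • v) u = 0 := by
      rw [h0]
      have := hB.smul_left 0 (0 : Fin n → F) u
      simpa using this
    have hvu : QuadraticMap.polar Q v u = 0 := by rw [QuadraticMap.polar_comm]; exact huv
    have huu : QuadraticMap.polar Q u u = 2 * Q u := X9d.polar_self Q hQ u
    rw [hB.add_left, hB.smul_left, hB.smul_left, hvu, huu] at h1
    have : s * (2 * Q u) = 0 := by linear_combination h1
    exact hs ((mul_eq_zero.mp this).resolve_right (mul_ne_zero h2ne hQu))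
  have hQcomb : ∀ s t : F, Q (s • u + t • v) = s ^ 2 * Q u + t ^ 2 * Q v := by
    intro s t
    rw [X9d.Q_comb Q hQ, huv, mul_zero, add_zero]
  have hpolar : ∀ x y z w' : F, QuadraticMap.polar Q (x • u + y • v) (z • u + w' • v) =
      x * z * (2 * Q u) + y * w' * (2 * Q v) := by
    intro x y z w'
    rw [X9d.polar_comb Q hQ, huv, X9d.polar_self Q hQ u, X9d.polar_self Q hQ v]
    ring
  rcases eq_one_or_neg_one_three hq hQu with hu1 | hu1 <;>
    rcases eq_one_or_neg_one_three hq hQv with hv1 | hv1
  · exact ⟨u, v, huW, hvW, hu1, hv1, huv, hspan⟩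
  · exfalso
    have := haniso ((1 : F) • u + (1 : F) • v) (W.add_mem (W.smul_mem _ huW) (W.smul_mem _ hvW))
      (huv_ne 1 1 one_ne_zero)
    apply this
    rw [hQcomb, hu1, hv1]
    ring
  · exfalso
    have := haniso ((1 : F) • u + (1 : F) • v) (W.add_mem (W.smul_mem _ huW) (W.smul_mem _ hvW))
      (huv_ne 1 1 one_ne_zero)
    apply this
    rw [hQcomb, hu1, hv1]
    ring
  · refine ⟨(1 : F) • u + (1 : F) • v, (1 : F) • u + (-1 : F) • v,
      W.add_mem (W.smul_mem _ huW) (W.smul_mem _ hvW),
      W.add_mem (W.smul_mem _ huW) (W.smul_mem _ hvW), ?_, ?_, ?_, ?_⟩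
    · rw [hQcomb, hu1, hv1]
      linear_combination -h3
    · rw [hQcomb, hu1, hv1]
      linear_combination -h3
    · rw [hpolar, hu1, hv1]
      ring
    · intro z hz
      obtain ⟨s, t, rfl⟩ := hspan z hz
      -- u = -(a + b), v = b - a
      refine ⟨-s - t, -s + t, ?_⟩
      ext i
      simp only [Pi.add_apply, Pi.smul_apply, smul_eq_mul]
      linear_combination (s * u i + t * v i) * h3

/-- **K-O12-X2m3 (587106).** -/
theorem planes_minus_card_three (Q : (Fin n → F) → F) (hQ : IsNondegenerateQuadraticForm Q)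
    (hq : Fintype.card F = 3) {t : ℕ} (D : Fin t → Submodule F (Fin n → F))
    (hD : IsOrthogonalMDecomposition Q 2 D) (hm : ∀ i, ¬ IsPlusTypeOn Q (D i)) :
    ∃ D' : Fin (2 * t) → Submodule F (Fin n → F), IsOrthogonalMDecomposition Q 1 D' ∧
      decompositionStabilizer D ⊓ isometryGroup F Q ≤ decompositionStabilizer D' := by
  rw [Nat.mul_comm 2 t]
  exact lines_of_frames (two_ne_zero_three hq) (eq_zero_or_eq_zero_of_sq_add_sq_three hq) Q hQ D hD
    (fun i => exists_frame_minus Q hQ hq (D i) (hD.decomp.decomp.finrank_eq i) (hm i))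

end Cfsg.Agent.Lib.Helper46.O12
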