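import Cfsg.Agent.Lib.Helper43.OEvenN2

/-!
# K-OEvenX-N2o: `Ω` is not contained in the stabiliser of an orthogonal decomposition

Immediate from helper43's general statement for non-degenerate decompositions
(`Helper43.OEvenN2.omegaGL_not_le_decompositionStabilizer_nondeg`).
-/

set_option autoImplicit false

namespace Cfsg.Agent.Lib.Helper46.OEvenXN

open Cfsg Cfsg.Geo Module

variable {F : Type*} [Field F] [Fintype F] {n : ℕ}

theorem omegaGL_not_le_decompositionStabilizer_orth (hn : 7 ≤ n) (Q : (Fin n → F) → F)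
    (hQ : IsNondegenerateQuadraticForm Q) {t k : ℕ} (D : Fin t → Submodule F (Fin n → F))
    (hD : IsOrthogonalMDecomposition Q k D) : ¬ omegaGL Q ≤ decompositionStabilizer D :=
  Cfsg.Agent.Lib.Helper43.OEvenN2.omegaGL_not_le_decompositionStabilizer_nondeg hn Q hQ D hD.decomp

end Cfsg.Agent.Lib.Helper46.OEvenXN
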