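import Mathlib
import Cfsg.Prelude.Def_GeometricClasses
import Cfsg.Agent.Lib.Helper36.SLMaxD2
import Cfsg.Agent.Lib.Helper64.O12X22

/-!
# K-OEvenX-X9 (582629): one plus-type piece of an isometric orthogonal decomposition forces plus type

Transport the totally singular half `U₀ ≤ D i₀` along the isometries `D i₀ ≃ D j`; the sum map `(Fin t → U₀) → V` is injective
(independence of the `D j`) and its range is totally singular (`Q` is additive on pairwise orthogonal vectors), of dimension
`t · dim U₀ = n / 2`.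
-/

set_option autoImplicit false

namespace Cfsg.Agent.Lib.Helper46.OEvenX9

open Cfsg Cfsg.Geo
open scoped Matrix MatrixGroups

variable {F : Type*} [Field F] [Fintype F] {n : ℕ}

/-- **K-OEvenX-X9.** -/
theorem plus_of_decomposition_plus (Q : (Fin n → F) → F) (hQ : IsNondegenerateQuadraticForm Q)
    {t k : ℕ} (D : Fin t → Submodule F (Fin n → F)) (hD : IsOrthogonalMDecomposition Q k D)
    (hplus : ∃ i, IsPlusTypeOn Q (D i)) : IsPlusTypeOn Q ⊤ := by
  classical
  obtain ⟨i₀, U₀, hU₀le, hU₀ts, hU₀dim⟩ := hplus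
  have hDd := hD.decomp
  have hiso := fun j => hD.isometric i₀ j
  choose ε hε using hiso
  -- the transported inclusions
  let φ : ∀ j : Fin t, U₀ →ₗ[F] (Fin n → F) := fun j =>
    (D j).subtype ∘ₗ (ε j : D i₀ →ₗ[F] D j) ∘ₗ Submodule.inclusion hU₀le
  have hφmem : ∀ j (x : U₀), φ j x ∈ D j := fun j x => (ε j (Submodule.inclusion hU₀le x)).2
  have hφQ : ∀ j (x : U₀), Q (φ j x) = 0 := by
    intro j x
    have h1 : Q (φ j x) = Q ((Submodule.inclusion hU₀le x : D i₀) : Fin n → F) :=
      hε j (Submodule.inclusion hU₀le x)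
    rw [h1]
    exact hU₀ts _ x.2
  have hφinj : ∀ j, Function.Injective (φ j) := by
    intro j
    have h1 : Function.Injective (D j).subtype := Submodule.subtype_injective _
    have h2 : Function.Injective (ε j : D i₀ →ₗ[F] D j) := (ε j).injective
    have h3 : Function.Injective (Submodule.inclusion hU₀le) := Submodule.inclusion_injective hU₀le
    exact h1.comp (h2.comp h3)
  -- the sum map
  let Φ : (Fin t → U₀) →ₗ[F] (Fin n → F) := ∑ j, (φ j) ∘ₗ (LinearMap.proj j)
  have hΦ : ∀ x : Fin t → U₀, Φ x = ∑ j, φ j (x j) := by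
    intro x
    simp [Φ, LinearMap.sum_apply]
  have hΦinj : Function.Injective Φ := by
    rw [← LinearMap.ker_eq_bot, LinearMap.ker_eq_bot']
    intro x hx
    rw [hΦ] at hx
    have h0 := (iSupIndep_iff_finsetSum_eq_zero_imp_eq_zero D).mp hDd.decomp.indep Finset.univ
      (fun j => φ j (x j)) (fun j _ => hφmem j (x j)) hx
    funext j
    have := h0 j (Finset.mem_univ j)
    exact hφinj j (by rw [this, Pi.zero_apply, map_zero])
  refine ⟨LinearMap.range Φ, le_top, ?_, ?_⟩
  · rintro w ⟨x, rfl⟩
    rw [hΦ, Cfsg.Agent.Lib.Helper64.O12.quad_sum_of_orthogonal hQ]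
    · exact Finset.sum_eq_zero (fun j _ => hφQ j (x j))
    · intro i _ j _ hij
      exact hDd.orthogonal i j hij _ (hφmem i (x i)) _ (hφmem j (x j))
  · rw [LinearMap.finrank_range_of_inj hΦinj, finrank_top, Module.finrank_fin_fun,
      Module.finrank_pi_fintype]
    simp only [Finset.sum_const, Finset.card_univ, Fintype.card_fin, smul_eq_mul]
    have h1 := Cfsg.Agent.Lib.Helper36.SLMax.mul_eq_of_isMDecomposition D hDd.decomp
    have h2 := hDd.decomp.finrank_eq i₀
    rw [h2] at hU₀dim
    calc 2 * (t * Module.finrank F U₀) = t * (2 * Module.finrank F U₀) := by ring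
      _ = t * k := by rw [hU₀dim]
      _ = n := h1

end Cfsg.Agent.Lib.Helper46.OEvenX9
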