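import Mathlib
import Cfsg.Agent.Lib.Helper27.OEvenXX1
import Cfsg.Agent.Lib.Helper80.OEvenXX2
import Cfsg.Agent.Lib.Helper60.OEvenXX3
import Cfsg.Agent.Lib.Helper19.OEvenXX4
import Cfsg.Agent.Lib.Helper19.OEvenXX5
import Cfsg.Agent.Lib.Helper79.OEvenXX7
import Cfsg.Agent.Lib.Helper46.OEvenXX9
import Cfsg.Agent.Lib.Helper30.OEvenXX10
import Cfsg.Agent.Lib.Helper22.OEvenXX11
import Cfsg.Agent.Lib.Helper81.OEvenXX12
import Cfsg.Agent.Lib.Helper46.OEvenXN2o
import Cfsg.Agent.Lib.Helper34.OEvenXN2p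
import Cfsg.Agent.Lib.Helper51.OEvenXN4
import Cfsg.Agent.Lib.Helper51.OEvenXX6
import Cfsg.Prelude.Def_GeometricClasses
import Cfsg.Agent.Lib.Helper61.AschDefs
import Cfsg.Agent.Lib.Helper46.AschEDefs

/-!
# Shared row-level leaves for the even-dimensional orthogonal rows (pack "OEvenX", ids 582621..), wired to their proofs

Hub: each statement of `notes/OEvenX_keystones.lean.txt` is restated here and proved by the delivered leaf
(helper27 X1, helper80 X2, helper60 X3, helper19 X4 X5, helper51 X6, helper79 X7, helper46 X9, helper30 X10, helper22 X11, helper81 X12,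
helper43+helper46 N2o, helper34 N2p, helper51 N4).  The statement X8 (dimension 8 only) lives in `OEvenXLeaves8.lean`.
-/

set_option autoImplicit false

namespace Cfsg.Agent.Lib.Helper46.OEvenXL

open Cfsg Cfsg.Geo Cfsg.Agent.Lib.Helper61.Asch
open scoped Matrix Kronecker MatrixGroups

variable {F : Type*} [Field F] [Fintype F] {n : ℕ}

/-! ## Block X : type computations and containments -/

/-- K-OEvenX-X1 (generalise `Helper27.OOddMax.exists_perp_of_isNondegenerateOn`).  `W' = W^⊥` for the polar form. -/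
theorem exists_perp_of_isNondegenerateOn (Q : (Fin n → F) → F) (hQ : IsNondegenerateQuadraticForm Q)
    (W : Submodule F (Fin n → F)) (hW : IsNondegenerateOn (QuadraticMap.polar Q) W) :
    ∃ W' : Submodule F (Fin n → F), IsNondegenerateOn (QuadraticMap.polar Q) W' ∧
      Module.finrank F W + Module.finrank F W' = n ∧
      subspaceStabilizer W ⊓ isometryGroup F Q = subspaceStabilizer W' ⊓ isometryGroup F Q := by
  exact Cfsg.Agent.Lib.Helper27.OEvenX.exists_perp_of_isNondegenerateOn Q hQ W hW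

/-- K-OEvenX-X2.  In characteristic 2 the polar form is alternating, and a non-degenerate alternating form lives in even dimension. -/
theorem odd_card_of_odd_finrank (Q : (Fin n → F) → F) (hQ : IsNondegenerateQuadraticForm Q)
    (W : Submodule F (Fin n → F)) (hW : IsNondegenerateOn (QuadraticMap.polar Q) W)
    (hodd : Odd (Module.finrank F W)) : Odd (Fintype.card F) := by
  exact Cfsg.Agent.Lib.Helper80.OEvenX.odd_card_of_odd_finrank Q hQ W hW hodd

/-- K-OEvenX-X3.  Bridge to `Cfsg.Agent.Lib.Helper50.nonmax_plus_plane` through `Helper19.OEvenType.geoForm Q hQ`. -/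
theorem nonmax_plusPlane_small (hn : 5 ≤ n) (Q : (Fin n → F) → F) (hQ : IsNondegenerateQuadraticForm Q)
    (hq : Fintype.card F ≤ 3) (W : Submodule F (Fin n → F)) (hdim : Module.finrank F W = 2)
    (hW : IsNondegenerateOn (QuadraticMap.polar Q) W) (hplus : IsPlusTypeOn Q W) :
    ∃ K : Subgroup (GL (Fin n) F), subspaceStabilizer W ⊓ omegaGL Q < K ∧ K < omegaGL Q := by
  exact Cfsg.Agent.Lib.Helper60.OEvenX.nonmax_plusPlane_small hn Q hQ hq W hdim hW hplus

/-- K-OEvenX-X4.  Characteristic 2, an even number of pairwise orthogonal isometric pieces: pair them up, `φ : D (2j) ≃ D (2j+1)` isometry,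
`Q (u + φ u) = 2 Q u + B(u, φ u) = 0`; the sum of the diagonals is totally singular of dimension `n/2`.  (q odd: helper19
`OEvenType.isPlusTypeOn_top_iff_of_even_decomposition`.) -/
theorem plus_of_even_decomposition_char_two (h2 : (2 : F) = 0) (Q : (Fin n → F) → F) (hQ : IsNondegenerateQuadraticForm Q)
    {t k : ℕ} (D : Fin t → Submodule F (Fin n → F)) (hD : IsOrthogonalMDecomposition Q k D) (ht : Even t) :
    IsPlusTypeOn Q ⊤ := by
  exact Cfsg.Agent.Lib.Helper19.OEvenX.plus_of_even_decomposition_char_two h2 Q hQ D hD ht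

/-- K-OEvenX-X5.  `q` odd, both factors of even dimension: `n/2 = n₁ n₂ / 2` is even and the Gram determinant in the tensor basis is
`c^n d₁^n₂ d₂^n₁`, a square; `Helper19.OEvenType.isPlusTypeOn_top_iff_gram` (basis = columns of `P` read through `e`). -/
theorem plus_of_tensor_symm_even (h2 : (2 : F) ≠ 0) (Q : (Fin n → F) → F) (hQ : IsNondegenerateQuadraticForm Q)
    {n₁ n₂ : ℕ} (hn₁ : Even n₁) (hn₂ : Even n₂) (e : Fin n ≃ Fin n₁ × Fin n₂) (P : GL (Fin n) F)
    (f₁ : (Fin n₁ → F) → (Fin n₁ → F) → F) (f₂ : (Fin n₂ → F) → (Fin n₂ → F) → F)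
    (hf₁ : IsSymmetricForm f₁) (hf₂ : IsSymmetricForm f₂)
    (hT : IsTensorFormStructure id (QuadraticMap.polar Q) f₁ f₂ e P) : IsPlusTypeOn Q ⊤ := by
  exact Cfsg.Agent.Lib.Helper19.OEvenX.plus_of_tensor_symm_even h2 Q hQ hn₁ hn₂ e P f₁ f₂ hf₁ hf₂ hT

/-- K-OEvenX-X6.  `L` a Lagrangian of the symplectic form `f₁` (dimension `n₁/2`); `U = P (L ⊗ F^n₂)` has dimension `n/2`;
`Q (Σ l_j ⊗ u_j) = Σ Q (l_j ⊗ u_j) + Σ_{j<j'} c f₁(l_j,l_j') f₂(u_j,u_j') = 0`. -/
theorem plus_of_tensor_sympl (Q : (Fin n → F) → F) (hQ : IsNondegenerateQuadraticForm Q)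
    {n₁ n₂ : ℕ} (e : Fin n ≃ Fin n₁ × Fin n₂) (P : GL (Fin n) F)
    (f₁ : (Fin n₁ → F) → (Fin n₁ → F) → F) (f₂ : (Fin n₂ → F) → (Fin n₂ → F) → F)
    (hf₁ : IsSymplecticForm f₁) (hT : IsTensorFormStructure id (QuadraticMap.polar Q) f₁ f₂ e P)
    (hpure : ∀ (x₁ : Fin n₁ → F) (x₂ : Fin n₂ → F),
      Q ((P : Matrix (Fin n) (Fin n) F) *ᵥ ((fun a : Fin n₁ × Fin n₂ => x₁ a.1 * x₂ a.2) ∘ e)) = 0) :
    IsPlusTypeOn Q ⊤ := by
  exact Cfsg.Agent.Lib.Helper51.OEvenX.plus_of_tensor_sympl Q hQ e P f₁ f₂ hf₁ hT hpure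

/-- K-OEvenX-X7.  A quadratic-subfield structure forces plus type.  `Q₀ u = ζ Q (P u)` is a non-degenerate quadratic form on `F₀^n`
(`n = 2M`); over the finite field `F₀` it has a totally singular subspace `U₀` of dimension `M - 1` (Witt: `Helper50.WittMain`), and
`U₀^⊥ / U₀` is a 2-dimensional non-degenerate quadratic space over `F₀`, which is isotropic over the quadratic extension `F` (a binary form
`a x² + b x y + c y²` over `F₀` has a non-trivial zero in `F₀(√disc) ⊆ F`, resp. via `x² + x + δ` in characteristic 2).  The `F`-span of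
`P U₀` and that zero is totally singular of dimension `M`. -/
theorem plus_of_subfield_two (hn : Even n) (Q : (Fin n → F) → F) (hQ : IsNondegenerateQuadraticForm Q)
    (F₀ : Subfield F) (hF : Fintype.card F = Nat.card F₀ ^ 2) (P : GL (Fin n) F) (ζ : F) (hζ : ζ ≠ 0)
    (hrat : IsQuadFormRationalStructure (fun v : Fin n → F => ζ * Q v) F₀ P) : IsPlusTypeOn Q ⊤ := by
  exact Cfsg.Agent.Lib.Helper79.OEvenX.plus_of_subfield_two hn Q hQ F₀ hF P ζ hζ hrat

/-- K-OEvenX-X9.  If one piece of an orthogonal isometric decomposition is of plus type then so are all (transport the totally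
singular subspace along the isometries) and the sum of the totally singular halves is totally singular of dimension `n/2`. -/
theorem plus_of_decomposition_plus (Q : (Fin n → F) → F) (hQ : IsNondegenerateQuadraticForm Q)
    {t k : ℕ} (D : Fin t → Submodule F (Fin n → F)) (hD : IsOrthogonalMDecomposition Q k D)
    (hplus : ∃ i, IsPlusTypeOn Q (D i)) : IsPlusTypeOn Q ⊤ := by
  exact Cfsg.Agent.Lib.Helper46.OEvenX9.plus_of_decomposition_plus Q hQ D hD hplus

/-- K-OEvenX-X10.  `U₂` totally singular for `v ↦ f₂ v v` of dimension `n₂/2`; `P (F^n₁ ⊗ U₂)` is totally singular of dimension `n/2`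
(`2 Q v = B(v,v)`, `2 ≠ 0`). -/
theorem plus_of_tensor_symm_plus (h2 : (2 : F) ≠ 0) (Q : (Fin n → F) → F) (hQ : IsNondegenerateQuadraticForm Q)
    {n₁ n₂ : ℕ} (e : Fin n ≃ Fin n₁ × Fin n₂) (P : GL (Fin n) F)
    (f₁ : (Fin n₁ → F) → (Fin n₁ → F) → F) (f₂ : (Fin n₂ → F) → (Fin n₂ → F) → F)
    (hf₁ : IsSymmetricForm f₁) (hf₂ : IsSymmetricForm f₂)
    (hplus₂ : IsPlusTypeOn (fun v : Fin n₂ → F => f₂ v v) ⊤)
    (hT : IsTensorFormStructure id (QuadraticMap.polar Q) f₁ f₂ e P) : IsPlusTypeOn Q ⊤ := by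
  exact Cfsg.Agent.Lib.Helper30.OEvenX.plus_of_tensor_symm_plus h2 Q hQ e P f₁ f₂ hf₁ hf₂ hplus₂ hT

/-- K-OEvenX-X11 (only S5874; cf. `Helper22.OOddMax.three_spaces_le_lines_of_card_three`, `Helper50.Frame3`, `Helper11.SymF3`).
`|F| = 3`: the symmetric form `f₁` on `F³` has a canonical orthogonal frame `{± b₀, ± b₁, ± b₂} = {b | f₁ b b = c₀}`; `D j = P (b_j ⊗ F⁴)`.
If `P (x ⊗ y) P⁻¹` is an isometry of `Q` then `x` is a similarity of `f₁`, hence an isometry (in odd dimension `-f₁ ≇ f₁`, and `1` is the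
only square of `F₃`), so `x` permutes the frame up to signs. -/
theorem tensor_three_four_le_decomposition (hq : Fintype.card F = 3) (Q : (Fin 12 → F) → F)
    (hQ : IsNondegenerateQuadraticForm Q) (e : Fin 12 ≃ Fin 3 × Fin 4) (P : GL (Fin 12) F)
    (f₁ : (Fin 3 → F) → (Fin 3 → F) → F) (f₂ : (Fin 4 → F) → (Fin 4 → F) → F)
    (hf₁ : IsSymmetricForm f₁) (hf₂ : IsSymmetricForm f₂)
    (hT : IsTensorFormStructure id (QuadraticMap.polar Q) f₁ f₂ e P) :
    ∃ D : Fin 3 → Submodule F (Fin 12 → F), IsOrthogonalMDecomposition Q 4 D ∧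
      tensorProductSubgroup 3 4 e P ⊓ isometryGroup F Q ≤ decompositionStabilizer D := by
  exact Cfsg.Agent.Lib.Helper22.OEvenX.tensor_three_four_le_decomposition hq Q hQ e P f₁ f₂ hf₁ hf₂ hT

/-- K-OEvenX-X12.  No non-degenerate alternating form in odd dimension (any characteristic; `Helper43.AltForm`). -/
theorem not_isSymplecticForm_of_odd {k : ℕ} (hk : Odd k) (f : (Fin k → F) → (Fin k → F) → F) :
    ¬ IsSymplecticForm f := by
  exact Cfsg.Agent.Lib.Helper81.OEvenX.not_isSymplecticForm_of_odd hk f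

/-! ## Block N : no listed member contains `Ω` (beyond `Helper51.OEvenN`: subspaces, fields, subfields) -/

/-- K-OEvenX-N2o.  Orthogonal isometric decompositions (any `k ≥ 1`).  `k ≥ 3`: first half of `Helper48.ODec.Main.maximal_dec` (singular
`u ∈ D 0`, `z ∈ D 1`, a Siegel element maps some `d ∈ D 0` to a vector with two non-zero components); `k = 1`: as
`OOddMax.omega_not_le_decompositionStabilizer_one`; `k = 2`: a Siegel element `ρ_{u,z}` with `u` singular with non-zero components in two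
pieces.  Or uniformly: a Siegel element `g` has `rank (g - 1) = 2` and `(g - 1)² = 0` ...; `Ω` is generated by them / transitive on
singular vectors (`Helper43.OmegaSimple2.exists_Omega_map`): a singular vector inside `D 0 ⊔ D 1` with two non-zero components is the image
under `Ω` of ... -/
theorem omegaGL_not_le_decompositionStabilizer_orth (hn : 7 ≤ n) (Q : (Fin n → F) → F)
    (hQ : IsNondegenerateQuadraticForm Q) {t k : ℕ} (D : Fin t → Submodule F (Fin n → F))
    (hD : IsOrthogonalMDecomposition Q k D) : ¬ omegaGL Q ≤ decompositionStabilizer D := by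
  exact Cfsg.Agent.Lib.Helper46.OEvenXN.omegaGL_not_le_decompositionStabilizer_orth hn Q hQ D hD

/-- K-OEvenX-N2p.  A pair of complementary subspaces (`t = 2`): both totally singular, or both non-degenerate and orthogonal.
`Ω` is transitive on non-zero singular vectors (`exists_Omega_map`, `7 ≤ n`); there is a non-zero singular vector in `D 0` (dimension
`≥ 4 > 2`, or totally singular) and a singular vector `u₀ + u₁` with both components non-zero, which lies in no `D i`. -/
theorem omegaGL_not_le_decompositionStabilizer_pair (hn : 7 ≤ n) (Q : (Fin n → F) → F)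
    (hQ : IsNondegenerateQuadraticForm Q) {k : ℕ} (D : Fin 2 → Submodule F (Fin n → F))
    (hD : IsMDecomposition k D)
    (h : (∀ i, IsTotallySingularQuad Q (D i)) ∨ IsNondegenerateMDecomposition (QuadraticMap.polar Q) k D) :
    ¬ omegaGL Q ≤ decompositionStabilizer D := by
  exact Cfsg.Agent.Lib.Helper34.OEvenX.omegaGL_not_le_decompositionStabilizer_pair hn Q hQ D hD h

/-- K-OEvenX-N4.  Tensor decompositions (no compatibility with the form needed).  The tensor-product subgroup preserves the set of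
(transported) pure tensors `P *ᵥ ((fun a => x a.1 * y a.2) ∘ e)` (helper85 `SLMaxN7`: `IsPureVec`).  `n₂ ≥ 3` (as `n ≥ 7`), so the subspace
`{P (x₀ ⊗ y)}` contains a non-zero singular vector (a quadratic form in ≥ 3 variables over a finite field is isotropic): a singular pure
tensor.  There is a singular non-pure vector (the singular vectors span `V` and are not all pure: e.g. `u` singular pure, `w` singular with
`B(u,w) ≠ 0`, then the singular vectors of the hyperbolic plane ... or count).  `Ω` is transitive on non-zero singular vectors. -/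
theorem omegaGL_not_le_tensorProductSubgroup (hn : 7 ≤ n) (Q : (Fin n → F) → F)
    (hQ : IsNondegenerateQuadraticForm Q) {n₁ n₂ : ℕ} (h₁ : 2 ≤ n₁) (h₂ : 2 ≤ n₂)
    (e : Fin n ≃ Fin n₁ × Fin n₂) (P : GL (Fin n) F) : ¬ omegaGL Q ≤ tensorProductSubgroup n₁ n₂ e P := by
  exact Cfsg.Agent.Lib.Helper51.OEvenX.omegaGL_not_le_tensorProductSubgroup hn Q hQ h₁ h₂ e P

end Cfsg.Agent.Lib.Helper46.OEvenXL
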