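/-
K-UTi pack (S5953), leaf B1 (595301): dimension of the orthogonal complement inside a
nondegenerate subspace, and the complement of a nondegenerate subspace, for hermitian forms.
-/
import Cfsg.Agent.Lib.Helper46.UTiDefs

set_option autoImplicit false
set_option linter.unusedSectionVars false
set_option linter.unusedVariables false

namespace Cfsg.Agent.Lib.Helper46.UTi

open Module Cfsg.Agent.Lib.Helper98.Elus
open Cfsg.Agent.Lib.Helper19 (pow_q_pow_q add_pow_q sum_pow_q q_pos one_lt_q)

universe u
variable {F : Type u} [Field F] [Fintype F] {V : Type u} [AddCommGroup V] [Module F V]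
  [FiniteDimensional F V] {q : ℕ} {H : V → V → F}

/-- the coordinate map `v ↦ (H v (b i))_i` -/
noncomputable def coordMap (hH : IsHerm q H) {d : ℕ} (b : Fin d → V) : V →ₗ[F] (Fin d → F) where
  toFun v := fun i => H v (b i)
  map_add' x y := by
    funext i
    exact hH.add_left x y (b i)
  map_smul' c x := by
    funext i
    exact hH.smul_left c x (b i)

omit [Fintype F] [FiniteDimensional F V] in
theorem coordMap_apply (hH : IsHerm q H) {d : ℕ} (b : Fin d → V) (v : V) (i : Fin d) :
    coordMap hH b v i = H v (b i) := rfl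

/-- the core surjectivity statement -/
theorem coordMap_surjOn (hF : Fintype.card F = q ^ 2) (hH : IsHerm q H)
    (Z U : Submodule F V) (hZU : Z ≤ U) (hU : NonDeg H U) {d : ℕ} (b : Basis (Fin d) F Z) :
    ((coordMap hH (fun i => (b i : V))).domRestrict U).range = ⊤ := by
  classical
  by_contra hne
  have hlt : ((coordMap hH (fun i => (b i : V))).domRestrict U).range < ⊤ := lt_top_iff_ne_top.mpr hne
  obtain ⟨f, hf0, hfker⟩ := Submodule.exists_le_ker_of_lt_top _ hlt
  -- the vector representing `f`
  set c : Fin d → F := fun i => f (Pi.single i 1) with hc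
  have hfx : ∀ x : Fin d → F, f x = ∑ i, x i * c i := by
    intro x
    have hx : x = ∑ i, x i • (Pi.single i 1 : Fin d → F) := by
      funext j
      simp [Finset.sum_apply, Pi.single_apply]
    conv_lhs => rw [hx]
    rw [map_sum]
    apply Finset.sum_congr rfl
    intro i _
    rw [map_smul, smul_eq_mul]
  set w : Z := ∑ i, (c i) ^ q • b i with hw
  have hwU : (w : V) ∈ U := hZU w.2
  have hwcoe : (w : V) = ∑ i, (c i) ^ q • (b i : V) := by
    rw [hw, Submodule.coe_sum]
    rfl
  have hort : ∀ u ∈ U, H u (w : V) = 0 := by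
    intro u hu
    rw [hwcoe, hH.sum_right hF]
    have h1 : (coordMap hH (fun i => (b i : V))).domRestrict U ⟨u, hu⟩ ∈
        ((coordMap hH (fun i => (b i : V))).domRestrict U).range := LinearMap.mem_range_self _ _
    have h2 := hfker h1
    rw [LinearMap.mem_ker, hfx] at h2
    rw [← h2]
    apply Finset.sum_congr rfl
    intro i _
    rw [pow_q_pow_q hF, mul_comm]
    rfl
  have hw0 : (w : V) = 0 := by
    apply hU (w : V) hwU
    intro v hv
    exact hH.eq_zero_symm (q_pos hF) (hort v hv)
  have hw0' : w = 0 := Subtype.ext hw0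
  have hc0 : ∀ i, c i = 0 := by
    intro i
    have h1 := congrArg (fun z => b.repr z i) hw0'
    simp only [hw, map_sum, map_smul, Basis.repr_self, Finsupp.coe_finsetSum, Finsupp.coe_smul,
      Finset.sum_apply, Pi.smul_apply, smul_eq_mul, map_zero, Finsupp.coe_zero, Pi.zero_apply,
      Finsupp.single_apply, mul_ite, mul_one, mul_zero] at h1
    rw [Finset.sum_ite_eq' Finset.univ i] at h1
    simp only [Finset.mem_univ, if_true] at h1
    exact pow_eq_zero_iff (q_pos hF).ne' |>.mp h1
  apply hf0
  apply LinearMap.ext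
  intro x
  rw [hfx]
  simp [hc0]

/-- **K-UTi-B1 (595301)** -/
theorem finrank_orth_inf (hF : Fintype.card F = q ^ 2) (hH : IsHerm q H)
    (Z U : Submodule F V) (hZU : Z ≤ U) (hU : NonDeg H U) :
    finrank F ↥(orth hH Z ⊓ U) + finrank F Z = finrank F U := by
  classical
  set d := finrank F Z with hd
  let b : Basis (Fin d) F Z := Module.finBasis F Z
  set Ψ := (coordMap hH (fun i => (b i : V))).domRestrict U with hΨ
  have hsurj := coordMap_surjOn hF hH Z U hZU hU b
  have hrn := LinearMap.finrank_range_add_finrank_ker Ψ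
  rw [hsurj, finrank_top, Module.finrank_pi, Fintype.card_fin] at hrn
  -- the kernel
  have hker : ∀ v : V, coordMap hH (fun i => (b i : V)) v = 0 ↔ v ∈ orth hH Z := by
    intro v
    constructor
    · intro h z hz
      have hz' : z = ∑ i, b.repr ⟨z, hz⟩ i • ((b i : Z) : V) := by
        conv_lhs => rw [show z = ((⟨z, hz⟩ : Z) : V) from rfl, ← b.sum_repr ⟨z, hz⟩]
        rw [Submodule.coe_sum]
        rfl
      rw [hz', hH.sum_right hF]
      apply Finset.sum_eq_zero
      intro i _
      have := congrFun h i
      rw [coordMap_apply] at this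
      show _ * H v ((b i : Z) : V) = 0
      rw [this, Pi.zero_apply, mul_zero]
    · intro h
      funext i
      rw [coordMap_apply]
      exact h _ (b i).2
  have hkeq : LinearMap.ker Ψ = Submodule.comap U.subtype (orth hH Z ⊓ U) := by
    ext ⟨u, hu⟩
    rw [LinearMap.mem_ker, Submodule.mem_comap, Submodule.mem_inf]
    show coordMap hH (fun i => (b i : V)) u = 0 ↔ _
    rw [hker]
    exact ⟨fun h => ⟨h, hu⟩, fun h => h.1⟩
  have he := (Submodule.comapSubtypeEquivOfLe (p := orth hH Z ⊓ U) (q := U) inf_le_right).finrank_eq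
  rw [hkeq, he] at hrn
  omega

theorem isCompl_orth (hF : Fintype.card F = q ^ 2) (hH : IsHerm q H)
    (W : Submodule F V) (hW : NonDeg H W) : IsCompl W (orth hH W) := by
  classical
  refine ⟨(nonDeg_iff_disjoint hH W).mp hW, ?_⟩
  rw [codisjoint_iff, eq_top_iff]
  intro v _
  set d := finrank F W with hd
  let b : Basis (Fin d) F W := Module.finBasis F W
  have hsurj := coordMap_surjOn hF hH W W le_rfl hW b
  have hmem : coordMap hH (fun i => (b i : V)) v ∈
      ((coordMap hH (fun i => (b i : V))).domRestrict W).range := by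
    rw [hsurj]
    exact Submodule.mem_top
  obtain ⟨⟨w, hw⟩, hweq⟩ := hmem
  have hweq' : coordMap hH (fun i => (b i : V)) w = coordMap hH (fun i => (b i : V)) v := hweq
  have hvw : v - w ∈ orth hH W := by
    intro z hz
    have hz' : z = ∑ i, b.repr ⟨z, hz⟩ i • ((b i : W) : V) := by
      conv_lhs => rw [show z = ((⟨z, hz⟩ : W) : V) from rfl, ← b.sum_repr ⟨z, hz⟩]
      rw [Submodule.coe_sum]
      rfl
    rw [hz', hH.sum_right hF]
    apply Finset.sum_eq_zero
    intro i _
    have := congrFun hweq' i
    rw [coordMap_apply, coordMap_apply] at this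
    show _ * H (v - w) ((b i : W) : V) = 0
    rw [hH.sub_left, this, sub_self, mul_zero]
  have : v = w + (v - w) := by abel
  rw [this]
  exact Submodule.add_mem_sup hw hvw

end Cfsg.Agent.Lib.Helper46.UTi
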