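import Mathlib

set_option autoImplicit false

namespace Cfsg.Agent.Lib.Helper46

open Matrix

section hermApi

variable {F : Type*} [Field F] (φ : F →+* F)

/-- The conjugate transpose with respect to the field endomorphism `φ`. -/
def hconj {m n : Type*} (A : Matrix m n F) : Matrix n m F := (A.map φ)ᵀ

theorem hconj_apply {m n : Type*} (A : Matrix m n F) (i : n) (j : m) :
    hconj φ A i j = φ (A j i) := rfl

theorem hconj_mul {l m n : Type*} [Fintype m] (A : Matrix l m F) (B : Matrix m n F) :
    hconj φ (A * B) = hconj φ B * hconj φ A := by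
  unfold hconj
  rw [Matrix.map_mul, Matrix.transpose_mul]

theorem hconj_one {n : Type*} [DecidableEq n] : hconj φ (1 : Matrix n n F) = 1 := by
  unfold hconj
  rw [Matrix.map_one _ (map_zero φ) (map_one φ), Matrix.transpose_one]

theorem hconj_zero {m n : Type*} : hconj φ (0 : Matrix m n F) = 0 := by
  ext i j
  simp [hconj_apply]

theorem det_hconj {n : Type*} [Fintype n] [DecidableEq n] (A : Matrix n n F) :
    (hconj φ A).det = φ A.det := by
  unfold hconj
  rw [Matrix.det_transpose, ← RingHom.mapMatrix_apply, ← RingHom.map_det]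

/-- The congruence action. -/
def cong {n : Type*} [Fintype n] (A W : Matrix n n F) : Matrix n n F := hconj φ A * W * A

theorem cong_mul {n : Type*} [Fintype n] (A B W : Matrix n n F) :
    cong φ (A * B) W = cong φ B (cong φ A W) := by
  unfold cong
  rw [hconj_mul]
  simp only [Matrix.mul_assoc]

theorem cong_one {n : Type*} [Fintype n] [DecidableEq n] (W : Matrix n n F) :
    cong φ 1 W = W := by
  unfold cong
  rw [hconj_one, Matrix.one_mul, Matrix.mul_one]

/-- The sesquilinear form of a matrix. -/
def sesq {n : Type*} [Fintype n] (W : Matrix n n F) (x y : n → F) : F :=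
  (fun i => φ (x i)) ⬝ᵥ (W *ᵥ y)

variable {n : Type*} [Fintype n]

theorem sesq_add_left (W : Matrix n n F) (x x' y : n → F) :
    sesq φ W (x + x') y = sesq φ W x y + sesq φ W x' y := by
  unfold sesq
  rw [← add_dotProduct]
  congr 1
  funext i
  simp

theorem sesq_add_right (W : Matrix n n F) (x y y' : n → F) :
    sesq φ W x (y + y') = sesq φ W x y + sesq φ W x y' := by
  unfold sesq
  rw [Matrix.mulVec_add, dotProduct_add]

theorem sesq_smul_left (W : Matrix n n F) (c : F) (x y : n → F) :
    sesq φ W (c • x) y = φ c * sesq φ W x y := by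
  unfold sesq
  rw [← smul_eq_mul, ← smul_dotProduct]
  congr 1
  funext i
  simp

theorem sesq_smul_right (W : Matrix n n F) (c : F) (x y : n → F) :
    sesq φ W x (c • y) = c * sesq φ W x y := by
  unfold sesq
  rw [Matrix.mulVec_smul, dotProduct_smul, smul_eq_mul]

theorem sesq_zero_left (W : Matrix n n F) (y : n → F) : sesq φ W 0 y = 0 := by
  unfold sesq
  have : (fun i => φ ((0 : n → F) i)) = 0 := by
    funext i
    simp
  rw [this, zero_dotProduct]

theorem sesq_zero_right (W : Matrix n n F) (x : n → F) : sesq φ W x 0 = 0 := by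
  unfold sesq
  rw [Matrix.mulVec_zero, dotProduct_zero]

theorem sesq_single [DecidableEq n] (W : Matrix n n F) (i j : n) :
    sesq φ W (Pi.single i 1) (Pi.single j 1) = W i j := by
  unfold sesq
  have h1 : (fun k => φ ((Pi.single i 1 : n → F) k)) = Pi.single i 1 := by
    funext k
    by_cases h : k = i
    · subst h
      simp
    · simp [h]
  rw [h1, single_dotProduct, one_mul, Matrix.mulVec_single_one]
  rfl

theorem sesq_cong (A W : Matrix n n F) (x y : n → F) :
    sesq φ (cong φ A W) x y = sesq φ W (A *ᵥ x) (A *ᵥ y) := by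
  unfold sesq cong hconj
  rw [← Matrix.mulVec_mulVec, ← Matrix.mulVec_mulVec, Matrix.dotProduct_mulVec,
    Matrix.vecMul_transpose]
  congr 1
  funext i
  simp only [Matrix.mulVec, dotProduct, Matrix.map_apply, map_sum, map_mul]

theorem cong_apply [DecidableEq n] (A W : Matrix n n F) (i j : n) :
    cong φ A W i j = sesq φ W (A *ᵥ Pi.single i 1) (A *ᵥ Pi.single j 1) := by
  rw [← sesq_cong, sesq_single]

/-- Hermitian matrices. -/
def IsHerm (W : Matrix n n F) : Prop := hconj φ W = W

theorem IsHerm.apply {W : Matrix n n F} (h : IsHerm φ W) (i j : n) : φ (W i j) = W j i := by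
  have := congrFun (congrFun h j) i
  rwa [hconj_apply] at this

theorem isHerm_cong (hφ : ∀ x, φ (φ x) = x) {W : Matrix n n F} (h : IsHerm φ W)
    (A : Matrix n n F) : IsHerm φ (cong φ A W) := by
  unfold IsHerm cong at *
  rw [hconj_mul, hconj_mul, h, Matrix.mul_assoc]
  congr 2
  ext i j
  simp [hconj_apply, hφ]

theorem IsHerm.sesq_swap (hφ : ∀ x, φ (φ x) = x) {W : Matrix n n F} (h : IsHerm φ W)
    (x y : n → F) : φ (sesq φ W x y) = sesq φ W y x := by
  unfold sesq
  simp only [dotProduct, Matrix.mulVec, map_sum, map_mul, hφ, Finset.mul_sum]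
  rw [Finset.sum_comm]
  apply Finset.sum_congr rfl
  intro j _
  apply Finset.sum_congr rfl
  intro i _
  rw [h.apply]
  ring

end hermApi


section tools

variable {F : Type*} [Field F] (φ : F →+* F) {n : Type*} [Fintype n] [DecidableEq n]

/-- A Hermitian matrix all of whose values `h(x,x)` vanish is zero. -/
theorem eq_zero_of_sesq_self_eq_zero (hz : ∃ z, φ z ≠ z)
    {W : Matrix n n F} (hW : IsHerm φ W) (h0 : ∀ x, sesq φ W x x = 0) : W = 0 := by
  ext i j
  rw [Matrix.zero_apply]
  by_contra hb
  have key : ∀ t : F, t * W i j + φ (t * W i j) = 0 := by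
    intro t
    have h1 := h0 (Pi.single i 1 + t • Pi.single j 1)
    rw [sesq_add_left, sesq_add_right, sesq_add_right, sesq_smul_left, sesq_smul_left,
      sesq_smul_right, sesq_smul_right, h0, sesq_single, sesq_single] at h1
    have h2 := h0 (Pi.single j 1)
    rw [h2] at h1
    rw [map_mul, hW.apply]
    linear_combination h1
  have h1 : ∀ z : F, z + φ z = 0 := by
    intro z
    have := key (z * (W i j)⁻¹)
    rwa [inv_mul_cancel_right₀ hb] at this
  have h2 : (2 : F) = 0 := by
    have := h1 1
    rw [map_one] at this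
    linear_combination this
  obtain ⟨z, hz⟩ := hz
  apply hz
  have := h1 z
  linear_combination this - z * h2

theorem exists_det_one_mulVec_single_aux (i₀ j₁ : n) (h01 : j₁ ≠ i₀) (x : n → F)
    (hx : x i₀ ≠ 0) : ∃ A : Matrix n n F, A.det = 1 ∧ A *ᵥ Pi.single i₀ 1 = x := by
  set a := x i₀ with ha
  set u : n → F := fun i => x i / a - (Pi.single i₀ 1 : n → F) i with hu
  have hui : u i₀ = 0 := by
    rw [hu]
    simp only [Pi.single_eq_same]
    rw [ha, div_self hx, sub_self]
  refine ⟨(1 + vecMulVec u (Pi.single i₀ 1)) * Matrix.diagonal (Function.update 1 i₀ a)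
    * Matrix.diagonal (Function.update 1 j₁ a⁻¹), ?_, ?_⟩
  · rw [Matrix.det_mul, Matrix.det_mul, Matrix.vecMulVec_eq Unit,
      Matrix.det_one_add_replicateCol_mul_replicateRow, single_dotProduct, one_mul, hui, add_zero,
      Matrix.det_diagonal, Matrix.det_diagonal, Finset.prod_update_of_mem (Finset.mem_univ _),
      Finset.prod_update_of_mem (Finset.mem_univ _)]
    simp only [Pi.one_apply, Finset.prod_const_one, mul_one, one_mul]
    exact mul_inv_cancel₀ hx
  · rw [← Matrix.mulVec_mulVec, ← Matrix.mulVec_mulVec, Matrix.diagonal_mulVec_single,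
      Function.update_of_ne h01.symm, Pi.one_apply, one_mul, Matrix.diagonal_mulVec_single,
      Function.update_self, mul_one, Matrix.add_mulVec, Matrix.one_mulVec,
      Matrix.vecMulVec_mulVec, single_dotProduct, one_mul, Pi.single_eq_same]
    funext i
    simp only [Pi.add_apply, Pi.smul_apply, MulOpposite.smul_eq_mul_unop, MulOpposite.unop_op, hu]
    by_cases h : i = i₀
    · subst h
      simp only [Pi.single_eq_same]
      field_simp
      ring
    · simp only [Pi.single_eq_of_ne h, sub_zero, zero_add]
      field_simp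

/-- The special linear group is transitive on non-zero vectors (matrix version). -/
theorem exists_det_one_mulVec_single (i₀ j₁ : n) (h01 : j₁ ≠ i₀) (x : n → F)
    (hx : x ≠ 0) : ∃ A : Matrix n n F, A.det = 1 ∧ A *ᵥ Pi.single i₀ 1 = x := by
  by_cases h0 : x i₀ = 0
  · obtain ⟨j₀, hj₀⟩ : ∃ j₀, x j₀ ≠ 0 := by
      by_contra hcon
      push Not at hcon
      exact hx (funext hcon)
    have hj0 : i₀ ≠ j₀ := by
      rintro rfl
      exact hj₀ h0
    have hx' : (Matrix.transvection i₀ j₀ (1 : F) *ᵥ x) i₀ ≠ 0 := by
      rw [Matrix.transvection, Matrix.add_mulVec, Matrix.one_mulVec, Pi.add_apply, h0, zero_add]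
      simp [Matrix.mulVec, dotProduct, Matrix.single_apply, hj₀]
    obtain ⟨A', hA', hA'x⟩ := exists_det_one_mulVec_single_aux i₀ j₁ h01 _ hx'
    refine ⟨Matrix.transvection i₀ j₀ (-1 : F) * A', ?_, ?_⟩
    · rw [Matrix.det_mul, Matrix.det_transvection_of_ne _ _ hj0, hA', one_mul]
    · rw [← Matrix.mulVec_mulVec, hA'x, Matrix.mulVec_mulVec,
        Matrix.transvection_mul_transvection_same (i := i₀) (j := j₀) hj0, neg_add_cancel,
        Matrix.transvection_zero, Matrix.one_mulVec]
  · exact exists_det_one_mulVec_single_aux i₀ j₁ h01 x h0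

/-- Congruence by a diagonal matrix, entrywise. -/
theorem cong_diagonal_apply (d : n → F) (W : Matrix n n F) (i j : n) :
    cong φ (Matrix.diagonal d) W i j = φ (d i) * W i j * d j := by
  rw [cong_apply, Matrix.diagonal_mulVec_single, Matrix.diagonal_mulVec_single, mul_one, mul_one]
  have h1 : ∀ (k : n) (c : F), (Pi.single k c : n → F) = c • Pi.single k 1 := by
    intro k c
    funext l
    by_cases h : l = k
    · subst h
      simp
    · simp [h]
  rw [h1 i, h1 j, sesq_smul_left, sesq_smul_right, sesq_single]
  ring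

/-- The shear matrix adding multiples of the basis vector `o` to the others. -/
def shear (o : n) (r : n → F) : Matrix n n F := 1 + vecMulVec (Pi.single o 1) r

theorem det_shear (o : n) (r : n → F) (hr : r o = 0) : (shear o r).det = 1 := by
  unfold shear
  rw [Matrix.vecMulVec_eq Unit, Matrix.det_one_add_replicateCol_mul_replicateRow,
    dotProduct_single, mul_one, hr, add_zero]

theorem shear_mulVec_single (o : n) (r : n → F) (j : n) :
    shear o r *ᵥ Pi.single j 1 = Pi.single j 1 + r j • Pi.single o 1 := by
  unfold shear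
  rw [Matrix.add_mulVec, Matrix.one_mulVec, Matrix.vecMulVec_mulVec, dotProduct_single, mul_one,
    op_smul_eq_smul]

/-- Congruence by a shear, entrywise. -/
theorem cong_shear_apply (o : n) (r : n → F) (W : Matrix n n F) (i j : n) :
    cong φ (shear o r) W i j
      = W i j + r j * W i o + φ (r i) * W o j + φ (r i) * r j * W o o := by
  rw [cong_apply, shear_mulVec_single, shear_mulVec_single, sesq_add_left, sesq_add_right,
    sesq_add_right, sesq_smul_left, sesq_smul_left, sesq_smul_right, sesq_smul_right,
    sesq_single, sesq_single, sesq_single, sesq_single]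
  ring

end tools

end Cfsg.Agent.Lib.Helper46
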