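import Mathlib

set_option autoImplicit false

namespace Cfsg.Agent.Lib.Helper46

open Matrix

section block

variable {κ ρ ι : Type*} [Fintype κ] [DecidableEq κ] [Fintype ρ] [DecidableEq ρ]
  [Fintype ι] [DecidableEq ι] {F : Type*} [CommRing F]

/-- Block embedding `A ↦ diag(A, 1)`, reindexed along `e`. -/
def blockHom (e : κ ⊕ ρ ≃ ι) : Matrix κ κ F →* Matrix ι ι F where
  toFun A := Matrix.reindex e e (Matrix.fromBlocks A 0 0 1)
  map_one' := by
    simp [Matrix.fromBlocks_one]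
  map_mul' A B := by
    simp only [Matrix.reindex_apply]
    rw [Matrix.submatrix_mul_equiv, Matrix.fromBlocks_multiply]
    simp

theorem blockHom_apply (e : κ ⊕ ρ ≃ ι) (A : Matrix κ κ F) :
    blockHom e A = Matrix.reindex e e (Matrix.fromBlocks A 0 0 1) := rfl

theorem blockHom_injective (e : κ ⊕ ρ ≃ ι) :
    Function.Injective (blockHom (F := F) e) := by
  intro A B h
  simp only [blockHom_apply] at h
  have h2 := (Matrix.reindex e e).injective h
  exact (Matrix.fromBlocks_inj.1 h2).1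

theorem det_blockHom (e : κ ⊕ ρ ≃ ι) (A : Matrix κ κ F) :
    (blockHom e A).det = A.det := by
  rw [blockHom_apply, Matrix.det_reindex_self, Matrix.det_fromBlocks_zero₂₁, Matrix.det_one,
    mul_one]

theorem blockHom_mulVec (e : κ ⊕ ρ ≃ ι) (A : Matrix κ κ F) (v : ι → F) (x : κ ⊕ ρ) :
    (blockHom e A *ᵥ v) (e x) =
      Sum.elim (A *ᵥ fun i => v (e (Sum.inl i))) (fun r => v (e (Sum.inr r))) x := by
  rw [blockHom_apply, Matrix.reindex_apply, Matrix.submatrix_mulVec_equiv]
  simp only [Function.comp_apply, Equiv.symm_symm, Equiv.symm_apply_apply]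
  rw [Matrix.fromBlocks_mulVec]
  cases x with
  | inl i => simp [Function.comp_def]
  | inr r => simp [Function.comp_def]

theorem blockHom_transpose (e : κ ⊕ ρ ≃ ι) (A : Matrix κ κ F) :
    (blockHom e A)ᵀ = blockHom e Aᵀ := by
  simp [blockHom_apply, Matrix.fromBlocks_transpose]

theorem blockHom_map (e : κ ⊕ ρ ≃ ι) (A : Matrix κ κ F) (φ : F →+* F) :
    (blockHom e A).map φ = blockHom e (A.map φ) := by
  simp only [blockHom_apply, Matrix.reindex_apply]
  rw [← Matrix.submatrix_map, Matrix.fromBlocks_map]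
  simp

/-- Block embedding on the level of general linear groups. -/
def blockGL (e : κ ⊕ ρ ≃ ι) : Matrix.GeneralLinearGroup κ F →* Matrix.GeneralLinearGroup ι F :=
  Units.map (blockHom e)

theorem blockGL_val (e : κ ⊕ ρ ≃ ι) (g : Matrix.GeneralLinearGroup κ F) :
    ((blockGL e g : Matrix.GeneralLinearGroup ι F) : Matrix ι ι F) = blockHom e (g : Matrix κ κ F) :=
  rfl

theorem blockGL_injective (e : κ ⊕ ρ ≃ ι) :
    Function.Injective (blockGL (F := F) e) := by
  intro g h hgh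
  apply Units.ext
  apply blockHom_injective e
  rw [← blockGL_val, ← blockGL_val, hgh]

end block

section perm

variable {ι : Type*} [Fintype ι] [DecidableEq ι] {F : Type*} [CommRing F]

/-- Permutation matrices as a homomorphism to `GL`. -/
def permGL : Equiv.Perm ι →* Matrix.GeneralLinearGroup ι F :=
  (Matrix.permMatrixHom (n := ι) (R := F)).toHomUnits

theorem permGL_val (σ : Equiv.Perm ι) :
    ((permGL σ : Matrix.GeneralLinearGroup ι F) : Matrix ι ι F) = (σ⁻¹).permMatrix F := rfl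

theorem permGL_mulVec (σ : Equiv.Perm ι) (v : ι → F) :
    ((permGL σ : Matrix.GeneralLinearGroup ι F) : Matrix ι ι F) *ᵥ v = v ∘ (σ⁻¹ : Equiv.Perm ι) := by
  rw [permGL_val, Matrix.permMatrix_mulVec]

theorem det_permGL (σ : Equiv.Perm ι) :
    ((permGL σ : Matrix.GeneralLinearGroup ι F) : Matrix ι ι F).det
      = ((Equiv.Perm.sign σ : ℤˣ) : ℤ) := by
  rw [permGL_val, Matrix.det_permutation]
  simp

theorem permGL_injective [Nontrivial F] :
    Function.Injective (permGL (ι := ι) (F := F)) := by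
  intro σ τ h
  have h2 : ∀ v : ι → F, v ∘ (σ⁻¹ : Equiv.Perm ι) = v ∘ (τ⁻¹ : Equiv.Perm ι) := by
    intro v
    rw [← permGL_mulVec, ← permGL_mulVec, h]
  have h3 : (σ⁻¹ : Equiv.Perm ι) = τ⁻¹ := by
    ext i
    have := congrFun (h2 (Pi.single ((τ⁻¹ : Equiv.Perm ι) i) (1 : F))) i
    simp only [Function.comp_apply, Pi.single_eq_same] at this
    by_contra hne
    rw [Pi.single_eq_of_ne hne] at this
    exact zero_ne_one this
  exact inv_injective h3

end perm

section hyp

variable {κ : Type*} [Fintype κ] [DecidableEq κ] {F : Type*} [CommRing F]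

/-- The hyperbolic embedding `g ↦ diag(g, g⁻ᵀ)`. -/
def hypHom : Matrix.GeneralLinearGroup κ F →* Matrix (κ ⊕ κ) (κ ⊕ κ) F where
  toFun g := Matrix.fromBlocks (g : Matrix κ κ F) 0 0
    ((g⁻¹ : Matrix.GeneralLinearGroup κ F) : Matrix κ κ F)ᵀ
  map_one' := by
    simp [Matrix.fromBlocks_one]
  map_mul' g h := by
    rw [Matrix.fromBlocks_multiply]
    simp [Matrix.transpose_mul]

theorem hypHom_apply (g : Matrix.GeneralLinearGroup κ F) :
    hypHom g = Matrix.fromBlocks (g : Matrix κ κ F) 0 0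
      ((g⁻¹ : Matrix.GeneralLinearGroup κ F) : Matrix κ κ F)ᵀ := rfl

/-- The hyperbolic embedding to `GL`. -/
def hypGL : Matrix.GeneralLinearGroup κ F →* Matrix.GeneralLinearGroup (κ ⊕ κ) F :=
  (hypHom (κ := κ) (F := F)).toHomUnits

theorem hypGL_val (g : Matrix.GeneralLinearGroup κ F) :
    ((hypGL g : Matrix.GeneralLinearGroup (κ ⊕ κ) F) : Matrix (κ ⊕ κ) (κ ⊕ κ) F) = hypHom g := rfl

theorem hypGL_injective : Function.Injective (hypGL (κ := κ) (F := F)) := by
  intro g h hgh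
  have h1 : hypHom g = hypHom h := by rw [← hypGL_val, ← hypGL_val, hgh]
  rw [hypHom_apply, hypHom_apply] at h1
  exact Units.ext (Matrix.fromBlocks_inj.1 h1).1

theorem hypHom_mem_symplectic (g : Matrix.GeneralLinearGroup κ F) :
    hypHom g ∈ Matrix.symplecticGroup κ F := by
  rw [hypHom_apply, SymplecticGroup.fromBlocks_mem_iff]
  refine ⟨by simp, by simp, ?_⟩
  rw [Matrix.transpose_zero, Matrix.zero_mul, sub_zero, ← Matrix.transpose_mul]
  have : ((g⁻¹ : Matrix.GeneralLinearGroup κ F) : Matrix κ κ F) * (g : Matrix κ κ F) = 1 := by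
    rw [← Units.val_mul, inv_mul_cancel, Units.val_one]
  rw [this, Matrix.transpose_one]

/-- The hyperbolic embedding preserves the pairing between the two halves. -/
theorem hyp_dot (g : Matrix.GeneralLinearGroup κ F) (x y : κ → F) :
    ∑ i, ((g : Matrix κ κ F) *ᵥ x) i *
        ((((g⁻¹ : Matrix.GeneralLinearGroup κ F) : Matrix κ κ F)ᵀ) *ᵥ y) i
      = ∑ i, x i * y i := by
  have h1 : ∑ i, ((g : Matrix κ κ F) *ᵥ x) i *
        ((((g⁻¹ : Matrix.GeneralLinearGroup κ F) : Matrix κ κ F)ᵀ) *ᵥ y) i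
      = ((g : Matrix κ κ F) *ᵥ x) ⬝ᵥ
        ((((g⁻¹ : Matrix.GeneralLinearGroup κ F) : Matrix κ κ F)ᵀ) *ᵥ y) := rfl
  have h2 : ∑ i, x i * y i = x ⬝ᵥ y := rfl
  rw [h1, h2, Matrix.dotProduct_mulVec, Matrix.vecMul_transpose, Matrix.mulVec_mulVec,
    ← Units.val_mul, inv_mul_cancel, Units.val_one, Matrix.one_mulVec]

theorem hypHom_mulVec_inl (g : Matrix.GeneralLinearGroup κ F) (v : κ ⊕ κ → F) (i : κ) :
    (hypHom g *ᵥ v) (Sum.inl i) = ((g : Matrix κ κ F) *ᵥ fun j => v (Sum.inl j)) i := by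
  rw [hypHom_apply, Matrix.fromBlocks_mulVec]
  simp [Function.comp_def]

theorem hypHom_mulVec_inr (g : Matrix.GeneralLinearGroup κ F) (v : κ ⊕ κ → F) (i : κ) :
    (hypHom g *ᵥ v) (Sum.inr i) =
      ((((g⁻¹ : Matrix.GeneralLinearGroup κ F) : Matrix κ κ F)ᵀ) *ᵥ fun j => v (Sum.inr j)) i := by
  rw [hypHom_apply, Matrix.fromBlocks_mulVec]
  simp [Function.comp_def]

end hyp

end Cfsg.Agent.Lib.Helper46
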