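import Cfsg.Prelude.Def_Classical
import Cfsg.Agent.Lib.Helper46.MatEmb

set_option autoImplicit false

namespace Cfsg.Agent.Lib.Helper46

open Matrix

section lifts

variable {ι : Type*} [Fintype ι] [DecidableEq ι] {F : Type*} [CommRing F]

/-- A `GL`-valued homomorphism with determinant one lifts to `SL`. -/
def liftSL {H : Type*} [Group H] (Ψ : H →* Matrix.GeneralLinearGroup ι F)
    (h : ∀ x, ((Ψ x : Matrix.GeneralLinearGroup ι F) : Matrix ι ι F).det = 1) :
    H →* Matrix.SpecialLinearGroup ι F :=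
  MonoidHom.mk' (fun x => (⟨((Ψ x : Matrix.GeneralLinearGroup ι F) : Matrix ι ι F), h x⟩ :
      Matrix.SpecialLinearGroup ι F)) (by
    intro a b
    apply Subtype.ext
    change ((Ψ (a * b) : Matrix.GeneralLinearGroup ι F) : Matrix ι ι F)
      = ((Ψ a : Matrix.GeneralLinearGroup ι F) : Matrix ι ι F)
        * ((Ψ b : Matrix.GeneralLinearGroup ι F) : Matrix ι ι F)
    rw [map_mul, Units.val_mul])

theorem liftSL_val {H : Type*} [Group H] (Ψ : H →* Matrix.GeneralLinearGroup ι F)
    (h : ∀ x, ((Ψ x : Matrix.GeneralLinearGroup ι F) : Matrix ι ι F).det = 1) (x : H) :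
    ((liftSL Ψ h x : Matrix.SpecialLinearGroup ι F) : Matrix ι ι F)
      = ((Ψ x : Matrix.GeneralLinearGroup ι F) : Matrix ι ι F) := rfl

theorem liftSL_injective {H : Type*} [Group H] (Ψ : H →* Matrix.GeneralLinearGroup ι F)
    (h : ∀ x, ((Ψ x : Matrix.GeneralLinearGroup ι F) : Matrix ι ι F).det = 1)
    (hΨ : Function.Injective Ψ) : Function.Injective (liftSL Ψ h) := by
  intro a b hab
  apply hΨ
  apply Units.ext
  rw [← liftSL_val Ψ h a, ← liftSL_val Ψ h b, hab]

end lifts

section base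

variable {F : Type*} [Field F]

/-- The equivalence `Fin 2 ⊕ Fin (m - 2) ≃ Fin m`. -/
def finTwoSumEquiv (m : ℕ) (hm : 2 ≤ m) : Fin 2 ⊕ Fin (m - 2) ≃ Fin m :=
  finSumFinEquiv.trans (finCongr (by omega))

/-- `SL₂(F)` inside `GL_m(F)` as a block. -/
def sl2GL (m : ℕ) (hm : 2 ≤ m) :
    Matrix.SpecialLinearGroup (Fin 2) F →* Matrix.GeneralLinearGroup (Fin m) F :=
  (blockGL (finTwoSumEquiv m hm)).comp Matrix.SpecialLinearGroup.toGL

theorem sl2GL_injective (m : ℕ) (hm : 2 ≤ m) :
    Function.Injective (sl2GL (F := F) m hm) := by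
  intro a b hab
  apply Matrix.SpecialLinearGroup.toGL_injective
  exact blockGL_injective _ hab

theorem det_sl2GL (m : ℕ) (hm : 2 ≤ m) (A : Matrix.SpecialLinearGroup (Fin 2) F) :
    ((sl2GL m hm A : Matrix.GeneralLinearGroup (Fin m) F) : Matrix (Fin m) (Fin m) F).det = 1 := by
  change (blockHom (finTwoSumEquiv m hm) (A : Matrix (Fin 2) (Fin 2) F)).det = 1
  rw [det_blockHom]
  exact A.2

/-- `A_m` inside `GL_m(F)` as permutation matrices. -/
def altGL (m : ℕ) : alternatingGroup (Fin m) →* Matrix.GeneralLinearGroup (Fin m) F :=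
  (permGL (ι := Fin m) (F := F)).comp (alternatingGroup (Fin m)).subtype

theorem altGL_injective (m : ℕ) : Function.Injective (altGL (F := F) m) := by
  intro a b hab
  apply Subtype.ext
  exact permGL_injective hab

theorem det_altGL (m : ℕ) (σ : alternatingGroup (Fin m)) :
    ((altGL m σ : Matrix.GeneralLinearGroup (Fin m) F) : Matrix (Fin m) (Fin m) F).det = 1 := by
  change ((permGL (σ : Equiv.Perm (Fin m)) : Matrix.GeneralLinearGroup (Fin m) F) :
    Matrix (Fin m) (Fin m) F).det = 1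
  rw [det_permGL]
  have : Equiv.Perm.sign (σ : Equiv.Perm (Fin m)) = 1 := Equiv.Perm.mem_alternatingGroup.1 σ.2
  rw [this]
  simp

theorem altGL_mulVec (m : ℕ) (σ : alternatingGroup (Fin m)) (v : Fin m → F) :
    ((altGL m σ : Matrix.GeneralLinearGroup (Fin m) F) : Matrix (Fin m) (Fin m) F) *ᵥ v
      = v ∘ ((σ : Equiv.Perm (Fin m))⁻¹ : Equiv.Perm (Fin m)) :=
  permGL_mulVec _ v

/-- The alternating groups of degree at least five are perfect. -/
theorem alt_perfect (m : ℕ) (hm : 5 ≤ m) : commutator (alternatingGroup (Fin m)) = ⊤ :=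
  commutator_alternatingGroup_eq_top (by simpa using hm)

/-- `SL₂(F)` is perfect for `|F| ≥ 4`. -/
theorem sl2_perfect [Fintype F] (hF : 4 ≤ Fintype.card F) :
    commutator (Matrix.SpecialLinearGroup (Fin 2) F) = ⊤ := by
  obtain ⟨x, hx⟩ : IsCyclic Fˣ := by infer_instance
  have hord : orderOf x = Fintype.card F - 1 := by
    rw [orderOf_eq_card_of_forall_mem_zpowers hx, Nat.card_units, Nat.card_eq_fintype_card]
  refine Matrix.SL2.commutator_eq_top (a := (x : F)) (Units.ne_zero x) ?_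
  intro h
  have h2 : x ^ 2 = 1 := Units.ext (by simpa using h)
  have := orderOf_le_of_pow_eq_one zero_lt_two h2
  omega

end base

section targets

variable {F : Type*} [Field F]

/-- Embedding into `SL_n(F)` (for the linear case). -/
theorem exists_hom_SL {n : ℕ} {H : Type*} [Group H]
    (Ψ : H →* Matrix.GeneralLinearGroup (Fin n) F) (hΨ : Function.Injective Ψ)
    (h : ∀ x, ((Ψ x : Matrix.GeneralLinearGroup (Fin n) F) : Matrix (Fin n) (Fin n) F).det = 1) :
    ∃ Ψ' : H →* Matrix.SpecialLinearGroup (Fin n) F, Function.Injective Ψ' :=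
  ⟨liftSL Ψ h, liftSL_injective Ψ h hΨ⟩

/-- Embedding into `Sp_{2m}(F)`. -/
theorem exists_hom_Sp {m : ℕ} {H : Type*} [Group H]
    (Ψ : H →* Matrix.GeneralLinearGroup (Fin m) F) (hΨ : Function.Injective Ψ) :
    ∃ Ψ' : H →* Matrix.symplecticGroup (Fin m) F, Function.Injective Ψ' := by
  refine ⟨MonoidHom.mk' (fun x => ⟨hypHom (Ψ x), hypHom_mem_symplectic (Ψ x)⟩) ?_, ?_⟩
  · intro a b
    apply Subtype.ext
    simp [map_mul]
  · intro a b hab
    apply hΨ
    apply hypGL_injective
    apply Units.ext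
    rw [hypGL_val, hypGL_val]
    exact congrArg Subtype.val hab

/-- A perfect group mapping to a group lands in the commutator subgroup. -/
theorem exists_hom_commutator {H O : Type*} [Group H] [Group O] (ψ : H →* O)
    (hψ : Function.Injective ψ) (hH : commutator H = ⊤) :
    ∃ ψ' : H →* ↥(commutator O), Function.Injective ψ' := by
  have hle : (commutator H).map ψ ≤ commutator O := by
    rw [commutator_def, commutator_def, Subgroup.map_commutator]
    exact Subgroup.commutator_mono le_top le_top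
  have hmem : ∀ x, ψ x ∈ commutator O := by
    intro x
    apply hle
    rw [hH]
    exact Subgroup.mem_map_of_mem ψ (Subgroup.mem_top x)
  refine ⟨ψ.codRestrict (commutator O) hmem, ?_⟩
  intro a b hab
  apply hψ
  exact congrArg Subtype.val hab

variable {κ ρ ι : Type} [Fintype κ] [DecidableEq κ] [Fintype ρ] [DecidableEq ρ]
  [Fintype ι] [DecidableEq ι]

/-- The orthogonal embedding of `GL_κ` for a quadratic form with a hyperbolic part. -/
def orthGL (e : (κ ⊕ κ) ⊕ ρ ≃ ι) :
    Matrix.GeneralLinearGroup κ F →* Matrix.GeneralLinearGroup ι F :=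
  (blockGL e).comp hypGL

theorem orthGL_injective (e : (κ ⊕ κ) ⊕ ρ ≃ ι) :
    Function.Injective (orthGL (F := F) e) := by
  intro a b hab
  apply hypGL_injective
  exact blockGL_injective e hab

theorem orthGL_preserves (e : (κ ⊕ κ) ⊕ ρ ≃ ι) (R : (ρ → F) → F) (Q : (ι → F) → F)
    (hQ : ∀ v, Q v = (∑ i, v (e (Sum.inl (Sum.inl i))) * v (e (Sum.inl (Sum.inr i))))
      + R (fun r => v (e (Sum.inr r))))
    (g : Matrix.GeneralLinearGroup κ F) (v : ι → F) :
    Q (((orthGL e g : Matrix.GeneralLinearGroup ι F) : Matrix ι ι F) *ᵥ v) = Q v := by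
  rw [hQ, hQ v]
  have hval : ((orthGL e g : Matrix.GeneralLinearGroup ι F) : Matrix ι ι F)
      = blockHom e (hypHom g) := rfl
  rw [hval]
  have h1 : ∀ i, (blockHom e (hypHom g) *ᵥ v) (e (Sum.inl (Sum.inl i)))
      = ((g : Matrix κ κ F) *ᵥ fun j => v (e (Sum.inl (Sum.inl j)))) i := by
    intro i
    rw [blockHom_mulVec, Sum.elim_inl, hypHom_mulVec_inl]
  have h2 : ∀ i, (blockHom e (hypHom g) *ᵥ v) (e (Sum.inl (Sum.inr i)))
      = ((((g⁻¹ : Matrix.GeneralLinearGroup κ F) : Matrix κ κ F)ᵀ) *ᵥ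
          fun j => v (e (Sum.inl (Sum.inr j)))) i := by
    intro i
    rw [blockHom_mulVec, Sum.elim_inl, hypHom_mulVec_inr]
  have h3 : ∀ r, (blockHom e (hypHom g) *ᵥ v) (e (Sum.inr r)) = v (e (Sum.inr r)) := by
    intro r
    rw [blockHom_mulVec, Sum.elim_inr]
  simp only [h1, h2, h3]
  rw [hyp_dot]

/-- Embedding a perfect group into `Ω(Q)` through `GL_κ`. -/
theorem exists_hom_Omega (e : (κ ⊕ κ) ⊕ ρ ≃ ι) (R : (ρ → F) → F) (Q : (ι → F) → F)
    (hQ : ∀ v, Q v = (∑ i, v (e (Sum.inl (Sum.inl i))) * v (e (Sum.inl (Sum.inr i))))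
      + R (fun r => v (e (Sum.inr r))))
    {H : Type*} [Group H] (Ψ : H →* Matrix.GeneralLinearGroup κ F)
    (hΨ : Function.Injective Ψ) (hH : commutator H = ⊤) :
    ∃ Ψ' : H →* ↥(Cfsg.Omega F Q), Function.Injective Ψ' := by
  have hmem : ∀ x, (orthGL e).comp Ψ x ∈ Cfsg.isometryGroup F Q := by
    intro x u v
    exact orthGL_preserves e R Q hQ (Ψ x) u
  have hinj : Function.Injective (((orthGL e).comp Ψ).codRestrict (Cfsg.isometryGroup F Q) hmem) := by
    intro a b hab
    apply hΨ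
    apply orthGL_injective e
    exact congrArg Subtype.val hab
  exact exists_hom_commutator _ hinj hH

end targets

end Cfsg.Agent.Lib.Helper46
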