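import Mathlib

set_option autoImplicit false
set_option linter.unusedSectionVars false
set_option linter.unusedVariables false
set_option linter.unusedSimpArgs false

/-! Keystone K-S4130-L8b (for helper73): class sizes `p²`-free and a non-abelian normal Sylow
`p`-subgroup `P` imply that every `p'`-element centralizes `P`. -/

namespace Cfsg.Agent.Lib.Helper46.SqF

open Subgroup

universe u

/-- for a normal subgroup `N`, `|N : S ∩ N|` divides `|G : S|` -/
theorem relIndex_dvd_index_of_normal_right46 {G : Type u} [Group G] [Finite G] (S N : Subgroup G)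
    [N.Normal] : S.relIndex N ∣ S.index := by
  have h1 : (S ⊓ N).index = N.relIndex S * S.index := by
    rw [← Subgroup.relIndex_mul_index (inf_le_left : S ⊓ N ≤ S), Subgroup.inf_relIndex_left]
  have h2 : (S ⊓ N).index = S.relIndex N * N.index := by
    rw [← Subgroup.relIndex_mul_index (inf_le_right : S ⊓ N ≤ N), Subgroup.inf_relIndex_right]
  have h3 : N.index = N.relIndex S * (S ⊔ N).index := by
    rw [← Subgroup.relIndex_mul_index (le_sup_right : N ≤ S ⊔ N), Subgroup.relIndex_sup_right]
  have h4 : N.relIndex S ≠ 0 := by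
    have : (N.subgroupOf S).index ≠ 0 := Subgroup.index_ne_zero_of_finite
    exact this
  have h5 : N.relIndex S * S.index = N.relIndex S * (S.relIndex N * (S ⊔ N).index) := by
    rw [← h1, h2, h3]; ring
  have h6 := Nat.eq_of_mul_eq_mul_left (Nat.pos_of_ne_zero h4) h5
  exact ⟨_, h6⟩

/-- commuting elements of coprime orders: the centralizer of the product centralizes each. -/
theorem commute_of_commute_mul46 {G : Type u} [Group G] (x y g : G) (hxy : Commute x y)
    (hcop : (orderOf x).Coprime (orderOf y))
    (hg : Commute g (x * y)) : Commute g x ∧ Commute g y := by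
  have h1 : (x * y) ^ orderOf y = x ^ orderOf y := by
    rw [hxy.mul_pow, pow_orderOf_eq_one, mul_one]
  have h2 : Commute g (x ^ orderOf y) := by
    rw [← h1]; exact hg.pow_right _
  obtain ⟨j, hj⟩ := exists_pow_eq_self_of_coprime (x := x) hcop.symm
  have h5 : Commute g x := by
    rw [← hj]; exact h2.pow_right j
  refine ⟨h5, ?_⟩
  have : y = x⁻¹ * (x * y) := by group
  rw [this]
  exact h5.inv_right.mul_right hg

/-- a subgroup strictly between a subgroup of prime relative index and the big group is
everything -/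
theorem le_of_relIndex_prime46 {G : Type u} [Group G] [Finite G] {p : ℕ} (hp : p.Prime)
    {C M P : Subgroup G} (hCM : C ≤ M) (hMP : M ≤ P) (hidx : C.relIndex P = p)
    (t : G) (htM : t ∈ M) (htC : t ∉ C) : P ≤ M := by
  have h1 := Subgroup.relIndex_mul_relIndex C M P hCM hMP
  rw [hidx] at h1
  have h2 : C.relIndex M ≠ 1 := by
    intro h
    rw [Subgroup.relIndex_eq_one] at h
    exact htC (h htM)
  have h3 : C.relIndex M ∣ p := ⟨_, h1.symm⟩
  rcases (Nat.dvd_prime hp).1 h3 with h4 | h4
  · exact absurd h4 h2
  · rw [h4] at h1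
    have h5 : M.relIndex P = 1 := by
      have hp0 : 0 < p := hp.pos
      nlinarith [Nat.eq_of_mul_eq_mul_left hp0 (by rw [h1, mul_one] : p * M.relIndex P = p * 1)]
    exact Subgroup.relIndex_eq_one.1 h5

/-- L8b (E0, nonabelian normal Sylow: `p'`-elements centralize it). -/
theorem coprime_centralizes_of_nonabelian_sylow {G : Type u} [Group G] [Finite G] (p : ℕ)
    [Fact p.Prime] (P : Sylow p G) [hPn : (P : Subgroup G).Normal]
    (hnab : ¬ ∀ a ∈ (P : Subgroup G), ∀ b ∈ (P : Subgroup G), a * b = b * a)
    (h : ∀ x : G, ¬ p ^ 2 ∣ (centralizer ({x} : Set G)).index)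
    (g : G) (hg : (orderOf g).Coprime p) : g ∈ centralizer ((P : Subgroup G) : Set G) := by
  have hp : p.Prime := Fact.out
  by_contra hgP
  apply hnab
  -- membership in centralizers of singletons
  have hmemC : ∀ x y : G, y ∈ centralizer ({x} : Set G) ↔ x * y = y * x := by
    intro x y
    rw [Subgroup.mem_centralizer_iff]
    constructor
    · intro h1
      exact h1 x rfl
    · intro h1 z hz
      rw [Set.mem_singleton_iff] at hz
      rw [hz]
      exact h1
  -- (1) relative indices divide `p`
  obtain ⟨n, hn⟩ := IsPGroup.iff_card.1 P.2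
  have hrel : ∀ x : G, (centralizer ({x} : Set G)).relIndex (P : Subgroup G) ∣ p := by
    intro x
    have h1 := relIndex_dvd_index_of_normal_right46 (centralizer ({x} : Set G)) (P : Subgroup G)
    have h2 : (centralizer ({x} : Set G)).relIndex (P : Subgroup G) ∣ p ^ n := by
      rw [← hn]
      exact Subgroup.relIndex_dvd_card _ _
    obtain ⟨k, hk, hk'⟩ := (Nat.dvd_prime_pow hp).1 h2
    rw [hk'] at h1 ⊢
    have hk1 : k ≤ 1 := by
      by_contra hcon
      push Not at hcon
      exact h x (dvd_trans (pow_dvd_pow p hcon) h1)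
    exact pow_dvd_pow p hk1 |>.trans (by rw [pow_one])
  -- (2) `C = C_P(g)` has index `p`
  set C : Subgroup G := (P : Subgroup G) ⊓ centralizer ({g} : Set G) with hC
  have hCP : C ≤ (P : Subgroup G) := inf_le_left
  have hCidx : C.relIndex (P : Subgroup G) = p := by
    rw [hC, Subgroup.inf_relIndex_left]
    rcases (Nat.dvd_prime hp).1 (hrel g) with h1 | h1
    · exfalso
      rw [Subgroup.relIndex_eq_one] at h1
      apply hgP
      rw [Subgroup.mem_centralizer_iff]
      intro y hy
      have := (hmemC g y).1 (h1 hy)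
      exact this.symm
    · exact h1
  have hCmem : ∀ x : G, x ∈ C ↔ x ∈ (P : Subgroup G) ∧ g * x = x * g := by
    intro x
    rw [hC, Subgroup.mem_inf, hmemC]
  -- orders of elements of `P` are coprime to the order of `g`
  have hcop : ∀ x ∈ (P : Subgroup G), (orderOf g).Coprime (orderOf x) := by
    intro x hx
    obtain ⟨k, hk⟩ := P.2 ⟨x, hx⟩
    have hk' : x ^ p ^ k = 1 := by
      have := congrArg Subtype.val hk
      simpa using this
    have h1 : orderOf x ∣ p ^ k := orderOf_dvd_of_pow_eq_one hk'
    exact Nat.Coprime.coprime_dvd_right h1 (Nat.Coprime.pow_right k hg)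
  -- (3) `C` is abelian
  have hCab : ∀ x ∈ C, ∀ y ∈ C, x * y = y * x := by
    intro x hx y hy
    have hxP := ((hCmem x).1 hx).1
    have hgx : g * x = x * g := ((hCmem x).1 hx).2
    have h1 : (P : Subgroup G) ⊓ centralizer ({g * x} : Set G) ≤ C := by
      intro z hz
      rw [Subgroup.mem_inf, hmemC] at hz
      rw [hCmem]
      refine ⟨hz.1, ?_⟩
      have h2 := commute_of_commute_mul46 g x z hgx (hcop x hxP) hz.2.symm
      exact h2.1.symm
    have h3 := Subgroup.relIndex_mul_relIndex _ C (P : Subgroup G) h1 hCP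
    rw [hCidx, Subgroup.inf_relIndex_left] at h3
    have h4 := hrel (g * x)
    rw [← h3] at h4
    have h5 : ((P : Subgroup G) ⊓ centralizer ({g * x} : Set G)).relIndex C = 1 := by
      have hp0 : 0 < p := hp.pos
      have h6 : ((P : Subgroup G) ⊓ centralizer ({g * x} : Set G)).relIndex C * p ≤ p :=
        Nat.le_of_dvd hp0 h4
      have h7 : ((P : Subgroup G) ⊓ centralizer ({g * x} : Set G)).relIndex C ≠ 0 := by
        intro h0
        rw [h0, zero_mul] at h4
        exact hp.ne_zero (Nat.eq_zero_of_zero_dvd h4)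
      nlinarith [Nat.pos_of_ne_zero h7]
    rw [Subgroup.relIndex_eq_one] at h5
    have h8 := h5 hy
    rw [Subgroup.mem_inf, hmemC] at h8
    have h9 := commute_of_commute_mul46 g x y hgx (hcop x hxP) h8.2.symm
    exact h9.2.symm
  -- `C` is normal in `P`
  have hCnorm : ∀ s ∈ (P : Subgroup G), ∀ c ∈ C, s * c * s⁻¹ ∈ C := by
    have hn1 : 1 ≤ n := by
      by_contra hcon
      have hn0 : n = 0 := by omega
      rw [hn0, pow_zero] at hn
      have h1 : C.relIndex (P : Subgroup G) ∣ Nat.card (P : Subgroup G) :=
        Subgroup.relIndex_dvd_card _ _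
      rw [hCidx, hn] at h1
      exact hp.one_lt.ne' (Nat.dvd_one.1 h1)
    have hidx : (C.subgroupOf (P : Subgroup G)).index = (Nat.card (P : Subgroup G)).minFac := by
      rw [hn, Nat.Prime.pow_minFac hp (by omega)]
      exact hCidx
    have hnor : (C.subgroupOf (P : Subgroup G)).Normal :=
      Subgroup.normal_of_index_eq_minFac_card hidx
    intro s hs c hc
    have h1 : (⟨c, hCP hc⟩ : (P : Subgroup G)) ∈ C.subgroupOf (P : Subgroup G) := by
      rw [Subgroup.mem_subgroupOf]
      exact hc
    have h2 := hnor.conj_mem _ h1 ⟨s, hs⟩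
    rw [Subgroup.mem_subgroupOf] at h2
    exact h2
  -- (c) some commutator with `g` lies outside `C`
  have hex : ∃ s ∈ (P : Subgroup G), s * g * s⁻¹ * g⁻¹ ∉ C := by
    by_contra hcon
    push Not at hcon
    apply hgP
    rw [Subgroup.mem_centralizer_iff]
    intro s hs
    -- `ℓ = s⁻¹ g s g⁻¹ ∈ C`
    have hsi : s⁻¹ ∈ (P : Subgroup G) := inv_mem hs
    have hl := hcon s⁻¹ hsi
    rw [inv_inv] at hl
    set l := s⁻¹ * g * s * g⁻¹ with hl_def
    have hlP : l ∈ (P : Subgroup G) := hCP hl
    have hlg : g * l = l * g := ((hCmem l).1 hl).2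
    have hconj : g * s * g⁻¹ = s * l := by
      rw [hl_def]
      group
    have hpow : ∀ k : ℕ, g ^ k * s * (g ^ k)⁻¹ = s * l ^ k := by
      intro k
      induction k with
      | zero => simp
      | succ k ih =>
        have hlk : g * l ^ k = l ^ k * g := by
          have : Commute g (l ^ k) := (Commute.pow_right hlg k)
          exact this
        calc g ^ (k + 1) * s * (g ^ (k + 1))⁻¹
            = g * (g ^ k * s * (g ^ k)⁻¹) * g⁻¹ := by
              rw [pow_succ']
              group
          _ = g * (s * l ^ k) * g⁻¹ := by rw [ih]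
          _ = (g * s * g⁻¹) * (g * l ^ k * g⁻¹) := by group
          _ = (s * l) * (l ^ k) := by
              rw [hconj, hlk]
              group
          _ = s * l ^ (k + 1) := by
              rw [pow_succ']
              group
    have h1 := hpow (orderOf g)
    rw [pow_orderOf_eq_one, one_mul, inv_one, mul_one] at h1
    have h2 : l ^ orderOf g = 1 := by
      have := mul_left_cancel (a := s) (b := 1) (c := l ^ orderOf g) (by rw [mul_one]; exact h1)
      exact this.symm
    have h3 : orderOf l ∣ orderOf g := orderOf_dvd_of_pow_eq_one h2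
    have h4 : orderOf l = 1 := Nat.eq_one_of_dvd_coprimes (hcop l hlP).symm (dvd_refl _) h3
    rw [orderOf_eq_one_iff] at h4
    rw [h4, mul_one] at hconj
    have : g * s = s * g := by
      calc g * s = (g * s * g⁻¹) * g := by group
        _ = s * g := by rw [hconj]
    exact this.symm
  obtain ⟨s, hsP, hsC⟩ := hex
  set t := s * g * s⁻¹ * g⁻¹ with ht_def
  have htP : t ∈ (P : Subgroup G) := by
    have h1 : g * s⁻¹ * g⁻¹ ∈ (P : Subgroup G) := hPn.conj_mem _ (inv_mem hsP) g
    have h2 : t = s * (g * s⁻¹ * g⁻¹) := by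
      rw [ht_def]
      group
    rw [h2]
    exact mul_mem hsP h1
  -- (b) `t` commutes with `C`
  have htC : ∀ c ∈ C, c * t = t * c := by
    intro c hc
    have hcg : g * c = c * g := ((hCmem c).1 hc).2
    -- `d = s⁻¹ c s c⁻¹ ∈ C`
    have hd : s⁻¹ * c * s * c⁻¹ ∈ C := by
      have h1 := hCnorm s⁻¹ (inv_mem hsP) c hc
      rw [inv_inv] at h1
      exact mul_mem h1 (inv_mem hc)
    set d := s⁻¹ * c * s * c⁻¹ with hd_def
    have hdg : g * d = d * g := ((hCmem d).1 hd).2
    have h1 : c * s * c⁻¹ = s * d := by
      rw [hd_def]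
      group
    have h2 : c * t * c⁻¹ = t := by
      calc c * t * c⁻¹ = (c * s * c⁻¹) * (c * g * c⁻¹) * (c * s * c⁻¹)⁻¹ * (c * g * c⁻¹)⁻¹ := by
            rw [ht_def]
            group
        _ = (s * d) * g * (s * d)⁻¹ * g⁻¹ := by
            have h3 : c * g * c⁻¹ = g := by
              rw [← hcg]
              group
            rw [h1, h3]
        _ = s * (d * g * d⁻¹) * s⁻¹ * g⁻¹ := by group
        _ = s * g * s⁻¹ * g⁻¹ := by
            have h3 : d * g * d⁻¹ = g := by
              rw [← hdg]
              group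
            rw [h3]
    calc c * t = (c * t * c⁻¹) * c := by group
      _ = t * c := by rw [h2]
  -- (d) conclusion
  -- `t` is central in `P`
  have htcent : ∀ a ∈ (P : Subgroup G), t * a = a * t := by
    have h1 : (P : Subgroup G) ≤ (P : Subgroup G) ⊓ centralizer ({t} : Set G) := by
      apply le_of_relIndex_prime46 hp (C := C) _ inf_le_left hCidx t _ hsC
      · intro c hc
        rw [Subgroup.mem_inf, hmemC]
        exact ⟨hCP hc, (htC c hc).symm⟩
      · rw [Subgroup.mem_inf, hmemC]
        exact ⟨htP, rfl⟩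
    intro a ha
    have := h1 ha
    rw [Subgroup.mem_inf, hmemC] at this
    exact this.2
  -- `C` is central in `P`
  have hCcent : ∀ c ∈ C, ∀ a ∈ (P : Subgroup G), c * a = a * c := by
    have h1 : (P : Subgroup G) ≤ (P : Subgroup G) ⊓ centralizer (C : Set G) := by
      apply le_of_relIndex_prime46 hp (C := C) _ inf_le_left hCidx t _ hsC
      · intro c hc
        rw [Subgroup.mem_inf, Subgroup.mem_centralizer_iff]
        exact ⟨hCP hc, fun y hy => hCab y hy c hc⟩
      · rw [Subgroup.mem_inf, Subgroup.mem_centralizer_iff]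
        exact ⟨htP, fun y hy => htC y hy⟩
    intro c hc a ha
    have := h1 ha
    rw [Subgroup.mem_inf, Subgroup.mem_centralizer_iff] at this
    exact this.2 c hc
  intro a ha b hb
  by_cases haC : a ∈ C
  · exact hCcent a haC b hb
  · have h1 : (P : Subgroup G) ≤ (P : Subgroup G) ⊓ centralizer ({a} : Set G) := by
      apply le_of_relIndex_prime46 hp (C := C) _ inf_le_left hCidx a _ haC
      · intro c hc
        rw [Subgroup.mem_inf, hmemC]
        exact ⟨hCP hc, (hCcent c hc a ha).symm⟩
      · rw [Subgroup.mem_inf, hmemC]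
        exact ⟨ha, rfl⟩
    have := h1 hb
    rw [Subgroup.mem_inf, hmemC] at this
    exact this.2

end Cfsg.Agent.Lib.Helper46.SqF
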