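import Mathlib

/-!
K-IB pack (S3928, architect helper41), LEAF 14c (392821): a finite simple group with a proper subgroup
of index at most `k` has order at most `k!` (faithful action on the cosets).
-/

set_option autoImplicit false

namespace Cfsg.Agent.Lib.Helper46.InvB

theorem card_le_factorial_of_simple {S : Type*} [Group S] [Finite S] [IsSimpleGroup S] (H : Subgroup S)
    (hH : H ≠ ⊤) (k : ℕ) (hk : H.index ≤ k) : Nat.card S ≤ k.factorial := by
  classical
  have hker : (MulAction.toPermHom S (S ⧸ H)).ker = ⊥ := by
    rcases (MulAction.toPermHom S (S ⧸ H)).normal_ker.eq_bot_or_eq_top with h | h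
    · exact h
    · exfalso
      apply hH
      rw [eq_top_iff, ← h, ← Subgroup.normalCore_eq_ker]
      exact Subgroup.normalCore_le H
  have hinj : Function.Injective (MulAction.toPermHom S (S ⧸ H)) :=
    (MonoidHom.ker_eq_bot_iff _).mp hker
  have h1 : Nat.card S ≤ Nat.card (Equiv.Perm (S ⧸ H)) := Nat.card_le_card_of_injective _ hinj
  have h2 : Nat.card (Equiv.Perm (S ⧸ H)) = (H.index).factorial := by
    rw [Nat.card_perm]; rfl
  rw [h2] at h1
  exact h1.trans (Nat.factorial_le hk)

end Cfsg.Agent.Lib.Helper46.InvB
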