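import Mathlib

/-!
K-IB pack (S3928, architect helper41), LEAF 15b (392823): a finite nonabelian simple group with at most
`m` elements of odd order has order at most `m!` (conjugation on the odd-order elements is faithful; a
nonabelian simple group is not a 2-group).
-/

set_option autoImplicit false

namespace Cfsg.Agent.Lib.Helper46.InvB

theorem card_le_factorial_of_odd_count {S : Type*} [Group S] [Finite S] [IsSimpleGroup S]
    (hna : ¬ ∀ x y : S, x * y = y * x) (m : ℕ)
    (h : Nat.card {x : S // Odd (orderOf x)} ≤ m) : Nat.card S ≤ m.factorial := by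
  classical
  have hord : ∀ g x : S, orderOf (g * x * g⁻¹) = orderOf x := by
    intro g x
    have := (MulAut.conj g).orderOf_eq x
    rwa [MulAut.conj_apply] at this
  let f : S → Equiv.Perm {x : S // Odd (orderOf x)} := fun g =>
    { toFun := fun x => ⟨g * x.1 * g⁻¹, by rw [hord]; exact x.2⟩
      invFun := fun x => ⟨g⁻¹ * x.1 * g, by
        have := hord g⁻¹ x.1
        rw [inv_inv] at this; rw [this]; exact x.2⟩
      left_inv := fun x => Subtype.ext (by simp [mul_assoc])
      right_inv := fun x => Subtype.ext (by simp [mul_assoc]) }
  let φ : S →* Equiv.Perm {x : S // Odd (orderOf x)} :=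
    MonoidHom.mk' f (by intro a b; ext x; simp [f, mul_assoc])
  have hφ : ∀ (g : S) (x : {x : S // Odd (orderOf x)}), ((φ g) x : S) = g * x.1 * g⁻¹ :=
    fun g x => rfl
  -- the centre is trivial
  have hZ : Subgroup.center S = ⊥ := by
    rcases (Subgroup.center S).normal_of_characteristic.eq_bot_or_eq_top with h0 | h0
    · exact h0
    · exfalso
      apply hna
      intro x y
      have hy : y ∈ Subgroup.center S := by rw [h0]; trivial
      exact (Subgroup.mem_center_iff.mp hy) x
  have hker : φ.ker = ⊥ := by
    rcases φ.normal_ker.eq_bot_or_eq_top with h0 | h0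
    · exact h0
    · exfalso
      -- every odd order element is central, hence trivial
      have hodd : ∀ x : S, Odd (orderOf x) → x = 1 := by
        intro x hx
        have hxc : x ∈ Subgroup.center S := by
          rw [Subgroup.mem_center_iff]
          intro g
          have hg : g ∈ φ.ker := by rw [h0]; trivial
          have h1 : φ g = 1 := hg
          have h2 := hφ g ⟨x, hx⟩
          rw [h1] at h2
          simp only [Equiv.Perm.coe_one, id_eq] at h2
          calc g * x = g * x * g⁻¹ * g := by group
            _ = x * g := by rw [← h2]
        rw [hZ] at hxc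
        exact hxc
      have hP : IsPGroup 2 S := by
        intro g
        have hpos : orderOf g ≠ 0 := (orderOf_pos g).ne'
        obtain ⟨k, r, hr, hkr⟩ := Nat.exists_eq_two_pow_mul_odd hpos
        refine ⟨k, ?_⟩
        apply hodd
        have h2k : 2 ^ k ∣ orderOf g := ⟨r, hkr⟩
        rw [orderOf_pow_of_dvd (by positivity) h2k, hkr, Nat.mul_div_cancel_left _ (by positivity)]
        exact hr
      have : Fact (Nat.Prime 2) := ⟨Nat.prime_two⟩
      have hnt := hP.center_nontrivial
      rw [hZ] at hnt
      exact not_nontrivial _ hnt
  have hinj : Function.Injective φ := (MonoidHom.ker_eq_bot_iff _).mp hker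
  have h1 : Nat.card S ≤ Nat.card (Equiv.Perm {x : S // Odd (orderOf x)}) :=
    Nat.card_le_card_of_injective _ hinj
  rw [Nat.card_perm] at h1
  exact h1.trans (Nat.factorial_le h)

end Cfsg.Agent.Lib.Helper46.InvB
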