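import Mathlib
import Cfsg.Agent.Lib.Helper41.InvBDefs
import Cfsg.Agent.Lib.Helper46.InvB15b

/-!
K-IB pack (S3928, architect helper41), LEAF 15 (392824) `swap_bound`: case (β), one moved factor.
`x ↦ x * (a * x⁻¹ * a⁻¹)` injects the odd-order elements of `S` into `TG a`.
-/

set_option autoImplicit false

namespace Cfsg.Agent.Lib.Helper46.InvB

open Cfsg.Agent.Lib.Helper41.InvB

variable {Γ : Type*} [Group Γ] [Finite Γ]

theorem swap_bound (a : Γ) (ha : a * a = 1) (S : Subgroup Γ) (hS : IsSimpleGroup S)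
    (hna : ¬ ∀ x ∈ S, ∀ y ∈ S, x * y = y * x)
    (hcomm : ∀ x ∈ S, ∀ y ∈ conjS a S, x * y = y * x) (hdisj : S ⊓ conjS a S = ⊥)
    (m : ℕ) (hm : Nat.card (TG a) ≤ m) :
    (∃ t ∈ TG a, t ≠ 1 ∧ t ∈ S ⊔ conjS a S) ∧ Nat.card S ≤ m.factorial := by
  have hainv : a⁻¹ = a := inv_eq_of_mul_eq_one_left ha
  have haz : ∀ z : Γ, a * (a * z) = z := by
    intro z; rw [← mul_assoc, ha, one_mul]
  have hconj : ∀ x ∈ S, a * x * a⁻¹ ∈ conjS a S := by
    intro x hx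
    rw [mem_conjS_iff]
    have : a⁻¹ * (a * x * a⁻¹) * a = x := by group
    rw [this]; exact hx
  have hbot : ∀ z : Γ, z ∈ S → z ∈ conjS a S → z = 1 := by
    intro z h1 h2
    have : z ∈ S ⊓ conjS a S := ⟨h1, h2⟩
    rw [hdisj] at this
    exact this
  have key : ∀ x ∈ S, Odd (orderOf x) → x * (a * x⁻¹ * a⁻¹) ∈ TG a := by
    intro x hx hodd
    have hy := hconj x⁻¹ (S.inv_mem hx)
    have hc : Commute x (a * x⁻¹ * a⁻¹) := hcomm x hx _ hy
    refine ⟨?_, ?_⟩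
    · apply Odd.of_dvd_nat hodd
      apply orderOf_dvd_of_pow_eq_one
      rw [hc.mul_pow, conj_pow, inv_pow, pow_orderOf_eq_one]
      simp
    · rw [hainv]
      apply eq_inv_of_mul_eq_one_left
      simp only [mul_assoc, haz, mul_inv_cancel_left, inv_mul_cancel_left, ha]
      simp [haz, ha]
  -- the injection
  let f : {x : ↥S // Odd (orderOf x)} → ↥(TG a) := fun x =>
    ⟨(x.1 : Γ) * (a * (x.1 : Γ)⁻¹ * a⁻¹), key _ x.1.2 (by rw [Subgroup.orderOf_coe]; exact x.2)⟩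
  have hf : Function.Injective f := by
    intro x x' hxx
    have h0 : (x.1 : Γ) * (a * (x.1 : Γ)⁻¹ * a⁻¹) = (x'.1 : Γ) * (a * (x'.1 : Γ)⁻¹ * a⁻¹) :=
      congrArg Subtype.val hxx
    have h1 : (x'.1 : Γ)⁻¹ * (x.1 : Γ) = (a * (x'.1 : Γ)⁻¹ * a⁻¹) * (a * (x.1 : Γ)⁻¹ * a⁻¹)⁻¹ := by
      calc (x'.1 : Γ)⁻¹ * (x.1 : Γ)
          = (x'.1 : Γ)⁻¹ * ((x.1 : Γ) * (a * (x.1 : Γ)⁻¹ * a⁻¹)) * (a * (x.1 : Γ)⁻¹ * a⁻¹)⁻¹ := by
            group
        _ = (a * (x'.1 : Γ)⁻¹ * a⁻¹) * (a * (x.1 : Γ)⁻¹ * a⁻¹)⁻¹ := by rw [h0]; group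
    have h2 : (x'.1 : Γ)⁻¹ * (x.1 : Γ) = 1 := by
      apply hbot
      · exact S.mul_mem (S.inv_mem x'.1.2) x.1.2
      · rw [h1]
        exact (conjS a S).mul_mem (hconj _ (S.inv_mem x'.1.2))
          ((conjS a S).inv_mem (hconj _ (S.inv_mem x.1.2)))
    have h3 : (x.1 : Γ) = (x'.1 : Γ) := by
      have := inv_mul_eq_one.mp h2
      exact this.symm
    exact Subtype.ext (Subtype.ext h3)
  have hcard : Nat.card {x : ↥S // Odd (orderOf x)} ≤ m :=
    (Nat.card_le_card_of_injective f hf).trans hm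
  have hna' : ¬ ∀ x y : ↥S, x * y = y * x := by
    intro h
    apply hna
    intro x hx y hy
    exact congrArg Subtype.val (h ⟨x, hx⟩ ⟨y, hy⟩)
  refine ⟨?_, card_le_factorial_of_odd_count hna' m hcard⟩
  -- a nontrivial odd order element of `S`
  by_contra hno
  have hall : ∀ x : {x : ↥S // Odd (orderOf x)}, x.1 = 1 := by
    intro x
    by_contra hx1
    apply hno
    refine ⟨(f x).1, (f x).2, ?_, ?_⟩
    · intro ht
      have ht' : (x.1 : Γ) * (a * (x.1 : Γ)⁻¹ * a⁻¹) = 1 := ht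
      have h4 : (x.1 : Γ) = (a * (x.1 : Γ)⁻¹ * a⁻¹)⁻¹ := eq_inv_of_mul_eq_one_left ht'
      have h5 : (x.1 : Γ) = 1 := by
        apply hbot _ x.1.2
        rw [h4]
        exact (conjS a S).inv_mem (hconj _ (S.inv_mem x.1.2))
      exact hx1 (Subtype.ext h5)
    · exact Subgroup.mul_mem_sup x.1.2 (hconj _ (S.inv_mem x.1.2))
  have hsub : Nat.card {x : ↥S // Odd (orderOf x)} ≤ 1 := by
    have : Subsingleton {x : ↥S // Odd (orderOf x)} :=
      ⟨fun x y => Subtype.ext ((hall x).trans (hall y).symm)⟩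
    exact Finite.card_le_one_iff_subsingleton.mpr this
  have h1 : Nat.card ↥S ≤ 1 := by
    have := card_le_factorial_of_odd_count hna' 1 hsub
    simpa using this
  have hss : Subsingleton ↥S := Finite.card_le_one_iff_subsingleton.mp h1
  exact hna' (fun x y => by rw [Subsingleton.elim x y])

end Cfsg.Agent.Lib.Helper46.InvB
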