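import Cfsg.Agent.Lib.Helper46.AOStarA

set_option autoImplicit false
set_option linter.unusedSimpArgs false
set_option linter.unusedVariables false
set_option linter.unusedSectionVars false
set_option maxHeartbeats 400000

/-! **Recognition of singular point stabilisers**: an automorphism of `Ω` maps the stabiliser of
a singular point to the stabiliser of a singular point. -/

namespace Cfsg.Agent.Lib.Helper46.AO

open Module Cfsg.Agent.Lib.Helper43 Cfsg.Agent.Lib.Helper19

variable {F : Type*} [Field F] [Fintype F] {ι : Type} [Fintype ι] [DecidableEq ι]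
variable (Q : QuadraticForm F (ι → F))

local notation "B" => QuadraticMap.polarBilin Q

theorem three_le_of_two_ne_zero {p : ℕ} [Fact p.Prime] [CharP F p] (h2 : (2 : F) ≠ 0) :
    3 ≤ p := by
  have hp := (Fact.out : p.Prime)
  have h2p : p ≠ 2 := by
    rintro rfl
    apply h2
    have := CharP.cast_eq_zero F 2
    simpa using this
  have := hp.two_le
  omega

section frame

variable {e f : ι → F}
variable (hQ : (QuadraticMap.polarBilin Q).Nondegenerate) (hn : 7 ≤ Fintype.card ι)

include hQ hn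

theorem siegelGrp_le_lineStab (hp : HPair Q ⊤ e f) :
    siegelGrp Q hQ e hp.hu ≤ lineStab Q e (e_ne_zero Q hp) := by
  intro g hg
  obtain ⟨w, hw, rfl⟩ := (mem_siegelGrp_iff Q hQ hn hp g).1 hg
  have hew := ((mem_W0 Q hQ e f w).1 hw).1
  refine ⟨1, ?_⟩
  rw [lo_sOf Q hQ hn e w hp.hu hew, siegelLin_self Q e w hp.hu hew, one_smul]

theorem sOf_mem_Rgrp (U : Submodule F (ι → F)) (hU : ∀ u ∈ U, Q u = 0) (a w : ι → F)
    (ha : a ∈ U) (hw : w ∈ orthC Q U) : sOf Q hQ hn a w ∈ Rgrp Q U := by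
  have haQ := hU a ha
  have haw : B a w = 0 := (mem_orthC Q U w).1 hw a ha
  have hUU := polar_eq_zero_of_ts Q U hU
  rw [mem_Rgrp, lo_sOf Q hQ hn a w haQ haw]
  refine ⟨fun v hv => ?_, fun v hv => ?_⟩
  · rw [siegelLin_apply, (mem_orthC Q U w).1 hw v hv, hUU v a hv ha]
    simp
  · have hva : B v a = 0 := by
      rw [polar_symm]; exact (mem_orthC Q U v).1 hv a ha
    rw [siegelLin_apply, hva]
    have e1 : v + (B v w - Q w * 0) • a + (-(0 : F)) • w - v = B v w • a := by
      simp
    rw [e1]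
    exact U.smul_mem _ ha

/-- **recognition of singular point stabilisers** -/
theorem star (hp : HPair Q ⊤ e f) {p : ℕ} [Fact p.Prime] [CharP F p] (h2 : (2 : F) ≠ 0)
    (hmax : ∀ T : Submodule F (ι → F), (∀ t ∈ T, Q t = 0) → 2 * finrank F T ≠ Fintype.card ι)
    (α : ↥(Cfsg.Omega F ⇑Q) ≃* ↥(Cfsg.Omega F ⇑Q)) :
    ∃ (e' : ι → F) (he' : e' ≠ 0), Q e' = 0 ∧
      ∀ g, g ∈ lineStab Q e (e_ne_zero Q hp) ↔ α g ∈ lineStab Q e' he' := by
  have hp3 : 3 ≤ p := three_le_of_two_ne_zero (F := F) h2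
  have hpF : p ∣ Fintype.card F := dvd_card_of_charP (F := F) (p := p)
  set P := lineStab Q e (e_ne_zero Q hp) with hPdef
  set S := siegelGrp Q hQ e hp.hu with hSdef
  set H : Subgroup ↥(Cfsg.Omega F ⇑Q) := P.comap α.symm.toMonoidHom with hHdef
  set A : Subgroup ↥(Cfsg.Omega F ⇑Q) := S.comap α.symm.toMonoidHom with hAdef
  have hH : ∀ g, g ∈ H ↔ α.symm g ∈ P := fun g => Iff.rfl
  have hA : ∀ g, g ∈ A ↔ α.symm g ∈ S := fun g => Iff.rfl
  have hAp : IsPGroup p A :=
    (isPGroup_siegelGrp Q hQ hn hp (p := p)).comap_of_injective α.symm.toMonoidHom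
      α.symm.injective
  have hSP : S ≤ P := siegelGrp_le_lineStab Q hQ hn hp
  have hAH : A ≤ H := fun g hg => hSP hg
  have hAn : ∀ h ∈ H, ∀ a ∈ A, h * a * h⁻¹ ∈ A := by
    intro h hh a ha
    rw [hA, map_mul, map_mul, map_inv]
    exact siegelGrp_normalized Q hQ e (e_ne_zero Q hp) hp.hu _ hh _ ha
  have hfrW := finrank_W0 Q hQ hn hp
  have hAne : ∃ a ∈ A, a ≠ 1 := by
    obtain ⟨w, hw, hw0⟩ := exists_ne_zero_of_finrank (W0 Q e f) (by omega)
    refine ⟨α (sOf Q hQ hn e w), ?_, ?_⟩
    · rw [hA, MulEquiv.symm_apply_apply]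
      exact sOf_mem_siegelGrp Q hQ hn hp w hw
    · intro h
      have h1 : sOf Q hQ hn e w = 1 := by
        have := congrArg α.symm h
        rwa [MulEquiv.symm_apply_apply, map_one] at this
      rw [← sOf_zero Q hQ hn e hp.hu] at h1
      exact hw0 (sOf_inj Q hQ hn hp w 0 hw (Submodule.zero_mem _) h1)
  have hmaxH : ∀ K : Subgroup ↥(Cfsg.Omega F ⇑Q), H ≤ K → K = H ∨ K = ⊤ := by
    intro K hHK
    have hPK : P ≤ K.comap α.toMonoidHom := by
      intro g hg
      apply hHK
      rw [hH]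
      show α.symm (α g) ∈ P
      rw [MulEquiv.symm_apply_apply]
      exact hg
    rcases lineStab_maximal Q hQ hn e (e_ne_zero Q hp) hp.hu _ hPK with h | h
    · left
      ext g
      have hK' : ∀ x, α x ∈ K ↔ x ∈ P := fun x => by
        have : x ∈ K.comap α.toMonoidHom ↔ x ∈ P := by rw [h]
        exact this
      rw [hH, ← hK', MulEquiv.apply_symm_apply]
    · right
      rw [eq_top_iff]
      intro g _
      have : α.symm g ∈ K.comap α.toMonoidHom := by rw [h]; exact Subgroup.mem_top _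
      have h1 : α (α.symm g) ∈ K := this
      rwa [MulEquiv.apply_symm_apply] at h1
  -- the fixed space of `A`
  let U : Submodule F (ι → F) :=
    { carrier := {v | ∀ a ∈ A, lo Q a v = v}
      add_mem' := by
        intro x y hx hy a ha
        rw [map_add, hx a ha, hy a ha]
      zero_mem' := fun a _ => map_zero _
      smul_mem' := by
        intro c x hx a ha
        rw [map_smul, hx a ha] }
  have hUmem : ∀ v, v ∈ U ↔ ∀ a ∈ A, lo Q a v = v := fun v => Iff.rfl
  have htop_ne : (⊤ : Submodule F (ι → F)) ≠ ⊥ := by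
    intro h
    have h1 : e ∈ (⊤ : Submodule F (ι → F)) := Submodule.mem_top
    rw [h, Submodule.mem_bot] at h1
    exact e_ne_zero Q hp h1
  have hU0 : U ≠ ⊥ := by
    obtain ⟨v, -, hv0, hv⟩ := pfix_lin Q hpF A hAp ⊤ htop_ne (fun _ _ _ _ => Submodule.mem_top)
    intro h
    have : v ∈ U := hv
    rw [h, Submodule.mem_bot] at this
    exact hv0 this
  have hUtop : U ≠ ⊤ := by
    intro h
    obtain ⟨a, ha, ha1⟩ := hAne
    apply ha1
    apply lo_injective Q
    apply LinearMap.ext
    intro v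
    have : v ∈ U := by rw [h]; exact Submodule.mem_top
    rw [this a ha, lo_one_apply]
  have hHU : H ≤ subStab Q U := by
    intro h hh
    apply mem_subStab_of_map_le
    intro v hv a ha
    have h1 : h⁻¹ * a * h ∈ A := by
      have := hAn h⁻¹ (Subgroup.inv_mem _ hh) a ha
      simpa using this
    have e1 : a * h = h * (h⁻¹ * a * h) := by group
    rw [← lo_mul_apply, e1, lo_mul_apply, hv _ h1]
  have hfrtop : 5 ≤ finrank F (⊤ : Submodule F (ι → F)) := by
    rw [finrank_top']; omega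
  have hstab_ne : ∀ M : Submodule F (ι → F), M ≠ ⊥ → M ≠ ⊤ → subStab Q M ≠ ⊤ := by
    intro M hM0 hMtop h
    apply hMtop
    apply irr Q hQ ⊤ (disjoint_top Q hQ) hfrtop M le_top hM0
    intro u w _ _ hu huw x hx
    have h1 : sOf Q hQ hn u w ∈ subStab Q M := by rw [h]; exact Subgroup.mem_top _
    have h3 := ((mem_subStab Q M _).1 h1 x).1 hx
    rwa [lo_sOf Q hQ hn u w hu huw] at h3
  have hHeqU : H = subStab Q U := by
    rcases hmaxH _ hHU with h | h
    · exact h.symm
    · exact absurd h (hstab_ne U hU0 hUtop)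
  -- the radical of `U`
  set U0 : Submodule F (ι → F) := U ⊓ orthC Q U with hU0def
  have hU0ne : U0 ≠ ⊥ := by
    intro h0
    have hd : Disjoint U (orthC Q U) := disjoint_iff.2 h0
    have hOne : orthC Q U ≠ ⊥ := by
      intro h
      have h1 := finrank_add_finrank_orthC Q hQ U
      rw [h, finrank_bot, add_zero] at h1
      apply hUtop
      apply Submodule.eq_top_of_finrank_eq
      rw [h1, Module.finrank_fintype_fun_eq_card]
    obtain ⟨v, hvO, hv0, hv⟩ := pfix_lin Q hpF A hAp (orthC Q U) hOne (by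
      intro a ha v hv
      have h1 : a ∈ subStab Q (orthC Q U) :=
        subStab_le_subStab_orthC Q U (hHU (hAH ha))
      exact ((mem_subStab Q _ a).1 h1 v).1 hv)
    have hvU : v ∈ U := hv
    have : v ∈ U0 := ⟨hvU, hvO⟩
    rw [h0, Submodule.mem_bot] at this
    exact hv0 this
  have hts : ∀ v ∈ U0, Q v = 0 := by
    rintro v ⟨hv1, hv2⟩
    have h1 : B v v = 0 := (mem_orthC Q U v).1 hv2 v hv1
    rw [polar_self'] at h1
    rcases mul_eq_zero.1 h1 with h | h
    · exact absurd h h2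
    · exact h
  have hHU0 : H ≤ subStab Q U0 := by
    intro h hh
    have h1 := hHU hh
    have h3 := subStab_le_subStab_orthC Q U h1
    apply mem_subStab_of_map_le
    rintro v ⟨hv1, hv2⟩
    exact ⟨((mem_subStab Q U h).1 h1 v).1 hv1, ((mem_subStab Q _ h).1 h3 v).1 hv2⟩
  have hHeq : H = subStab Q U0 := by
    rcases hmaxH _ hHU0 with h | h
    · exact h.symm
    · obtain ⟨g, hg⟩ := subStab_ne_top Q hQ hn U0 hU0ne hts
      exact absurd (by rw [h]; exact Subgroup.mem_top _) hg
  by_cases hk : finrank F U0 = 1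
  · obtain ⟨e', he'U, he'0⟩ := Submodule.exists_mem_ne_zero_of_ne_bot hU0ne
    have hspan : Submodule.span F {e'} = U0 := by
      apply Submodule.eq_of_le_of_finrank_eq
      · rw [Submodule.span_le]
        intro x hx
        rw [Set.mem_singleton_iff] at hx
        rw [hx]; exact he'U
      · rw [hk, finrank_span_singleton he'0]
    refine ⟨e', he'0, hts e' he'U, fun g => ?_⟩
    rw [← subStab_span_singleton Q e' he'0, hspan, ← hHeq, hH]
    show g ∈ P ↔ α.symm (α g) ∈ P
    rw [MulEquiv.symm_apply_apply]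
  · exfalso
    have hk2 : 2 ≤ finrank F U0 := by
      have : 0 < finrank F U0 := by
        rw [Module.finrank_pos_iff_exists_ne_zero]
        obtain ⟨x, hx, hx0⟩ := Submodule.exists_mem_ne_zero_of_ne_bot hU0ne
        exact ⟨⟨x, hx⟩, fun h => hx0 (congrArg Subtype.val h)⟩
      omega
    -- the unipotent radical
    have hRp : IsPGroup p (Rgrp Q U0) := isPGroup_Rgrp Q hn U0 hts hp3
    have hRH : Rgrp Q U0 ≤ H := by rw [hHeq]; exact Rgrp_le_subStab Q U0
    set R' : Subgroup ↥(Cfsg.Omega F ⇑Q) := (Rgrp Q U0).comap α.toMonoidHom with hR'def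
    have hR' : ∀ g, g ∈ R' ↔ α g ∈ Rgrp Q U0 := fun g => Iff.rfl
    have hR'P : R' ≤ P := by
      intro g hg
      have h1 := hRH ((hR' g).1 hg)
      rw [hH] at h1
      rwa [MulEquiv.symm_apply_apply] at h1
    have hR'n : ∀ h ∈ P, ∀ g ∈ R', h * g * h⁻¹ ∈ R' := by
      intro h hh g hg
      rw [hR', map_mul, map_mul, map_inv]
      apply Rgrp_normalized Q U0 _ _ _ ((hR' g).1 hg)
      rw [← hHeq, hH, MulEquiv.symm_apply_apply]
      exact hh
    have hR'p : IsPGroup p R' := hRp.comap_of_injective α.toMonoidHom α.injective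
    have hR'S : R' ≤ S := normal_pgroup_le Q hQ hn hp R' hR'P hR'n hR'p
    -- two non-commuting elements
    obtain ⟨a, haU, ha0⟩ := Submodule.exists_mem_ne_zero_of_ne_bot hU0ne
    obtain ⟨b, hbU, hb⟩ := exists_mem_not_smul U0 hk2 a
    have hw : ∃ w ∈ orthC Q U0, Q w ≠ 0 := by
      by_contra hcon
      push Not at hcon
      have h1 := ts_finrank_le Q hQ (orthC Q U0) hcon
      have h3 := ts_finrank_le Q hQ U0 hts
      have h4 := finrank_add_finrank_orthC Q hQ U0
      exact hmax U0 hts (by omega)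
    obtain ⟨w, hwO, hwQ⟩ := hw
    have hUU := polar_eq_zero_of_ts Q U0 hts
    have hx : sOf Q hQ hn a w ∈ Rgrp Q U0 := sOf_mem_Rgrp Q hQ hn U0 hts a w haU hwO
    have hy : sOf Q hQ hn b w ∈ Rgrp Q U0 := sOf_mem_Rgrp Q hQ hn U0 hts b w hbU hwO
    have hx' : α.symm (sOf Q hQ hn a w) ∈ S := hR'S (by
      rw [hR', MulEquiv.apply_symm_apply]; exact hx)
    have hy' : α.symm (sOf Q hQ hn b w) ∈ S := hR'S (by
      rw [hR', MulEquiv.apply_symm_apply]; exact hy)
    have hcomm := siegelGrp_comm Q hQ e hp.hu _ hx' _ hy'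
    rw [← map_mul, ← map_mul] at hcomm
    have hcomm' := α.symm.injective hcomm
    exact sOf_not_comm Q hQ hn h2 a b w (hts a haU) (hts b hbU) (hUU a b haU hbU)
      ((mem_orthC Q U0 w).1 hwO a haU) ((mem_orthC Q U0 w).1 hwO b hbU) hwQ ha0 hb hcomm'

end frame

end Cfsg.Agent.Lib.Helper46.AO
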