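import Mathlib

set_option autoImplicit false

namespace Cfsg.Agent.Lib.Helper46

open Finset Polynomial

section

variable {q r : ℕ} [Fact r.Prime]

theorem dvd_pow_sub_one_iff (hq : 0 < q) (i : ℕ) :
    r ∣ q ^ i - 1 ↔ orderOf (q : ZMod r) ∣ i := by
  have h1 : 1 ≤ q ^ i := Nat.one_le_pow _ _ hq
  rw [orderOf_dvd_iff_pow_eq_one, ← ZMod.natCast_eq_zero_iff, Nat.cast_sub h1, Nat.cast_pow,
    Nat.cast_one, sub_eq_zero]

theorem orderOf_zmod_pos (hrq : ¬ r ∣ q) : 0 < orderOf (q : ZMod r) := by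
  rw [orderOf_pos_iff, isOfFinOrder_iff_pow_eq_one]
  have hr : r.Prime := Fact.out
  refine ⟨r - 1, Nat.sub_pos_of_lt hr.one_lt, ?_⟩
  apply ZMod.pow_card_sub_one_eq_one
  rwa [Ne, ZMod.natCast_eq_zero_iff]

theorem orderOf_zmod_lt (hrq : ¬ r ∣ q) : orderOf (q : ZMod r) < r := by
  have hr : r.Prime := Fact.out
  have h : (q : ZMod r) ^ (r - 1) = 1 := by
    apply ZMod.pow_card_sub_one_eq_one
    rwa [Ne, ZMod.natCast_eq_zero_iff]
  have := Nat.le_of_dvd (Nat.sub_pos_of_lt hr.one_lt) (orderOf_dvd_of_pow_eq_one h)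
  have := hr.one_lt
  omega

/-- `x ≡ 1 (mod r)` and `0 < k < r`: the `r`-adic valuations of `x^k - 1` and `x - 1` agree. -/
theorem padicVal_pow_sub_one (x k : ℕ) (hx2 : 2 ≤ x) (hx : r ∣ x - 1) (hk : 0 < k) (hkr : k < r) :
    padicValNat r (x ^ k - 1) = padicValNat r (x - 1) := by
  have h1 : 1 ≤ x ^ k := Nat.one_le_pow _ _ (by omega)
  have hgeom : (∑ j ∈ range k, x ^ j) * (x - 1) = x ^ k - 1 := by
    zify [h1, (by omega : 1 ≤ x)]
    exact geom_sum_mul (x : ℤ) k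
  have hx1 : ((x : ℕ) : ZMod r) = 1 := by
    have : (((x - 1 : ℕ)) : ZMod r) = 0 := (ZMod.natCast_eq_zero_iff _ _).2 hx
    rw [Nat.cast_sub (by omega : 1 ≤ x), Nat.cast_one, sub_eq_zero] at this
    exact this
  have hS : ¬ r ∣ ∑ j ∈ range k, x ^ j := by
    rw [← ZMod.natCast_eq_zero_iff]
    push_cast
    rw [hx1]
    simp only [one_pow, sum_const, card_range, nsmul_eq_mul, mul_one]
    rw [ZMod.natCast_eq_zero_iff]
    intro hdvd
    exact absurd (Nat.le_of_dvd hk hdvd) (by omega)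
  have hS0 : (∑ j ∈ range k, x ^ j) ≠ 0 := by
    intro h0
    rw [h0] at hS
    exact hS (dvd_zero r)
  rw [← hgeom, padicValNat.mul hS0 (by omega), padicValNat.eq_zero_of_not_dvd hS, zero_add]

/-- The valuation of `Φ_d(q)` for `d` the order of `q` modulo `r`. -/
theorem padicVal_cyclotomic (hq2 : 2 ≤ q) (hrq : ¬ r ∣ q) :
    padicValNat r ((cyclotomic (orderOf (q : ZMod r)) ℤ).eval (q : ℤ)).natAbs
      = padicValNat r (q ^ orderOf (q : ZMod r) - 1) := by
  set d := orderOf (q : ZMod r) with hd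
  have hr : r.Prime := Fact.out
  have hdpos : 0 < d := orderOf_zmod_pos hrq
  have hprod : (∏ e ∈ d.divisors, (cyclotomic e ℤ).eval (q : ℤ)) = (q : ℤ) ^ d - 1 := by
    rw [← eval_prod, prod_cyclotomic_eq_X_pow_sub_one hdpos]
    simp
  rw [← Nat.insert_self_properDivisors hdpos.ne', prod_insert (Nat.self_notMem_properDivisors)] at hprod
  set T := ∏ e ∈ d.properDivisors, (cyclotomic e ℤ).eval (q : ℤ) with hT
  have hTr : ¬ (r : ℤ) ∣ T := by
    intro hdvd
    have hrZ : Prime (r : ℤ) := Nat.prime_iff_prime_int.1 hr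
    obtain ⟨e, he, hre⟩ := (Prime.dvd_finsetProd_iff hrZ _).1 hdvd
    rw [Nat.mem_properDivisors] at he
    have hepos : 0 < e := Nat.pos_of_dvd_of_pos he.1 hdpos
    have h2 : (cyclotomic e ℤ).eval (q : ℤ) ∣ (q : ℤ) ^ e - 1 := by
      have := eval_dvd (x := (q : ℤ)) (cyclotomic.dvd_X_pow_sub_one e ℤ)
      simpa using this
    have h3 : (r : ℤ) ∣ (q : ℤ) ^ e - 1 := dvd_trans hre h2
    have h1 : 1 ≤ q ^ e := Nat.one_le_pow _ _ (by omega)
    have h4 : r ∣ q ^ e - 1 := by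
      have : ((q ^ e - 1 : ℕ) : ℤ) = (q : ℤ) ^ e - 1 := by
        rw [Nat.cast_sub h1]; simp
      rw [← this] at h3
      exact Int.natCast_dvd_natCast.1 h3
    have h5 := (dvd_pow_sub_one_iff (r := r) (by omega : 0 < q) e).1 h4
    have := Nat.le_of_dvd hepos h5
    omega
  have h1 : 1 ≤ q ^ d := Nat.one_le_pow _ _ (by omega)
  have hnat : ((cyclotomic d ℤ).eval (q : ℤ)).natAbs * T.natAbs = q ^ d - 1 := by
    rw [← Int.natAbs_mul, hprod]
    have : (q : ℤ) ^ d - 1 = ((q ^ d - 1 : ℕ) : ℤ) := by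
      rw [Nat.cast_sub h1]; simp
    rw [this, Int.natAbs_natCast]
  have hne : q ^ d - 1 ≠ 0 := by
    have : 2 ^ d ≤ q ^ d := Nat.pow_le_pow_left hq2 d
    have : 2 ≤ 2 ^ d := by
      calc 2 = 2 ^ 1 := by norm_num
        _ ≤ 2 ^ d := Nat.pow_le_pow_right (by norm_num) hdpos
    omega
  have hT0 : T.natAbs ≠ 0 := by
    intro h0
    rw [h0, mul_zero] at hnat
    exact hne hnat.symm
  have hC0 : ((cyclotomic d ℤ).eval (q : ℤ)).natAbs ≠ 0 := by
    intro h0
    rw [h0, zero_mul] at hnat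
    exact hne hnat.symm
  have hTr' : ¬ r ∣ T.natAbs := by
    intro h
    exact hTr (Int.natCast_dvd.2 h)
  rw [← hnat, padicValNat.mul hC0 hT0, padicValNat.eq_zero_of_not_dvd hTr', add_zero]

/-- The valuation of `∏_{j<n} (q^(j+1) - 1)`. -/
theorem padicVal_prod_pow_sub_one (hq2 : 2 ≤ q) (hrq : ¬ r ∣ q) (n : ℕ) (hn : n < r) :
    padicValNat r (∏ j ∈ range n, (q ^ (j + 1) - 1))
      = padicValNat r (q ^ orderOf (q : ZMod r) - 1) * (n / orderOf (q : ZMod r)) := by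
  set d := orderOf (q : ZMod r) with hd
  have hdpos : 0 < d := orderOf_zmod_pos hrq
  have hne : ∀ j, q ^ (j + 1) - 1 ≠ 0 := by
    intro j
    have : 2 ^ (j + 1) ≤ q ^ (j + 1) := Nat.pow_le_pow_left hq2 _
    have : 2 ≤ 2 ^ (j + 1) := by
      calc 2 = 2 ^ 1 := by norm_num
        _ ≤ 2 ^ (j + 1) := Nat.pow_le_pow_right (by norm_num) (by omega)
    omega
  induction n with
  | zero => simp
  | succ n ih =>
    have ih' := ih (by omega)
    rw [prod_range_succ, padicValNat.mul (prod_ne_zero_iff.2 fun j _ => hne j) (hne n), ih',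
      Nat.succ_div]
    by_cases hdn : d ∣ n + 1
    · rw [if_pos hdn]
      obtain ⟨k, hk⟩ := hdn
      have hkpos : 0 < k := by
        rcases Nat.eq_zero_or_pos k with h | h
        · rw [h, mul_zero] at hk; omega
        · exact h
      have hkr : k < r := by
        have : k ≤ n + 1 := by
          rw [hk]; exact Nat.le_mul_of_pos_left k hdpos
        omega
      have hx2 : 2 ≤ q ^ d := by
        have : 2 ^ d ≤ q ^ d := Nat.pow_le_pow_left hq2 d
        have : 2 ≤ 2 ^ d := by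
          calc 2 = 2 ^ 1 := by norm_num
            _ ≤ 2 ^ d := Nat.pow_le_pow_right (by norm_num) hdpos
        omega
      have hx : r ∣ q ^ d - 1 := (dvd_pow_sub_one_iff (by omega) d).2 (dvd_refl d)
      have := padicVal_pow_sub_one (r := r) (q ^ d) k hx2 hx hkpos hkr
      rw [← pow_mul, ← hk] at this
      rw [this]
      ring
    · rw [if_neg hdn]
      have : ¬ r ∣ q ^ (n + 1) - 1 := fun h => hdn ((dvd_pow_sub_one_iff (by omega) (n + 1)).1 h)
      rw [padicValNat.eq_zero_of_not_dvd this]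
      ring

/-- The valuation of the order of `GL_n(q)`. -/
theorem padicVal_card_gl (hq2 : 2 ≤ q) (hrq : ¬ r ∣ q) (n : ℕ) (hn : n < r) :
    padicValNat r (∏ i : Fin n, (q ^ n - q ^ (i : ℕ)))
      = padicValNat r (q ^ orderOf (q : ZMod r) - 1) * (n / orderOf (q : ZMod r)) := by
  rw [← padicVal_prod_pow_sub_one hq2 hrq n hn]
  have h1 : ∏ i : Fin n, (q ^ n - q ^ (i : ℕ)) = ∏ i ∈ range n, (q ^ n - q ^ i) :=
    (Finset.prod_range (fun i => q ^ n - q ^ i)).symm
  have h2 : ∏ i ∈ range n, (q ^ n - q ^ i)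
      = (∏ i ∈ range n, q ^ i) * ∏ i ∈ range n, (q ^ (n - 1 - i + 1) - 1) := by
    rw [← prod_mul_distrib]
    apply prod_congr rfl
    intro i hi
    rw [mem_range] at hi
    have : n = i + (n - 1 - i + 1) := by omega
    conv_lhs => rw [this, pow_add]
    rw [Nat.mul_sub, mul_one]
  have h3 : ∏ i ∈ range n, (q ^ (n - 1 - i + 1) - 1) = ∏ j ∈ range n, (q ^ (j + 1) - 1) :=
    Finset.prod_range_reflect (fun j => q ^ (j + 1) - 1) n
  have hr : r.Prime := Fact.out
  have hq0 : ∏ i ∈ range n, q ^ i ≠ 0 := prod_ne_zero_iff.2 fun i _ => pow_ne_zero _ (by omega)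
  have hne : ∀ j, q ^ (j + 1) - 1 ≠ 0 := by
    intro j
    have : 2 ^ (j + 1) ≤ q ^ (j + 1) := Nat.pow_le_pow_left hq2 _
    have : 2 ≤ 2 ^ (j + 1) := by
      calc 2 = 2 ^ 1 := by norm_num
        _ ≤ 2 ^ (j + 1) := Nat.pow_le_pow_right (by norm_num) (by omega)
    omega
  have hrq' : ¬ r ∣ ∏ i ∈ range n, q ^ i := by
    intro h
    obtain ⟨i, _, hi⟩ := (Prime.dvd_finsetProd_iff (Nat.prime_iff.1 hr) _).1 h
    exact hrq (hr.dvd_of_dvd_pow hi)
  rw [h1, h2, h3, padicValNat.mul hq0 (prod_ne_zero_iff.2 fun j _ => hne j),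
    padicValNat.eq_zero_of_not_dvd hrq', zero_add]

end

end Cfsg.Agent.Lib.Helper46
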