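import Mathlib

/-!
# K-A4O-L8d (keystone 406810, S4068 pack of helper72)

`q = 2^n`, `q - 1 ∈ {1, prime}`, `q + 1` prime => `q = 2` or `q = 4`; a finite field of characteristic 2 has
`2^n` elements, `1 ≤ n`.  Mathlib only.
-/

set_option autoImplicit false

namespace Cfsg.Agent.Lib.Helper46.A4O

theorem two_or_four (q n : ℕ) (hn : 1 ≤ n) (hq : q = 2 ^ n) (h1 : q - 1 = 1 ∨ (q - 1).Prime)
    (h2 : (q + 1).Prime) : q = 2 ∨ q = 4 := by
  have hq2 : 2 ≤ q := by
    rw [hq]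
    calc 2 = 2 ^ 1 := by norm_num
      _ ≤ 2 ^ n := Nat.pow_le_pow_right (by norm_num) hn
  have h3 : ¬ 3 ∣ q := by
    rw [hq]
    intro h
    have h' := Nat.Prime.dvd_of_dvd_pow Nat.prime_three h
    omega
  have h4 : 3 ∣ q - 1 ∨ 3 ∣ q + 1 := by omega
  rcases h4 with h4 | h4
  · rcases h1 with h1 | h1
    · rw [h1] at h4; omega
    · have := (Nat.prime_dvd_prime_iff_eq Nat.prime_three h1).1 h4
      right; omega
  · have := (Nat.prime_dvd_prime_iff_eq Nat.prime_three h2).1 h4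
    left; omega

theorem card_eq_two_pow {F : Type} [Field F] [Fintype F] [CharP F 2] :
    ∃ n : ℕ, 1 ≤ n ∧ Fintype.card F = 2 ^ n := by
  obtain ⟨n, _, hn⟩ := FiniteField.card F 2
  exact ⟨n, n.pos, hn⟩

end Cfsg.Agent.Lib.Helper46.A4O
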