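import Mathlib
import Cfsg.Agent.Lib.Helper70.AGDefs
import Cfsg.Agent.Lib.Helper57.AGA3
import Cfsg.Agent.Lib.Helper03.AGA2

set_option autoImplicit false

/-!
# K-4188 leaf A4 (S4188): Frattini index bound from two jointly injective homomorphisms
-/

namespace Cfsg.Agent.Lib.Helper46.AG

open Cfsg.Agent.Lib.Helper70.AG

theorem frattini_index_le_of_two_homs {X Y₁ Y₂ : Type*} [Group X] [Finite X] [Group Y₁] [Group Y₂]
    (hX : IsPGroup 2 X) (φ₁ : X →* Y₁) (φ₂ : X →* Y₂)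
    (hinj : ∀ x : X, φ₁ x = 1 → φ₂ x = 1 → x = 1) (B₁ B₂ : ℕ)
    (h₁ : ∀ S : Subgroup Y₁, Finite S → IsPGroup 2 S → (frattini ↥S).index ≤ B₁)
    (h₂ : ∀ S : Subgroup Y₂, Finite S → IsPGroup 2 S → (frattini ↥S).index ≤ B₂) :
    (frattini X).index ≤ B₁ * B₂ := by
  have hA2 := Cfsg.Agent.Lib.Helper03.AG.frattini_index_le_mul hX φ₁.ker
  -- the quotient
  have e1 : X ⧸ φ₁.ker ≃* ↥φ₁.range := QuotientGroup.quotientKerEquivRange φ₁
  have hfin1 : Finite ↥φ₁.range := Finite.of_surjective φ₁.rangeRestrict φ₁.rangeRestrict_surjective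
  have hp1 : IsPGroup 2 ↥φ₁.range := hX.of_surjective φ₁.rangeRestrict φ₁.rangeRestrict_surjective
  have hq : (frattini (X ⧸ φ₁.ker)).index ≤ B₁ := by
    rw [Cfsg.Agent.Lib.Helper57.AG.frattini_index_congr e1]
    exact h₁ φ₁.range hfin1 hp1
  -- the kernel
  let ψ : ↥φ₁.ker →* Y₂ := φ₂.comp φ₁.ker.subtype
  have hψ : Function.Injective ψ := by
    rw [injective_iff_map_eq_one]
    intro k hk
    apply Subtype.ext
    exact hinj k.1 (MonoidHom.mem_ker.mp k.2) hk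
  have e2 : ↥φ₁.ker ≃* ↥ψ.range := MonoidHom.ofInjective hψ
  have hfin2 : Finite ↥ψ.range := Finite.of_surjective ψ.rangeRestrict ψ.rangeRestrict_surjective
  have hpK : IsPGroup 2 ↥φ₁.ker := hX.to_subgroup φ₁.ker
  have hp2 : IsPGroup 2 ↥ψ.range := hpK.of_surjective ψ.rangeRestrict ψ.rangeRestrict_surjective
  have hk : (frattini ↥φ₁.ker).index ≤ B₂ := by
    rw [Cfsg.Agent.Lib.Helper57.AG.frattini_index_congr e2]
    exact h₂ ψ.range hfin2 hp2
  exact hA2.trans (Nat.mul_le_mul hq hk)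

end Cfsg.Agent.Lib.Helper46.AG
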