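import Mathlib
import Cfsg.Agent.Lib.Helper70.AGDefs
import Cfsg.Agent.Lib.Helper03.PGroupFrattini

set_option autoImplicit false

/-!
# K-4188 leaf A6 (S4188): a non-abelian 2-group of order at most 8 has Frattini index at most 4
-/

namespace Cfsg.Agent.Lib.Helper46.AG

open Cfsg.Agent.Lib.Helper70.AG
open scoped commutatorElement

theorem frattini_index_le_four_of_card_le_eight {X : Type*} [Group X] [Finite X] (hX : IsPGroup 2 X)
    (hcard : Nat.card X ≤ 8) (hnc : ∃ a b : X, a * b ≠ b * a) : (frattini X).index ≤ 4 := by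
  obtain ⟨a, b, hab⟩ := hnc
  have : Fact (Nat.Prime 2) := ⟨Nat.prime_two⟩
  have hle : commutator X ≤ frattini X :=
    Cfsg.Agent.Lib.Helper03.commutator_le_frattini_of_isPGroup hX
  have hmem : ⁅a, b⁆ ∈ frattini X := hle (Subgroup.commutator_mem_commutator (Subgroup.mem_top a) (Subgroup.mem_top b))
  have hne : ⁅a, b⁆ ≠ 1 := by
    intro h
    apply hab
    rw [commutatorElement_eq_one_iff_mul_comm] at h
    exact h
  have h2 : 2 ≤ Nat.card ↥(frattini X) := by
    have hnt : Nontrivial ↥(frattini X) := ⟨⟨⟨⁅a, b⁆, hmem⟩, 1, fun h => hne (congrArg Subtype.val h)⟩⟩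
    exact Finite.one_lt_card
  have hmul := Subgroup.card_mul_index (frattini X)
  nlinarith
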