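import Cfsg.Agent.Lib.Helper46.AOLocC
import Cfsg.Agent.Lib.Helper43.AutOm6

set_option autoImplicit false
set_option linter.unusedSimpArgs false
set_option linter.unusedVariables false
set_option linter.unusedSectionVars false

/-! Bridge between the `Ω`-level local analysis (`AO*`) and the `PΩ`-level rigidity
(`Helper43.AutOm*`): Siegel elements, trivial centre in odd dimension, inner automorphisms. -/

namespace Cfsg.Agent.Lib.Helper46.AO

open Module Matrix Cfsg.Agent.Lib.Helper19 Cfsg.Agent.Lib.Helper43 Cfsg.Agent.Lib.Helper08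

variable {F : Type*} [Field F] [Fintype F] {ι : Type} [Fintype ι] [DecidableEq ι]
variable (Q : QuadraticForm F (ι → F))

local notation "B" => QuadraticMap.polarBilin Q

variable (hQ : (QuadraticMap.polarBilin Q).Nondegenerate) (hn : 7 ≤ Fintype.card ι)

include hQ hn

/-- the two versions of the Siegel element agree -/
theorem sg_eq_sOf (u w : ι → F) (hu : Q u = 0) (huw : B u w = 0) :
    AutOm.sg Q hQ hn u w = sOf Q hQ hn u w := by
  apply lo_injective Q
  apply LinearMap.ext
  intro x
  rw [AutOm.lo_sg Q hQ hn u w hu huw, lo_sOf Q hQ hn u w hu huw, siegelLin_apply]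

/-- in odd dimension and odd characteristic the centre of `Ω` is trivial -/
theorem center_eq_bot_of_odd (hodd : Odd (Fintype.card ι)) (h2 : (2 : F) ≠ 0) :
    Subgroup.center ↥(Cfsg.Omega F ⇑Q) = ⊥ := by
  rw [Subgroup.eq_bot_iff_forall]
  intro z hz
  obtain ⟨c, hc, hcc⟩ := AutOm.center_scalar Q hQ hn z hz
  have hc1 : c = 1 ∨ c = -1 := by
    have h : (c - 1) * (c + 1) = 0 := by linear_combination hcc
    rcases mul_eq_zero.1 h with h | h
    · left; linear_combination h
    · right; linear_combination h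
  rcases hc1 with rfl | rfl
  · apply lo_injective Q
    apply LinearMap.ext
    intro v
    rw [hc, lo_one_apply, one_smul]
  · exfalso
    set d : ↥(Cfsg.isometryGroup F ⇑Q) →* Fˣ :=
      Matrix.GeneralLinearGroup.det.comp (Subgroup.subtype _) with hd
    have h1 : (z : ↥(Cfsg.isometryGroup F ⇑Q)) ∈ d.ker :=
      Abelianization.commutator_subset_ker d z.2
    have h3 : ((((z : ↥(Cfsg.isometryGroup F ⇑Q)) : GL ι F)) : Matrix ι ι F).det = 1 := by
      have h4 : d (z : ↥(Cfsg.isometryGroup F ⇑Q)) = 1 := h1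
      have h5 := congrArg (fun x : Fˣ => (x : F)) h4
      simpa [hd] using h5
    have h6 : ((((z : ↥(Cfsg.isometryGroup F ⇑Q)) : GL ι F)) : Matrix ι ι F) = -1 := by
      apply Matrix.toLin'.injective
      apply LinearMap.ext
      intro v
      have h7 := hc v
      unfold lo at h7
      rw [linOf_apply] at h7
      rw [Matrix.toLin'_apply, h7]
      simp
    rw [h6, Matrix.det_neg, Matrix.det_one, mul_one, hodd.neg_one_pow] at h3
    apply h2
    linear_combination -h3

/-- inner automorphisms of `PΩ` lie in `PΓO` -/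
theorem conj_mem_gamma (s : ↥(Cfsg.Omega F ⇑Q)) :
    MulAut.conj (AutOm.pi Q s) ∈ Cfsg.gammaPOmega F (⇑Q) := by
  unfold Cfsg.gammaPOmega Cfsg.autSubgroupOf
  apply Subgroup.subset_closure
  refine ⟨((s : ↥(Cfsg.isometryGroup F ⇑Q)) : GL ι F), RingEquiv.refl F, ⟨1, fun v => ?_⟩, ?_⟩
  · have h := (Cfsg.Agent.Lib.Helper19.mem_isometryGroup_iff (⇑Q) _).1
      (s : ↥(Cfsg.isometryGroup F ⇑Q)).2 v
    simpa using h
  · intro s₁ s' hss'
    have h1 : s' = s * s₁ * s⁻¹ := by
      apply Omega_ext
      rw [hss']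
      simp [Matrix.map_id]
    rw [h1]
    rfl

end Cfsg.Agent.Lib.Helper46.AO
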