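import Cfsg.Agent.Lib.Helper46.AOFinA

set_option autoImplicit false
set_option linter.unusedSimpArgs false
set_option linter.unusedVariables false
set_option linter.unusedSectionVars false

/-! `Aut(PΩ(Q)) = PΓO(Q)` for a nondegenerate quadratic form of odd dimension at least 7 over a
finite field of odd characteristic. -/

namespace Cfsg.Agent.Lib.Helper46.AO

open Module Matrix Cfsg.Agent.Lib.Helper19 Cfsg.Agent.Lib.Helper43 Cfsg.Agent.Lib.Helper08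

variable {F : Type*} [Field F] [Fintype F] {ι : Type} [Fintype ι] [DecidableEq ι]
variable (Q : QuadraticForm F (ι → F))

local notation "B" => QuadraticMap.polarBilin Q

section lift

variable (hZ : Subgroup.center ↥(Cfsg.Omega F ⇑Q) = ⊥)

include hZ

theorem pi_injective_of_center : Function.Injective (AutOm.pi Q) := by
  rw [← MonoidHom.ker_eq_bot_iff]
  unfold AutOm.pi
  rw [QuotientGroup.ker_mk']
  exact hZ

/-- `Ω ≃* PΩ` when the centre is trivial -/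
noncomputable def piE : ↥(Cfsg.Omega F ⇑Q) ≃* Cfsg.POmega F ⇑Q :=
  MulEquiv.ofBijective (AutOm.pi Q) ⟨pi_injective_of_center Q hZ, AutOm.pi_surjective Q⟩

theorem piE_apply (g : ↥(Cfsg.Omega F ⇑Q)) : piE Q hZ g = AutOm.pi Q g := rfl

/-- lift of an automorphism of `PΩ` to `Ω` -/
noncomputable def liftA (β : MulAut (Cfsg.POmega F ⇑Q)) :
    ↥(Cfsg.Omega F ⇑Q) ≃* ↥(Cfsg.Omega F ⇑Q) :=
  (piE Q hZ).trans (β.trans (piE Q hZ).symm)

theorem pi_liftA (β : MulAut (Cfsg.POmega F ⇑Q)) (g : ↥(Cfsg.Omega F ⇑Q)) :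
    AutOm.pi Q (liftA Q hZ β g) = β (AutOm.pi Q g) := by
  unfold liftA
  rw [MulEquiv.trans_apply, MulEquiv.trans_apply, ← piE_apply Q hZ, MulEquiv.apply_symm_apply]
  rfl

theorem map_map_eq (β : MulAut (Cfsg.POmega F ⇑Q)) (H H' : Subgroup ↥(Cfsg.Omega F ⇑Q))
    (h : ∀ g, g ∈ H ↔ liftA Q hZ β g ∈ H') :
    (H.map (AutOm.pi Q)).map β.toMonoidHom = H'.map (AutOm.pi Q) := by
  ext x
  constructor
  · rintro ⟨y, ⟨g, hg, rfl⟩, rfl⟩
    refine ⟨liftA Q hZ β g, (h g).1 hg, ?_⟩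
    rw [pi_liftA]
    rfl
  · rintro ⟨g', hg', rfl⟩
    refine ⟨AutOm.pi Q ((liftA Q hZ β).symm g'), ⟨_, ?_, rfl⟩, ?_⟩
    · apply (h _).2
      rw [MulEquiv.apply_symm_apply]
      exact hg'
    · have h1 := pi_liftA Q hZ β ((liftA Q hZ β).symm g')
      rw [MulEquiv.apply_symm_apply] at h1
      exact h1.symm

end lift

variable (hQ : (QuadraticMap.polarBilin Q).Nondegenerate) (hn : 7 ≤ Fintype.card ι)

include hQ hn

theorem lo_apply_inv (k : ↥(Cfsg.Omega F ⇑Q)) (v : ι → F) : lo Q k (lo Q k⁻¹ v) = v := by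
  have h := lo_inv_apply Q k⁻¹ v
  rw [inv_inv] at h
  exact h

theorem conj_mem_siegelGrp (a b : ι → F) (ha : Q a = 0) (hb : Q b = 0)
    (k : ↥(Cfsg.Omega F ⇑Q)) (hk : lo Q k a = b) (x : ↥(Cfsg.Omega F ⇑Q))
    (hx : x ∈ siegelGrp Q hQ a ha) : k * x * k⁻¹ ∈ siegelGrp Q hQ b hb := by
  subst hk
  obtain ⟨v, hv, rfl⟩ := (AutOm.mem_siegelGrp_iff Q hQ hn a ha x).1 hx
  rw [AutOm.sg_conj Q hQ hn k a v ha hv]
  apply AutOm.sg_mem_siegelGrp Q hQ hn _ _ hb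
  rw [lo_polar]
  exact hv

theorem conj_mem_siegelGrp_iff (a b : ι → F) (ha : Q a = 0) (hb : Q b = 0)
    (k : ↥(Cfsg.Omega F ⇑Q)) (hk : lo Q k a = b) (x : ↥(Cfsg.Omega F ⇑Q)) :
    k * x * k⁻¹ ∈ siegelGrp Q hQ b hb ↔ x ∈ siegelGrp Q hQ a ha := by
  constructor
  · intro h
    have hk' : lo Q k⁻¹ b = a := by rw [← hk, lo_inv_apply]
    have h1 := conj_mem_siegelGrp Q hQ hn b a hb ha k⁻¹ hk' _ h
    have h2 : k⁻¹ * (k * x * k⁻¹) * k⁻¹⁻¹ = x := by group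
    rw [h2] at h1
    exact h1
  · exact conj_mem_siegelGrp Q hQ hn a b ha hb k hk x

variable {e f : ι → F}

/-- an automorphism of `Ω` carries (point stabiliser, Siegel group) to such a pair -/
theorem star_full (hp : HPair Q ⊤ e f) {p : ℕ} [Fact p.Prime] [CharP F p]
    (h2 : (2 : F) ≠ 0)
    (hmax : ∀ T : Submodule F (ι → F), (∀ t ∈ T, Q t = 0) → 2 * finrank F T ≠ Fintype.card ι)
    (α : ↥(Cfsg.Omega F ⇑Q) ≃* ↥(Cfsg.Omega F ⇑Q)) :
    ∃ (e' : ι → F) (he'0 : e' ≠ 0) (he' : Q e' = 0),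
      (∀ g, g ∈ lineStab Q e (e_ne_zero Q hp) ↔ α g ∈ lineStab Q e' he'0) ∧
      (∀ g, g ∈ siegelGrp Q hQ e hp.hu ↔ α g ∈ siegelGrp Q hQ e' he') := by
  obtain ⟨k, hk⟩ := exists_normalize Q hQ hn hp (p := p) h2 hmax α
  set α₁ : ↥(Cfsg.Omega F ⇑Q) ≃* ↥(Cfsg.Omega F ⇑Q) := α.trans (MulAut.conj k) with hα₁
  have hα₁a : ∀ g, α₁ g = k * α g * k⁻¹ := fun g => rfl
  have hst₁ : ∀ g, g ∈ lineStab Q e (e_ne_zero Q hp) ↔ α₁ g ∈ lineStab Q e (e_ne_zero Q hp) := by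
    intro g
    rw [hα₁a]
    exact hk g
  have hS := preserve_S_iff Q hQ hn hp (p := p) α₁ hst₁
  have hke : lo Q k (lo Q k⁻¹ e) = e := lo_apply_inv Q hQ hn k e
  have he'0 : lo Q k⁻¹ e ≠ 0 := lo_ne_zero Q k⁻¹ e (e_ne_zero Q hp)
  have he' : Q (lo Q k⁻¹ e) = 0 := by rw [lo_isometry]; exact hp.hu
  refine ⟨lo Q k⁻¹ e, he'0, he', fun g => ?_, fun g => ?_⟩
  · rw [hk g, mem_lineStab, mem_lineStab, lineStab_conj_iff Q k (α g) (lo Q k⁻¹ e), hke]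
  · rw [hS g, hα₁a]
    exact conj_mem_siegelGrp_iff Q hQ hn _ _ he' hp.hu k hke (α g)

/-- property `Star` for every automorphism of `PΩ`, when the centre of `Ω` is trivial
(odd characteristic, no totally singular subspace of half the dimension) -/
theorem star_PO (hZ : Subgroup.center ↥(Cfsg.Omega F ⇑Q) = ⊥) {p : ℕ} [Fact p.Prime] [CharP F p]
    (h2 : (2 : F) ≠ 0)
    (hmax : ∀ T : Submodule F (ι → F), (∀ t ∈ T, Q t = 0) → 2 * finrank F T ≠ Fintype.card ι)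
    (β : MulAut (Cfsg.POmega F ⇑Q)) : AutOm.Star Q hQ hn β := by
  intro u hu0 hu
  obtain ⟨f', hf', huf'⟩ := AutOm.exists_partner Q hQ hn u hu0 hu
  have hp : HPair Q ⊤ u f' := ⟨Submodule.mem_top, Submodule.mem_top, hu, hf', huf'⟩
  obtain ⟨e', he'0, he', h1, h3⟩ := star_full Q hQ hn hp (p := p) h2 hmax (liftA Q hZ β)
  refine ⟨e', he'0, he', ?_, ?_⟩
  · exact map_map_eq Q hZ β _ _ h1
  · exact map_map_eq Q hZ β _ _ h3

/-- **`Aut(PΩ(Q)) = PΓO(Q)`** in odd dimension `≥ 7`, odd characteristic -/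
theorem gamma_eq_top (hodd : Odd (Fintype.card ι)) (h2 : (2 : F) ≠ 0) :
    Cfsg.gammaPOmega F (⇑Q) = ⊤ := by
  set p := ringChar F with hpdef
  have hch : CharP F p := ringChar.charP F
  have hpp : Fact p.Prime := ⟨CharP.char_is_prime F p⟩
  have hZ := center_eq_bot_of_odd Q hQ hn hodd h2
  have hmax : ∀ T : Submodule F (ι → F), (∀ t ∈ T, Q t = 0) →
      2 * finrank F T ≠ Fintype.card ι := by
    intro T _ h
    rw [← h] at hodd
    exact (Nat.not_even_iff_odd.2 hodd) (even_two_mul _)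
  have hstar : ∀ β : MulAut (Cfsg.POmega F ⇑Q), AutOm.Star Q hQ hn β :=
    fun β => star_PO Q hQ hn hZ (p := p) h2 hmax β
  rw [eq_top_iff]
  intro β _
  obtain ⟨e, he0, he, _, _⟩ := AutOm.exists_orth_pair_ne_zero Q hQ hn 0 0
  obtain ⟨f, hf, hef⟩ := AutOm.exists_partner Q hQ hn e he0 he
  have hp : HPair Q ⊤ e f := ⟨Submodule.mem_top, Submodule.mem_top, he, hf, hef⟩
  set α := liftA Q hZ β with hα
  obtain ⟨k, hk⟩ := exists_normalize Q hQ hn hp (p := p) h2 hmax α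
  set α₁ : ↥(Cfsg.Omega F ⇑Q) ≃* ↥(Cfsg.Omega F ⇑Q) := α.trans (MulAut.conj k) with hα₁
  have hα₁a : ∀ g, α₁ g = k * α g * k⁻¹ := fun g => rfl
  have hst₁ : ∀ g, g ∈ lineStab Q e (e_ne_zero Q hp) ↔ α₁ g ∈ lineStab Q e (e_ne_zero Q hp) := by
    intro g
    rw [hα₁a]
    exact hk g
  obtain ⟨g, σ, h, _, hagree⟩ := exists_semi_agree Q (hQ := hQ) (hn := hn) hp (p := p) h2 α₁ hst₁
  set β' : MulAut (Cfsg.POmega F ⇑Q) :=
    (semiPO Q h)⁻¹ * (MulAut.conj (AutOm.pi Q k) * β) with hβ'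
  have hfix : ∀ w : ι → F, B e w = 0 →
      β' (AutOm.pi Q (AutOm.sg Q hQ hn e w)) = AutOm.pi Q (AutOm.sg Q hQ hn e w) := by
    intro w hw
    have hm := AutOm.sg_mem_siegelGrp Q hQ hn e w he hw
    obtain ⟨w', hw', hs⟩ := (mem_siegelGrp_iff Q hQ hn hp _).1 hm
    rw [hs]
    have h1 : MulAut.conj (AutOm.pi Q k) (β (AutOm.pi Q (sOf Q hQ hn e w'))) =
        semiPO Q h (AutOm.pi Q (sOf Q hQ hn e w')) := by
      rw [MulAut.conj_apply, ← pi_liftA Q hZ β, ← map_mul, ← map_inv, ← map_mul]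
      have h3 : k * liftA Q hZ β (sOf Q hQ hn e w') * k⁻¹ = α₁ (sOf Q hQ hn e w') := rfl
      rw [h3, ← hagree w' hw']
      rfl
    rw [hβ', MulAut.mul_apply, MulAut.mul_apply, h1, MulAut.inv_apply_self]
  obtain ⟨s, hs⟩ := AutOm.inner_of_fix Q hQ hn p hstar β' e he0 he hfix
  have hβ : β = (MulAut.conj (AutOm.pi Q k))⁻¹ * (semiPO Q h * β') := by
    rw [hβ']
    group
  rw [hβ, hs]
  exact Subgroup.mul_mem _ (Subgroup.inv_mem _ (conj_mem_gamma Q hQ hn k))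
    (Subgroup.mul_mem _ (semiPO_mem_gamma Q h) (conj_mem_gamma Q hQ hn s))

end Cfsg.Agent.Lib.Helper46.AO
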