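import Cfsg.Agent.Lib.Helper46.AOLinD

set_option autoImplicit false
set_option linter.unusedSimpArgs false
set_option linter.unusedVariables false
set_option linter.unusedSectionVars false

/-! The parabolic subgroup `lineStab e` of `Ω`, its Siegel group and the action `T` on
`W₀ = ⟨e, f⟩^⊥`. -/

namespace Cfsg.Agent.Lib.Helper46.AO

open Module Cfsg.Agent.Lib.Helper43 Cfsg.Agent.Lib.Helper19

variable {F : Type*} [Field F] [Fintype F] {ι : Type} [Fintype ι] [DecidableEq ι]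
variable (Q : QuadraticForm F (ι → F))

local notation "B" => QuadraticMap.polarBilin Q

theorem disjoint_top (hQ : (QuadraticMap.polarBilin Q).Nondegenerate) :
    Disjoint (⊤ : Submodule F (ι → F)) (orthC Q ⊤) := by
  rw [Submodule.disjoint_def]
  intro v _ hv
  rw [mem_orthC] at hv
  apply hQ.1
  intro y
  rw [polar_symm]
  exact hv y Submodule.mem_top

theorem finrank_top' : finrank F (⊤ : Submodule F (ι → F)) = Fintype.card ι := by
  rw [finrank_top, Module.finrank_fintype_fun_eq_card]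

/-- `W₀ = ⟨e, f⟩^⊥` -/
def W0 (e f : ι → F) : Submodule F (ι → F) := Y0 Q ⊤ e f

theorem mem_W0 (hQ : (QuadraticMap.polarBilin Q).Nondegenerate) (e f v : ι → F) :
    v ∈ W0 Q e f ↔ B e v = 0 ∧ B f v = 0 := by
  unfold W0
  rw [mem_Y0 Q hQ]
  simp

section frame

variable {e f : ι → F}

theorem e_ne_zero (hp : HPair Q ⊤ e f) : e ≠ 0 := by
  rintro rfl
  have := hp.huu'
  simp at this

theorem f_ne_zero (hp : HPair Q ⊤ e f) : f ≠ 0 := by
  rintro rfl
  have := hp.huu'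
  simp at this

/-- the projection to `W₀` -/
noncomputable def pr (e f : ι → F) (v : ι → F) : ι → F := v - B v f • e - B v e • f

theorem pr_add (v w : ι → F) : pr Q e f (v + w) = pr Q e f v + pr Q e f w := by
  simp only [pr, map_add, LinearMap.add_apply]
  module

theorem pr_smul (c : F) (v : ι → F) : pr Q e f (c • v) = c • pr Q e f v := by
  simp only [pr, map_smul, LinearMap.smul_apply, smul_eq_mul]
  module

theorem pr_e (hp : HPair Q ⊤ e f) : pr Q e f e = 0 := by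
  unfold pr
  rw [hp.huu', B_self_of_singular Q e hp.hu]
  simp

theorem eq_pr_add (v : ι → F) : v = pr Q e f v + B v f • e + B v e • f := by
  unfold pr
  abel

/-- the Siegel transformation does not see the `e`-component of its parameter -/
theorem siegelLin_shift (hp : HPair Q ⊤ e f) (z : ι → F) (hz : B e z = 0) (c : F) :
    siegelLin Q e (z + c • e) = siegelLin Q e z := by
  apply LinearMap.ext
  intro v
  rw [siegelLin_apply, siegelLin_apply, Q_add, Q_smul, hp.hu, map_add, map_smul, map_smul,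
    smul_eq_mul, smul_eq_mul, polar_symm Q z e, hz]
  module

/-- the scalar by which an element of the line stabiliser acts on `e` -/
noncomputable def cOf (e f : ι → F) (g : ↥(Cfsg.Omega F ⇑Q)) : F := B (lo Q g e) f

theorem lo_e_of_mem (hp : HPair Q ⊤ e f) (g : ↥(Cfsg.Omega F ⇑Q))
    (hg : g ∈ lineStab Q e (e_ne_zero Q hp)) : lo Q g e = cOf Q e f g • e := by
  obtain ⟨c, hc⟩ := hg
  unfold cOf
  rw [hc, map_smul, LinearMap.smul_apply, hp.huu', smul_eq_mul, mul_one]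

theorem cOf_ne_zero (hp : HPair Q ⊤ e f) (g : ↥(Cfsg.Omega F ⇑Q))
    (hg : g ∈ lineStab Q e (e_ne_zero Q hp)) : cOf Q e f g ≠ 0 := by
  intro h
  have h1 := lo_e_of_mem Q hp g hg
  rw [h, zero_smul] at h1
  exact lo_ne_zero Q g e (e_ne_zero Q hp) h1

theorem cOf_mul (hp : HPair Q ⊤ e f) (g h : ↥(Cfsg.Omega F ⇑Q))
    (hg : g ∈ lineStab Q e (e_ne_zero Q hp)) (hh : h ∈ lineStab Q e (e_ne_zero Q hp)) :
    cOf Q e f (g * h) = cOf Q e f g * cOf Q e f h := by
  have h1 := lo_e_of_mem Q hp g hg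
  have h2 := lo_e_of_mem Q hp h hh
  have h3 : lo Q (g * h) e = (cOf Q e f g * cOf Q e f h) • e := by
    rw [lo_mul_apply, h2, map_smul, h1, smul_smul, mul_comm]
  unfold cOf at h3 ⊢
  rw [h3, map_smul, LinearMap.smul_apply, hp.huu', smul_eq_mul, mul_one]

theorem cOf_one (hp : HPair Q ⊤ e f) : cOf Q e f 1 = 1 := by
  unfold cOf
  rw [lo_one_apply, hp.huu']

/-- elements of the line stabiliser preserve `e^⊥` -/
theorem polar_lo_e (hp : HPair Q ⊤ e f) (g : ↥(Cfsg.Omega F ⇑Q))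
    (hg : g ∈ lineStab Q e (e_ne_zero Q hp)) (w : ι → F) (hw : B e w = 0) :
    B e (lo Q g w) = 0 := by
  have h1 := lo_polar Q g e w
  rw [lo_e_of_mem Q hp g hg, map_smul, LinearMap.smul_apply, hw, smul_eq_mul] at h1
  rcases mul_eq_zero.1 h1 with h | h
  · exact absurd h (cOf_ne_zero Q hp g hg)
  · exact h

/-- the action of the line stabiliser on `W₀` (conjugation action on the Siegel group) -/
noncomputable def T (e f : ι → F) (g : ↥(Cfsg.Omega F ⇑Q)) (w : ι → F) : ι → F :=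
  cOf Q e f g • pr Q e f (lo Q g w)

theorem T_add (g : ↥(Cfsg.Omega F ⇑Q)) (w w' : ι → F) :
    T Q e f g (w + w') = T Q e f g w + T Q e f g w' := by
  unfold T
  rw [map_add, pr_add, smul_add]

theorem T_smul (g : ↥(Cfsg.Omega F ⇑Q)) (c : F) (w : ι → F) :
    T Q e f g (c • w) = c • T Q e f g w := by
  unfold T
  rw [map_smul, pr_smul, smul_comm]

variable (hQ : (QuadraticMap.polarBilin Q).Nondegenerate) (hn : 7 ≤ Fintype.card ι)

include hQ

theorem disjoint_W0 (hp : HPair Q ⊤ e f) : Disjoint (W0 Q e f) (orthC Q (W0 Q e f)) :=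
  hp.disjoint_Y0 Q hQ (disjoint_top Q hQ)

include hn in
theorem finrank_W0 (hp : HPair Q ⊤ e f) : 5 ≤ finrank F (W0 Q e f) := by
  have := hp.finrank_Y0 Q hQ
  rw [finrank_top'] at this
  unfold W0
  omega

theorem pr_mem (hp : HPair Q ⊤ e f) (v : ι → F) : pr Q e f v ∈ W0 Q e f :=
  hp.decomp Q hQ v Submodule.mem_top

theorem pr_of_mem (hp : HPair Q ⊤ e f) (v : ι → F) (hv : v ∈ W0 Q e f) : pr Q e f v = v := by
  obtain ⟨h1, h2⟩ := (mem_W0 Q hQ e f v).1 hv
  unfold pr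
  rw [polar_symm Q v f, h2, polar_symm Q v e, h1]
  simp

/-- value of a Siegel transformation centred at `e` on `f` -/
theorem siegelLin_e_f (hp : HPair Q ⊤ e f) (w : ι → F) (hw : w ∈ W0 Q e f) :
    siegelLin Q e w f = f - Q w • e - w := by
  obtain ⟨h1, h2⟩ := (mem_W0 Q hQ e f w).1 hw
  rw [siegelLin_apply, h2, polar_symm Q f e, hp.huu']
  module

include hn in
/-- the parametrisation of the Siegel group by `W₀` is injective -/
theorem sOf_inj (hp : HPair Q ⊤ e f) (w w' : ι → F) (hw : w ∈ W0 Q e f) (hw' : w' ∈ W0 Q e f)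
    (h : sOf Q hQ hn e w = sOf Q hQ hn e w') : w = w' := by
  obtain ⟨h1, h2⟩ := (mem_W0 Q hQ e f w).1 hw
  obtain ⟨h1', h2'⟩ := (mem_W0 Q hQ e f w').1 hw'
  have h3 : lo Q (sOf Q hQ hn e w) f = lo Q (sOf Q hQ hn e w') f := by rw [h]
  rw [lo_sOf Q hQ hn e w hp.hu h1, lo_sOf Q hQ hn e w' hp.hu h1', siegelLin_e_f Q hQ hp w hw,
    siegelLin_e_f Q hQ hp w' hw'] at h3
  have h4 : w - w' = (Q w' - Q w) • e := by
    have : f - Q w • e - w - (f - Q w' • e - w') = 0 := by rw [h3, sub_self]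
    have e2 : w - w' = (Q w' - Q w) • e - (f - Q w • e - w - (f - Q w' • e - w')) := by module
    rw [e2, this, sub_zero]
  have h5 : B f (w - w') = B f ((Q w' - Q w) • e) := by rw [h4]
  rw [map_sub, map_smul, h2, h2', smul_eq_mul, polar_symm Q f e, hp.huu'] at h5
  have h6 : Q w' - Q w = 0 := by linear_combination -h5
  rw [h6, zero_smul] at h4
  exact sub_eq_zero.1 h4

include hn in
/-- membership in the Siegel group, parametrised by `W₀` -/
theorem mem_siegelGrp_iff (hp : HPair Q ⊤ e f) (g : ↥(Cfsg.Omega F ⇑Q)) :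
    g ∈ siegelGrp Q hQ e hp.hu ↔ ∃ w ∈ W0 Q e f, g = sOf Q hQ hn e w := by
  constructor
  · rintro ⟨v, hv, hg⟩
    refine ⟨pr Q e f v, pr_mem Q hQ hp v, ?_⟩
    have hprv : B e (pr Q e f v) = 0 := ((mem_W0 Q hQ e f _).1 (pr_mem Q hQ hp v)).1
    apply lo_injective Q
    rw [lo_sOf Q hQ hn e _ hp.hu hprv]
    have e1 : lo Q g = siegelLin Q e v := by
      unfold lo
      rw [hg]
      exact linOf_siegelO Q hQ e v hp.hu hv
    rw [e1]
    have e2 : v = pr Q e f v + B v f • e := by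
      conv_lhs => rw [eq_pr_add Q (e := e) (f := f) v]
      rw [polar_symm Q v e, hv]
      simp
    conv_lhs => rw [e2]
    exact siegelLin_shift Q hp _ hprv _
  · rintro ⟨w, hw, rfl⟩
    have h1 := ((mem_W0 Q hQ e f w).1 hw).1
    refine ⟨w, h1, ?_⟩
    rw [sOf_eq Q hQ hn e w hp.hu h1]
    rfl

include hn in
theorem sOf_mem_siegelGrp (hp : HPair Q ⊤ e f) (w : ι → F) (hw : w ∈ W0 Q e f) :
    sOf Q hQ hn e w ∈ siegelGrp Q hQ e hp.hu :=
  (mem_siegelGrp_iff Q hQ hn hp _).2 ⟨w, hw, rfl⟩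

theorem T_mem (hp : HPair Q ⊤ e f) (g : ↥(Cfsg.Omega F ⇑Q)) (w : ι → F) :
    T Q e f g w ∈ W0 Q e f :=
  Submodule.smul_mem _ _ (pr_mem Q hQ hp _)

include hn in
/-- conjugation formula -/
theorem conj_sOf (hp : HPair Q ⊤ e f) (g : ↥(Cfsg.Omega F ⇑Q))
    (hg : g ∈ lineStab Q e (e_ne_zero Q hp)) (w : ι → F) (hw : w ∈ W0 Q e f) :
    g * sOf Q hQ hn e w * g⁻¹ = sOf Q hQ hn e (T Q e f g w) := by
  have hew := ((mem_W0 Q hQ e f w).1 hw).1
  have hTw := ((mem_W0 Q hQ e f _).1 (T_mem Q hQ hp g w)).1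
  rw [sOf_conj Q hQ hn g e w hp.hu hew]
  apply lo_injective Q
  have h1 : B e (lo Q g w) = 0 := polar_lo_e Q hp g hg w hew
  have hce : Q (lo Q g e) = 0 := by rw [lo_isometry]; exact hp.hu
  have h2 : B (lo Q g e) (lo Q g w) = 0 := by rw [lo_polar]; exact hew
  rw [lo_sOf Q hQ hn _ _ hce h2, lo_sOf Q hQ hn e _ hp.hu hTw, lo_e_of_mem Q hp g hg,
    siegelLin_smul_left]
  unfold T
  have e1 : cOf Q e f g • lo Q g w =
      cOf Q e f g • pr Q e f (lo Q g w) + (cOf Q e f g * B (lo Q g w) f) • e := by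
    conv_lhs => rw [eq_pr_add Q (e := e) (f := f) (lo Q g w)]
    rw [polar_symm Q (lo Q g w) e, h1]
    module
  rw [e1]
  apply siegelLin_shift Q hp
  rw [map_smul, ((mem_W0 Q hQ e f _).1 (pr_mem Q hQ hp _)).1, smul_zero]

include hn in
theorem T_mul (hp : HPair Q ⊤ e f) (g h : ↥(Cfsg.Omega F ⇑Q))
    (hg : g ∈ lineStab Q e (e_ne_zero Q hp)) (hh : h ∈ lineStab Q e (e_ne_zero Q hp))
    (w : ι → F) (hw : w ∈ W0 Q e f) :
    T Q e f (g * h) w = T Q e f g (T Q e f h w) := by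
  apply sOf_inj Q hQ hn hp _ _ (T_mem Q hQ hp _ _) (T_mem Q hQ hp _ _)
  rw [← conj_sOf Q hQ hn hp (g * h) (Subgroup.mul_mem _ hg hh) w hw,
    ← conj_sOf Q hQ hn hp g hg _ (T_mem Q hQ hp h w), ← conj_sOf Q hQ hn hp h hh w hw]
  group

theorem T_one (hp : HPair Q ⊤ e f) (w : ι → F) (hw : w ∈ W0 Q e f) : T Q e f 1 w = w := by
  unfold T
  rw [cOf_one Q hp, lo_one_apply, one_smul, pr_of_mem Q hQ hp w hw]

/-- `T` multiplies `Q` by the square of the scalar -/
theorem Q_T (hp : HPair Q ⊤ e f) (g : ↥(Cfsg.Omega F ⇑Q))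
    (hg : g ∈ lineStab Q e (e_ne_zero Q hp)) (w : ι → F) (hw : w ∈ W0 Q e f) :
    Q (T Q e f g w) = cOf Q e f g * cOf Q e f g * Q w := by
  have hew := ((mem_W0 Q hQ e f w).1 hw).1
  have h1 : B e (lo Q g w) = 0 := polar_lo_e Q hp g hg w hew
  unfold T
  rw [Q_smul]
  congr 1
  unfold pr
  rw [polar_symm Q (lo Q g w) e, h1, zero_smul, sub_zero, Q_sub, Q_smul, hp.hu, map_smul,
    smul_eq_mul, polar_symm Q (lo Q g w) e, h1, lo_isometry]
  ring

end frame

end Cfsg.Agent.Lib.Helper46.AO
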