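import Cfsg.Agent.Lib.Helper46.AOGrpA

set_option autoImplicit false
set_option linter.unusedSimpArgs false
set_option linter.unusedVariables false
set_option linter.unusedSectionVars false

/-! Normal `p`-subgroups of the parabolic subgroup `lineStab e` lie in the Siegel group. -/

namespace Cfsg.Agent.Lib.Helper46.AO

open Module Cfsg.Agent.Lib.Helper43 Cfsg.Agent.Lib.Helper19

variable {F : Type*} [Field F] [Fintype F] {ι : Type} [Fintype ι] [DecidableEq ι]
variable (Q : QuadraticForm F (ι → F))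

local notation "B" => QuadraticMap.polarBilin Q

/-- fixed points of a `p`-group acting on a finite additive group of order divisible by `p` -/
theorem pfix_abs {p : ℕ} [Fact p.Prime] {N : Type*} [Group N] (hN : IsPGroup p N)
    {X : Type*} [AddGroup X] [Finite X] (hX : p ∣ Nat.card X)
    (act : N → X → X) (h1 : ∀ x, act 1 x = x)
    (hmul : ∀ g h x, act (g * h) x = act g (act h x))
    (h0 : ∀ g, act g 0 = 0) : ∃ x : X, x ≠ 0 ∧ ∀ g, act g x = x := by
  let _ : MulAction N X := { smul := act, one_smul := h1, mul_smul := hmul }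
  have hfix : (0 : X) ∈ MulAction.fixedPoints N X := fun g => h0 g
  obtain ⟨b, hb, hne⟩ := hN.exists_fixed_point_of_prime_dvd_card_of_fixed_point X hX hfix
  exact ⟨b, hne.symm, fun g => hb g⟩

theorem dvd_card_submodule {p : ℕ} (hpF : p ∣ Fintype.card F) (M : Submodule F (ι → F))
    (hM : M ≠ ⊥) : p ∣ Nat.card ↥M := by
  have h1 : Nat.card ↥M = Fintype.card F ^ finrank F ↥M := by
    rw [Module.natCard_eq_pow_finrank (K := F) (V := ↥M), Nat.card_eq_fintype_card]
  rw [h1]
  have h2 : 0 < finrank F ↥M := by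
    rw [Module.finrank_pos_iff_exists_ne_zero]
    obtain ⟨x, hx, hx0⟩ := Submodule.exists_mem_ne_zero_of_ne_bot hM
    exact ⟨⟨x, hx⟩, fun h => hx0 (congrArg Subtype.val h)⟩
  exact dvd_pow hpF (by omega)

/-- a `p`-subgroup of `Ω` fixes a non-zero vector of every non-zero invariant subspace -/
theorem pfix_lin {p : ℕ} [Fact p.Prime] (hpF : p ∣ Fintype.card F)
    (N : Subgroup ↥(Cfsg.Omega F ⇑Q)) (hN : IsPGroup p N) (M : Submodule F (ι → F)) (hM : M ≠ ⊥)
    (hinv : ∀ g ∈ N, ∀ v ∈ M, lo Q g v ∈ M) :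
    ∃ v ∈ M, v ≠ 0 ∧ ∀ g ∈ N, lo Q g v = v := by
  obtain ⟨x, hx0, hx⟩ := pfix_abs hN (X := ↥M) (dvd_card_submodule hpF M hM)
    (fun g v => ⟨lo Q (g : ↥(Cfsg.Omega F ⇑Q)) v, hinv g g.2 v v.2⟩)
    (fun v => Subtype.ext (lo_one_apply Q v))
    (fun g h v => Subtype.ext (lo_mul_apply Q g h v))
    (fun g => Subtype.ext (map_zero _))
  refine ⟨x, x.2, fun h => hx0 (Subtype.ext h), fun g hg => ?_⟩
  exact congrArg Subtype.val (hx ⟨g, hg⟩)

/-- in characteristic `p`, an element of `p`-power order of the field is `1` -/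
theorem eq_one_of_pow_char_pow {p : ℕ} [Fact p.Prime] [CharP F p] (c : F) (k : ℕ)
    (h : c ^ p ^ k = 1) : c = 1 := by
  have h1 : (c - 1) ^ p ^ k = 0 := by
    rw [sub_pow_char_pow, h, one_pow, sub_self]
  exact sub_eq_zero.1 ((pow_eq_zero_iff (pow_ne_zero k (Fact.out : p.Prime).ne_zero)).1 h1)

section frame

variable {e f : ι → F}
variable (hQ : (QuadraticMap.polarBilin Q).Nondegenerate) (hn : 7 ≤ Fintype.card ι)

include hQ hn

/-- Siegel elements with parameters in `W₀` lie in the line stabiliser of `e`, with scalar `1`,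
and act on `W₀` as the Siegel transformation -/
theorem sOf_W0_props (hp : HPair Q ⊤ e f) (u w' : ι → F) (hu : u ∈ W0 Q e f)
    (hw' : w' ∈ W0 Q e f) (huQ : Q u = 0) (huw' : B u w' = 0) :
    sOf Q hQ hn u w' ∈ lineStab Q e (e_ne_zero Q hp) ∧ cOf Q e f (sOf Q hQ hn u w') = 1 ∧
      lo Q (sOf Q hQ hn u w') f = f ∧
      ∀ w ∈ W0 Q e f, T Q e f (sOf Q hQ hn u w') w = siegelLin Q u w' w := by
  obtain ⟨heu, hfu⟩ := (mem_W0 Q hQ e f u).1 hu
  obtain ⟨hew', hfw'⟩ := (mem_W0 Q hQ e f w').1 hw'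
  have h1 : lo Q (sOf Q hQ hn u w') e = e := by
    rw [lo_sOf Q hQ hn u w' huQ huw', siegelLin_apply, hew', heu]
    simp
  have h1f : lo Q (sOf Q hQ hn u w') f = f := by
    rw [lo_sOf Q hQ hn u w' huQ huw', siegelLin_apply, hfw', hfu]
    simp
  have hc : cOf Q e f (sOf Q hQ hn u w') = 1 := by
    unfold cOf
    rw [h1, hp.huu']
  refine ⟨⟨1, by rw [h1, one_smul]⟩, hc, h1f, ?_⟩
  intro w hw
  unfold T
  rw [hc, one_smul, lo_sOf Q hQ hn u w' huQ huw']
  apply pr_of_mem Q hQ hp
  rw [siegelLin_apply]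
  exact Submodule.add_mem _ (Submodule.add_mem _ hw (Submodule.smul_mem _ _ hu))
    (Submodule.smul_mem _ _ hw')

/-- an element of the line stabiliser with scalar `1` acting trivially on `W₀` is a Siegel
element -/
theorem eq_sOf_of_T_id (hp : HPair Q ⊤ e f) (g : ↥(Cfsg.Omega F ⇑Q))
    (hg : g ∈ lineStab Q e (e_ne_zero Q hp)) (hc : cOf Q e f g = 1)
    (hT : ∀ w ∈ W0 Q e f, T Q e f g w = w) :
    ∃ w1 ∈ W0 Q e f, g = sOf Q hQ hn e w1 := by
  have hge : lo Q g e = e := by rw [lo_e_of_mem Q hp g hg, hc, one_smul]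
  set z := lo Q g f with hz
  set z0 := pr Q e f z with hz0
  have hz0W : z0 ∈ W0 Q e f := pr_mem Q hQ hp z
  obtain ⟨hez0, hfz0⟩ := (mem_W0 Q hQ e f z0).1 hz0W
  have hze : B z e = 1 := by
    rw [hz, ← hge, lo_polar, polar_symm, hp.huu']
  have hzdec : z = z0 + B z f • e + (1 : F) • f := by
    have := eq_pr_add Q (e := e) (f := f) z
    rw [hze] at this
    exact this
  have hQz : Q z = 0 := by rw [hz, lo_isometry, hp.hu']
  have ha : B z f = -Q z0 := by
    have h1 := hQz
    rw [hzdec, Q_lin3, hp.hu, hp.hu', polar_symm Q z0 e, hez0, polar_symm Q z0 f, hfz0,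
      hp.huu'] at h1
    linear_combination h1
  refine ⟨-z0, Submodule.neg_mem _ hz0W, ?_⟩
  have hew1 : B e (-z0) = 0 := by rw [map_neg, hez0, neg_zero]
  apply lo_injective Q
  rw [lo_sOf Q hQ hn e _ hp.hu hew1]
  -- agreement on `W₀`
  have hW : ∀ w ∈ W0 Q e f, lo Q g w = siegelLin Q e (-z0) w := by
    intro w hw
    obtain ⟨hew, hfw⟩ := (mem_W0 Q hQ e f w).1 hw
    have h1 := hT w hw
    unfold T at h1
    rw [hc, one_smul] at h1
    have h2 : B e (lo Q g w) = 0 := polar_lo_e Q hp g hg w hew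
    have h3 : lo Q g w = w + B (lo Q g w) f • e := by
      have := eq_pr_add Q (e := e) (f := f) (lo Q g w)
      rw [h1, polar_symm Q (lo Q g w) e, h2] at this
      simpa using this
    have h4 : B (lo Q g w) z = 0 := by
      rw [hz, lo_polar, polar_symm, hfw]
    have h5 : B (lo Q g w) f = -B w z0 := by
      rw [h3, hzdec] at h4
      simp only [map_add, map_smul, LinearMap.add_apply, LinearMap.smul_apply, smul_eq_mul,
        polar_symm Q w e, hew, polar_symm Q w f, hfw, B_self_of_singular Q e hp.hu, hp.huu',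
        hez0] at h4
      linear_combination h4
    rw [h3, h5, siegelLin_apply, polar_symm Q w e, hew]
    simp only [map_neg, QuadraticMap.map_neg, mul_zero, sub_zero, neg_zero, zero_smul, add_zero]
  apply LinearMap.ext
  intro v
  conv_lhs => rw [eq_pr_add Q (e := e) (f := f) v]
  conv_rhs => rw [eq_pr_add Q (e := e) (f := f) v]
  rw [map_add, map_add, map_smul, map_smul, map_add, map_add, map_smul, map_smul,
    hW _ (pr_mem Q hQ hp v), hge]
  have hsf : siegelLin Q e (-z0) f = z := by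
    rw [siegelLin_e_f Q hQ hp _ (Submodule.neg_mem _ hz0W), QuadraticMap.map_neg]
    conv_rhs => rw [hzdec, ha]
    module
  have hse : siegelLin Q e (-z0) e = e := siegelLin_self Q e _ hp.hu hew1
  rw [hsf, hse]

end frame

end Cfsg.Agent.Lib.Helper46.AO
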