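import Cfsg.Agent.Lib.Helper46.AOGrpB

set_option autoImplicit false
set_option linter.unusedSimpArgs false
set_option linter.unusedVariables false
set_option linter.unusedSectionVars false

/-! Normal `p`-subgroups of the parabolic subgroup `lineStab e` lie in the Siegel group; the
Siegel group is a `p`-group with fixed space `⟨e⟩`. -/

namespace Cfsg.Agent.Lib.Helper46.AO

open Module Cfsg.Agent.Lib.Helper43 Cfsg.Agent.Lib.Helper19

variable {F : Type*} [Field F] [Fintype F] {ι : Type} [Fintype ι] [DecidableEq ι]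
variable (Q : QuadraticForm F (ι → F))

local notation "B" => QuadraticMap.polarBilin Q

theorem dvd_card_of_charP {p : ℕ} [Fact p.Prime] [CharP F p] : p ∣ Fintype.card F := by
  obtain ⟨n, hn, h⟩ := FiniteField.card F p
  rw [h]
  exact dvd_pow_self p n.ne_zero

section frame

variable {e f : ι → F}
variable (hQ : (QuadraticMap.polarBilin Q).Nondegenerate) (hn : 7 ≤ Fintype.card ι)

include hQ hn

theorem cOf_pow (hp : HPair Q ⊤ e f) (g : ↥(Cfsg.Omega F ⇑Q))
    (hg : g ∈ lineStab Q e (e_ne_zero Q hp)) (k : ℕ) :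
    cOf Q e f (g ^ k) = cOf Q e f g ^ k := by
  induction k with
  | zero => rw [pow_zero, pow_zero, cOf_one Q hp]
  | succ k ih =>
    rw [pow_succ, pow_succ, cOf_mul Q hp _ _ (Subgroup.pow_mem _ hg k) hg, ih]

/-- **normal `p`-subgroups** of the line stabiliser lie in the Siegel group -/
theorem normal_pgroup_le (hp : HPair Q ⊤ e f) {p : ℕ} [Fact p.Prime] [CharP F p]
    (N : Subgroup ↥(Cfsg.Omega F ⇑Q)) (hNle : N ≤ lineStab Q e (e_ne_zero Q hp))
    (hNn : ∀ h ∈ lineStab Q e (e_ne_zero Q hp), ∀ g ∈ N, h * g * h⁻¹ ∈ N)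
    (hNp : IsPGroup p N) : N ≤ siegelGrp Q hQ e hp.hu := by
  have hd := disjoint_W0 Q hQ hp
  have hfr := finrank_W0 Q hQ hn hp
  -- scalars are trivial
  have hc : ∀ g ∈ N, cOf Q e f g = 1 := by
    intro g hg
    obtain ⟨k, hk⟩ := hNp ⟨g, hg⟩
    have h1 : g ^ p ^ k = 1 := by
      have := congrArg Subtype.val hk
      simpa using this
    have h2 := cOf_pow Q hQ hn hp g (hNle hg) (p ^ k)
    rw [h1, cOf_one Q hp] at h2
    exact eq_one_of_pow_char_pow _ k h2.symm
  -- the fixed space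
  have hW0ne : W0 Q e f ≠ ⊥ := by
    intro h
    rw [h, finrank_bot] at hfr
    omega
  obtain ⟨x, hx0, hx⟩ := pfix_abs hNp (X := ↥(W0 Q e f))
    (dvd_card_submodule (dvd_card_of_charP (F := F) (p := p)) _ hW0ne)
    (fun g w => ⟨T Q e f (g : ↥(Cfsg.Omega F ⇑Q)) w, T_mem Q hQ hp _ _⟩)
    (fun w => Subtype.ext (T_one Q hQ hp w w.2))
    (fun g h w => Subtype.ext (T_mul Q hQ hn hp g h (hNle g.2) (hNle h.2) w w.2))
    (fun g => Subtype.ext (by
      show T Q e f (g : ↥(Cfsg.Omega F ⇑Q)) (0 : ι → F) = 0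
      have := T_smul Q (e := e) (f := f) (g : ↥(Cfsg.Omega F ⇑Q)) 0 0
      simpa using this))
  let M : Submodule F (ι → F) :=
    { carrier := {w | w ∈ W0 Q e f ∧ ∀ g ∈ N, T Q e f g w = w}
      add_mem' := by
        rintro a b ⟨ha, ha'⟩ ⟨hb, hb'⟩
        exact ⟨Submodule.add_mem _ ha hb, fun g hg => by rw [T_add, ha' g hg, hb' g hg]⟩
      zero_mem' := ⟨Submodule.zero_mem _, fun g hg => by
        have := T_smul Q (e := e) (f := f) g 0 0
        simpa using this⟩
      smul_mem' := by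
        rintro c a ⟨ha, ha'⟩
        exact ⟨Submodule.smul_mem _ _ ha, fun g hg => by rw [T_smul, ha' g hg]⟩ }
  have hMW : M ≤ W0 Q e f := fun w hw => hw.1
  have hM0 : M ≠ ⊥ := by
    intro h
    have hxM : (x : ι → F) ∈ M := ⟨x.2, fun g hg => congrArg Subtype.val (hx ⟨g, hg⟩)⟩
    rw [h, Submodule.mem_bot] at hxM
    exact hx0 (Subtype.ext hxM)
  have hMeq : M = W0 Q e f := by
    apply irr Q hQ (W0 Q e f) hd hfr M hMW hM0
    intro u w' hu hw' huQ huw' x hxM
    obtain ⟨hs1, hs2, hs3, hs4⟩ := sOf_W0_props Q hQ hn hp u w' hu hw' huQ huw'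
    set s := sOf Q hQ hn u w' with hs
    rw [← hs4 x hxM.1]
    refine ⟨T_mem Q hQ hp _ _, fun g hg => ?_⟩
    have h1 : s⁻¹ * g * s ∈ N := by
      have := hNn s⁻¹ (Subgroup.inv_mem _ hs1) g hg
      simpa using this
    have e1 : g * s = s * (s⁻¹ * g * s) := by group
    rw [← T_mul Q hQ hn hp g s (hNle hg) hs1 x hxM.1, e1,
      T_mul Q hQ hn hp s _ hs1 (hNle h1) x hxM.1, hxM.2 _ h1]
  intro g hg
  obtain ⟨w1, hw1, hgw⟩ := eq_sOf_of_T_id Q hQ hn hp g (hNle hg) (hc g hg) (fun w hw => by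
    have : w ∈ M := by rw [hMeq]; exact hw
    exact this.2 g hg)
  rw [hgw]
  exact sOf_mem_siegelGrp Q hQ hn hp w1 hw1

theorem sOf_pow (hp : HPair Q ⊤ e f) (w : ι → F) (hw : B e w = 0) (k : ℕ) :
    sOf Q hQ hn e w ^ k = sOf Q hQ hn e (k • w) := by
  induction k with
  | zero => rw [pow_zero, zero_smul, sOf_zero Q hQ hn e hp.hu]
  | succ k ih =>
    rw [pow_succ, ih, sOf_mul Q hQ hn e _ _ hp.hu (by rw [map_nsmul, hw, smul_zero]) hw,
      succ_nsmul]

/-- the Siegel group is a `p`-group -/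
theorem isPGroup_siegelGrp (hp : HPair Q ⊤ e f) {p : ℕ} [Fact p.Prime] [CharP F p] :
    IsPGroup p (siegelGrp Q hQ e hp.hu) := by
  rintro ⟨g, hg⟩
  obtain ⟨w, hw, rfl⟩ := (mem_siegelGrp_iff Q hQ hn hp g).1 hg
  refine ⟨1, Subtype.ext ?_⟩
  rw [pow_one]
  show sOf Q hQ hn e w ^ p = 1
  rw [sOf_pow Q hQ hn hp w ((mem_W0 Q hQ e f w).1 hw).1]
  have : (p • w : ι → F) = 0 := by
    rw [← Nat.cast_smul_eq_nsmul F, CharP.cast_eq_zero, zero_smul]
  rw [this, sOf_zero Q hQ hn e hp.hu]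

/-- the vectors fixed by the Siegel group are the multiples of `e` -/
theorem fixed_siegelGrp (hp : HPair Q ⊤ e f) (v : ι → F)
    (hv : ∀ w ∈ W0 Q e f, siegelLin Q e w v = v) : ∃ c : F, v = c • e := by
  have hd := disjoint_W0 Q hQ hp
  have hfr := finrank_W0 Q hQ hn hp
  have h1 : ∀ w ∈ W0 Q e f, (B v w - Q w * B v e) • e + (-B v e) • w = 0 := by
    intro w hw
    have := hv w hw
    rw [siegelLin_apply, add_assoc] at this
    exact add_eq_left.mp this
  have hve : B v e = 0 := by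
    by_contra hne
    obtain ⟨w, hw, hw0⟩ := exists_ne_zero_of_finrank (W0 Q e f) (by omega)
    obtain ⟨hew, hfw⟩ := (mem_W0 Q hQ e f w).1 hw
    have h2 := h1 w hw
    have h3 : B f ((B v w - Q w * B v e) • e + (-B v e) • w) = 0 := by rw [h2, map_zero]
    rw [map_add, map_smul, map_smul, hfw, polar_symm Q f e, hp.huu'] at h3
    have h4 : B v w - Q w * B v e = 0 := by simpa using h3
    rw [h4, zero_smul, zero_add] at h2
    rcases smul_eq_zero.1 h2 with h | h
    · exact hne (neg_eq_zero.1 h)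
    · exact hw0 h
  have hvw : ∀ w ∈ W0 Q e f, B v w = 0 := by
    intro w hw
    have h2 := h1 w hw
    rw [hve, mul_zero, sub_zero, neg_zero, zero_smul, add_zero] at h2
    rcases smul_eq_zero.1 h2 with h | h
    · exact h
    · exact absurd h (e_ne_zero Q hp)
  refine ⟨B v f, ?_⟩
  have h5 : pr Q e f v = 0 := by
    apply eq_zero_of_perp Q _ hd _ (pr_mem Q hQ hp v)
    intro w hw
    obtain ⟨hew, hfw⟩ := (mem_W0 Q hQ e f w).1 hw
    unfold pr
    rw [map_sub, map_sub, map_smul, map_smul, LinearMap.sub_apply, LinearMap.sub_apply,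
      LinearMap.smul_apply, LinearMap.smul_apply, hew, hfw, hvw w hw]
    simp
  have := eq_pr_add Q (e := e) (f := f) v
  rw [h5, hve] at this
  simpa using this

end frame

end Cfsg.Agent.Lib.Helper46.AO
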