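import Cfsg.Agent.Lib.Helper43.OmegaNondeg9
import Cfsg.Agent.Lib.Helper43.OmegaSimple6

set_option autoImplicit false
set_option linter.unusedSimpArgs false
set_option linter.unusedVariables false
set_option linter.unusedSectionVars false

/-! Linear algebra in a non-degenerate subspace `Y` of a quadratic space: hyperbolic partners,
the complement of a hyperbolic pair inside `Y`, and irreducibility of `Y` under the Siegel
transformations with parameters in `Y`. -/

namespace Cfsg.Agent.Lib.Helper46.AO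

open Module Cfsg.Agent.Lib.Helper43 Cfsg.Agent.Lib.Helper19

variable {F : Type*} [Field F] [Fintype F] {ι : Type} [Fintype ι] [DecidableEq ι]
variable (Q : QuadraticForm F (ι → F))

local notation "B" => QuadraticMap.polarBilin Q

theorem B_self_of_singular (u : ι → F) (hu : Q u = 0) : B u u = 0 := by
  rw [polar_self', hu, mul_zero]

/-- a vector of `Y` perpendicular to `Y` is zero -/
theorem eq_zero_of_perp (Y : Submodule F (ι → F)) (hd : Disjoint Y (orthC Q Y))
    (x : ι → F) (hx : x ∈ Y) (h : ∀ y ∈ Y, B x y = 0) : x = 0 := by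
  apply eq_zero_of_mem_of_mem_orthC Q Y hd x hx
  rw [mem_orthC]
  intro y hy
  rw [polar_symm]
  exact h y hy

/-- a hyperbolic partner inside `Y` -/
theorem exists_partner (Y : Submodule F (ι → F)) (hd : Disjoint Y (orthC Q Y))
    (u : ι → F) (huY : u ∈ Y) (hu0 : u ≠ 0) (hu : Q u = 0) :
    ∃ u' ∈ Y, Q u' = 0 ∧ B u u' = 1 := by
  have h1 : ∃ z ∈ Y, B u z ≠ 0 := by
    by_contra hcon
    push Not at hcon
    exact hu0 (eq_zero_of_perp Q Y hd u huY hcon)
  obtain ⟨z, hzY, hz⟩ := h1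
  obtain ⟨z1, hz1Y, hz1⟩ : ∃ z1 ∈ Y, B u z1 = 1 :=
    ⟨(B u z)⁻¹ • z, Y.smul_mem _ hzY, by rw [map_smul, smul_eq_mul, inv_mul_cancel₀ hz]⟩
  refine ⟨z1 - Q z1 • u, Y.sub_mem hz1Y (Y.smul_mem _ huY), ?_, ?_⟩
  · rw [Q_sub, Q_smul, hu, map_smul, smul_eq_mul, polar_symm Q z1 u, hz1]
    ring
  · rw [map_sub, map_smul, smul_eq_mul, B_self_of_singular Q u hu, hz1]
    ring

/-- the part of `Y` perpendicular to `u` and `u'` -/
def Y0 (Y : Submodule F (ι → F)) (u u' : ι → F) : Submodule F (ι → F) :=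
  relOrth Q Y (Submodule.span F {u, u'})

theorem mem_Y0 (hQ : (QuadraticMap.polarBilin Q).Nondegenerate) (Y : Submodule F (ι → F))
    (u u' v : ι → F) : v ∈ Y0 Q Y u u' ↔ v ∈ Y ∧ B u v = 0 ∧ B u' v = 0 := by
  unfold Y0
  rw [mem_relOrth Q hQ]
  constructor
  · rintro ⟨h1, h2⟩
    exact ⟨h1, h2 u (Submodule.subset_span (by simp)), h2 u' (Submodule.subset_span (by simp))⟩
  · rintro ⟨h1, h2, h3⟩
    refine ⟨h1, fun s hs => ?_⟩
    obtain ⟨a, b, rfl⟩ := Submodule.mem_span_pair.1 hs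
    rw [map_add, map_smul, map_smul, LinearMap.add_apply, LinearMap.smul_apply,
      LinearMap.smul_apply, h2, h3]
    simp

theorem Y0_le (hQ : (QuadraticMap.polarBilin Q).Nondegenerate) (Y : Submodule F (ι → F))
    (u u' : ι → F) : Y0 Q Y u u' ≤ Y := fun v hv => ((mem_Y0 Q hQ Y u u' v).1 hv).1

theorem disjoint_span_pair (u u' : ι → F) (hu : Q u = 0) (hu' : Q u' = 0) (huu' : B u u' = 1) :
    Disjoint (Submodule.span F {u, u'}) (orthC Q (Submodule.span F {u, u'})) := by
  rw [Submodule.disjoint_def]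
  intro v hv hv'
  obtain ⟨a, b, rfl⟩ := Submodule.mem_span_pair.1 hv
  rw [mem_orthC] at hv'
  have h1 := hv' u (Submodule.subset_span (by simp))
  have h2 := hv' u' (Submodule.subset_span (by simp))
  rw [map_add, map_smul, map_smul, smul_eq_mul, smul_eq_mul, B_self_of_singular Q u hu, huu'] at h1
  rw [map_add, map_smul, map_smul, smul_eq_mul, smul_eq_mul, B_self_of_singular Q u' hu',
    polar_symm Q u' u, huu'] at h2
  have hb : b = 0 := by linear_combination h1
  have ha : a = 0 := by linear_combination h2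
  rw [ha, hb]
  simp

/-- a hyperbolic pair inside `Y` -/
structure HPair (Y : Submodule F (ι → F)) (u u' : ι → F) : Prop where
  huY : u ∈ Y
  hu'Y : u' ∈ Y
  hu : Q u = 0
  hu' : Q u' = 0
  huu' : QuadraticMap.polarBilin Q u u' = 1

theorem HPair.symm {Y : Submodule F (ι → F)} {u u' : ι → F} (h : HPair Q Y u u') :
    HPair Q Y u' u :=
  ⟨h.hu'Y, h.huY, h.hu', h.hu, by rw [polar_symm]; exact h.huu'⟩

theorem HPair.span_le {Y : Submodule F (ι → F)} {u u' : ι → F} (h : HPair Q Y u u') :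
    Submodule.span F {u, u'} ≤ Y := by
  rw [Submodule.span_le]
  intro x hx
  rcases hx with rfl | rfl
  · exact h.huY
  · exact h.hu'Y

theorem HPair.disjoint_Y0 (hQ : (QuadraticMap.polarBilin Q).Nondegenerate)
    {Y : Submodule F (ι → F)} (hd : Disjoint Y (orthC Q Y)) {u u' : ι → F}
    (h : HPair Q Y u u') : Disjoint (Y0 Q Y u u') (orthC Q (Y0 Q Y u u')) :=
  disjoint_relOrth Q hQ Y _ hd h.span_le (disjoint_span_pair Q u u' h.hu h.hu' h.huu')

theorem HPair.finrank_Y0 (hQ : (QuadraticMap.polarBilin Q).Nondegenerate)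
    {Y : Submodule F (ι → F)} {u u' : ι → F}
    (h : HPair Q Y u u') : finrank F Y ≤ finrank F (Y0 Q Y u u') + 2 := by
  have h1 := finrank_relOrth_add Q hQ Y _ h.span_le
    (disjoint_span_pair Q u u' h.hu h.hu' h.huu')
  have h2 := finrank_span_pair_le (F := F) u u'
  unfold Y0
  omega

/-- decomposition of a vector of `Y` along `⟨u⟩ ⊕ ⟨u'⟩ ⊕ Y₀` -/
theorem HPair.decomp (hQ : (QuadraticMap.polarBilin Q).Nondegenerate)
    {Y : Submodule F (ι → F)} {u u' : ι → F}
    (h : HPair Q Y u u') (y : ι → F) (hy : y ∈ Y) :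
    y - B y u' • u - B y u • u' ∈ Y0 Q Y u u' := by
  rw [mem_Y0 Q hQ]
  refine ⟨Y.sub_mem (Y.sub_mem hy (Y.smul_mem _ h.huY)) (Y.smul_mem _ h.hu'Y), ?_, ?_⟩
  · rw [map_sub, map_sub, map_smul, map_smul, smul_eq_mul, smul_eq_mul,
      B_self_of_singular Q u h.hu, h.huu', polar_symm Q u y]
    ring
  · rw [map_sub, map_sub, map_smul, map_smul, smul_eq_mul, smul_eq_mul,
      B_self_of_singular Q u' h.hu', polar_symm Q u' u, h.huu', polar_symm Q u' y]
    ring

end Cfsg.Agent.Lib.Helper46.AO
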