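import Cfsg.Agent.Lib.Helper46.AOLinB

set_option autoImplicit false
set_option linter.unusedSimpArgs false
set_option linter.unusedVariables false
set_option linter.unusedSectionVars false

/-! Additive maps of a non-degenerate subspace `Y` commuting with all its Siegel transformations
are scalars. -/

namespace Cfsg.Agent.Lib.Helper46.AO

open Module Cfsg.Agent.Lib.Helper43 Cfsg.Agent.Lib.Helper19

variable {F : Type*} [Field F] [Fintype F] {ι : Type} [Fintype ι] [DecidableEq ι]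
variable (Q : QuadraticForm F (ι → F))

local notation "B" => QuadraticMap.polarBilin Q

/-- a hyperbolic pair exists in `Y` -/
theorem exists_hpair (hQ : (QuadraticMap.polarBilin Q).Nondegenerate)
    (Y : Submodule F (ι → F)) (hd : Disjoint Y (orthC Q Y)) (hY : 3 ≤ finrank F Y) :
    ∃ u u' : ι → F, HPair Q Y u u' ∧ u ≠ 0 := by
  obtain ⟨x, x', hx, hx', hxQ, hx'Q, hxx'⟩ :=
    exists_hyperbolic_pair_rel Q hQ Y ⊥ hd (by rw [finrank_bot]; omega)
  have hxY := ((mem_relOrth Q hQ Y ⊥ x).1 hx).1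
  have hx0 : x ≠ 0 := by
    rintro rfl
    apply hxx'
    simp
  obtain ⟨u', hu'Y, hu', huu'⟩ := exists_partner Q Y hd x hxY hx0 hxQ
  exact ⟨x, u', ⟨hxY, hu'Y, hxQ, hu', huu'⟩, hx0⟩

/-- every value is taken by `Q` on a non-degenerate subspace of dimension at least 3 -/
theorem exists_value_of_disjoint (hQ : (QuadraticMap.polarBilin Q).Nondegenerate)
    (Z : Submodule F (ι → F)) (hd : Disjoint Z (orthC Q Z)) (hZ : 3 ≤ finrank F Z) (t : F) :
    ∃ w ∈ Z, Q w = t := by
  obtain ⟨c, hc, hcQ⟩ := exists_value_rel Q hQ Z ⊥ hd (by rw [finrank_bot]; omega) t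
  exact ⟨c, ((mem_relOrth Q hQ Z ⊥ c).1 hc).1, hcQ⟩

/-- **centraliser**: an additive map of `Y` commuting with the Siegel transformations of `Y` is a
scalar -/
theorem cent (hQ : (QuadraticMap.polarBilin Q).Nondegenerate)
    (Y : Submodule F (ι → F)) (hd : Disjoint Y (orthC Q Y)) (hY : 5 ≤ finrank F Y)
    (ψ : (ι → F) → (ι → F)) (hψY : ∀ y ∈ Y, ψ y ∈ Y)
    (hadd : ∀ y ∈ Y, ∀ y' ∈ Y, ψ (y + y') = ψ y + ψ y')
    (hcomm : ∀ u w y : ι → F, u ∈ Y → w ∈ Y → y ∈ Y → Q u = 0 → B u w = 0 →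
      ψ (siegelLin Q u w y) = siegelLin Q u w (ψ y)) :
    ∃ c : F, ∀ y ∈ Y, ψ y = c • y := by
  have hψ0 : ψ 0 = 0 := by
    have := hadd 0 Y.zero_mem 0 Y.zero_mem
    rw [add_zero] at this
    exact left_eq_add.mp this
  have hψneg : ∀ y ∈ Y, ψ (-y) = -ψ y := by
    intro y hy
    have := hadd y hy (-y) (Y.neg_mem hy)
    rw [add_neg_cancel, hψ0] at this
    exact (neg_eq_of_add_eq_zero_right this.symm).symm
  have hψsub : ∀ y ∈ Y, ∀ y' ∈ Y, ψ (y - y') = ψ y - ψ y' := by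
    intro y hy y' hy'
    rw [sub_eq_add_neg, hadd y hy _ (Y.neg_mem hy'), hψneg y' hy', sub_eq_add_neg]
  -- (1') `ψ` preserves perpendicularity to singular vectors
  have P1 : ∀ u ∈ Y, u ≠ 0 → Q u = 0 → ∀ x ∈ Y, B x u = 0 → B (ψ x) u = 0 := by
    intro u huY hu0 hu x hxY hxu
    have hfr := finrank_relOrth_ge Q hQ Y (Submodule.span F {u, x})
    have hsp := finrank_span_pair_le (F := F) u x
    obtain ⟨z, hzW, hz⟩ := exists_mem_not_smul (relOrth Q Y (Submodule.span F {u, x}))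
      (by omega) u
    obtain ⟨hzY, hzS⟩ := (mem_relOrth Q hQ Y _ z).1 hzW
    have huz : B u z = 0 := hzS u (Submodule.subset_span (by simp))
    have hxz : B x z = 0 := hzS x (Submodule.subset_span (by simp))
    have h1 := hcomm u z x huY hzY hxY hu huz
    have e1 : siegelLin Q u z x = x := by
      rw [siegelLin_apply, hxz, hxu]
      simp
    rw [e1, siegelLin_apply] at h1
    by_contra hne
    apply hz (((B (ψ x)) z - Q z * (B (ψ x)) u) / B (ψ x) u)
    have h2 : ((B (ψ x)) z - Q z * (B (ψ x)) u) • u = B (ψ x) u • z := by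
      have h3 : ((B (ψ x)) z - Q z * (B (ψ x)) u) • u + -(B (ψ x)) u • z = 0 := by
        have h4 : ψ x + ((B (ψ x)) z - Q z * (B (ψ x)) u) • u + -(B (ψ x)) u • z = ψ x + 0 := by
          rw [add_zero]
          exact h1.symm
        rw [add_assoc] at h4
        exact add_left_cancel h4
      rw [neg_smul] at h3
      exact eq_of_sub_eq_zero (by rw [← h3]; abel)
    rw [div_eq_inv_mul, mul_smul, h2, smul_smul, inv_mul_cancel₀ hne, one_smul]
  -- (1'') `ψ` preserves singular lines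
  have P2 : ∀ u ∈ Y, u ≠ 0 → Q u = 0 → ∀ t : F, ∃ c : F, ψ (t • u) = c • u := by
    intro u huY hu0 hu t
    obtain ⟨u', hu'Y, hu', huu'⟩ := exists_partner Q Y hd u huY hu0 hu
    have hp : HPair Q Y u u' := ⟨huY, hu'Y, hu, hu', huu'⟩
    have hfr := hp.finrank_Y0 Q hQ
    have hdY0 := hp.disjoint_Y0 Q hQ hd
    obtain ⟨x, hx, hx0⟩ := exists_ne_zero_of_finrank (Y0 Q Y u u') (by omega)
    have h2 : ∃ w ∈ Y0 Q Y u u', B x w ≠ 0 := by
      by_contra hcon
      push Not at hcon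
      exact hx0 (eq_zero_of_perp Q _ hdY0 x hx hcon)
    obtain ⟨w, hw, hxw⟩ := h2
    obtain ⟨hxY, hux, -⟩ := (mem_Y0 Q hQ Y u u' x).1 hx
    obtain ⟨hwY, huw, -⟩ := (mem_Y0 Q hQ Y u u' w).1 hw
    have hxu : B x u = 0 := by rw [polar_symm]; exact hux
    have hψxu := P1 u huY hu0 hu x hxY hxu
    set w' := (t / B x w) • w with hw'
    have hw'Y : w' ∈ Y := Y.smul_mem _ hwY
    have huw' : B u w' = 0 := by rw [hw', map_smul, huw, smul_zero]
    have hxw' : B x w' = t := by rw [hw', map_smul, smul_eq_mul, div_mul_cancel₀ t hxw]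
    have h1 := hcomm u w' x huY hw'Y hxY hu huw'
    have e1 : siegelLin Q u w' x = x + t • u := by
      rw [siegelLin_apply, hxw', hxu]
      simp
    rw [e1, siegelLin_apply, hψxu, hadd x hxY _ (Y.smul_mem _ huY)] at h1
    refine ⟨B (ψ x) w', ?_⟩
    have h3 : ψ x + ψ (t • u) = ψ x + B (ψ x) w' • u := by
      rw [h1]
      simp
    exact add_left_cancel h3
  -- fix a hyperbolic pair
  obtain ⟨u, u', hp, hu0⟩ := exists_hpair Q hQ Y hd (by omega)
  have hu'0 : u' ≠ 0 := by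
    rintro rfl
    have := hp.huu'
    simp at this
  have hfr := hp.finrank_Y0 Q hQ
  have hdY0 := hp.disjoint_Y0 Q hQ hd
  obtain ⟨l, hl⟩ := P2 u hp.huY hu0 hp.hu 1
  obtain ⟨l', hl'⟩ := P2 u' hp.hu'Y hu'0 hp.hu' 1
  rw [one_smul] at hl hl'
  -- the action on `Y₀`
  have K : ∀ u u' : ι → F, HPair Q Y u u' → u ≠ 0 → ∀ l' : F, ψ u' = l' • u' →
      ∀ w ∈ Y0 Q Y u u', ∃ a : F, ψ w = l' • w + a • u ∧ ψ (Q w • u) = (l' * Q w - a) • u := by
    intro u u' hp hu0 l' hl' w hw
    obtain ⟨hwY, huw, hu'w⟩ := (mem_Y0 Q hQ Y u u' w).1 hw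
    have h1 := hcomm u w u' hp.huY hwY hp.hu'Y hp.hu huw
    have e1 : siegelLin Q u w u' = u' - Q w • u - w := by
      rw [siegelLin_apply, hu'w, polar_symm Q u' u, hp.huu']
      module
    have e2 : siegelLin Q u w (l' • u') = l' • u' - (l' * Q w) • u - l' • w := by
      rw [map_smul, e1]
      module
    rw [e1, hl', e2, hψsub _ (Y.sub_mem hp.hu'Y (Y.smul_mem _ hp.huY)) w hwY,
      hψsub _ hp.hu'Y _ (Y.smul_mem _ hp.huY), hl'] at h1
    obtain ⟨c, hc⟩ := P2 u hp.huY hu0 hp.hu (Q w)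
    refine ⟨l' * Q w - c, ?_, ?_⟩
    · rw [hc] at h1
      have : ψ w = l' • u' - c • u - (l' • u' - (l' * Q w) • u - l' • w) := by
        rw [← h1]; abel
      rw [this]
      module
    · rw [hc]
      congr 1
      ring
  have hll' : l = l' ∧ ∀ w ∈ Y0 Q Y u u', ψ w = l • w ∧ ψ (Q w • u) = (l * Q w) • u ∧
      ψ (Q w • u') = (l * Q w) • u' := by
    have hY0eq : Y0 Q Y u' u = Y0 Q Y u u' := by
      ext v
      rw [mem_Y0 Q hQ, mem_Y0 Q hQ]
      tauto
    have main : ∀ w ∈ Y0 Q Y u u', ψ w = l' • w ∧ ψ w = l • w ∧ ψ (Q w • u) = (l' * Q w) • u ∧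
        ψ (Q w • u') = (l * Q w) • u' := by
      intro w hw
      obtain ⟨a, ha1, ha2⟩ := K u u' hp hu0 l' hl' w hw
      obtain ⟨b, hb1, hb2⟩ := K u' u hp.symm hu'0 l hl w (by rw [hY0eq]; exact hw)
      obtain ⟨hwY, huw, hu'w⟩ := (mem_Y0 Q hQ Y u u' w).1 hw
      have e : l' • w + a • u = l • w + b • u' := by rw [← ha1, hb1]
      have ea : a = 0 := by
        have := congrArg (fun v => B v u') e
        simp only [map_add, map_smul, LinearMap.add_apply, LinearMap.smul_apply, smul_eq_mul,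
          polar_symm Q w u', hu'w, hp.huu', B_self_of_singular Q u' hp.hu'] at this
        linear_combination this
      have eb : b = 0 := by
        have := congrArg (fun v => B v u) e
        simp only [map_add, map_smul, LinearMap.add_apply, LinearMap.smul_apply, smul_eq_mul,
          polar_symm Q w u, huw, polar_symm Q u' u, hp.huu', B_self_of_singular Q u hp.hu] at this
        linear_combination -this
      rw [ea] at ha1 ha2
      rw [eb] at hb1 hb2
      refine ⟨by simpa using ha1, by simpa using hb1, by simpa using ha2, by simpa using hb2⟩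
    obtain ⟨w1, hw1, hw10⟩ := exists_ne_zero_of_finrank (Y0 Q Y u u') (by omega)
    have hl_eq : l = l' := by
      obtain ⟨h1, h2, -, -⟩ := main w1 hw1
      have h3 : (l - l') • w1 = 0 := by rw [sub_smul, ← h1, ← h2, sub_self]
      rcases smul_eq_zero.1 h3 with h | h
      · exact sub_eq_zero.1 h
      · exact absurd h hw10
    refine ⟨hl_eq, fun w hw => ?_⟩
    obtain ⟨h1, h2, h3, h4⟩ := main w hw
    exact ⟨h2, by rw [hl_eq]; exact h3, h4⟩
  obtain ⟨hl_eq, hmain⟩ := hll'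
  refine ⟨l, ?_⟩
  have hu_all : ∀ t : F, ψ (t • u) = (l * t) • u ∧ ψ (t • u') = (l * t) • u' := by
    intro t
    obtain ⟨w, hw, hwt⟩ := exists_value_of_disjoint Q hQ (Y0 Q Y u u') hdY0 (by omega) t
    obtain ⟨-, h2, h3⟩ := hmain w hw
    rw [hwt] at h2 h3
    exact ⟨h2, h3⟩
  intro y hy
  have hdec := hp.decomp Q hQ y hy
  set y0 := y - B y u' • u - B y u • u' with hy0
  have e : y = y0 + B y u' • u + B y u • u' := by rw [hy0]; abel
  have hy0Y : y0 ∈ Y := Y0_le Q hQ Y u u' hdec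
  rw [e, hadd _ (Y.add_mem hy0Y (Y.smul_mem _ hp.huY)) _ (Y.smul_mem _ hp.hu'Y),
    hadd _ hy0Y _ (Y.smul_mem _ hp.huY), (hmain y0 hdec).1, (hu_all _).1, (hu_all _).2]
  module

end Cfsg.Agent.Lib.Helper46.AO
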