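import Cfsg.Agent.Lib.Helper46.AOLinC

set_option autoImplicit false
set_option linter.unusedSimpArgs false
set_option linter.unusedVariables false
set_option linter.unusedSectionVars false

/-! A semilinear map of a non-degenerate subspace `Y` whose transported form is invariant under
the Siegel transformations of `Y` is a semisimilarity. -/

namespace Cfsg.Agent.Lib.Helper46.AO

open Module Cfsg.Agent.Lib.Helper43 Cfsg.Agent.Lib.Helper19

variable {F : Type*} [Field F] [Fintype F] {ι : Type} [Fintype ι] [DecidableEq ι]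
variable (Q : QuadraticForm F (ι → F))

local notation "B" => QuadraticMap.polarBilin Q

/-- **invariant forms**: the transported form is a multiple of `Q` -/
theorem form (hQ : (QuadraticMap.polarBilin Q).Nondegenerate) (h2 : (2 : F) ≠ 0)
    (Y : Submodule F (ι → F)) (hd : Disjoint Y (orthC Q Y)) (hY : 5 ≤ finrank F Y)
    (σ : F ≃+* F) (φ : (ι → F) → (ι → F)) (hφY : ∀ y ∈ Y, φ y ∈ Y)
    (hadd : ∀ y ∈ Y, ∀ y' ∈ Y, φ (y + y') = φ y + φ y')
    (hsemi : ∀ c : F, ∀ y ∈ Y, φ (c • y) = σ c • φ y)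
    (hinv : ∀ u w y : ι → F, u ∈ Y → w ∈ Y → y ∈ Y → Q u = 0 → B u w = 0 →
      Q (φ (siegelLin Q u w y)) = Q (φ y)) :
    ∃ μ : F, ∀ y ∈ Y, Q (φ y) = μ * σ (Q y) := by
  -- singular vectors go to singular vectors, perpendicularity to them is preserved
  have P1 : ∀ u ∈ Y, u ≠ 0 → Q u = 0 →
      Q (φ u) = 0 ∧ ∀ x ∈ Y, B x u = 0 → B (φ x) (φ u) = 0 := by
    intro u huY hu0 hu
    have S : ∀ x ∈ Y, B x u = 0 → (∀ c : F, x ≠ c • u) →
        Q (φ u) = 0 ∧ B (φ x) (φ u) = 0 := by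
      intro x hxY hxu hxne
      obtain ⟨w1, hw1Y, huw1, hxw1⟩ := exists_perp_not_perp Q hQ Y hd u x huY hxY hu0 hu hxne 1
      obtain ⟨w2, hw2Y, huw2, hxw2⟩ :=
        exists_perp_not_perp Q hQ Y hd u x huY hxY hu0 hu hxne (-1)
      have h1 := hinv u w1 x huY hw1Y hxY hu huw1
      have e1 : siegelLin Q u w1 x = x + u := by
        rw [siegelLin_apply, hxw1, hxu]
        simp
      rw [e1, hadd x hxY u huY, Q_add] at h1
      have h3 := hinv u w2 x huY hw2Y hxY hu huw2
      have e2 : siegelLin Q u w2 x = x + (-1 : F) • u := by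
        rw [siegelLin_apply, hxw2, hxu]
        simp
      rw [e2, hadd x hxY _ (Y.smul_mem _ huY), hsemi _ u huY, Q_add, Q_smul, map_smul,
        smul_eq_mul, map_neg, map_one] at h3
      have h4 : (2 : F) * Q (φ u) = 0 := by linear_combination h1 + h3
      have h5 : Q (φ u) = 0 := by
        rcases mul_eq_zero.1 h4 with h | h
        · exact absurd h h2
        · exact h
      refine ⟨h5, ?_⟩
      rw [h5] at h1
      linear_combination h1
    have hfr := finrank_relOrth_ge Q hQ Y (Submodule.span F {u})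
    have hsp := finrank_span_singleton_le (F := F) u
    obtain ⟨z, hzW, hz⟩ := exists_mem_not_smul (relOrth Q Y (Submodule.span F {u}))
      (by omega) u
    obtain ⟨hzY, hzS⟩ := (mem_relOrth Q hQ Y _ z).1 hzW
    have hzu : B z u = 0 := by
      rw [polar_symm]
      exact hzS u (Submodule.subset_span rfl)
    have hQφu : Q (φ u) = 0 := (S z hzY hzu hz).1
    refine ⟨hQφu, ?_⟩
    intro x hxY hxu
    by_cases hx : ∃ c : F, x = c • u
    · obtain ⟨c, rfl⟩ := hx
      rw [hsemi c u huY, map_smul, LinearMap.smul_apply, polar_self', hQφu]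
      simp
    · push Not at hx
      exact (S x hxY hxu hx).2
  obtain ⟨u, u', hp, hu0⟩ := exists_hpair Q hQ Y hd (by omega)
  have hu'0 : u' ≠ 0 := by
    rintro rfl
    have := hp.huu'
    simp at this
  obtain ⟨hφu, hperp_u⟩ := P1 u hp.huY hu0 hp.hu
  obtain ⟨hφu', hperp_u'⟩ := P1 u' hp.hu'Y hu'0 hp.hu'
  refine ⟨B (φ u) (φ u'), ?_⟩
  -- general computation
  have comp : ∀ y0 ∈ Y0 Q Y u u', ∀ a b : F,
      Q (φ (y0 + a • u + b • u')) = Q (φ y0) + σ a * σ b * B (φ u) (φ u') := by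
    intro y0 hy0 a b
    obtain ⟨hy0Y, huy0, hu'y0⟩ := (mem_Y0 Q hQ Y u u' y0).1 hy0
    rw [hadd _ (Y.add_mem hy0Y (Y.smul_mem _ hp.huY)) _ (Y.smul_mem _ hp.hu'Y),
      hadd _ hy0Y _ (Y.smul_mem _ hp.huY), hsemi a u hp.huY, hsemi b u' hp.hu'Y, Q_lin3,
      hφu, hφu', hperp_u y0 hy0Y (by rw [polar_symm]; exact huy0),
      hperp_u' y0 hy0Y (by rw [polar_symm]; exact hu'y0)]
    ring
  have hY0 : ∀ y0 ∈ Y0 Q Y u u', Q (φ y0) = B (φ u) (φ u') * σ (Q y0) := by
    intro y0 hy0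
    obtain ⟨hy0Y, huy0, hu'y0⟩ := (mem_Y0 Q hQ Y u u' y0).1 hy0
    set v := y0 + (-Q y0) • u + (1 : F) • u' with hv
    have hvY : v ∈ Y := Y.add_mem (Y.add_mem hy0Y (Y.smul_mem _ hp.huY)) (Y.smul_mem _ hp.hu'Y)
    have hvQ : Q v = 0 := by
      rw [hv, Q_lin3, hp.hu, hp.hu', polar_symm Q y0 u, huy0, polar_symm Q y0 u', hu'y0, hp.huu']
      ring
    have hv0 : v ≠ 0 := by
      intro h
      have h1 : B u v = 1 := by
        rw [hv, map_add, map_add, map_smul, map_smul, huy0, B_self_of_singular Q u hp.hu, hp.huu']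
        simp
      rw [h] at h1
      simp at h1
    have h1 := (P1 v hvY hv0 hvQ).1
    rw [hv, comp y0 hy0] at h1
    rw [map_neg, map_one] at h1
    linear_combination h1
  intro y hy
  have hdec := hp.decomp Q hQ y hy
  set y0 := y - B y u' • u - B y u • u' with hy0
  have e : y = y0 + B y u' • u + B y u • u' := by rw [hy0]; abel
  obtain ⟨hy0Y, huy0, hu'y0⟩ := (mem_Y0 Q hQ Y u u' y0).1 hdec
  have hQy : Q y = Q y0 + B y u' * B y u := by
    conv_lhs => rw [e]
    rw [Q_lin3, hp.hu, hp.hu', polar_symm Q y0 u, huy0, polar_symm Q y0 u', hu'y0, hp.huu']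
    ring
  conv_lhs => rw [e]
  rw [comp y0 hdec, hY0 y0 hdec, hQy, map_add, map_mul]
  ring

end Cfsg.Agent.Lib.Helper46.AO
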