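import Cfsg.Prelude.Def_LieTypeDatum
import Cfsg.Agent.Lib.Helper08.AutOmega
import Cfsg.Agent.Lib.Helper43.OmegaSimple4

set_option autoImplicit false
set_option linter.unusedSimpArgs false
set_option linter.unusedVariables false
set_option linter.unusedSectionVars false

/-! The automorphism of `Ω(Q)` and of `PΩ(Q)` induced by a semisimilarity `v ↦ g σ(v)`. -/

namespace Cfsg.Agent.Lib.Helper46.AO

open Matrix Cfsg.Agent.Lib.Helper19 Cfsg.Agent.Lib.Helper43 Cfsg.Agent.Lib.Helper08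

variable {F : Type*} [Field F] [Fintype F] {ι : Type} [Fintype ι] [DecidableEq ι]

/-- the semilinear map `v ↦ g σ(v)` -/
def gam (g : GL ι F) (σ : F ≃+* F) (v : ι → F) : ι → F :=
  (g : Matrix ι ι F) *ᵥ (fun i => σ (v i))

theorem gam_surjective (g : GL ι F) (σ : F ≃+* F) : Function.Surjective (gam g σ) := by
  intro u
  refine ⟨fun i => σ.symm ((((g⁻¹ : GL ι F) : Matrix ι ι F) *ᵥ u) i), ?_⟩
  unfold gam
  simp only [RingEquiv.apply_symm_apply]
  rw [Matrix.mulVec_mulVec, ← Units.val_mul, mul_inv_cancel, Units.val_one, Matrix.one_mulVec]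

theorem gam_injective (g : GL ι F) (σ : F ≃+* F) : Function.Injective (gam g σ) := by
  intro u v h
  unfold gam at h
  have h1 := congrArg (fun x => ((g⁻¹ : GL ι F) : Matrix ι ι F) *ᵥ x) h
  simp only [Matrix.mulVec_mulVec, ← Units.val_mul, inv_mul_cancel, Units.val_one,
    Matrix.one_mulVec] at h1
  funext i
  exact σ.injective (congrFun h1 i)

theorem gam_add (g : GL ι F) (σ : F ≃+* F) (u v : ι → F) :
    gam g σ (u + v) = gam g σ u + gam g σ v := by
  unfold gam
  rw [← Matrix.mulVec_add]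
  congr 1
  funext i
  simp

theorem gam_smul (g : GL ι F) (σ : F ≃+* F) (c : F) (v : ι → F) :
    gam g σ (c • v) = σ c • gam g σ v := by
  unfold gam
  rw [← Matrix.mulVec_smul]
  congr 1
  funext i
  simp

/-- conjugation by the semilinear map, on `GL` -/
def semiFun (g : GL ι F) (σ : F ≃+* F) : GL ι F →* GL ι F where
  toFun s := g * Matrix.GeneralLinearGroup.map σ.toRingHom s * g⁻¹
  map_one' := by simp
  map_mul' s t := by
    rw [map_mul]
    group

theorem semiFun_val (g : GL ι F) (σ : F ≃+* F) (s : GL ι F) :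
    ((semiFun g σ s : GL ι F) : Matrix ι ι F) =
      (g : Matrix ι ι F) * (s : Matrix ι ι F).map σ * ((g⁻¹ : GL ι F) : Matrix ι ι F) := by
  rfl

theorem semiFun_mulVec (g : GL ι F) (σ : F ≃+* F) (s : GL ι F) (v : ι → F) :
    ((semiFun g σ s : GL ι F) : Matrix ι ι F) *ᵥ gam g σ v =
      gam g σ ((s : Matrix ι ι F) *ᵥ v) := by
  rw [semiFun_val]
  unfold gam
  rw [Matrix.mulVec_mulVec, Matrix.mul_assoc, Matrix.mul_assoc, ← Units.val_mul,
    inv_mul_cancel, Units.val_one, Matrix.mul_one, ← Matrix.mulVec_mulVec]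
  congr 1
  funext i
  exact (RingHom.map_mulVec σ.toRingHom (s : Matrix ι ι F) v i).symm

theorem semiFun_injective (g : GL ι F) (σ : F ≃+* F) : Function.Injective (semiFun g σ) := by
  intro s t h
  have h1 : Matrix.GeneralLinearGroup.map σ.toRingHom s =
      Matrix.GeneralLinearGroup.map (n := ι) σ.toRingHom t := by
    have h2 : g * Matrix.GeneralLinearGroup.map σ.toRingHom s * g⁻¹ =
        g * Matrix.GeneralLinearGroup.map σ.toRingHom t * g⁻¹ := h
    exact mul_left_cancel (mul_right_cancel h2)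
  apply Units.ext
  ext i j
  have h3 := congrArg (fun x : GL ι F => (x : Matrix ι ι F) i j) h1
  exact σ.injective h3

variable (Q : QuadraticForm F (ι → F))

theorem semiFun_mem {g : GL ι F} {σ : F ≃+* F} (h : Cfsg.IsSemisimilarityPair (⇑Q) g σ)
    {s : GL ι F} (hs : s ∈ Cfsg.isometryGroup F (⇑Q)) :
    semiFun g σ s ∈ Cfsg.isometryGroup F (⇑Q) := by
  rw [mem_isometryGroup_iff] at hs ⊢
  obtain ⟨c, hc⟩ := h
  intro u
  obtain ⟨v, rfl⟩ := gam_surjective g σ u
  rw [semiFun_mulVec]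
  have h1 := hc v
  have h2 := hc ((s : Matrix ι ι F) *ᵥ v)
  unfold gam
  rw [h2, hs, h1]

/-- conjugation by a semisimilarity on the isometry group -/
def semiHom {g : GL ι F} {σ : F ≃+* F} (h : Cfsg.IsSemisimilarityPair (⇑Q) g σ) :
    ↥(Cfsg.isometryGroup F (⇑Q)) →* ↥(Cfsg.isometryGroup F (⇑Q)) where
  toFun s := ⟨semiFun g σ s.1, semiFun_mem Q h s.2⟩
  map_one' := Subtype.ext (map_one _)
  map_mul' s t := Subtype.ext (map_mul _ _ _)

theorem semiHom_bijective {g : GL ι F} {σ : F ≃+* F}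
    (h : Cfsg.IsSemisimilarityPair (⇑Q) g σ) : Function.Bijective (semiHom Q h) := by
  have hinj : Function.Injective (semiHom Q h) := by
    intro s t hst
    apply Subtype.ext
    apply semiFun_injective g σ
    exact congrArg Subtype.val hst
  exact hinj.bijective_of_finite

/-- the automorphism of the isometry group induced by a semisimilarity -/
noncomputable def semiIso {g : GL ι F} {σ : F ≃+* F} (h : Cfsg.IsSemisimilarityPair (⇑Q) g σ) :
    MulAut ↥(Cfsg.isometryGroup F (⇑Q)) :=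
  MulEquiv.ofBijective (semiHom Q h) (semiHom_bijective Q h)

/-- the automorphism of `Ω` induced by a semisimilarity -/
noncomputable def semiOm {g : GL ι F} {σ : F ≃+* F} (h : Cfsg.IsSemisimilarityPair (⇑Q) g σ) :
    MulAut ↥(Cfsg.Omega F (⇑Q)) :=
  MulAut.characteristic (Cfsg.Omega F (⇑Q)) (semiIso Q h)

theorem semiOm_val {g : GL ι F} {σ : F ≃+* F} (h : Cfsg.IsSemisimilarityPair (⇑Q) g σ)
    (s : ↥(Cfsg.Omega F (⇑Q))) :
    (((semiOm Q h s : ↥(Cfsg.Omega F (⇑Q))) : ↥(Cfsg.isometryGroup F (⇑Q))) : GL ι F) =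
      semiFun g σ ((s : ↥(Cfsg.isometryGroup F (⇑Q))) : GL ι F) := rfl

/-- the key relation: `semiOm s ∘ γ = γ ∘ s` -/
theorem lo_semiOm {g : GL ι F} {σ : F ≃+* F} (h : Cfsg.IsSemisimilarityPair (⇑Q) g σ)
    (s : ↥(Cfsg.Omega F (⇑Q))) (v : ι → F) :
    lo Q (semiOm Q h s) (gam g σ v) = gam g σ (lo Q s v) := by
  unfold lo
  rw [linOf_apply, linOf_apply, semiOm_val, semiFun_mulVec]

/-- the automorphism of `PΩ` induced by a semisimilarity -/
noncomputable def semiPO {g : GL ι F} {σ : F ≃+* F} (h : Cfsg.IsSemisimilarityPair (⇑Q) g σ) :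
    MulAut (Cfsg.POmega F (⇑Q)) :=
  autQuot (Subgroup.center ↥(Cfsg.Omega F (⇑Q))) (semiOm Q h)

theorem semiPO_induced {g : GL ι F} {σ : F ≃+* F} (h : Cfsg.IsSemisimilarityPair (⇑Q) g σ) :
    Cfsg.IsInducedBySemilinearPOmega (⇑Q) g σ (semiPO Q h) := by
  intro s s' hss'
  unfold semiPO
  rw [autQuot_mk]
  congr 1
  apply Omega_ext
  rw [hss', semiOm_val, semiFun_val]

theorem semiPO_mem_gamma {g : GL ι F} {σ : F ≃+* F} (h : Cfsg.IsSemisimilarityPair (⇑Q) g σ) :
    semiPO Q h ∈ Cfsg.gammaPOmega F (⇑Q) := by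
  unfold Cfsg.gammaPOmega Cfsg.autSubgroupOf
  exact Subgroup.subset_closure ⟨g, σ, h, semiPO_induced Q h⟩

end Cfsg.Agent.Lib.Helper46.AO
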