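import Cfsg.Agent.Lib.Helper46.AOStarB
import Cfsg.Agent.Lib.Helper46.AOSemi

set_option autoImplicit false
set_option linter.unusedSimpArgs false
set_option linter.unusedVariables false
set_option linter.unusedSectionVars false

/-! Local analysis, part A: conjugation of Siegel elements by semisimilarities, normalisation of
an automorphism (it fixes the stabiliser of `⟨e⟩`), and the induced map on the Siegel group. -/

namespace Cfsg.Agent.Lib.Helper46.AO

open Module Cfsg.Agent.Lib.Helper43 Cfsg.Agent.Lib.Helper19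

variable {F : Type*} [Field F] [Fintype F] {ι : Type} [Fintype ι] [DecidableEq ι]
variable (Q : QuadraticForm F (ι → F))

local notation "B" => QuadraticMap.polarBilin Q

/-- the polar form under a semisimilarity -/
theorem polar_gam (g : GL ι F) (σ : F ≃+* F) (c : F)
    (hc : ∀ v, Q (gam g σ v) = c * σ (Q v)) (x y : ι → F) :
    B (gam g σ x) (gam g σ y) = c * σ (B x y) := by
  have h1 := Q_add Q (gam g σ x) (gam g σ y)
  rw [← gam_add, hc, hc, hc, Q_add, map_add, map_add] at h1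
  linear_combination -h1

/-- conjugation of a Siegel element by a semisimilarity -/
theorem semiOm_sOf (hQ : (QuadraticMap.polarBilin Q).Nondegenerate) (hn : 7 ≤ Fintype.card ι)
    {g : GL ι F} {σ : F ≃+* F} (h : Cfsg.IsSemisimilarityPair (⇑Q) g σ) (c : F) (hc0 : c ≠ 0)
    (hc : ∀ v, Q (gam g σ v) = c * σ (Q v)) (u w : ι → F) (hu : Q u = 0) (huw : B u w = 0) :
    semiOm Q h (sOf Q hQ hn u w) = sOf Q hQ hn (gam g σ u) (c⁻¹ • gam g σ w) := by
  have hu' : Q (gam g σ u) = 0 := by rw [hc, hu, map_zero, mul_zero]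
  have huw' : B (gam g σ u) (c⁻¹ • gam g σ w) = 0 := by
    rw [map_smul, polar_gam Q g σ c hc, huw, map_zero, mul_zero, smul_zero]
  apply lo_injective Q
  apply LinearMap.ext
  intro v'
  obtain ⟨v, rfl⟩ := gam_surjective g σ v'
  rw [lo_semiOm, lo_sOf Q hQ hn u w hu huw, lo_sOf Q hQ hn _ _ hu' huw', siegelLin_apply,
    siegelLin_apply, gam_add, gam_add, gam_smul, gam_smul, map_smul, Q_smul, hc w,
    polar_gam Q g σ c hc, polar_gam Q g σ c hc, smul_eq_mul, map_sub, map_mul, map_neg]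
  have e1 : c⁻¹ * (c * σ (B v w)) - c⁻¹ * c⁻¹ * (c * σ (Q w)) * (c * σ (B v u)) =
      σ (B v w) - σ (Q w) * σ (B v u) := by
    field_simp
  rw [e1, smul_smul]
  have e2 : -(c * σ (B v u)) * c⁻¹ = -σ (B v u) := by
    field_simp
  rw [e2]

theorem lineStab_conj_iff (k g : ↥(Cfsg.Omega F ⇑Q)) (u : ι → F) :
    (∃ c : F, lo Q g u = c • u) ↔ ∃ c : F, lo Q (k * g * k⁻¹) (lo Q k u) = c • lo Q k u := by
  have e1 : lo Q (k * g * k⁻¹) (lo Q k u) = lo Q k (lo Q g u) := by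
    rw [lo_mul_apply, lo_mul_apply, lo_inv_apply]
  rw [e1]
  constructor
  · rintro ⟨c, hc⟩
    exact ⟨c, by rw [hc, map_smul]⟩
  · rintro ⟨c, hc⟩
    refine ⟨c, ?_⟩
    rw [← map_smul] at hc
    exact lo_injective_apply Q k hc

section frame

variable {e f : ι → F}
variable (hQ : (QuadraticMap.polarBilin Q).Nondegenerate) (hn : 7 ≤ Fintype.card ι)

include hQ hn

/-- **normalisation**: after an inner automorphism, an automorphism fixes the stabiliser of
`⟨e⟩` -/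
theorem exists_normalize (hp : HPair Q ⊤ e f) {p : ℕ} [Fact p.Prime] [CharP F p]
    (h2 : (2 : F) ≠ 0)
    (hmax : ∀ T : Submodule F (ι → F), (∀ t ∈ T, Q t = 0) → 2 * finrank F T ≠ Fintype.card ι)
    (α : ↥(Cfsg.Omega F ⇑Q) ≃* ↥(Cfsg.Omega F ⇑Q)) :
    ∃ k : ↥(Cfsg.Omega F ⇑Q), ∀ g, g ∈ lineStab Q e (e_ne_zero Q hp) ↔
      k * α g * k⁻¹ ∈ lineStab Q e (e_ne_zero Q hp) := by
  obtain ⟨e', he'0, he'Q, hst⟩ := star Q hQ hn hp h2 hmax α
  obtain ⟨k, hk, hke⟩ := exists_Omega_map Q hQ hn e' e he'0 (e_ne_zero Q hp)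
    (by rw [he'Q, hp.hu])
  refine ⟨⟨k, hk⟩, fun g => ?_⟩
  rw [hst g, mem_lineStab, mem_lineStab, lineStab_conj_iff Q ⟨k, hk⟩ (α g) e']
  have e1 : lo Q (⟨k, hk⟩ : ↥(Cfsg.Omega F ⇑Q)) e' = e := hke
  rw [e1]

/-- an automorphism fixing the line stabiliser maps the Siegel group into itself -/
theorem preserve_S (hp : HPair Q ⊤ e f) {p : ℕ} [Fact p.Prime] [CharP F p]
    (α : ↥(Cfsg.Omega F ⇑Q) ≃* ↥(Cfsg.Omega F ⇑Q))
    (hst : ∀ g, g ∈ lineStab Q e (e_ne_zero Q hp) ↔ α g ∈ lineStab Q e (e_ne_zero Q hp)) :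
    ∀ g ∈ siegelGrp Q hQ e hp.hu, α g ∈ siegelGrp Q hQ e hp.hu := by
  set P := lineStab Q e (e_ne_zero Q hp) with hPdef
  set S := siegelGrp Q hQ e hp.hu with hSdef
  have hSP : S ≤ P := siegelGrp_le_lineStab Q hQ hn hp
  have hN : S.map α.toMonoidHom ≤ S := by
    apply normal_pgroup_le Q hQ hn hp (p := p)
    · rintro _ ⟨s, hs, rfl⟩
      exact (hst s).1 (hSP hs)
    · rintro h hh _ ⟨s, hs, rfl⟩
      refine ⟨α.symm h * s * (α.symm h)⁻¹, ?_, ?_⟩
      · apply siegelGrp_normalized Q hQ e (e_ne_zero Q hp) hp.hu _ _ _ hs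
        rw [hst, MulEquiv.apply_symm_apply]
        exact hh
      · show α (α.symm h * s * (α.symm h)⁻¹) = h * α s * h⁻¹
        rw [map_mul, map_mul, map_inv, MulEquiv.apply_symm_apply]
    · exact (isPGroup_siegelGrp Q hQ hn hp (p := p)).map α.toMonoidHom
  intro g hg
  exact hN ⟨g, hg, rfl⟩

theorem preserve_S_iff (hp : HPair Q ⊤ e f) {p : ℕ} [Fact p.Prime] [CharP F p]
    (α : ↥(Cfsg.Omega F ⇑Q) ≃* ↥(Cfsg.Omega F ⇑Q))
    (hst : ∀ g, g ∈ lineStab Q e (e_ne_zero Q hp) ↔ α g ∈ lineStab Q e (e_ne_zero Q hp)) :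
    ∀ g, g ∈ siegelGrp Q hQ e hp.hu ↔ α g ∈ siegelGrp Q hQ e hp.hu := by
  intro g
  refine ⟨preserve_S Q hQ hn hp (p := p) α hst g, fun hg => ?_⟩
  have hst' : ∀ g, g ∈ lineStab Q e (e_ne_zero Q hp) ↔
      α.symm g ∈ lineStab Q e (e_ne_zero Q hp) := by
    intro g
    rw [hst (α.symm g), MulEquiv.apply_symm_apply]
  have := preserve_S Q hQ hn hp (p := p) α.symm hst' (α g) hg
  rwa [MulEquiv.symm_apply_apply] at this

end frame

end Cfsg.Agent.Lib.Helper46.AO
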