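import Cfsg.Agent.Lib.Helper46.AOLocA

set_option autoImplicit false
set_option linter.unusedSimpArgs false
set_option linter.unusedVariables false
set_option linter.unusedSectionVars false
set_option maxHeartbeats 400000

/-! Local analysis, part B: the map `φ` induced on `W₀` by an automorphism fixing the stabiliser
of `⟨e⟩` is a semisimilarity of `W₀`. -/

namespace Cfsg.Agent.Lib.Helper46.AO

open Module Cfsg.Agent.Lib.Helper43 Cfsg.Agent.Lib.Helper19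

variable {F : Type*} [Field F] [Fintype F] {ι : Type} [Fintype ι] [DecidableEq ι]
variable (Q : QuadraticForm F (ι → F))

local notation "B" => QuadraticMap.polarBilin Q

theorem sOf_pow' (hQ : (QuadraticMap.polarBilin Q).Nondegenerate) (hn : 7 ≤ Fintype.card ι)
    (u w : ι → F) (hu : Q u = 0) (huw : B u w = 0) (k : ℕ) :
    sOf Q hQ hn u w ^ k = sOf Q hQ hn u (k • w) := by
  induction k with
  | zero => rw [pow_zero, zero_smul, sOf_zero Q hQ hn u hu]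
  | succ k ih =>
    rw [pow_succ, ih, sOf_mul Q hQ hn u _ _ hu (by rw [map_nsmul, huw, smul_zero]) huw,
      succ_nsmul]

theorem sOf_pow_char (hQ : (QuadraticMap.polarBilin Q).Nondegenerate) (hn : 7 ≤ Fintype.card ι)
    {p : ℕ} [Fact p.Prime] [CharP F p]
    (u w : ι → F) (hu : Q u = 0) (huw : B u w = 0) : sOf Q hQ hn u w ^ p = 1 := by
  rw [sOf_pow' Q hQ hn u w hu huw]
  have : (p • w : ι → F) = 0 := by
    rw [← Nat.cast_smul_eq_nsmul F, CharP.cast_eq_zero, zero_smul]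
  rw [this, sOf_zero Q hQ hn u hu]

section frame

variable {e f : ι → F}
variable (hQ : (QuadraticMap.polarBilin Q).Nondegenerate) (hn : 7 ≤ Fintype.card ι)

/-- `α` fixes the stabiliser of `⟨e⟩` and acts on the Siegel group through `φ` -/
structure QAct (hp : HPair Q ⊤ e f) (α : ↥(Cfsg.Omega F ⇑Q) ≃* ↥(Cfsg.Omega F ⇑Q))
    (φ : (ι → F) → (ι → F)) : Prop where
  hst : ∀ g, g ∈ lineStab Q e (e_ne_zero Q hp) ↔ α g ∈ lineStab Q e (e_ne_zero Q hp)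
  hφ : ∀ w ∈ W0 Q e f, φ w ∈ W0 Q e f ∧ α (sOf Q hQ hn e w) = sOf Q hQ hn e (φ w)

include hQ hn

theorem exists_QAct (hp : HPair Q ⊤ e f) {p : ℕ} [Fact p.Prime] [CharP F p]
    (α : ↥(Cfsg.Omega F ⇑Q) ≃* ↥(Cfsg.Omega F ⇑Q))
    (hst : ∀ g, g ∈ lineStab Q e (e_ne_zero Q hp) ↔ α g ∈ lineStab Q e (e_ne_zero Q hp)) :
    ∃ φ, QAct Q hQ hn hp α φ := by
  classical
  have h1 : ∀ w : ι → F, ∃ w' : ι → F, w ∈ W0 Q e f →
      (w' ∈ W0 Q e f ∧ α (sOf Q hQ hn e w) = sOf Q hQ hn e w') := by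
    intro w
    by_cases hw : w ∈ W0 Q e f
    · have h3 := preserve_S Q hQ hn hp (p := p) α hst _ (sOf_mem_siegelGrp Q hQ hn hp w hw)
      obtain ⟨w', hw', h4⟩ := (mem_siegelGrp_iff Q hQ hn hp _).1 h3
      exact ⟨w', fun _ => ⟨hw', h4⟩⟩
    · exact ⟨0, fun h => absurd h hw⟩
  choose φ hφ using h1
  exact ⟨φ, hst, hφ⟩

variable {hQ hn}

theorem QAct.add {hp : HPair Q ⊤ e f} {α : ↥(Cfsg.Omega F ⇑Q) ≃* ↥(Cfsg.Omega F ⇑Q)}
    {φ : (ι → F) → (ι → F)} (h : QAct Q hQ hn hp α φ) (w w' : ι → F) (hw : w ∈ W0 Q e f)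
    (hw' : w' ∈ W0 Q e f) : φ (w + w') = φ w + φ w' := by
  obtain ⟨h1, h2⟩ := h.hφ w hw
  obtain ⟨h1', h2'⟩ := h.hφ w' hw'
  obtain ⟨h1'', h2''⟩ := h.hφ (w + w') (Submodule.add_mem _ hw hw')
  apply sOf_inj Q hQ hn hp _ _ h1'' (Submodule.add_mem _ h1 h1')
  have hew := ((mem_W0 Q hQ e f w).1 hw).1
  have hew' := ((mem_W0 Q hQ e f w').1 hw').1
  have heφ := ((mem_W0 Q hQ e f _).1 h1).1
  have heφ' := ((mem_W0 Q hQ e f _).1 h1').1
  rw [← h2'', ← sOf_mul Q hQ hn e w w' hp.hu hew hew', map_mul, h2, h2',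
    sOf_mul Q hQ hn e _ _ hp.hu heφ heφ']

theorem QAct.zero {hp : HPair Q ⊤ e f} {α : ↥(Cfsg.Omega F ⇑Q) ≃* ↥(Cfsg.Omega F ⇑Q)}
    {φ : (ι → F) → (ι → F)} (h : QAct Q hQ hn hp α φ) : φ 0 = 0 := by
  have := h.add Q 0 0 (Submodule.zero_mem _) (Submodule.zero_mem _)
  rw [add_zero] at this
  exact left_eq_add.mp this

theorem QAct.inter {hp : HPair Q ⊤ e f} {α : ↥(Cfsg.Omega F ⇑Q) ≃* ↥(Cfsg.Omega F ⇑Q)}
    {φ : (ι → F) → (ι → F)} (h : QAct Q hQ hn hp α φ) (g : ↥(Cfsg.Omega F ⇑Q))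
    (hg : g ∈ lineStab Q e (e_ne_zero Q hp)) (w : ι → F) (hw : w ∈ W0 Q e f) :
    φ (T Q e f g w) = T Q e f (α g) (φ w) := by
  obtain ⟨h1, h2⟩ := h.hφ w hw
  obtain ⟨h3, h4⟩ := h.hφ _ (T_mem Q hQ hp g w)
  apply sOf_inj Q hQ hn hp _ _ h3 (T_mem Q hQ hp _ _)
  rw [← h4, ← conj_sOf Q hQ hn hp g hg w hw, map_mul, map_mul, map_inv, h2,
    conj_sOf Q hQ hn hp (α g) ((h.hst g).1 hg) _ h1]

theorem QAct.symm_hst {hp : HPair Q ⊤ e f} {α : ↥(Cfsg.Omega F ⇑Q) ≃* ↥(Cfsg.Omega F ⇑Q)}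
    {φ : (ι → F) → (ι → F)} (h : QAct Q hQ hn hp α φ) :
    ∀ g, g ∈ lineStab Q e (e_ne_zero Q hp) ↔ α.symm g ∈ lineStab Q e (e_ne_zero Q hp) := by
  intro g
  rw [h.hst (α.symm g), MulEquiv.apply_symm_apply]

theorem QAct.left_inv {hp : HPair Q ⊤ e f} {α : ↥(Cfsg.Omega F ⇑Q) ≃* ↥(Cfsg.Omega F ⇑Q)}
    {φ φ' : (ι → F) → (ι → F)} (h : QAct Q hQ hn hp α φ) (h' : QAct Q hQ hn hp α.symm φ')
    (w : ι → F) (hw : w ∈ W0 Q e f) : φ' (φ w) = w := by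
  obtain ⟨h1, h2⟩ := h.hφ w hw
  obtain ⟨h3, h4⟩ := h'.hφ _ h1
  apply sOf_inj Q hQ hn hp _ _ h3 hw
  rw [← h4, ← h2, MulEquiv.symm_apply_apply]

theorem QAct.right_inv {hp : HPair Q ⊤ e f} {α : ↥(Cfsg.Omega F ⇑Q) ≃* ↥(Cfsg.Omega F ⇑Q)}
    {φ φ' : (ι → F) → (ι → F)} (h : QAct Q hQ hn hp α φ) (h' : QAct Q hQ hn hp α.symm φ')
    (w : ι → F) (hw : w ∈ W0 Q e f) : φ (φ' w) = w := by
  obtain ⟨h1, h2⟩ := h'.hφ w hw
  obtain ⟨h3, h4⟩ := h.hφ _ h1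
  apply sOf_inj Q hQ hn hp _ _ h3 hw
  rw [← h4, ← h2]
  exact MulEquiv.apply_symm_apply α _

/-- `φ` is semilinear for some map `d` of the field -/
theorem QAct.exists_scalar {hp : HPair Q ⊤ e f} {α : ↥(Cfsg.Omega F ⇑Q) ≃* ↥(Cfsg.Omega F ⇑Q)}
    {φ φ' : (ι → F) → (ι → F)} (h : QAct Q hQ hn hp α φ) (h' : QAct Q hQ hn hp α.symm φ')
    (c : F) : ∃ d : F, ∀ w ∈ W0 Q e f, φ (c • w) = d • φ w := by
  have hd := disjoint_W0 Q hQ hp
  have hfr := finrank_W0 Q hQ hn hp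
  obtain ⟨d, hd'⟩ := cent Q hQ (W0 Q e f) hd hfr (fun y => φ (c • φ' y))
    (fun y hy => (h.hφ _ (Submodule.smul_mem _ _ (h'.hφ y hy).1)).1)
    (fun y hy y' hy' => by
      show φ (c • φ' (y + y')) = φ (c • φ' y) + φ (c • φ' y')
      rw [h'.add Q y y' hy hy', smul_add,
        h.add Q _ _ (Submodule.smul_mem _ _ (h'.hφ y hy).1)
          (Submodule.smul_mem _ _ (h'.hφ y' hy').1)])
    (fun u w' y hu hw' hy huQ huw' => by
      show φ (c • φ' (siegelLin Q u w' y)) = siegelLin Q u w' (φ (c • φ' y))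
      obtain ⟨hs1, hs2, hs3, hs4⟩ := sOf_W0_props Q hQ hn hp u w' hu hw' huQ huw'
      have hy' := (h'.hφ y hy).1
      have hcy' : c • φ' y ∈ W0 Q e f := Submodule.smul_mem _ _ hy'
      have hαs : α.symm (sOf Q hQ hn u w') ∈ lineStab Q e (e_ne_zero Q hp) :=
        (h.symm_hst Q _).1 hs1
      rw [← hs4 y hy, h'.inter Q _ hs1 y hy, ← T_smul, h.inter Q _ hαs _ hcy',
        MulEquiv.apply_symm_apply, hs4 _ (h.hφ _ hcy').1])
  refine ⟨d, fun w hw => ?_⟩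
  have := hd' (φ w) (h.hφ w hw).1
  rwa [h.left_inv Q h' w hw] at this

/-- the field automorphism attached to `φ` -/
theorem QAct.exists_sigma {hp : HPair Q ⊤ e f} {α : ↥(Cfsg.Omega F ⇑Q) ≃* ↥(Cfsg.Omega F ⇑Q)}
    {φ φ' : (ι → F) → (ι → F)} (h : QAct Q hQ hn hp α φ) (h' : QAct Q hQ hn hp α.symm φ') :
    ∃ σ : F ≃+* F, ∀ (c : F), ∀ w ∈ W0 Q e f, φ (c • w) = σ c • φ w := by
  have hfr := finrank_W0 Q hQ hn hp
  choose s hs using fun c => h.exists_scalar Q h' c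
  obtain ⟨y0, hy0, hy00⟩ := exists_ne_zero_of_finrank (W0 Q e f) (by omega)
  have hφy0 : φ y0 ≠ 0 := by
    intro h0
    have := h.left_inv Q h' y0 hy0
    rw [h0, h'.zero Q] at this
    exact hy00 this.symm
  have key : ∀ a b : F, a • φ y0 = b • φ y0 → a = b := by
    intro a b hab
    have : (a - b) • φ y0 = 0 := by rw [sub_smul, hab, sub_self]
    rcases smul_eq_zero.1 this with h1 | h1
    · exact sub_eq_zero.1 h1
    · exact absurd h1 hφy0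
  let τ : F →+* F :=
    { toFun := s
      map_one' := by
        apply key
        rw [← hs 1 y0 hy0, one_smul, one_smul]
      map_mul' := by
        intro a b
        apply key
        rw [← hs (a * b) y0 hy0, mul_smul, hs a _ (Submodule.smul_mem _ _ hy0), hs b y0 hy0,
          mul_smul]
      map_zero' := by
        apply key
        rw [← hs 0 y0 hy0, zero_smul, zero_smul, h.zero Q]
      map_add' := by
        intro a b
        apply key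
        rw [← hs (a + b) y0 hy0, add_smul, h.add Q _ _ (Submodule.smul_mem _ _ hy0)
          (Submodule.smul_mem _ _ hy0), hs a y0 hy0, hs b y0 hy0, add_smul] }
  have hbij : Function.Bijective τ := τ.injective.bijective_of_finite
  exact ⟨RingEquiv.ofBijective τ hbij, fun c w hw => hs c w hw⟩

end frame

end Cfsg.Agent.Lib.Helper46.AO
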