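import Cfsg.Agent.Lib.Helper46.AOLocB

set_option autoImplicit false
set_option linter.unusedSimpArgs false
set_option linter.unusedVariables false
set_option linter.unusedSectionVars false
set_option maxHeartbeats 800000

/-! Local analysis, part C: an automorphism fixing the stabiliser of `⟨e⟩` agrees on the Siegel
group with the automorphism induced by a semisimilarity. -/

namespace Cfsg.Agent.Lib.Helper46.AO

open Module Cfsg.Agent.Lib.Helper43 Cfsg.Agent.Lib.Helper19

variable {F : Type*} [Field F] [Fintype F] {ι : Type} [Fintype ι] [DecidableEq ι]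
variable (Q : QuadraticForm F (ι → F))

local notation "B" => QuadraticMap.polarBilin Q

theorem sOf_smul_left (hQ : (QuadraticMap.polarBilin Q).Nondegenerate) (hn : 7 ≤ Fintype.card ι)
    (c : F) (u v : ι → F) (hu : Q u = 0) (huv : B u v = 0) :
    sOf Q hQ hn (c • u) v = sOf Q hQ hn u (c • v) := by
  apply lo_injective Q
  rw [lo_sOf Q hQ hn (c • u) v (by rw [Q_smul, hu, mul_zero])
      (by rw [map_smul, LinearMap.smul_apply, huv, smul_zero]),
    lo_sOf Q hQ hn u (c • v) hu (by rw [map_smul, huv, smul_zero]), siegelLin_smul_left]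

section frame

variable {e f : ι → F}
variable {hQ : (QuadraticMap.polarBilin Q).Nondegenerate} {hn : 7 ≤ Fintype.card ι}

/-- `φ` is a semisimilarity of `W₀` -/
theorem QAct.exists_mu {hp : HPair Q ⊤ e f} {α : ↥(Cfsg.Omega F ⇑Q) ≃* ↥(Cfsg.Omega F ⇑Q)}
    {φ φ' : (ι → F) → (ι → F)} (h : QAct Q hQ hn hp α φ) (h' : QAct Q hQ hn hp α.symm φ')
    {p : ℕ} [Fact p.Prime] [CharP F p] (h2 : (2 : F) ≠ 0) (σ : F ≃+* F)
    (hσ : ∀ (c : F), ∀ w ∈ W0 Q e f, φ (c • w) = σ c • φ w) :
    ∃ μ : F, μ ≠ 0 ∧ ∀ y ∈ W0 Q e f, Q (φ y) = μ * σ (Q y) := by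
  have hd := disjoint_W0 Q hQ hp
  have hfr := finrank_W0 Q hQ hn hp
  obtain ⟨μ, hμ⟩ := form Q hQ h2 (W0 Q e f) hd hfr σ φ (fun y hy => (h.hφ y hy).1)
    (fun y hy y' hy' => h.add Q y y' hy hy') hσ
    (fun u w' y hu hw' hy huQ huw' => by
      obtain ⟨hs1, hs2, hs3, hs4⟩ := sOf_W0_props Q hQ hn hp u w' hu hw' huQ huw'
      have hαs := (h.hst _).1 hs1
      rw [← hs4 y hy, h.inter Q _ hs1 y hy, Q_T Q hQ hp _ hαs _ (h.hφ y hy).1]
      have hc : cOf Q e f (α (sOf Q hQ hn u w')) = 1 := by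
        have h3 := cOf_pow Q hQ hn hp _ hαs p
        rw [← map_pow, sOf_pow_char Q hQ hn u w' huQ huw', map_one, cOf_one Q hp] at h3
        exact eq_one_of_pow_char_pow (p := p) _ 1 (by rw [pow_one]; exact h3.symm)
      rw [hc]
      ring)
  refine ⟨μ, ?_, hμ⟩
  have hW0ne : W0 Q e f ≠ ⊥ := by
    intro h0
    rw [h0, finrank_bot] at hfr
    omega
  obtain ⟨z, hz, hzQ⟩ := exists_nonsingular_of_disjoint Q (W0 Q e f) hd hW0ne
  intro hμ0
  have := hμ (φ' z) (h'.hφ z hz).1
  rw [h.right_inv Q h' z hz, hμ0, zero_mul] at this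
  exact hzQ this

include hQ hn in
/-- **agreement with a semisimilarity on the Siegel group** -/
theorem exists_semi_agree (hp : HPair Q ⊤ e f) {p : ℕ} [Fact p.Prime] [CharP F p]
    (h2 : (2 : F) ≠ 0) (α : ↥(Cfsg.Omega F ⇑Q) ≃* ↥(Cfsg.Omega F ⇑Q))
    (hst : ∀ g, g ∈ lineStab Q e (e_ne_zero Q hp) ↔ α g ∈ lineStab Q e (e_ne_zero Q hp)) :
    ∃ (g : GL ι F) (σ : F ≃+* F) (h : Cfsg.IsSemisimilarityPair (⇑Q) g σ),
      (∀ x, x ∈ lineStab Q e (e_ne_zero Q hp) ↔
        semiOm Q h x ∈ lineStab Q e (e_ne_zero Q hp)) ∧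
      ∀ w ∈ W0 Q e f, semiOm Q h (sOf Q hQ hn e w) = α (sOf Q hQ hn e w) := by
  obtain ⟨φ, hφ⟩ := exists_QAct Q hQ hn hp (p := p) α hst
  obtain ⟨φ', hφ'⟩ := exists_QAct Q hQ hn hp (p := p) α.symm (hφ.symm_hst Q)
  obtain ⟨σ, hσ⟩ := hφ.exists_sigma Q hφ'
  obtain ⟨μ, hμ0, hμ⟩ := hφ.exists_mu Q hφ' (p := p) h2 σ hσ
  have hprW : ∀ v, pr Q e f v ∈ W0 Q e f := fun v => pr_mem Q hQ hp v
  have hφW : ∀ w ∈ W0 Q e f, φ w ∈ W0 Q e f := fun w hw => (hφ.hφ w hw).1
  set γ : (ι → F) → (ι → F) :=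
    fun v => σ (B v f) • (μ • e) + σ (B v e) • f + φ (pr Q e f v) with hγ
  have γ_add : ∀ u v, γ (u + v) = γ u + γ v := by
    intro u v
    simp only [hγ]
    rw [pr_add, hφ.add Q _ _ (hprW u) (hprW v)]
    simp only [map_add, LinearMap.add_apply]
    module
  have γ_smul : ∀ (c : F) v, γ (c • v) = σ c • γ v := by
    intro c v
    simp only [hγ]
    rw [pr_smul, hσ c _ (hprW v), map_smul, LinearMap.smul_apply, LinearMap.smul_apply,
      smul_eq_mul, smul_eq_mul, map_mul, map_mul]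
    module
  have γ_Q : ∀ v, Q (γ v) = μ * σ (Q v) := by
    intro v
    obtain ⟨h1, h3⟩ := (mem_W0 Q hQ e f _).1 (hφW _ (hprW v))
    obtain ⟨h1', h3'⟩ := (mem_W0 Q hQ e f _).1 (hprW v)
    have hQv : Q v = Q (pr Q e f v) + B v f * B v e := by
      conv_lhs => rw [eq_pr_add Q (e := e) (f := f) v]
      rw [Q_lin3, hp.hu, hp.hu', polar_symm Q (pr Q e f v) e, h1', polar_symm Q (pr Q e f v) f,
        h3', hp.huu']
      ring
    simp only [hγ]
    have e1 : σ (B v f) • (μ • e) + σ (B v e) • f + φ (pr Q e f v) =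
        φ (pr Q e f v) + (σ (B v f) * μ) • e + σ (B v e) • f := by
      module
    rw [e1, Q_lin3, hp.hu, hp.hu', polar_symm Q (φ (pr Q e f v)) e, h1,
      polar_symm Q (φ (pr Q e f v)) f, h3, hp.huu', hμ _ (hprW v), hQv, map_add, map_mul]
    ring
  have γ_e : γ e = μ • e := by
    simp only [hγ]
    rw [hp.huu', B_self_of_singular Q e hp.hu, pr_e Q hp, hφ.zero Q]
    simp
  have γ_W : ∀ w ∈ W0 Q e f, γ w = φ w := by
    intro w hw
    obtain ⟨h1, h3⟩ := (mem_W0 Q hQ e f w).1 hw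
    simp only [hγ]
    rw [polar_symm Q w f, h3, polar_symm Q w e, h1, pr_of_mem Q hQ hp w hw]
    simp
  have γ_inj : ∀ v, γ v = 0 → v = 0 := by
    intro v hv
    obtain ⟨h1, h3⟩ := (mem_W0 Q hQ e f _).1 (hφW _ (hprW v))
    have hf : B (γ v) f = σ (B v f) * μ := by
      simp only [hγ]
      rw [map_add, map_add, map_smul, map_smul, map_smul, LinearMap.add_apply,
        LinearMap.add_apply, LinearMap.smul_apply, LinearMap.smul_apply, LinearMap.smul_apply,
        hp.huu', B_self_of_singular Q f hp.hu', polar_symm Q (φ (pr Q e f v)) f, h3]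
      simp
    have he : B (γ v) e = σ (B v e) := by
      simp only [hγ]
      rw [map_add, map_add, map_smul, map_smul, map_smul, LinearMap.add_apply,
        LinearMap.add_apply, LinearMap.smul_apply, LinearMap.smul_apply, LinearMap.smul_apply,
        B_self_of_singular Q e hp.hu, polar_symm Q f e, hp.huu',
        polar_symm Q (φ (pr Q e f v)) e, h1]
      simp
    rw [hv] at hf he
    have hvf : B v f = 0 := by
      have : σ (B v f) * μ = 0 := by rw [← hf]; simp
      rcases mul_eq_zero.1 this with h | h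
      · exact (map_eq_zero σ).1 h
      · exact absurd h hμ0
    have hve : B v e = 0 := by
      have : σ (B v e) = 0 := by rw [← he]; simp
      exact (map_eq_zero σ).1 this
    have hφ0 : φ (pr Q e f v) = 0 := by
      simp only [hγ] at hv
      rw [hvf, hve] at hv
      simpa using hv
    have hpr0 : pr Q e f v = 0 := by
      have := hφ.left_inv Q hφ' _ (hprW v)
      rw [hφ0, hφ'.zero Q] at this
      exact this.symm
    have := eq_pr_add Q (e := e) (f := f) v
    rw [hpr0, hvf, hve] at this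
    simpa using this
  -- the linear map and the matrix
  let L : (ι → F) →ₗ[F] (ι → F) :=
    { toFun := fun v => γ (fun i => σ.symm (v i))
      map_add' := by
        intro u v
        rw [← γ_add]
        congr 1
        funext i
        simp
      map_smul' := by
        intro c v
        have : (fun i => σ.symm ((c • v) i)) = σ.symm c • (fun i => σ.symm (v i)) := by
          funext i
          simp
        rw [this, γ_smul]
        simp }
  have hLapp : ∀ v, L v = γ (fun i => σ.symm (v i)) := fun v => rfl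
  have hLinj : Function.Injective L := by
    rw [← LinearMap.ker_eq_bot, LinearMap.ker_eq_bot']
    intro v hv
    have h1 := γ_inj _ ((hLapp v).symm.trans hv)
    funext i
    have := congrFun h1 i
    simpa using this
  have hA : IsUnit (LinearMap.toMatrix' L) := by
    rw [← Matrix.mulVec_injective_iff_isUnit]
    intro u v huv
    apply hLinj
    rw [← LinearMap.toMatrix'_mulVec, ← LinearMap.toMatrix'_mulVec]
    exact huv
  set g : GL ι F := hA.unit with hg
  have hgam : ∀ v, gam g σ v = γ v := by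
    intro v
    unfold gam
    rw [hg, IsUnit.unit_spec, LinearMap.toMatrix'_mulVec, hLapp]
    congr 1
    funext i
    simp
  have hcQ : ∀ v, Q (gam g σ v) = μ * σ (Q v) := fun v => by rw [hgam, γ_Q]
  have hsemi : Cfsg.IsSemisimilarityPair (⇑Q) g σ := ⟨Units.mk0 μ hμ0, fun v => hcQ v⟩
  refine ⟨g, σ, hsemi, ?_, ?_⟩
  · intro x
    rw [mem_lineStab, mem_lineStab]
    have key : lo Q (semiOm Q hsemi x) (μ • e) = gam g σ (lo Q x e) := by
      rw [← γ_e, ← hgam, lo_semiOm]
    constructor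
    · rintro ⟨c, hc⟩
      refine ⟨σ c, ?_⟩
      rw [hc, gam_smul, hgam, γ_e, map_smul] at key
      have h3 : μ • lo Q (semiOm Q hsemi x) e = μ • (σ c • e) := by
        rw [key]; module
      have h4 := congrArg (fun v => μ⁻¹ • v) h3
      simp only [smul_smul, inv_mul_cancel₀ hμ0, one_smul] at h4
      rw [h4, ← mul_assoc, inv_mul_cancel₀ hμ0, one_mul]
    · rintro ⟨d, hd⟩
      refine ⟨σ.symm d, ?_⟩
      apply gam_injective g σ
      rw [← key, map_smul, hd, gam_smul, RingEquiv.apply_symm_apply, hgam, γ_e]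
      module
  · intro w hw
    obtain ⟨hφw, hαw⟩ := hφ.hφ w hw
    have hew := ((mem_W0 Q hQ e f w).1 hw).1
    have heφw := ((mem_W0 Q hQ e f _).1 hφw).1
    rw [semiOm_sOf Q hQ hn hsemi μ hμ0 hcQ e w hp.hu hew, hgam, hgam, γ_e, γ_W w hw, hαw,
      sOf_smul_left Q hQ hn μ e _ hp.hu (by rw [map_smul, heφw, smul_zero]), smul_smul,
      mul_inv_cancel₀ hμ0, one_smul]

end frame

end Cfsg.Agent.Lib.Helper46.AO
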