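import Cfsg.Agent.Lib.Helper46.AOGrpC

set_option autoImplicit false
set_option linter.unusedSimpArgs false
set_option linter.unusedVariables false
set_option linter.unusedSectionVars false

/-! Preparations for the recognition of singular point stabilisers: the unipotent radical of
the stabiliser of a totally singular subspace, non-commuting Siegel elements. -/

namespace Cfsg.Agent.Lib.Helper46.AO

open Module Cfsg.Agent.Lib.Helper43 Cfsg.Agent.Lib.Helper19

variable {F : Type*} [Field F] [Fintype F] {ι : Type} [Fintype ι] [DecidableEq ι]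
variable (Q : QuadraticForm F (ι → F))

local notation "B" => QuadraticMap.polarBilin Q

theorem lo_pow (g : ↥(Cfsg.Omega F ⇑Q)) (k : ℕ) : lo Q (g ^ k) = lo Q g ^ k := by
  induction k with
  | zero =>
    apply LinearMap.ext
    intro v
    rw [pow_zero, pow_zero, lo_one_apply]
    rfl
  | succ k ih =>
    apply LinearMap.ext
    intro v
    rw [pow_succ, pow_succ, lo_mul_apply, ih]
    rfl

/-- the stabiliser of the line `⟨e'⟩` as a subspace stabiliser -/
theorem subStab_span_singleton (e' : ι → F) (he' : e' ≠ 0) :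
    subStab Q (Submodule.span F {e'}) = lineStab Q e' he' := by
  ext g
  constructor
  · intro hg
    rw [mem_subStab] at hg
    have h1 := (hg e').1 (Submodule.subset_span rfl)
    obtain ⟨c, hc⟩ := Submodule.mem_span_singleton.1 h1
    exact ⟨c, hc.symm⟩
  · rintro ⟨c, hc⟩
    apply mem_subStab_of_map_le
    intro y hy
    obtain ⟨a, rfl⟩ := Submodule.mem_span_singleton.1 hy
    rw [map_smul, hc]
    exact Submodule.smul_mem _ _ (Submodule.smul_mem _ _ (Submodule.subset_span rfl))

/-- the elements of `Ω` acting trivially on `U` and on `U^⊥ / U` -/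
def Rgrp (U : Submodule F (ι → F)) : Subgroup ↥(Cfsg.Omega F ⇑Q) where
  carrier := {g | (∀ v ∈ U, lo Q g v = v) ∧ ∀ v ∈ orthC Q U, lo Q g v - v ∈ U}
  one_mem' := ⟨fun v _ => lo_one_apply Q v, fun v _ => by
    rw [lo_one_apply, sub_self]; exact U.zero_mem⟩
  mul_mem' := by
    rintro a b ⟨ha1, ha2⟩ ⟨hb1, hb2⟩
    refine ⟨fun v hv => by rw [lo_mul_apply, hb1 v hv, ha1 v hv], fun v hv => ?_⟩
    rw [lo_mul_apply]
    have h1 := hb2 v hv
    have h2 := ha2 v hv
    have h3 := ha1 _ h1
    rw [map_sub] at h3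
    have e : lo Q a (lo Q b v) - v = (lo Q b v - v) + (lo Q a v - v) := by
      rw [← h3]; abel
    rw [e]
    exact U.add_mem h1 h2
  inv_mem' := by
    rintro a ⟨ha1, ha2⟩
    refine ⟨fun v hv => ?_, fun v hv => ?_⟩
    · have := lo_inv_apply Q a v
      rw [ha1 v hv] at this
      exact this
    · have h1 := ha2 v hv
      have h2 : lo Q a⁻¹ (lo Q a v - v) = lo Q a v - v := by
        have := lo_inv_apply Q a (lo Q a v - v)
        rw [ha1 _ h1] at this
        exact this
      rw [map_sub, lo_inv_apply] at h2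
      have e : lo Q a⁻¹ v - v = -(lo Q a v - v) := by
        rw [← h2]; abel
      rw [e]
      exact U.neg_mem h1

theorem mem_Rgrp (U : Submodule F (ι → F)) (g : ↥(Cfsg.Omega F ⇑Q)) :
    g ∈ Rgrp Q U ↔ (∀ v ∈ U, lo Q g v = v) ∧ ∀ v ∈ orthC Q U, lo Q g v - v ∈ U := Iff.rfl

/-- `Rgrp U` is normalised by the stabiliser of `U` -/
theorem Rgrp_normalized (U : Submodule F (ι → F)) (h : ↥(Cfsg.Omega F ⇑Q))
    (hh : h ∈ subStab Q U) (g : ↥(Cfsg.Omega F ⇑Q)) (hg : g ∈ Rgrp Q U) :
    h * g * h⁻¹ ∈ Rgrp Q U := by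
  obtain ⟨hg1, hg2⟩ := hg
  have hhi : h⁻¹ ∈ subStab Q U := Subgroup.inv_mem _ hh
  have hU : ∀ v ∈ U, lo Q h⁻¹ v ∈ U := fun v hv => ((mem_subStab Q U h⁻¹).1 hhi v).1 hv
  have hU' : ∀ v ∈ U, lo Q h v ∈ U := fun v hv => ((mem_subStab Q U h).1 hh v).1 hv
  have hO : ∀ v ∈ orthC Q U, lo Q h⁻¹ v ∈ orthC Q U := fun v hv =>
    ((mem_subStab Q _ h⁻¹).1 (subStab_le_subStab_orthC Q U hhi) v).1 hv
  refine ⟨fun v hv => ?_, fun v hv => ?_⟩
  · rw [lo_mul_apply, lo_mul_apply, hg1 _ (hU v hv), lo_apply_inv]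
  · rw [lo_mul_apply, lo_mul_apply]
    have h1 := hg2 _ (hO v hv)
    have h2 := hU' _ h1
    rw [map_sub, lo_apply_inv] at h2
    exact h2

theorem Rgrp_le_subStab (U : Submodule F (ι → F)) : Rgrp Q U ≤ subStab Q U := by
  intro g hg
  apply mem_subStab_of_map_le
  intro y hy
  rw [hg.1 y hy]
  exact hy

include Q in
theorem nontrivial_end (hn : 7 ≤ Fintype.card ι) : Nontrivial (Module.End F (ι → F)) := by
  have : Nonempty ι := by
    rw [← Fintype.card_pos_iff]; omega
  infer_instance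

/-- `Rgrp U` is a `p`-group when `U` is totally singular (odd characteristic) -/
theorem isPGroup_Rgrp (hn : 7 ≤ Fintype.card ι) (U : Submodule F (ι → F))
    (hU : ∀ u ∈ U, Q u = 0) {p : ℕ} [Fact p.Prime] [CharP F p] (hp3 : 3 ≤ p) :
    IsPGroup p (Rgrp Q U) := by
  rintro ⟨g, hg1, hg2⟩
  refine ⟨1, Subtype.ext ?_⟩
  rw [pow_one]
  show g ^ p = 1
  apply lo_injective Q
  rw [lo_pow]
  have := nontrivial_end Q (F := F) hn
  have : CharP (Module.End F (ι → F)) p :=
    charP_of_injective_algebraMap (algebraMap F (Module.End F (ι → F))).injective p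
  set N : Module.End F (ι → F) := lo Q g - 1 with hN
  have hNU : ∀ v ∈ U, N v = 0 := by
    intro v hv
    rw [hN, LinearMap.sub_apply, hg1 v hv]
    simp
  have hNO : ∀ v, N v ∈ orthC Q U := by
    intro v
    rw [mem_orthC]
    intro u hu
    rw [hN, LinearMap.sub_apply, map_sub]
    have h1 := lo_polar Q g u v
    rw [hg1 u hu] at h1
    rw [h1]
    simp
  have hNN : ∀ v ∈ orthC Q U, N v ∈ U := by
    intro v hv
    have := hg2 v hv
    rw [hN, LinearMap.sub_apply]
    simpa using this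
  have hN3 : N ^ 3 = 0 := by
    apply LinearMap.ext
    intro v
    rw [pow_succ, pow_succ, pow_one]
    show N (N (N v)) = 0
    exact hNU _ (hNN _ (hNO v))
  have e : lo Q g = 1 + N := by rw [hN]; abel
  have hNp : N ^ p = 0 := by
    obtain ⟨k, rfl⟩ : ∃ k, p = 3 + k := ⟨p - 3, by omega⟩
    rw [pow_add, hN3, zero_mul]
  have h5 : (1 + N) ^ p = 1 ^ p + N ^ p :=
    add_pow_char_of_commute (p := p) (h := Commute.one_left N)
  rw [e, h5, one_pow, hNp, add_zero]
  apply LinearMap.ext
  intro v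
  rw [lo_one_apply]
  rfl

/-- two Siegel elements with independent centres and a common non-singular parameter do not
commute -/
theorem sOf_not_comm (hQ : (QuadraticMap.polarBilin Q).Nondegenerate) (hn : 7 ≤ Fintype.card ι)
    (h2 : (2 : F) ≠ 0) (a b w : ι → F) (ha : Q a = 0) (hb : Q b = 0) (hab : B a b = 0)
    (haw : B a w = 0) (hbw : B b w = 0) (hw : Q w ≠ 0) (ha0 : a ≠ 0) (hind : ∀ c : F, b ≠ c • a) :
    sOf Q hQ hn a w * sOf Q hQ hn b w ≠ sOf Q hQ hn b w * sOf Q hQ hn a w := by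
  intro hcomm
  set x := sOf Q hQ hn a w with hx
  have h1 : x * sOf Q hQ hn b w * x⁻¹ = sOf Q hQ hn b w := by
    rw [hcomm]; group
  rw [sOf_conj Q hQ hn x b w hb hbw] at h1
  have hxb : lo Q x b = b := by
    rw [hx, lo_sOf Q hQ hn a w ha haw, siegelLin_apply, hbw, polar_symm Q b a, hab]
    simp
  have hxw : lo Q x w = w + (2 * Q w) • a := by
    rw [hx, lo_sOf Q hQ hn a w ha haw, siegelLin_apply, polar_self', polar_symm Q w a, haw]
    simp
  rw [hxb, hxw] at h1
  have hba : B b ((2 * Q w) • a) = 0 := by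
    rw [map_smul, polar_symm Q b a, hab, smul_zero]
  rw [← sOf_mul Q hQ hn b w _ hb hbw hba] at h1
  have h3 : sOf Q hQ hn b ((2 * Q w) • a) = 1 := by
    have := mul_left_cancel (a := sOf Q hQ hn b w) (b := sOf Q hQ hn b ((2 * Q w) • a)) (c := 1)
      (by rw [mul_one]; exact h1)
    exact this
  obtain ⟨v, -, hav, hbv⟩ := exists_perp_not_perp Q hQ ⊤ (disjoint_top Q hQ) a b
    Submodule.mem_top Submodule.mem_top ha0 ha hind 1
  have h4 : lo Q (sOf Q hQ hn b ((2 * Q w) • a)) v = v := by rw [h3, lo_one_apply]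
  rw [lo_sOf Q hQ hn b _ hb hba, siegelLin_apply, polar_symm Q v b, hbv, Q_smul, ha, map_smul,
    polar_symm Q v a, hav] at h4
  have h5 : (2 * Q w) • a = 0 := by
    have h6 : v + (-(1 : F)) • (2 * Q w) • a = v + 0 := by
      rw [add_zero]
      simpa using h4
    have h7 := add_left_cancel h6
    simpa using h7
  rcases smul_eq_zero.1 h5 with h | h
  · rcases mul_eq_zero.1 h with h' | h'
    · exact h2 h'
    · exact hw h'
  · exact ha0 h

end Cfsg.Agent.Lib.Helper46.AO
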