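import Mathlib
import Cfsg.Prelude.Def_GeometricClasses
import Cfsg.Agent.Lib.Helper61.AschDefs
import Cfsg.Agent.Lib.Helper61.AschBasic
import Cfsg.Agent.Lib.Helper61.AschGlueA
import Cfsg.Agent.Lib.Helper61.AschGlueB
import Cfsg.Agent.Lib.Helper42.AschA1
import Cfsg.Agent.Lib.Helper29.AschB1
import Cfsg.Agent.Lib.Helper29.AschB3
import Cfsg.Agent.Lib.Helper14.AschB4
import Cfsg.Agent.Lib.Helper97.AschB5
import Cfsg.Agent.Lib.Helper46.AschOBasic
import Cfsg.Agent.Lib.Helper46.AschOLeaves
import Cfsg.Agent.Lib.Helper46.AschEDefs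
import Cfsg.Agent.Lib.Helper46.AschELeaves

/-!
Even-dimensional orthogonal Aschbacher theorem, glue part A: a `K`-normalized subgroup of an irreducible `K = H ⊔ Z`
(`H` a group of isometries of `Q`) is scalar or absolutely irreducible, unless `K` is in a geometric class.
-/

set_option autoImplicit false

namespace Cfsg.Agent.Lib.Helper46.AschE

open Cfsg Cfsg.Geo Cfsg.Agent.Lib.Helper61.Asch Cfsg.Agent.Lib.Helper46.AschO
open Cfsg.Agent.Lib.Helper46.AschEL
open scoped Matrix Kronecker MatrixGroups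

variable {F : Type*} [Field F] [Fintype F] {n : ℕ}

local notation "V" => (Fin n → F)
local notation "Mat" => Matrix (Fin n) (Fin n) F
local notation "Z" => scalars (Fin n) F

theorem EGeom.of_decomp {Q : V → F} {K : Subgroup (GL (Fin n) F)} {t k : ℕ} {D : Fin t → Submodule F V}
    (hk : k = 1 → (Fintype.card F).Prime) (hD : IsOrthogonalMDecomposition Q k D)
    (hK : K ≤ decompositionStabilizer D) : EGeom Q K :=
  ⟨_, Or.inr (Or.inr (Or.inr (Or.inl ⟨t, k, D, hD.decomp.decomp.two_le, hk, hD, rfl⟩))), hK⟩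

/-- a `K`-normalized subgroup of the irreducible `K` is scalar or absolutely irreducible, or `K` is geometric -/
theorem normal_trichotomy_even (hn : 3 ≤ n) (Q : V → F)
    (hQ : IsNondegenerateQuadraticForm Q)
    (H K N : Subgroup (GL (Fin n) F)) (hK : K = H ⊔ Z) (hH : H ≤ isometryGroup F Q)
    (hKirr : ActsIrreducibly (matrixSet K)) (hNK : N ≤ K) (hKN : NormBy K N) :
    EGeom Q K ∨ N ≤ Z ∨ spanAlg N = ⊤ := by
  have hKΔ : K ≤ quadSimilarityGroup Q := by
    rw [hK]; exact sup_scalars_le_quadSimilarityGroup hQ hH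
  have hKA : NormAlg K (spanAlg N) := normAlg_spanAlg hKN
  have hA : ∀ x ∈ spanAlg N, adjQ Q x ∈ spanAlg N := fun x hx => adjQ_mem_spanAlg hQ (hNK.trans hKΔ) hx
  have hss := Cfsg.Agent.Lib.Helper42.Asch.isSemisimpleModule_of_normAlg K (spanAlg N) hKirr hKA
  by_cases hiso : IsIsotypic (spanAlg N) V
  swap
  · left
    obtain ⟨t, m, D, hD, hKD, htr, hinvA, hinvC, hfull⟩ :=
      Cfsg.Agent.Lib.Helper46.AschOL.c2_components K (spanAlg N) hKirr hKA hiso
    have hpair := components_pairing Q hQ (spanAlg N) hA t m D hD hinvA hinvC hfull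
    by_cases horth : ∀ i j, i ≠ j → AreOrthogonalFor (QuadraticMap.polar Q) (D i) (D j)
    · have hO := isOrthogonalMDecomposition_of_orthogonal Q hQ H K hK hH t m D hD hKD htr horth
      by_cases hm1 : m = 1
      · subst hm1
        by_cases hp : (Fintype.card F).Prime
        · exact EGeom.of_decomp (fun _ => hp) hO hKD
        · have hHK : H ≤ K := by rw [hK]; exact le_sup_left
          have := egeom_of_frame Q hQ H hH t D hO (hHK.trans hKD) hp
          rwa [← hK] at this
      · exact EGeom.of_decomp (fun h => absurd h hm1) hO hKD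
    · exact egeom_of_paired_components Q hQ H K hK hH hKirr t m D hD hKD htr hpair horth
  haveI : IsSimpleRing (spanAlg N) :=
    Cfsg.Agent.Lib.Helper29.Asch.isSimpleRing_of_isIsotypic (spanAlg N) (by omega) hss hiso
  by_cases hc : Subalgebra.center F (spanAlg N) = ⊥
  swap
  · left
    obtain ⟨r, E, hr, hE, hKE, hEc, hac, hsa⟩ :=
      exists_adjointClosed_field Q hQ K N hKΔ hNK hKN inferInstance hc
    by_cases hself : IsSelfAdjointFor (QuadraticMap.polar Q) E
    · exact ⟨_, Or.inr (Or.inr (Or.inr (Or.inr (Or.inr (Or.inl ⟨r, E, hr, hE, hself, rfl⟩))))), hKE⟩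
    · have hr2 : r = 2 := hsa.resolve_left hself
      subst hr2
      have hsim := similarity_of_unitary_field Q hQ N (hNK.trans hKΔ) inferInstance hc E hE hEc hac hself
      exact ⟨_, Or.inr (Or.inr (Or.inr (Or.inr (Or.inr (Or.inr (Or.inl ⟨E, hE, hac, hself, hsim, rfl⟩)))))), hKE⟩
  obtain ⟨a, ha, ⟨φ⟩⟩ := Cfsg.Agent.Lib.Helper29.Asch.exists_algEquiv_matrix_of_center_eq_bot (spanAlg N) hc
  obtain ⟨b, e, P, hφ⟩ :=
    Cfsg.Agent.Lib.Helper14.Asch.exists_tensorLeft_of_algHom a ha ((spanAlg N).val.comp φ.toAlgHom)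
  have hT : IsTensorLeft (spanAlg N) a b e P := by
    intro M
    constructor
    · intro hM
      refine ⟨φ.symm ⟨M, hM⟩, ?_⟩
      rw [← hφ]
      simp
    · rintro ⟨x, rfl⟩
      rw [← hφ]
      exact (φ x).2
  have hcard : n = a * b := by
    have := Fintype.card_congr e
    simpa using this
  have hb : 0 < b := by
    rcases Nat.eq_zero_or_pos b with h | h
    · subst h; omega
    · exact h
  by_cases ha1 : a = 1
  · subst ha1
    exact Or.inr (Or.inl (le_scalars_of_isTensorLeft_one (by omega) b e P hT))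
  by_cases hb1 : b = 1
  · subst hb1
    exact Or.inr (Or.inr (eq_top_of_isTensorLeft_one a e P hT))
  left
  have hKT : K ≤ tensorProductSubgroup a b e P := by
    intro k hk
    apply Cfsg.Agent.Lib.Helper97.Asch.mem_tensorProductSubgroup_of_normalizes (spanAlg N) a b e P ha hb hT k
    exact hKA k hk
  obtain ⟨g₁, g₂, ε, hε, h₁, h₂, hu₁, hu₂, hform⟩ := exists_tensor_forms_even Q hQ (spanAlg N) hA a b ha hb e P hT
  refine egeom_of_tensor_forms_even Q hQ K a b (by omega) (by omega) e P hKT g₁ g₂ ε hε h₁ h₂ hu₁ hu₂ hform ?_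
  intro h2
  have hε1 : ε = 1 := by
    rcases hε with h | h
    · exact h
    · rw [h]
      have h3 : (1 : F) + 1 = 0 := by rw [one_add_one_eq_two]; exact h2
      exact neg_eq_iff_add_eq_zero.mpr h3
  rw [hε1, one_smul] at h₁ h₂
  exact tensor_forms_char_two h2 Q hQ K N hKΔ hNK hKirr a b (by omega) (by omega) e P hT hKT g₁ g₂ h₁ h₂ hu₁ hu₂ hform

end Cfsg.Agent.Lib.Helper46.AschE
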