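import Mathlib
import Cfsg.Prelude.Def_GeometricClasses
import Cfsg.Agent.Lib.Helper61.AschDefs
import Cfsg.Agent.Lib.Helper46.AschODefs
import Cfsg.Agent.Lib.Helper46.AschOBasic

/-!
S5673: a group which is monomial with respect to an orthogonal basis of vectors of equal norm stabilises the frame of the
lines spanned by the basis (class 2 with blocks of dimension 1, over a prime field).
-/

set_option autoImplicit false
set_option linter.unusedSectionVars false

namespace Cfsg.Agent.Lib.Helper46.AschO

open Cfsg Cfsg.Geo Cfsg.Agent.Lib.Helper61.Asch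
open scoped Matrix Kronecker MatrixGroups

variable {F : Type*} [Field F] [Fintype F] {n : ℕ}

local notation "V" => (Fin n → F)
local notation "Mat" => Matrix (Fin n) (Fin n) F

/-- the `j`-th column of an invertible matrix -/
def colGL (W : GL (Fin n) F) (j : Fin n) : V := (W : Mat) *ᵥ Pi.single j 1

theorem toLin'_injective46 (W : GL (Fin n) F) : Function.Injective (Matrix.toLin' (W : Mat)) := by
  apply Function.LeftInverse.injective (g := Matrix.toLin' ((W⁻¹ : GL (Fin n) F) : Mat))
  intro v
  rw [← LinearMap.comp_apply, ← Matrix.toLin'_mul, ← Units.val_mul, inv_mul_cancel, Units.val_one,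
    Matrix.toLin'_one]
  rfl

theorem colGL_linearIndependent (W : GL (Fin n) F) : LinearIndependent F (colGL W) := by
  have h1 : LinearIndependent F (fun j : Fin n => (Pi.single j (1 : F) : V)) := by
    convert (Pi.basisFun F (Fin n)).linearIndependent using 1
    funext j
    simp
  exact h1.map' (Matrix.toLin' (W : Mat)) (LinearMap.ker_eq_bot.mpr (toLin'_injective46 W))

theorem colGL_ne_zero (W : GL (Fin n) F) (j : Fin n) : colGL W j ≠ 0 :=
  (colGL_linearIndependent W).ne_zero j

theorem colGL_span (W : GL (Fin n) F) : Submodule.span F (Set.range (colGL W)) = ⊤ := by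
  rw [eq_top_iff]
  intro v _
  have h1 : v = (W : Mat) *ᵥ (((W⁻¹ : GL (Fin n) F) : Mat) *ᵥ v) := by
    rw [Matrix.mulVec_mulVec, ← Units.val_mul, mul_inv_cancel, Units.val_one, Matrix.one_mulVec]
  set u := ((W⁻¹ : GL (Fin n) F) : Mat) *ᵥ v with hu
  have h2 : (W : Mat) *ᵥ u = ∑ j, u j • colGL W j := by
    conv_lhs => rw [← Finset.univ_sum_single u]
    rw [Matrix.mulVec_sum]
    apply Finset.sum_congr rfl
    intro j _
    have : (Pi.single j (u j) : V) = u j • Pi.single j 1 := by
      ext i
      simp [Pi.single_apply]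
    rw [this, Matrix.mulVec_smul]
    rfl
  rw [h1, h2]
  exact Submodule.sum_mem _ fun j _ => Submodule.smul_mem _ _ (Submodule.subset_span ⟨j, rfl⟩)

/-- a monomial group for an orthogonal basis with equal norms stabilises a frame: class 2, blocks of dimension 1 -/
theorem ogeom_of_monomial (hp : (Fintype.card F).Prime) (h2 : (2 : F) ≠ 0) (hn : 2 ≤ n) (Q : V → F)
    (hQ : IsNondegenerateQuadraticForm Q) (K : Subgroup (GL (Fin n) F)) (W : GL (Fin n) F) (C : F) (hC : C ≠ 0)
    (hgram : ∀ i j, QuadraticMap.polar Q (colGL W i) (colGL W j) = if i = j then C else 0)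
    (hmon : ∀ k ∈ K, ∀ j, ∃ (j' : Fin n) (s : F), (k : Mat) *ᵥ colGL W j = s • colGL W j') : OGeom Q K := by
  have hb := hQ.polar_bilinear
  let D : Fin n → Submodule F V := fun j => Submodule.span F {colGL W j}
  have hmemD : ∀ j w, w ∈ D j ↔ ∃ a : F, a • colGL W j = w := fun j w => Submodule.mem_span_singleton
  have hQcol : ∀ j, Q (colGL W j) = 2⁻¹ * C := by
    intro j
    rw [Q_eq_half hQ h2, hgram, if_pos rfl]
  have hdec : IsMDecomposition 1 D := by
    refine ⟨hn, Nat.one_pos, fun j => finrank_span_singleton (colGL_ne_zero W j), ?_, ?_⟩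
    · exact (colGL_linearIndependent W).iSupIndep_span_singleton
    · rw [← Submodule.span_range_eq_iSup, colGL_span]
  have hO : IsOrthogonalMDecomposition Q 1 D := by
    refine ⟨⟨hdec, ?_, ?_⟩, ?_⟩
    · intro j w hw hw0
      obtain ⟨a, rfl⟩ := (hmemD j w).mp hw
      have ha : a ≠ 0 := by
        rintro rfl
        exact hw0 (zero_smul _ _)
      refine ⟨⟨colGL W j, Submodule.subset_span rfl, ?_⟩, ⟨colGL W j, Submodule.subset_span rfl, ?_⟩⟩
      · rw [hb.smul_right, hgram, if_pos rfl]
        exact mul_ne_zero ha hC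
      · rw [hb.smul_left, hgram, if_pos rfl]
        exact mul_ne_zero ha hC
    · intro i j hij u hu v hv
      obtain ⟨a, rfl⟩ := (hmemD i u).mp hu
      obtain ⟨b, rfl⟩ := (hmemD j v).mp hv
      rw [hb.smul_left, hb.smul_right, hgram, if_neg hij, mul_zero, mul_zero]
    · intro i j
      refine ⟨(LinearEquiv.toSpanNonzeroSingleton F V (colGL W i) (colGL_ne_zero W i)).symm.trans
        (LinearEquiv.toSpanNonzeroSingleton F V (colGL W j) (colGL_ne_zero W j)), ?_⟩
      intro w
      obtain ⟨a, ha⟩ := (hmemD i w.1).mp w.2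
      have hw : w = LinearEquiv.toSpanNonzeroSingleton F V (colGL W i) (colGL_ne_zero W i) a := by
        apply Subtype.ext
        rw [LinearEquiv.toSpanNonzeroSingleton_apply]
        exact ha.symm
      rw [hw, LinearEquiv.trans_apply, LinearEquiv.symm_apply_apply]
      rw [LinearEquiv.toSpanNonzeroSingleton_apply, LinearEquiv.toSpanNonzeroSingleton_apply]
      show Q (a • colGL W j) = Q (a • colGL W i)
      rw [hQ.smul, hQ.smul, hQcol, hQcol]
  refine ⟨decompositionStabilizer D, Or.inr (Or.inr (Or.inr (Or.inl ⟨n, D, hp, hO, rfl⟩))), ?_⟩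
  intro k hk
  have hstep : ∀ j, ∃ j', (D j).map (Matrix.toLin' (k : Mat)) = D j' := by
    intro j
    obtain ⟨j', s, hs⟩ := hmon k hk j
    refine ⟨j', ?_⟩
    have hs0 : s ≠ 0 := by
      intro h0
      rw [h0, zero_smul] at hs
      have h3 : Matrix.toLin' (k : Mat) (colGL W j) = Matrix.toLin' (k : Mat) 0 := by
        rw [Matrix.toLin'_apply, hs, map_zero]
      exact colGL_ne_zero W j (toLin'_injective46 k h3)
    show (Submodule.span F {colGL W j}).map (Matrix.toLin' (k : Mat)) = Submodule.span F {colGL W j'}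
    rw [Submodule.map_span, Set.image_singleton, Matrix.toLin'_apply, hs]
    exact Submodule.span_singleton_smul_eq (IsUnit.mk0 _ hs0) _
  choose f hf using hstep
  have hDne : ∀ j, D j ≠ ⊥ := by
    intro j h
    have : colGL W j ∈ D j := Submodule.subset_span rfl
    rw [h, Submodule.mem_bot] at this
    exact colGL_ne_zero W j this
  have hDinj : Function.Injective D := hdec.indep.injective hDne
  have hfinj : Function.Injective f := by
    intro j₁ j₂ h
    apply hDinj
    apply Submodule.map_injective_of_injective (toLin'_injective46 k)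
    rw [hf j₁, hf j₂, h]
  exact ⟨Equiv.ofBijective f (Finite.injective_iff_bijective.mp hfinj), fun j => hf j⟩

end Cfsg.Agent.Lib.Helper46.AschO
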