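import Mathlib
import Cfsg.Prelude.Def_GeometricClasses
import Cfsg.Agent.Lib.Helper61.AschDefs
import Cfsg.Agent.Lib.Helper61.AschBasic
import Cfsg.Agent.Lib.Helper61.AschGlueA
import Cfsg.Agent.Lib.Helper61.AschGlueB
import Cfsg.Agent.Lib.Helper42.AschA1
import Cfsg.Agent.Lib.Helper29.AschB1
import Cfsg.Agent.Lib.Helper29.AschB3
import Cfsg.Agent.Lib.Helper14.AschB4
import Cfsg.Agent.Lib.Helper97.AschB5
import Cfsg.Agent.Lib.Helper46.AschODefs
import Cfsg.Agent.Lib.Helper46.AschOBasic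
import Cfsg.Agent.Lib.Helper46.AschOLeaves

/-!
S5673 glue, part A: a `K`-normalized subgroup of an irreducible `K = H ⊔ Z` (`H` a group of isometries of `Q`, odd
dimension) is scalar or absolutely irreducible, unless `K` is in a geometric class.
-/

set_option autoImplicit false

namespace Cfsg.Agent.Lib.Helper46.AschO

open Cfsg Cfsg.Geo Cfsg.Agent.Lib.Helper61.Asch
open Cfsg.Agent.Lib.Helper46.AschOL
open scoped Matrix Kronecker MatrixGroups

variable {F : Type*} [Field F] [Fintype F] {n : ℕ}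

local notation "V" => (Fin n → F)
local notation "Mat" => Matrix (Fin n) (Fin n) F
local notation "Z" => scalars (Fin n) F

theorem OGeom.of_decomp {Q : V → F} {K : Subgroup (GL (Fin n) F)} {t k : ℕ} {D : Fin t → Submodule F V}
    (hk : 1 < k) (hD : IsOrthogonalMDecomposition Q k D) (hK : K ≤ decompositionStabilizer D) : OGeom Q K :=
  ⟨_, Or.inr (Or.inr (Or.inl ⟨t, k, D, hk, hD, rfl⟩)), hK⟩

theorem OGeom.of_frame_prime {Q : V → F} {K : Subgroup (GL (Fin n) F)} {t : ℕ} {D : Fin t → Submodule F V}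
    (hp : (Fintype.card F).Prime) (hD : IsOrthogonalMDecomposition Q 1 D) (hK : K ≤ decompositionStabilizer D) :
    OGeom Q K :=
  ⟨_, Or.inr (Or.inr (Or.inr (Or.inl ⟨t, D, hp, hD, rfl⟩))), hK⟩

/-- a `K`-normalized subgroup of the irreducible `K` is scalar or absolutely irreducible, or `K` is geometric -/
theorem normal_trichotomy_orth (hn : 3 ≤ n) (hodd : Odd n) (h2 : (2 : F) ≠ 0) (Q : V → F)
    (hQ : IsNondegenerateQuadraticForm Q) (hdisc : DiscInPrimeField Q)
    (H K N : Subgroup (GL (Fin n) F)) (hK : K = H ⊔ Z) (hH : H ≤ isometryGroup F Q)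
    (hKirr : ActsIrreducibly (matrixSet K)) (hNK : N ≤ K) (hKN : NormBy K N) :
    OGeom Q K ∨ N ≤ Z ∨ spanAlg N = ⊤ := by
  have hKΔ : K ≤ quadSimilarityGroup Q := by
    rw [hK]; exact sup_scalars_le_quadSimilarityGroup hQ hH
  have hKA : NormAlg K (spanAlg N) := normAlg_spanAlg hKN
  have hA : ∀ x ∈ spanAlg N, adjQ Q x ∈ spanAlg N := fun x hx => adjQ_mem_spanAlg hQ (hNK.trans hKΔ) hx
  have hss := Cfsg.Agent.Lib.Helper42.Asch.isSemisimpleModule_of_normAlg K (spanAlg N) hKirr hKA
  by_cases hiso : IsIsotypic (spanAlg N) V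
  swap
  · left
    obtain ⟨t, m, D, hD, hKD, htr, hinvA, hinvC, hfull⟩ := c2_components K (spanAlg N) hKirr hKA hiso
    have hO := isOrthogonalMDecomposition_of_components hodd h2 Q hQ H K hK hH (spanAlg N) hA t m D hD hKD htr
      hinvA hinvC hfull
    by_cases hm1 : 1 < m
    · exact OGeom.of_decomp hm1 hO hKD
    · have hm : m = 1 := by have := hD.pos; omega
      subst hm
      by_cases hp : (Fintype.card F).Prime
      · exact OGeom.of_frame_prime hp hO hKD
      · have hHK : H ≤ K := by rw [hK]; exact le_sup_left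
        have := ogeom_of_frame hodd h2 Q hQ hdisc H hH t D hO (hHK.trans hKD) hp
        rwa [← hK] at this
  haveI : IsSimpleRing (spanAlg N) :=
    Cfsg.Agent.Lib.Helper29.Asch.isSimpleRing_of_isIsotypic (spanAlg N) (by omega) hss hiso
  by_cases hc : Subalgebra.center F (spanAlg N) = ⊥
  swap
  · exact Or.inl (ogeom_of_center_ne_bot hodd h2 Q hQ K N hKΔ hNK hKN inferInstance hc)
  obtain ⟨a, ha, ⟨φ⟩⟩ := Cfsg.Agent.Lib.Helper29.Asch.exists_algEquiv_matrix_of_center_eq_bot (spanAlg N) hc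
  obtain ⟨b, e, P, hφ⟩ :=
    Cfsg.Agent.Lib.Helper14.Asch.exists_tensorLeft_of_algHom a ha ((spanAlg N).val.comp φ.toAlgHom)
  have hT : IsTensorLeft (spanAlg N) a b e P := by
    intro M
    constructor
    · intro hM
      refine ⟨φ.symm ⟨M, hM⟩, ?_⟩
      rw [← hφ]
      simp
    · rintro ⟨x, rfl⟩
      rw [← hφ]
      exact (φ x).2
  have hcard : n = a * b := by
    have := Fintype.card_congr e
    simpa using this
  have hb : 0 < b := by
    rcases Nat.eq_zero_or_pos b with h | h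
    · subst h; omega
    · exact h
  by_cases ha1 : a = 1
  · subst ha1
    exact Or.inr (Or.inl (le_scalars_of_isTensorLeft_one (by omega) b e P hT))
  by_cases hb1 : b = 1
  · subst hb1
    exact Or.inr (Or.inr (eq_top_of_isTensorLeft_one a e P hT))
  left
  have hKT : K ≤ tensorProductSubgroup a b e P := by
    intro k hk
    apply Cfsg.Agent.Lib.Helper97.Asch.mem_tensorProductSubgroup_of_normalizes (spanAlg N) a b e P ha hb hT k
    exact hKA k hk
  obtain ⟨g₁, g₂, h₁, h₂, hu₁, hu₂, hform⟩ := exists_tensor_forms hodd h2 Q hQ (spanAlg N) hA a b ha hb e P hT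
  by_cases hab : a = b
  · subst hab
    exact ogeom_of_tensor_forms_eq hodd h2 Q hQ K hKΔ a (by omega) e P hKT g₁ g₂ h₁ h₂ hu₁ hu₂ hform
  · exact ogeom_of_tensor_forms hodd Q hQ K a b (by omega) (by omega) hab e P hKT g₁ g₂ h₁ h₂ hu₁ hu₂ hform

end Cfsg.Agent.Lib.Helper46.AschO
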