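import Mathlib
import Cfsg.Prelude.Def_GeometricClasses
import Cfsg.Agent.Lib.Helper61.AschDefs
import Cfsg.Agent.Lib.Helper61.AschBasic
import Cfsg.Agent.Lib.Helper61.AschGlueC
import Cfsg.Agent.Lib.Helper61.AschGlueD
import Cfsg.Agent.Lib.Helper80.AschD1
import Cfsg.Agent.Lib.Helper46.AschODefs
import Cfsg.Agent.Lib.Helper46.AschOBasic

/-!
S5673 glue, part D: in odd dimension a minimal normal subgroup of an irreducible group of similarities of a quadratic
form cannot be abelian modulo scalars.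
-/

set_option autoImplicit false
set_option linter.unusedSectionVars false

namespace Cfsg.Agent.Lib.Helper46.AschO

open Cfsg Cfsg.Geo Cfsg.Agent.Lib.Helper61.Asch
open scoped Matrix Kronecker MatrixGroups

variable {F : Type*} [Field F] [Fintype F] {n : ℕ}

local notation "V" => (Fin n → F)
local notation "Mat" => Matrix (Fin n) (Fin n) F
local notation "Z" => scalars (Fin n) F

theorem exists_Q_ne_zero (hn : 0 < n) {Q : V → F} (hQ : IsNondegenerateQuadraticForm Q) : ∃ v, Q v ≠ 0 := by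
  by_contra hcon
  push Not at hcon
  have hv : (Pi.single (⟨0, hn⟩ : Fin n) (1 : F) : V) ≠ 0 := by
    intro h
    have := congrFun h ⟨0, hn⟩
    simp at this
  obtain ⟨x, hx⟩ := (hQ.nondegenerate _ hv).1
  apply hx
  unfold QuadraticMap.polar
  rw [hcon, hcon, hcon]
  ring

/-- multiplier of the inverse of a similarity -/
theorem similarity_inv {Q : V → F} {g : GL (Fin n) F} {c : Fˣ}
    (hc : ∀ v, Q ((g : Mat) *ᵥ v) = (c : F) * Q v) (v : V) :
    Q (((g⁻¹ : GL (Fin n) F) : Mat) *ᵥ v) = ((c⁻¹ : Fˣ) : F) * Q v := by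
  have h := hc (((g⁻¹ : GL (Fin n) F) : Mat) *ᵥ v)
  rw [Matrix.mulVec_mulVec, ← Units.val_mul, mul_inv_cancel, Units.val_one, Matrix.one_mulVec] at h
  rw [h, ← mul_assoc, ← Units.val_mul, inv_mul_cancel, Units.val_one, one_mul]

/-- a scalar commutator of similarities squares to one -/
theorem commutator_sq_eq_one (hn : 0 < n) {Q : V → F} (hQ : IsNondegenerateQuadraticForm Q)
    {x y : GL (Fin n) F} (hx : x ∈ quadSimilarityGroup Q) (hy : y ∈ quadSimilarityGroup Q)
    (hc : x * y * x⁻¹ * y⁻¹ ∈ Z) : (x * y * x⁻¹ * y⁻¹) ^ 2 = 1 := by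
  obtain ⟨cx, hcx⟩ := hx
  obtain ⟨cy, hcy⟩ := hy
  obtain ⟨l, hl⟩ := (mem_scalars_iff _).mp hc
  obtain ⟨v, hv⟩ := exists_Q_ne_zero hn hQ
  have h1 : Q (((x * y * x⁻¹ * y⁻¹ : GL (Fin n) F) : Mat) *ᵥ v) = Q v := by
    rw [Units.val_mul, Units.val_mul, Units.val_mul, ← Matrix.mulVec_mulVec, ← Matrix.mulVec_mulVec,
      ← Matrix.mulVec_mulVec, hcx, hcy, similarity_inv hcx, similarity_inv hcy]
    rw [← mul_assoc, ← mul_assoc, ← mul_assoc, ← Units.val_mul, ← Units.val_mul, ← Units.val_mul]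
    have : cx * cy * cx⁻¹ * cy⁻¹ = 1 := by
      rw [mul_comm cx cy, mul_assoc cy, mul_inv_cancel, mul_one, mul_inv_cancel]
    rw [this, Units.val_one, one_mul]
  rw [hl, Matrix.smul_mulVec, Matrix.one_mulVec, hQ.smul] at h1
  have h2 : ((l : F)) ^ 2 = 1 := by
    have : ((l : F) ^ 2 - 1) * Q v = 0 := by rw [sub_mul, h1, one_mul, sub_self]
    rcases mul_eq_zero.mp this with h | h
    · exact sub_eq_zero.mp h
    · exact absurd h hv
  apply Units.ext
  rw [Units.val_pow_eq_pow_val, hl, Units.val_one, smul_pow, one_pow, h2, one_smul]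

theorem false_of_abelian_mod_scalars (hn : 3 ≤ n) (hodd : Odd n) (Q : V → F)
    (hQ : IsNondegenerateQuadraticForm Q) (K N : Subgroup (GL (Fin n) F))
    (hKΔ : K ≤ quadSimilarityGroup Q) (hZN : Z ≤ N) (hNK : N ≤ K) (hKN : NormBy K N) (hNZ : ¬ N ≤ Z)
    (hspan : spanAlg N = ⊤)
    (hcomm : ∀ x ∈ N, ∀ y ∈ N, x * y * x⁻¹ * y⁻¹ ∈ Z)
    (hmin : ∀ M : Subgroup (GL (Fin n) F), Z ≤ M → M ≤ N → NormBy K M → M = Z ∨ M = N)
    (hab : ∀ B : Subgroup (GL (Fin n) F), B ≤ N → NormBy K B → (∀ x ∈ B, ∀ y ∈ B, x * y = y * x) → B ≤ Z) :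
    False := by
  obtain ⟨r, hr, hexp⟩ := exists_prime_exponent K N hZN hNZ hKN hcomm hmin
  obtain ⟨R, _, _, _, _, _, _, _, m, _, hnm, _, _⟩ :=
    Cfsg.Agent.Lib.Helper80.Asch.exists_symplecticType K N (by omega) hZN hNK hKN hspan r hr hcomm hexp hmin hab
  have hrodd : Odd r := by
    rw [hnm] at hodd
    cases m with
    | zero => omega
    | succ k =>
      rw [pow_succ] at hodd
      exact Nat.Odd.of_mul_right hodd
  apply hNZ
  apply hab N le_rfl hKN
  intro x hx y hy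
  set c := x * y * x⁻¹ * y⁻¹ with hcdef
  have hcZ : c ∈ Z := hcomm x hx y hy
  have hc2 : c ^ 2 = 1 :=
    commutator_sq_eq_one (by omega) hQ (hKΔ (hNK hx)) (hKΔ (hNK hy)) hcZ
  have hcr : c ^ r = 1 := by
    have hyr : y ^ r ∈ Z := hexp y hy
    have h1 : x * y * x⁻¹ = c * y := by rw [hcdef]; group
    have h2 : x * y ^ r * x⁻¹ = (c * y) ^ r := by
      rw [← h1, conj_pow]
    have h3 : x * y ^ r * x⁻¹ = y ^ r := by
      rw [← scalar_comm hyr x]; group
    have h4 : (c * y) ^ r = c ^ r * y ^ r := (Commute.mul_pow (scalar_comm hcZ y) r)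
    rw [h3, h4] at h2
    have := mul_right_cancel (b := y ^ r) (a := 1) (c := c ^ r) (by rw [one_mul]; exact h2)
    exact this.symm
  have hc1 : c = 1 := by
    have hd1 : orderOf c ∣ 2 := orderOf_dvd_of_pow_eq_one hc2
    have hd2 : orderOf c ∣ r := orderOf_dvd_of_pow_eq_one hcr
    have hcop : Nat.Coprime 2 r := (Nat.coprime_two_left).mpr hrodd
    have : orderOf c ∣ 1 := by
      have := Nat.dvd_gcd hd1 hd2
      rwa [hcop] at this
    exact orderOf_eq_one_iff.mp (Nat.dvd_one.mp this)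
  have : x * y = c * (y * x) := by rw [hcdef]; group
  rw [this, hc1, one_mul]

end Cfsg.Agent.Lib.Helper46.AschO
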