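import Mathlib
import Cfsg.Prelude.Def_GeometricClasses
import Cfsg.Agent.Lib.Helper61.AschDefs
import Cfsg.Agent.Lib.Helper61.AschBasic
import Cfsg.Agent.Lib.Helper61.AschGlueA
import Cfsg.Agent.Lib.Helper61.AschGlueC
import Cfsg.Agent.Lib.Helper42.AschC5
import Cfsg.Agent.Lib.Helper72.AschC6
import Cfsg.Agent.Lib.Helper46.AschODefs
import Cfsg.Agent.Lib.Helper46.AschOBasic
import Cfsg.Agent.Lib.Helper46.AschOLeaves

/-!
S5673 glue, part F: the residual case (copy of helper61's `AschGlueF.residual_core` with the form-aware leaves).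
-/

set_option autoImplicit false

namespace Cfsg.Agent.Lib.Helper46.AschO

open Cfsg Cfsg.Geo Cfsg.Agent.Lib.Helper61.Asch
open Cfsg.Agent.Lib.Helper46.AschOL
open scoped Matrix Kronecker MatrixGroups commutatorElement

variable {F : Type*} [Field F] [Fintype F] {n : ℕ}

local notation "V" => (Fin n → F)
local notation "Mat" => Matrix (Fin n) (Fin n) F
local notation "Z" => scalars (Fin n) F

/-- the residual case, core -/
theorem residual_core_orth (hodd : Odd n) (h2 : (2 : F) ≠ 0) (Q : V → F)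
    (hQ : IsNondegenerateQuadraticForm Q) (hdisc : DiscInPrimeField Q)
    (H K N P : Subgroup (GL (Fin n) F)) (hHK : H ≤ K) (hHI : H ≤ isometryGroup F Q)
    (hG : ¬ OGeom Q K) (hPN : P ≤ N) (hspanP : spanAlg P = ⊤) (hKP : NormBy K P) (hPH : P ≤ H)
    (hPperf : ⁅P, P⁆ = P) (hPZ : ¬ P ≤ Z) (hperf : P ⊔ Z = N)
    (hsimple : ¬ ∃ M : Subgroup (GL (Fin n) F), Z ≤ M ∧ M ≤ N ∧ NormBy N M ∧ M ≠ Z ∧ M ≠ N) :
    InOrthogonalResidualClass H := by
  have hcent : ∀ h : GL (Fin n) F, (∀ x ∈ P, h * x * h⁻¹ * x⁻¹ ∈ Z) → h ∈ Z := by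
    intro h hh
    apply mem_scalars_of_commute hspanP
    have hle : P ≤ Subgroup.centralizer {h} := by
      rw [← hPperf, Subgroup.commutator_le]
      intro x hx y hy
      rw [Subgroup.mem_centralizer_iff]
      intro h' hh'
      rw [Set.mem_singleton_iff] at hh'
      subst hh'
      have hx' : h' * x * h'⁻¹ = x * (x⁻¹ * (h' * x * h'⁻¹ * x⁻¹) * x) := by group
      have hy' : h' * y * h'⁻¹ = y * (y⁻¹ * (h' * y * h'⁻¹ * y⁻¹) * y) := by group
      have hzx : x⁻¹ * (h' * x * h'⁻¹ * x⁻¹) * x ∈ Z := by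
        have := (scalars_normal (ι := Fin n) (F := F)).conj_mem _ (hh x hx) x⁻¹
        simpa using this
      have hzy : y⁻¹ * (h' * y * h'⁻¹ * y⁻¹) * y ∈ Z := by
        have := (scalars_normal (ι := Fin n) (F := F)).conj_mem _ (hh y hy) y⁻¹
        simpa using this
      have h1 : h' * ⁅x, y⁆ * h'⁻¹ = ⁅h' * x * h'⁻¹, h' * y * h'⁻¹⁆ := by
        rw [commutatorElement_def, commutatorElement_def]; group
      have h2 : h' * ⁅x, y⁆ * h'⁻¹ = ⁅x, y⁆ := by
        rw [h1, hx', hy', commutatorElement_mul_scalars hzx hzy]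
      calc h' * ⁅x, y⁆ = (h' * ⁅x, y⁆ * h'⁻¹) * h' := by group
        _ = ⁅x, y⁆ * h' := by rw [h2]
    intro x hx
    have := hle hx
    rw [Subgroup.mem_centralizer_iff] at this
    exact (this h rfl)
  have hnosub : ∀ F₀ : Subfield F, F₀ ≠ ⊤ → ¬ RealisableOver F₀ (matrixSet P) := by
    intro F₀ hF₀ hreal
    obtain ⟨F₁, r, hr, hle, hcard⟩ := Cfsg.Agent.Lib.Helper72.Asch.exists_subfield_prime_index F₀ hF₀
    obtain ⟨B, hB⟩ := hreal
    have hB' : ∀ s ∈ matrixSet P, ∀ i j, ((B : Mat) * s * ((B⁻¹ : GL (Fin n) F) : Mat)) i j ∈ F₁ :=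
      fun s hs i j => hle (hB s hs i j)
    have hK1 := le_subfieldSubgroup_of_conj_mem K P hspanP hKP F₁ B hB'
    obtain ⟨P', hrat, hP'⟩ :=
      exists_rational_structure hodd h2 Q hQ hdisc P hspanP (hPH.trans hHI) F₁ B hB'
    apply hG
    refine ⟨subfieldSubgroup F₁ P', ?_, by rw [hP']; exact hK1⟩
    exact Or.inr (Or.inr (Or.inr (Or.inr (Or.inr (Or.inr (Or.inl ⟨F₁, r, P', hr, hcard, hrat, rfl⟩))))))
  refine ⟨P, ⟨hPH, fun h hh x hx => hKP h (hHK hh) x hx, hPperf, ?_, ?_, fun h _ hh => hcent h hh,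
    actsAbsolutelyIrreducibly_of_spanAlg_eq_top hspanP, hnosub⟩, ?_⟩
  · -- simple
    haveI hnt : Nontrivial (P ⧸ (scalars (Fin n) F).subgroupOf P) := by
      rw [QuotientGroup.nontrivial_iff]
      intro h
      apply hPZ
      intro x hx
      have : (⟨x, hx⟩ : P) ∈ (scalars (Fin n) F).subgroupOf P := by rw [h]; trivial
      exact Subgroup.mem_subgroupOf.mp this
    refine ⟨fun L hL => ?_⟩
    let L' : Subgroup P := L.comap (QuotientGroup.mk' ((scalars (Fin n) F).subgroupOf P))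
    have hL'n : L'.Normal := Subgroup.Normal.comap hL _
    have hZL' : (scalars (Fin n) F).subgroupOf P ≤ L' := by
      intro x hx
      show QuotientGroup.mk' _ x ∈ L
      have : QuotientGroup.mk' ((scalars (Fin n) F).subgroupOf P) x = 1 := by
        rw [QuotientGroup.mk'_apply, QuotientGroup.eq_one_iff]; exact hx
      rw [this]; exact L.one_mem
    have hLmap : L = L'.map (QuotientGroup.mk' ((scalars (Fin n) F).subgroupOf P)) := by
      rw [Subgroup.map_comap_eq_self_of_surjective (QuotientGroup.mk'_surjective _)]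
    let M : Subgroup (GL (Fin n) F) := L'.map P.subtype ⊔ Z
    have hZM : Z ≤ M := le_sup_right
    have hL'P : L'.map P.subtype ≤ P := by
      rintro _ ⟨x, _, rfl⟩; exact x.2
    have hMN : M ≤ N := by
      rw [← hperf]
      exact sup_le_sup hL'P (le_refl _)
    have hNM : NormBy N M := by
      apply NormBy.sup _ (normBy_scalars N)
      intro k hk x hx
      obtain ⟨y, hy, rfl⟩ := hx
      rw [← hperf] at hk
      obtain ⟨p, hp, z, hz, rfl⟩ := mem_sup_scalars hk
      have h1 : p * z * (P.subtype y) * (p * z)⁻¹ = p * (P.subtype y) * p⁻¹ := by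
        have := scalar_comm hz
        calc p * z * (P.subtype y) * (p * z)⁻¹ = p * (z * (P.subtype y) * z⁻¹) * p⁻¹ := by group
          _ = p * (P.subtype y) * p⁻¹ := by rw [this]; group
      rw [h1]
      have hmem : (⟨p, hp⟩ : P) * y * (⟨p, hp⟩ : P)⁻¹ ∈ L' := hL'n.conj_mem y hy ⟨p, hp⟩
      exact ⟨_, hmem, rfl⟩
    by_cases hMZ : M = Z
    · left
      rw [hLmap]
      rw [Subgroup.map_eq_bot_iff, QuotientGroup.ker_mk']
      intro x hx
      rw [Subgroup.mem_subgroupOf]
      have : (x : GL (Fin n) F) ∈ M := le_sup_left (a := L'.map P.subtype) ⟨x, hx, rfl⟩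
      rw [hMZ] at this
      exact this
    · right
      have hMN' : M = N := by
        by_contra hne
        exact hsimple ⟨M, hZM, hMN, hNM, hMZ, hne⟩
      have hL'top : L' = ⊤ := by
        rw [eq_top_iff]
        intro x _
        have hxN : (x : GL (Fin n) F) ∈ M := by rw [hMN']; exact hPN x.2
        obtain ⟨l, hl, z, hz, hxlz⟩ := mem_sup_scalars hxN
        obtain ⟨l', hl', rfl⟩ := hl
        have hzP : z ∈ P := by
          have : z = (P.subtype l')⁻¹ * (x : GL (Fin n) F) := by rw [hxlz]; group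
          rw [this]
          exact P.mul_mem (P.inv_mem l'.2) x.2
        have hz' : (⟨z, hzP⟩ : P) ∈ L' := hZL' (Subgroup.mem_subgroupOf.mpr hz)
        have : x = l' * ⟨z, hzP⟩ := by
          apply Subtype.ext
          simpa using hxlz
        rw [this]
        exact L'.mul_mem hl' hz'
      rw [hLmap, hL'top, ← MonoidHom.range_eq_map, MonoidHom.range_eq_top]
      exact QuotientGroup.mk'_surjective _
  · -- nonabelian
    intro hcomm
    apply hPZ
    rw [← hPperf, Subgroup.commutator_le]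
    intro x hx y hy
    have h1 := hcomm.is_comm.comm (QuotientGroup.mk' ((scalars (Fin n) F).subgroupOf P) ⟨x, hx⟩)
      (QuotientGroup.mk' ((scalars (Fin n) F).subgroupOf P) ⟨y, hy⟩)
    have h2 : QuotientGroup.mk' ((scalars (Fin n) F).subgroupOf P) (⁅(⟨x, hx⟩ : P), ⟨y, hy⟩⁆) = 1 := by
      rw [commutatorElement_def, map_mul, map_mul, map_mul, map_inv, map_inv, h1]
      group
    rw [QuotientGroup.mk'_apply, QuotientGroup.eq_one_iff, Subgroup.mem_subgroupOf] at h2
    simpa [commutatorElement_def] using h2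
  · -- no unitary form
    rintro ⟨σ, f, hf, hfix⟩
    have htr := trace_fixed_of_fixes_unitary Q hQ P (hPH.trans hHI) σ f hf hfix
    let F₀ : Subfield F := RingHom.eqLocusField (σ : F →+* F) (RingHom.id F)
    have hF₀ : F₀ ≠ ⊤ := by
      intro htop
      apply hf.ne_refl
      ext a
      have : a ∈ F₀ := by rw [htop]; trivial
      exact this
    exact hnosub F₀ hF₀
      (Cfsg.Agent.Lib.Helper42.Asch.realisableOver_of_trace_mem P hspanP F₀ (fun x hx => htr x hx))

/-- the residual case -/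
theorem residual_of_simple_orth (hodd : Odd n) (h2 : (2 : F) ≠ 0) (Q : V → F)
    (hQ : IsNondegenerateQuadraticForm Q) (hdisc : DiscInPrimeField Q)
    (H K N : Subgroup (GL (Fin n) F)) (hK : K = H ⊔ Z) (hHI : H ≤ isometryGroup F Q)
    (hG : ¬ OGeom Q K) (hNZ : ¬ N ≤ Z) (hKN : NormBy K N) (hNK : N ≤ K)
    (hspan : spanAlg N = ⊤) (hperf : ⁅N, N⁆ ⊔ Z = N)
    (hsimple : ¬ ∃ M : Subgroup (GL (Fin n) F), Z ≤ M ∧ M ≤ N ∧ NormBy N M ∧ M ≠ Z ∧ M ≠ N) :
    InOrthogonalResidualClass H := by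
  have hHK : H ≤ K := by rw [hK]; exact le_sup_left
  have hPH : ⁅N, N⁆ ≤ H := by
    calc ⁅N, N⁆ ≤ ⁅K, K⁆ := Subgroup.commutator_mono hNK hNK
      _ = ⁅H, H⁆ := by rw [hK, commutator_sup_scalars]
      _ ≤ H := commutator_le_self H
  have hPperf : ⁅⁅N, N⁆, ⁅N, N⁆⁆ = ⁅N, N⁆ := by
    conv_rhs => rw [← hperf, commutator_sup_scalars]
  have hPZ : ¬ ⁅N, N⁆ ≤ Z := by
    intro h
    apply hNZ
    rw [← hperf]
    exact sup_le h (le_refl _)
  exact residual_core_orth hodd h2 Q hQ hdisc H K N ⁅N, N⁆ hHK hHI hG (commutator_le_self N)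
    (by rw [← spanAlg_sup_scalars, hperf, hspan]) (hKN.commutator hKN) hPH hPperf hPZ hperf hsimple

end Cfsg.Agent.Lib.Helper46.AschO
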