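import Mathlib
import Cfsg.Prelude.Def_GeometricClasses
import Cfsg.Agent.Lib.Helper61.AschDefs
import Cfsg.Agent.Lib.Helper61.AschBasic
import Cfsg.Agent.Lib.Helper61.AschGlueC
import Cfsg.Agent.Lib.Helper61.AschGlueD
import Cfsg.Agent.Lib.Helper61.AschGlueF
import Cfsg.Agent.Lib.Helper46.AschODefs
import Cfsg.Agent.Lib.Helper46.AschOBasic
import Cfsg.Agent.Lib.Helper46.AschOLeaves
import Cfsg.Agent.Lib.Helper46.AschOGlueA
import Cfsg.Agent.Lib.Helper46.AschOGlueD
import Cfsg.Agent.Lib.Helper46.AschOGlueE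
import Cfsg.Agent.Lib.Helper46.AschOGlueF

/-!
S5673: Aschbacher's theorem for groups of isometries of a non-degenerate quadratic form in odd dimension over a finite field
of odd order (on `Fin n → F`), and its transport to the frozen statement.
-/

set_option autoImplicit false

namespace Cfsg.Agent.Lib.Helper46.AschO

open Cfsg Cfsg.Geo Cfsg.Agent.Lib.Helper61.Asch
open Cfsg.Agent.Lib.Helper46.AschOL
open scoped Matrix Kronecker MatrixGroups commutatorElement

variable {F : Type*} [Field F] [Fintype F] {n : ℕ}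

local notation "V" => (Fin n → F)
local notation "Mat" => Matrix (Fin n) (Fin n) F
local notation "Z" => scalars (Fin n) F

theorem two_ne_zero_of_odd_card46 (hq : Odd (Fintype.card F)) : (2 : F) ≠ 0 := by
  intro h
  have h1 : ringChar F = 2 := CharP.ringChar_of_prime_eq_zero Nat.prime_two (by exact_mod_cast h)
  have h2 := FiniteField.even_card_of_char_two h1
  obtain ⟨k, hk⟩ := hq
  omega

theorem aschbacher_orth (hn : 3 ≤ n) (hodd : Odd n) (hq : Odd (Fintype.card F)) (Q : V → F)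
    (hQ : IsNondegenerateQuadraticForm Q) (hdisc : DiscInPrimeField Q)
    (H : Subgroup (GL (Fin n) F)) (hH : H ≤ isometryGroup F Q) :
    OGeom Q (H ⊔ Z) ∨ InOrthogonalResidualClass H := by
  have h2 : (2 : F) ≠ 0 := two_ne_zero_of_odd_card46 hq
  obtain ⟨K, hK⟩ : ∃ K : Subgroup (GL (Fin n) F), K = H ⊔ Z := ⟨_, rfl⟩
  rw [← hK]
  have hHK : H ≤ K := by rw [hK]; exact le_sup_left
  have hZK : Z ≤ K := by rw [hK]; exact le_sup_right
  have hKΔ : K ≤ quadSimilarityGroup Q := by
    rw [hK]; exact sup_scalars_le_quadSimilarityGroup hQ hH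
  by_cases hG : OGeom Q K
  · exact Or.inl hG
  right
  have hKirr : ActsIrreducibly (matrixSet K) := by
    by_contra h
    exact hG (ogeom_of_reducible Q hQ h2 K hKΔ h)
  have hKZ : ¬ K ≤ Z := not_le_scalars_of_irreducible (by omega) hKirr
  have hT : ∀ N : Subgroup (GL (Fin n) F), N ≤ K → NormBy K N → N ≤ Z ∨ spanAlg N = ⊤ := by
    intro N hNK hN
    rcases normal_trichotomy_orth hn hodd h2 Q hQ hdisc H K N hK hH hKirr hNK hN with h | h
    · exact absurd h hG
    · exact h
  obtain ⟨N, hZN, hNK, hKN, hNZ, hmin⟩ := exists_minimal_normal K hZK hKZ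
  have hspan : spanAlg N = ⊤ := (hT N hNK hKN).resolve_left hNZ
  have hD1 : Z ≤ ⁅N, N⁆ ⊔ Z := le_sup_right
  have hD2 : ⁅N, N⁆ ⊔ Z ≤ N := sup_le (commutator_le_self N) hZN
  have hD3 : NormBy K (⁅N, N⁆ ⊔ Z) := (hKN.commutator hKN).sup (normBy_scalars K)
  rcases hmin _ hD1 hD2 hD3 with hD | hD
  · exfalso
    have hcomm : ∀ x ∈ N, ∀ y ∈ N, x * y * x⁻¹ * y⁻¹ ∈ Z := by
      intro x hx y hy
      have : ⁅x, y⁆ ∈ ⁅N, N⁆ ⊔ Z := Subgroup.mem_sup_left (Subgroup.commutator_mem_commutator hx hy)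
      rw [hD, commutatorElement_def] at this
      exact this
    have hab : ∀ B : Subgroup (GL (Fin n) F), B ≤ N → NormBy K B → (∀ x ∈ B, ∀ y ∈ B, x * y = y * x) →
        B ≤ Z := by
      intro B hBN hKB hB
      rcases hT B (hBN.trans hNK) hKB with h | h
      · exact h
      · intro b hb
        exact mem_scalars_of_commute h b (fun x hx => hB b hb x hx)
    exact false_of_abelian_mod_scalars hn hodd Q hQ K N hKΔ hZN hNK hKN hNZ hspan hcomm hmin hab
  · by_cases hns : ∃ M : Subgroup (GL (Fin n) F), Z ≤ M ∧ M ≤ N ∧ NormBy N M ∧ M ≠ Z ∧ M ≠ N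
    · exfalso
      exact hG (ogeom_of_nonsimple_perfect hn hodd h2 Q hQ K N hKΔ hZN hNK hKN hspan hD hmin hns)
    · exact residual_of_simple_orth hodd h2 Q hQ hdisc H K N hK hH hG hNZ hKN hNK hspan hD hns

/-- the frozen statement S5673, from the theorem on `Fin (2m+1)` by transport -/
theorem aschbacher_omega_odd (hodd : Odd (Fintype.card F)) (m : ℕ) (hm : 3 ≤ m)
    (H : Subgroup (GL (Unit ⊕ (Fin m ⊕ Fin m)) F))
    (hH : H ≤ isometryGroup F (quadFormOdd m F)) :
    (∃ M : Subgroup (GL (Unit ⊕ (Fin m ⊕ Fin m)) F), InOrthogonalOddClass m F M ∧ H ≤ M) ∨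
      InOrthogonalResidualClass H := by
  have hcard : Fintype.card (Unit ⊕ (Fin m ⊕ Fin m)) = 2 * m + 1 := by
    simp; omega
  let e : (Unit ⊕ (Fin m ⊕ Fin m)) ≃ Fin (2 * m + 1) := Fintype.equivFinOfCardEq hcard
  obtain ⟨hQ', hdisc', hI'⟩ := quadFormOdd_transport (F := F) hodd m e
  have hmain := aschbacher_orth (n := 2 * m + 1) (by omega) ⟨m, rfl⟩ hodd _ hQ' hdisc'
    (H.map (glReindex (F := F) e).toMonoidHom) (hI' H hH)
  rcases hmain with ⟨X', hX', hle⟩ | hres
  · left
    have hX := OShape.transport e (2 * m + 1) (quadFormOdd m F) X' hX'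
    refine ⟨_, OShape.of_class hX, le_inf ?_ hH⟩
    rw [← Subgroup.map_le_iff_le_comap]
    exact le_sup_left.trans hle
  · right
    exact residual_transport e H hres

end Cfsg.Agent.Lib.Helper46.AschO
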