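import Mathlib
import Cfsg.Agent.S1432
import Cfsg.Agent.S1436
import Cfsg.Agent.Lib.Helper11.BG144Glue
import Cfsg.Agent.Lib.Helper81.BG144R
import Cfsg.Agent.Lib.Helper60.BG144F
import Cfsg.Agent.Lib.Helper64.BG1363H
import Cfsg.Agent.Lib.Helper14.BG1435P7b
import Cfsg.Agent.Lib.Helper71.BG11a
import Cfsg.Prelude.Def_OddOrderChar

/-! Pack K-1537 (S1537), leaf L-I: `|R(a)|` is prime to `|C_M(b)|`. -/

set_option autoImplicit false

namespace Cfsg.Agent.Lib.Helper46.BG1537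

open Cfsg Subgroup

variable {G : Type*} [Group G] [Finite G]

/-- **L-I** `|R(a)|` is prime to `|C_M(b)|` for `a ∈ M_σ#`, `b ∈ M̂_σ - 1`. -/
theorem coprime_supportR (hG : IsMinSimpleOddOrder G) {M : Subgroup G} (hM : IsCoatom M)
    {a b : G} (ha : a ∈ sigmaCore M) (ha1 : a ≠ 1) (hb : b ∈ sigmaHat M) (hb1 : b ≠ 1) :
    Nat.Coprime (Nat.card (supportR M a)) (Nat.card ↥(M ⊓ centralizer ({b} : Set G))) := by
  by_cases hc : centralizer ({a} : Set G) ≤ M
  · rw [Cfsg.Agent.Lib.Helper81.BG144.supportR_eq_bot M a hc, Subgroup.card_bot]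
    exact Nat.coprime_one_left _
  obtain ⟨N, hN⟩ := Cfsg.Agent.Lib.Helper11.BG144.hB_main hG M hM a ha ha1 hc
  rw [Cfsg.Agent.Lib.Helper81.BG144.supportR_eq (Cfsg.Agent.Lib.Helper11.BG144.hC_main hG) hN]
  apply Nat.coprime_of_dvd
  intro q hq hq1 hq2
  have hqN : q ∈ sigma N := by
    apply Cfsg.Agent.Lib.Helper71.BG11.sigmaCore_pi hG hN.coatom hq
    exact hq1.trans (Subgroup.card_dvd_of_le inf_le_left)
  have hqM : q ∣ Nat.card M := hq2.trans (Subgroup.card_dvd_of_le inf_le_left)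
  obtain ⟨hk, ht⟩ :=
    (Cfsg.Agent.S1436.result hG M hM a ha ha1 hc N hN.coatom hN.cent_le).1 ⟨q, hqN, hqM⟩
  have : Fact q.Prime := ⟨hq⟩
  obtain ⟨c, hcord⟩ := exists_prime_orderOf_dvd_card' q hq2
  obtain ⟨hbM, y, hy, hy1, hby⟩ := hb
  -- the key consequence of S1432 with empty kappa and tau2
  have key : ∀ (x : G), x ∈ sigmaCore M → x ≠ 1 → ∀ x' : G, x' ∈ M → x * x' = x' * x → x' ≠ 1 →
      (∀ p : ℕ, p.Prime → p ∣ orderOf x' → p ∉ sigma M) → False := by
    intro x hx hx1 x' hx'M hcomm hx'1 hσ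
    have hx'C : x' ∈ centralizer ({x} : Set G) := by
      rw [Subgroup.mem_centralizer_iff]
      intro h hh
      rw [Set.mem_singleton_iff] at hh
      subst hh
      exact hcomm
    have hne : orderOf x' ≠ 1 := fun h => hx'1 (orderOf_eq_one_iff.mp h)
    obtain ⟨p, hp, hpd⟩ := Nat.exists_prime_and_dvd hne
    rcases Cfsg.Agent.S1432.result hG M hM x hx hx1 x' ⟨hx'M, hx'C⟩ hx'1 hσ with h | h
    · have := h.1 p hp hpd
      rw [hk] at this
      exact this
    · have := h.1 p hp hpd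
      rw [ht] at this
      exact this
  -- (1) `b ∈ M_σ`
  have hbσ : b ∈ sigmaCore M := by
    obtain ⟨b₁, b₂, hbb, hb₁, hb₂, hp₁, hcop⟩ :=
      Cfsg.Agent.Lib.Helper64.BG1363.exists_decomp b (Nat.card (sigmaCore M))
    by_cases hb₂1 : b₂ = 1
    · rw [hb₂1, mul_one] at hbb
      apply Cfsg.Agent.Lib.Helper64.BG1363.mem_sigmaCore_of_orderOf hG hM hbM
      intro p hp hpd
      rw [hbb] at hpd
      exact hp₁ p hp hpd
    · exfalso
      have hzM : zpowers b ≤ M := (Subgroup.zpowers_le).mpr hbM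
      have hzC : zpowers b ≤ centralizer ({y} : Set G) := by
        rw [Subgroup.zpowers_le, Subgroup.mem_centralizer_iff]
        intro h hh
        rw [Set.mem_singleton_iff] at hh
        subst hh
        exact hby.symm
      have hb₂C := hzC hb₂
      rw [Subgroup.mem_centralizer_iff] at hb₂C
      refine key y hy hy1 b₂ (hzM hb₂) (hb₂C y rfl) hb₂1 ?_
      intro p hp hpd hps
      have h1 := Cfsg.Agent.Lib.Helper14.BG1435.dvd_card_sigmaCore_of_mem_sigma hG hM hps
      have h2 : p ∣ Nat.gcd (orderOf b₂) (Nat.card (sigmaCore M)) := Nat.dvd_gcd hpd h1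
      rw [Nat.Coprime] at hcop
      rw [hcop] at h2
      exact hp.ne_one (Nat.dvd_one.mp h2)
  -- (2) `q ∈ σ(M)`
  have hqσ : q ∈ sigma M := by
    by_contra hqn
    have hcM : (c : G) ∈ M := (Subgroup.mem_inf.mp c.2).1
    have hcC : (c : G) ∈ centralizer ({b} : Set G) := (Subgroup.mem_inf.mp c.2).2
    rw [Subgroup.mem_centralizer_iff] at hcC
    have hco : orderOf (c : G) = q := by rw [Subgroup.orderOf_coe, hcord]
    have hc1 : (c : G) ≠ 1 := by
      intro h
      rw [h, orderOf_one] at hco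
      exact hq.ne_one hco.symm
    refine key b hbσ hb1 (c : G) hcM (hcC b rfl) hc1 ?_
    intro p hp hpd
    rw [hco] at hpd
    rw [(Nat.prime_dvd_prime_iff_eq hp hq).mp hpd]
    exact hqn
  exact Cfsg.Agent.Lib.Helper60.BG144.sigma_disjoint_of_supp hG hM hN hqσ hqN

end Cfsg.Agent.Lib.Helper46.BG1537
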