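import Mathlib
import Cfsg.Agent.Lib.Helper74.CR2Defs

/-!
# Keystone K-S4284-B4 (`two_primes_false`)

Two primes `p ≠ q` dividing `m` exactly once cannot have a `p`-element and a `q`-element with the
same centralizer.
-/

set_option autoImplicit false

namespace Cfsg.Agent.Lib.Helper46.CR2

open Subgroup Cfsg.Agent.Lib.Helper74.CR2

variable {G : Type*} [Group G]

/-- The centre of a subgroup `Y`, as a subgroup of `G`. -/
def ZY (Y : Subgroup G) : Subgroup G := Y ⊓ centralizer (Y : Set G)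

theorem ZY_comm (Y : Subgroup G) : ∀ a ∈ ZY Y, ∀ b ∈ ZY Y, a * b = b * a := by
  intro a ha b hb
  have h1 : b ∈ centralizer (Y : Set G) := hb.2
  rw [mem_centralizer_iff] at h1
  exact h1 a ha.1

/-- The `r`-primary part of a subgroup whose elements commute pairwise. -/
def ppart (A : Subgroup G) (hA : ∀ a ∈ A, ∀ b ∈ A, a * b = b * a) (r : ℕ) : Subgroup G where
  carrier := {a | a ∈ A ∧ ∃ k : ℕ, a ^ (r ^ k) = 1}
  mul_mem' := by
    rintro a b ⟨ha, k, hk⟩ ⟨hb, l, hl⟩
    refine ⟨A.mul_mem ha hb, k + l, ?_⟩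
    have hc : Commute a b := hA a ha b hb
    rw [hc.mul_pow, pow_add, pow_mul, hk, one_pow, mul_comm (r ^ k), pow_mul, hl, one_pow, one_mul]
  one_mem' := ⟨A.one_mem, 0, by simp⟩
  inv_mem' := by
    rintro a ⟨ha, k, hk⟩
    exact ⟨A.inv_mem ha, k, by rw [inv_pow, hk, inv_one]⟩

theorem mem_ppart {A : Subgroup G} {hA : ∀ a ∈ A, ∀ b ∈ A, a * b = b * a} {r : ℕ} {a : G} :
    a ∈ ppart A hA r ↔ a ∈ A ∧ ∃ k : ℕ, a ^ (r ^ k) = 1 := Iff.rfl

theorem ppart_le (A : Subgroup G) (hA : ∀ a ∈ A, ∀ b ∈ A, a * b = b * a) (r : ℕ) :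
    ppart A hA r ≤ A := fun _ h => h.1

theorem isPGroup_ppart (A : Subgroup G) (hA : ∀ a ∈ A, ∀ b ∈ A, a * b = b * a) (r : ℕ) :
    IsPGroup r (ppart A hA r) := by
  intro g
  obtain ⟨k, hk⟩ := g.2.2
  exact ⟨k, Subtype.ext (by simpa using hk)⟩

theorem idx_mem {m n : ℕ} (H : Hyp G m n) (g : G) :
    (centralizer ({g} : Set G)).index = 1 ∨ (centralizer ({g} : Set G)).index = m ∨
      (centralizer ({g} : Set G)).index = m * n := by
  have h1 : (centralizer ({g} : Set G)).index ∈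
      Set.range (fun x : G => (centralizer ({x} : Set G)).index) := ⟨g, rfl⟩
  rw [H.h] at h1
  simpa using h1

theorem mem_center_of_idx_one (g : G) (h : (centralizer ({g} : Set G)).index = 1) :
    g ∈ center G := by
  rw [Subgroup.index_eq_one, Subgroup.centralizer_eq_top_iff_subset] at h
  exact h (Set.mem_singleton g)

theorem mem_center_of_sylow_le [Finite G] {m n : ℕ} (H : Hyp G m n) (p : ℕ) [Fact p.Prime]
    (hp : p ∣ m) (P : Sylow p G) (a : G)
    (hPa : (P : Subgroup G) ≤ centralizer ({a} : Set G)) : a ∈ center G := by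
  apply mem_center_of_idx_one
  have h1 : (centralizer ({a} : Set G)).index ∣ (P : Subgroup G).index :=
    Subgroup.index_dvd_of_le hPa
  have h2 : ¬ p ∣ (P : Subgroup G).index := P.not_dvd_index
  rcases idx_mem H a with h | h | h
  · exact h
  · exact absurd (dvd_trans (h ▸ hp) h1) h2
  · exact absurd (dvd_trans (dvd_trans hp (h ▸ dvd_mul_right m n)) h1) h2

theorem dvd_idx {m n : ℕ} (H : Hyp G m n) (q : ℕ) [Fact q.Prime] (hq : q ∣ m)
    (hq2 : ¬ q ^ 2 ∣ m) (g : G) (hg : g ∉ center G) :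
    q ∣ (centralizer ({g} : Set G)).index ∧ ¬ q ^ 2 ∣ (centralizer ({g} : Set G)).index := by
  rcases idx_mem H g with h | h | h
  · exact absurd (mem_center_of_idx_one g h) hg
  · rw [h]; exact ⟨hq, hq2⟩
  · rw [h]
    refine ⟨dvd_mul_of_dvd_left hq n, fun h2 => hq2 ?_⟩
    have hqn : Nat.Coprime q n := Nat.Coprime.coprime_dvd_left hq H.hcop
    exact (Nat.Coprime.pow_left 2 hqn).dvd_of_dvd_mul_right h2

theorem center_le_ZY (w : G) : center G ≤ ZY (centralizer ({w} : Set G)) := by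
  intro z hz
  rw [mem_center_iff] at hz
  refine Subgroup.mem_inf.mpr ⟨?_, ?_⟩
  · rw [mem_centralizer_singleton_iff]; exact (hz w).symm
  · rw [mem_centralizer_iff]; intro h _; exact hz h

theorem self_mem_ZY (w : G) : w ∈ ZY (centralizer ({w} : Set G)) := by
  refine Subgroup.mem_inf.mpr ⟨?_, ?_⟩
  · rw [mem_centralizer_singleton_iff]
  · rw [mem_centralizer_iff]
    intro h hh
    rw [SetLike.mem_coe, mem_centralizer_singleton_iff] at hh
    exact hh

/-- The cardinality of the `r`-part of the centre of `C(w)`. -/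
theorem card_part [Finite G] {m n : ℕ} (H : Hyp G m n) (r : ℕ) [Fact r.Prime] (hr : r ∣ m)
    (hr2 : ¬ r ^ 2 ∣ m)
    (hR : ∀ R : Sylow r G, Nat.card (R : Subgroup G) =
      r ^ 2 * Nat.card ((R : Subgroup G) ⊓ center G : Subgroup G))
    (w : G) (hw : ∃ k : ℕ, orderOf w = r ^ k) (hwZ : w ∉ center G) :
    Nat.card (ppart (ZY (centralizer ({w} : Set G))) (ZY_comm _) r) =
      r * Nat.card (ppart (ZY (centralizer ({w} : Set G))) (ZY_comm _) r ⊓ center G :
        Subgroup G) := by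
  have hrp : r.Prime := Fact.out
  set Y := centralizer ({w} : Set G) with hY
  set Ar := ppart (ZY Y) (ZY_comm _) r with hAr
  have hArp : IsPGroup r Ar := isPGroup_ppart _ _ _
  obtain ⟨R, hAR⟩ := hArp.exists_le_sylow
  have hRZ : ((R : Subgroup G) ⊓ center G : Subgroup G) = Ar ⊓ center G := by
    apply le_antisymm
    · intro z hz
      refine ⟨⟨center_le_ZY w hz.2, ?_⟩, hz.2⟩
      obtain ⟨k, hk⟩ := R.isPGroup' ⟨z, hz.1⟩
      exact ⟨k, by simpa using congrArg Subtype.val hk⟩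
    · exact inf_le_inf_right _ hAR
  have hRc := hR R
  rw [hRZ] at hRc
  have hZp : IsPGroup r (Ar ⊓ center G : Subgroup G) := hArp.to_le inf_le_left
  obtain ⟨c, hc⟩ := IsPGroup.iff_card.mp hZp
  obtain ⟨j, hj⟩ := IsPGroup.iff_card.mp hArp
  have hcj : c ≤ j := by
    have h1 : Nat.card (Ar ⊓ center G : Subgroup G) ∣ Nat.card Ar :=
      Subgroup.card_dvd_of_le inf_le_left
    rw [hc, hj] at h1
    exact (Nat.pow_dvd_pow_iff_le_right hrp.one_lt).mp h1
  have hwA : w ∈ Ar := by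
    refine ⟨self_mem_ZY w, ?_⟩
    obtain ⟨k, hk⟩ := hw
    exact ⟨k, by rw [← hk]; exact pow_orderOf_eq_one w⟩
  have hne : c ≠ j := by
    intro hcj'
    have h1 : (Ar ⊓ center G : Subgroup G) = Ar := by
      apply Subgroup.eq_of_le_of_card_ge inf_le_left
      rw [hc, hj, hcj']
    have h2 : w ∈ (Ar ⊓ center G : Subgroup G) := by rw [h1]; exact hwA
    exact hwZ h2.2
  have hj1 : j + 1 ≤ c + 2 := by
    have h1 : Nat.card Ar ∣ Nat.card Y :=
      Subgroup.card_dvd_of_le ((ppart_le _ _ _).trans inf_le_left)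
    have h2 : Nat.card Y * Y.index = Nat.card G := Subgroup.card_mul_index Y
    have h3 : r ∣ Y.index := (dvd_idx H r hr hr2 w hwZ).1
    have h4 : r ^ (j + 1) ∣ Nat.card G := by
      rw [← h2, pow_succ, ← hj]
      exact mul_dvd_mul h1 h3
    have h5 := R.card_eq_multiplicity
    rw [hRc, hc, ← pow_add] at h5
    have h6 : 2 + c = (Nat.card G).factorization r := Nat.pow_right_injective hrp.two_le h5
    have h7 := (hrp.pow_dvd_iff_le_factorization Nat.card_pos.ne').mp h4
    omega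
  have hjc : j = c + 1 := by omega
  rw [hj, hc, hjc, pow_succ, mul_comm]

/-- A Sylow `p`-subgroup with `|P : P ∩ Z| = p ^ 2` normalizes the centralizers of its elements. -/
theorem conj_mem_centralizer [Finite G] (p : ℕ) [Fact p.Prime] (P : Sylow p G)
    (hP : Nat.card (P : Subgroup G) =
      p ^ 2 * Nat.card ((P : Subgroup G) ⊓ center G : Subgroup G))
    (u : G) (hu : u ∈ (P : Subgroup G)) (x : G) (hx : x ∈ (P : Subgroup G)) (y : G)
    (hy : y ∈ centralizer ({u} : Set G)) : x * y * x⁻¹ ∈ centralizer ({u} : Set G) := by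
  have hpp : p.Prime := Fact.out
  set N : Subgroup (P : Subgroup G) := (center G).subgroupOf (P : Subgroup G) with hN
  have hNn : N.Normal := inferInstance
  have hcardN : Nat.card N = Nat.card ((P : Subgroup G) ⊓ center G : Subgroup G) := by
    rw [hN, ← inf_subgroupOf_left]
    exact Nat.card_congr (subgroupOfEquivOfLe inf_le_left).toEquiv
  have hidx : Nat.card ((P : Subgroup G) ⧸ N) = p ^ 2 := by
    rw [← Subgroup.index_eq_card]
    have h1 := Subgroup.card_mul_index N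
    rw [hP, hcardN, mul_comm] at h1
    exact Nat.eq_of_mul_eq_mul_right Nat.card_pos h1
  have hcomm := (IsPGroup.isMulCommutative_of_card_eq_prime_sq hidx).is_comm.comm
  have h1 := hcomm (QuotientGroup.mk ⟨x, hx⟩) (QuotientGroup.mk ⟨u, hu⟩)
  rw [← QuotientGroup.mk_mul, ← QuotientGroup.mk_mul, QuotientGroup.eq] at h1
  have h2 : (x * u)⁻¹ * (u * x) ∈ center G := by
    have := mem_subgroupOf.mp h1
    simpa using this
  rw [mem_center_iff] at h2
  rw [mem_centralizer_singleton_iff] at hy ⊢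
  set c : G := (x * u)⁻¹ * (u * x) with hc
  have e1 : x⁻¹ * u = u * c * x⁻¹ := by rw [hc]; group
  have e2 : x * u * c = u * x := by rw [hc]; group
  calc x * y * x⁻¹ * u = x * y * (x⁻¹ * u) := by group
    _ = x * y * (u * c * x⁻¹) := by rw [e1]
    _ = x * (y * u) * c * x⁻¹ := by group
    _ = x * (u * y) * c * x⁻¹ := by rw [hy]
    _ = x * u * (y * c) * x⁻¹ := by group
    _ = x * u * (c * y) * x⁻¹ := by rw [h2 y]
    _ = (x * u * c) * y * x⁻¹ := by group
    _ = u * x * y * x⁻¹ := by rw [e2]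
    _ = u * (x * y * x⁻¹) := by group

/-- Conjugation by an element normalizing `Y` preserves the `q`-part of the centre of `Y`. -/
theorem conj_mem_ppart (Y : Subgroup G) (q : ℕ) (x : G)
    (hx : ∀ y ∈ Y, x * y * x⁻¹ ∈ Y) (hx' : ∀ y ∈ Y, x⁻¹ * y * x ∈ Y) (a : G)
    (ha : a ∈ ppart (ZY Y) (ZY_comm Y) q) : x * a * x⁻¹ ∈ ppart (ZY Y) (ZY_comm Y) q := by
  obtain ⟨haZ, k, hk⟩ := ha
  obtain ⟨haY, haC⟩ := Subgroup.mem_inf.mp haZ
  refine ⟨Subgroup.mem_inf.mpr ⟨hx a haY, ?_⟩, k, ?_⟩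
  · rw [mem_centralizer_iff] at haC ⊢
    intro y hy
    have h1 := haC (x⁻¹ * y * x) (hx' y hy)
    calc y * (x * a * x⁻¹) = x * ((x⁻¹ * y * x) * a) * x⁻¹ := by group
      _ = x * (a * (x⁻¹ * y * x)) * x⁻¹ := by rw [h1]
      _ = x * a * x⁻¹ * y := by group
  · rw [conj_pow, hk]; group

/-- The asymmetric half of `two_primes_false`. -/
theorem prime_dvd_pred [Finite G] {m n : ℕ} (H : Hyp G m n)
    (p q : ℕ) [Fact p.Prime] [Fact q.Prime] (hpq : p ≠ q) (hp : p ∣ m) (hq : q ∣ m)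
    (hq2 : ¬ q ^ 2 ∣ m)
    (hP : ∀ P : Sylow p G,
      Nat.card (P : Subgroup G) = p ^ 2 * Nat.card ((P : Subgroup G) ⊓ center G : Subgroup G))
    (hQ : ∀ Q : Sylow q G,
      Nat.card (Q : Subgroup G) = q ^ 2 * Nat.card ((Q : Subgroup G) ⊓ center G : Subgroup G))
    (u s : G) (hu : ∃ k : ℕ, orderOf u = p ^ k) (hs : ∃ k : ℕ, orderOf s = q ^ k)
    (hsZ : s ∉ center G)
    (hus : centralizer ({u} : Set G) = centralizer ({s} : Set G)) : p ∣ q - 1 := by
  have hpp : p.Prime := Fact.out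
  have hqp : q.Prime := Fact.out
  have hcard := card_part H q hq hq2 hQ s hs hsZ
  rw [← hus] at hcard
  set Y := centralizer ({u} : Set G) with hY
  set Aq := ppart (ZY Y) (ZY_comm Y) q with hAq
  have hup : IsPGroup p (zpowers u) := by
    obtain ⟨k, hk⟩ := hu
    exact IsPGroup.of_card (n := k) (by rw [Nat.card_zpowers, hk])
  obtain ⟨P, huP⟩ := hup.exists_le_sylow
  have huP' : u ∈ (P : Subgroup G) := huP (mem_zpowers u)
  have hnorm : ∀ x ∈ (P : Subgroup G), ∀ y ∈ Y, x * y * x⁻¹ ∈ Y :=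
    fun x hx y hy => conj_mem_centralizer p P (hP P) u huP' x hx y hy
  have hPN : (P : Subgroup G) ≤ normalizer (Aq : Set G) := by
    intro x hx
    rw [mem_normalizer_iff]
    intro a
    have hx' : x⁻¹ ∈ (P : Subgroup G) := inv_mem hx
    constructor
    · exact conj_mem_ppart Y q x (hnorm x hx)
        (fun y hy => by simpa using hnorm x⁻¹ hx' y hy) a
    · intro h
      have h1 := conj_mem_ppart Y q x⁻¹ (hnorm x⁻¹ hx')
        (fun y hy => by simpa using hnorm x hx y hy) _ h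
      have e : x⁻¹ * (x * a * x⁻¹) * x⁻¹⁻¹ = a := by group
      rwa [e] at h1
  set K : Subgroup (normalizer (Aq : Set G)) :=
    (P : Subgroup G).subgroupOf (normalizer (Aq : Set G)) with hK
  have hKp : IsPGroup p K := P.isPGroup'.comap_subtype
  have hmod := hKp.card_modEq_card_fixedPoints (Aq)
  have hfix : Nat.card (MulAction.fixedPoints K Aq) =
      Nat.card (Aq ⊓ center G : Subgroup G) := by
    apply Nat.card_congr
    refine
      { toFun := fun a => ⟨a.1.1, Subgroup.mem_inf.mpr ⟨a.1.2, ?_⟩⟩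
        invFun := fun z => ⟨⟨z.1, (Subgroup.mem_inf.mp z.2).1⟩, ?_⟩
        left_inv := fun a => rfl
        right_inv := fun z => rfl }
    · apply mem_center_of_sylow_le H p hp P
      intro x hx
      rw [mem_centralizer_singleton_iff]
      have h1 := a.2 ⟨⟨x, hPN hx⟩, mem_subgroupOf.mpr hx⟩
      have h2 : x * a.1.1 * x⁻¹ = a.1.1 := congrArg Subtype.val h1
      calc x * a.1.1 = (x * a.1.1 * x⁻¹) * x := by group
        _ = a.1.1 * x := by rw [h2]
    · intro k
      apply Subtype.ext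
      show (k.1.1 * z.1 * k.1.1⁻¹ : G) = z.1
      have hz := (Subgroup.mem_inf.mp z.2).2
      rw [mem_center_iff] at hz
      rw [hz, mul_inv_cancel_right]
  rw [hfix, hcard] at hmod
  have hZp : IsPGroup q (Aq ⊓ center G : Subgroup G) :=
    (isPGroup_ppart _ _ _).to_le inf_le_left
  obtain ⟨c, hc⟩ := IsPGroup.iff_card.mp hZp
  set t := Nat.card (Aq ⊓ center G : Subgroup G) with ht
  have hle : t ≤ q * t := Nat.le_mul_of_pos_left t hqp.pos
  have hdvd : p ∣ q * t - t := (Nat.modEq_iff_dvd' hle).mp hmod.symm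
  rw [← Nat.sub_one_mul] at hdvd
  rcases (hpp.dvd_mul).mp hdvd with h | h
  · exact h
  · exfalso
    rw [hc] at h
    exact hpq ((Nat.prime_dvd_prime_iff_eq hpp hqp).mp (hpp.dvd_of_dvd_pow h))

/-- KB4: two primes dividing `m` cannot share a centralizer. -/
theorem two_primes_false {G : Type*} [Group G] [Finite G] {m n : ℕ} (H : Hyp G m n)
    (p q : ℕ) [Fact p.Prime] [Fact q.Prime] (hpq : p ≠ q) (hp : p ∣ m) (hq : q ∣ m)
    (hp2 : ¬ p ^ 2 ∣ m) (hq2 : ¬ q ^ 2 ∣ m)
    (hP : ∀ P : Sylow p G,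
      Nat.card (P : Subgroup G) = p ^ 2 * Nat.card ((P : Subgroup G) ⊓ center G : Subgroup G))
    (hQ : ∀ Q : Sylow q G,
      Nat.card (Q : Subgroup G) = q ^ 2 * Nat.card ((Q : Subgroup G) ⊓ center G : Subgroup G))
    (u s : G) (hu : ∃ k : ℕ, orderOf u = p ^ k) (hs : ∃ k : ℕ, orderOf s = q ^ k)
    (huZ : u ∉ center G) (hsZ : s ∉ center G)
    (hus : centralizer ({u} : Set G) = centralizer ({s} : Set G)) : False := by
  have hpp : p.Prime := Fact.out
  have hqp : q.Prime := Fact.out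
  have h1 := prime_dvd_pred H p q hpq hp hq hq2 hP hQ u s hu hs hsZ hus
  have h2 := prime_dvd_pred H q p hpq.symm hq hp hp2 hQ hP s u hs hu huZ hus.symm
  have h3 : p ≤ q - 1 := Nat.le_of_dvd (by have := hqp.two_le; omega) h1
  have h4 : q ≤ p - 1 := Nat.le_of_dvd (by have := hpp.two_le; omega) h2
  omega

end Cfsg.Agent.Lib.Helper46.CR2
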