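import Mathlib

set_option autoImplicit false
set_option linter.unusedSectionVars false

namespace Cfsg.Agent.Lib.Helper46

section char2

variable {F : Type*} [Field F] [Fintype F]

/-- A finite field of even order has characteristic two. -/
theorem charP_two_of_even (h : Even (Fintype.card F)) : CharP F 2 := by
  obtain ⟨p, hp⟩ := CharP.exists F
  have := hp
  have : Fact p.Prime := ⟨CharP.char_is_prime F p⟩
  obtain ⟨n, hpr, hn⟩ := FiniteField.card F p
  have h2 : 2 ∣ p ^ (n : ℕ) := by
    rw [← hn]
    exact even_iff_two_dvd.1 h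
  have h3 : 2 ∣ p := Nat.Prime.dvd_of_dvd_pow Nat.prime_two h2
  have h4 : p = 2 := ((Nat.prime_dvd_prime_iff_eq Nat.prime_two hpr).1 h3).symm
  rw [← h4]
  exact hp

variable [CharP F 2]

/-- The Artin–Schreier map. -/
def asMap : F →+ F where
  toFun y := y * y + y
  map_zero' := by simp
  map_add' a b := by
    have : (a + b) * (a + b) = a * a + b * b := by
      have h2 : (2 : F) = 0 := CharTwo.two_eq_zero
      linear_combination (a * b) * h2
    rw [this]
    ring

theorem asMap_apply (y : F) : asMap y = y * y + y := rfl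

theorem exists_sqrt (a : F) : ∃ b : F, b * b = a := by
  have hinj : Function.Injective (fun b : F => b * b) := by
    intro b c hbc
    simp only at hbc
    have h1 : (b + c) * (b + c) = 0 := by
      have h2 : (2 : F) = 0 := CharTwo.two_eq_zero
      have : (b + c) * (b + c) = b * b + c * c + (b * c) * 2 := by ring
      rw [this, h2, mul_zero, add_zero, hbc, CharTwo.add_self_eq_zero]
    have h3 : b + c = 0 := by
      rcases mul_eq_zero.1 h1 with h | h <;> exact h
    exact (CharTwo.add_eq_zero.1 h3)
  exact (Finite.injective_iff_surjective.1 hinj) a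

theorem sq_injective : Function.Injective (fun b : F => b * b) := by
  intro b c hbc
  simp only at hbc
  have h1 : (b + c) * (b + c) = 0 := by
    have h2 : (2 : F) = 0 := CharTwo.two_eq_zero
    have : (b + c) * (b + c) = b * b + c * c + (b * c) * 2 := by ring
    rw [this, h2, mul_zero, add_zero, hbc, CharTwo.add_self_eq_zero]
  have h3 : b + c = 0 := by
    rcases mul_eq_zero.1 h1 with h | h <;> exact h
  exact (CharTwo.add_eq_zero.1 h3)

theorem sq_bijective : Function.Bijective (fun b : F => b * b) :=
  ⟨sq_injective, Finite.injective_iff_surjective.1 sq_injective⟩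

theorem asMap_eq_zero_iff (y : F) : asMap y = 0 ↔ y = 0 ∨ y = 1 := by
  rw [asMap_apply]
  constructor
  · intro h
    have h1 : y * (y + 1) = 0 := by linear_combination h
    rcases mul_eq_zero.1 h1 with h2 | h2
    · exact Or.inl h2
    · right
      exact CharTwo.add_eq_zero.1 h2
  · rintro (h | h)
    · rw [h]; simp
    · rw [h]
      simp [CharTwo.add_self_eq_zero]

/-- There is a primitive additive character trivial on the image of the Artin–Schreier map. -/
theorem exists_as_char : ∃ ψ : AddChar F ℂ, ψ.IsPrimitive ∧ ∀ y : F, ψ (y * y + y) = 1 := by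
  classical
  have hns : ¬ Function.Surjective (asMap (F := F)) := by
    intro hs
    have hinj := Finite.injective_iff_surjective.2 hs
    have h1 : asMap (1 : F) = asMap 0 := by
      rw [map_zero, (asMap_eq_zero_iff 1).2 (Or.inr rfl)]
    exact one_ne_zero (hinj h1)
  obtain ⟨x₀, hx₀⟩ : ∃ x₀ : F, x₀ ∉ (asMap (F := F)).range := by
    by_contra hcon
    push Not at hcon
    apply hns
    intro x
    exact hcon x
  have hne : (QuotientAddGroup.mk x₀ : F ⧸ (asMap (F := F)).range) ≠ 0 := by
    intro h
    exact hx₀ ((QuotientAddGroup.eq_zero_iff x₀).1 h)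
  obtain ⟨ψ', hψ'⟩ := (AddChar.exists_apply_ne_zero (α := F ⧸ (asMap (F := F)).range)
    (a := (QuotientAddGroup.mk x₀))).2 hne
  refine ⟨ψ'.compAddMonoidHom (QuotientAddGroup.mk' _), ?_, ?_⟩
  · apply AddChar.IsPrimitive.of_ne_one
    rw [AddChar.ne_one_iff]
    exact ⟨x₀, hψ'⟩
  · intro y
    change ψ' (QuotientAddGroup.mk (y * y + y)) = 1
    have : (QuotientAddGroup.mk (y * y + y) : F ⧸ (asMap (F := F)).range) = 0 := by
      rw [QuotientAddGroup.eq_zero_iff]
      exact ⟨y, rfl⟩
    rw [this, AddChar.map_zero_eq_one]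

theorem char_sq_eq_one (ψ : AddChar F ℂ) (x : F) : ψ x * ψ x = 1 := by
  rw [← AddChar.map_add_eq_mul, CharTwo.add_self_eq_zero, AddChar.map_zero_eq_one]

theorem char_eq_one_or (ψ : AddChar F ℂ) (x : F) : ψ x = 1 ∨ ψ x = -1 := by
  have h := char_sq_eq_one ψ x
  have h1 : (ψ x - 1) * (ψ x + 1) = 0 := by linear_combination h
  rcases mul_eq_zero.1 h1 with h2 | h2
  · exact Or.inl (sub_eq_zero.1 h2)
  · exact Or.inr (eq_neg_of_add_eq_zero_left h2)

theorem char_sq (ψ : AddChar F ℂ) (hψ : ∀ y : F, ψ (y * y + y) = 1) (y : F) :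
    ψ (y * y) = ψ y := by
  have h := hψ y
  rw [AddChar.map_add_eq_mul] at h
  have h2 := char_sq_eq_one ψ y
  calc ψ (y * y) = ψ (y * y) * (ψ y * ψ y) := by rw [h2, mul_one]
    _ = (ψ (y * y) * ψ y) * ψ y := by ring
    _ = ψ y := by rw [h, one_mul]

/-- The kernel of such a character is exactly the image of the Artin–Schreier map. -/
theorem exists_as_of_char_eq_one (ψ : AddChar F ℂ) (hψ1 : ψ ≠ 1)
    (hψ : ∀ y : F, ψ (y * y + y) = 1) (c : F) (hc : ψ c = 1) : ∃ b : F, b * b + b = c := by
  classical
  set K : Finset F := Finset.univ.filter (fun c => ψ c = 1) with hK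
  set I : Finset F := Finset.univ.image (fun y : F => y * y + y) with hI
  have hIK : I ⊆ K := by
    intro c hc
    rw [hI, Finset.mem_image] at hc
    obtain ⟨y, _, rfl⟩ := hc
    rw [hK, Finset.mem_filter]
    exact ⟨Finset.mem_univ _, hψ y⟩
  -- fibres of the map have at most two elements
  have hfib : Fintype.card F ≤ 2 * I.card := by
    rw [← Finset.card_univ]
    apply Finset.card_le_mul_card_image
    intro c hc
    obtain ⟨y₀, _, rfl⟩ := Finset.mem_image.1 hc
    have hsub : Finset.univ.filter (fun y : F => y * y + y = y₀ * y₀ + y₀) ⊆ {y₀, y₀ + 1} := by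
      intro y hy
      rw [Finset.mem_filter] at hy
      have h1 : asMap (y + y₀) = 0 := by
        rw [map_add, asMap_apply, asMap_apply, hy.2, CharTwo.add_self_eq_zero]
      rw [Finset.mem_insert, Finset.mem_singleton]
      rcases (asMap_eq_zero_iff _).1 h1 with h2 | h2
      · left
        exact CharTwo.add_eq_zero.1 h2
      · right
        have : y = y + y₀ + y₀ := by rw [add_assoc, CharTwo.add_self_eq_zero, add_zero]
        rw [this, h2, add_comm]
    calc _ ≤ ({y₀, y₀ + 1} : Finset F).card := Finset.card_le_card hsub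
      _ ≤ 2 := Finset.card_le_two
  -- the kernel has at most half the elements
  obtain ⟨x₀, hx₀⟩ := AddChar.ne_one_iff.1 hψ1
  have hx₀' : ψ x₀ = -1 := by
    rcases char_eq_one_or ψ x₀ with h | h
    · exact absurd h hx₀
    · exact h
  have hKc : K.card ≤ (Finset.univ.filter (fun c => ¬ ψ c = 1)).card := by
    apply Finset.card_le_card_of_injOn (fun c => c + x₀)
    · intro c hc
      rw [Finset.mem_coe, hK, Finset.mem_filter] at hc
      rw [Finset.mem_coe, Finset.mem_filter]
      refine ⟨Finset.mem_univ _, ?_⟩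
      rw [AddChar.map_add_eq_mul, hc.2, hx₀', one_mul]
      norm_num
    · intro a _ b _ hab
      exact add_right_cancel hab
  have hsum : K.card + (Finset.univ.filter (fun c => ¬ ψ c = 1)).card = Fintype.card F := by
    rw [hK, Finset.card_filter_add_card_filter_not, Finset.card_univ]
  have hKI : K.card ≤ I.card := by omega
  have hEq : I = K := Finset.eq_of_subset_of_card_le hIK hKI
  have hcK : c ∈ K := by
    rw [hK, Finset.mem_filter]
    exact ⟨Finset.mem_univ _, hc⟩
  rw [← hEq, hI, Finset.mem_image] at hcK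
  obtain ⟨b, _, hb⟩ := hcK
  exact ⟨b, hb⟩

end char2

end Cfsg.Agent.Lib.Helper46
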