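import Mathlib

set_option autoImplicit false

namespace Cfsg.Agent.Lib.Helper46

open Matrix

section corner

variable {k : ℕ}

/-- The trace of an idempotent complex matrix is the dimension of its range. -/
theorem trace_eq_finrank_of_idem (P : Matrix (Fin k) (Fin k) ℂ) (hP : P * P = P) :
    P.trace = (Module.finrank ℂ (LinearMap.range (Matrix.toLin' P)) : ℂ) := by
  have h1 : Matrix.toLin' P ∘ₗ Matrix.toLin' P = Matrix.toLin' P := by
    rw [← Matrix.toLin'_mul, hP]
  have hidem : IsIdempotentElem (Matrix.toLin' P) := h1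
  rw [← Matrix.trace_toLin'_eq]
  exact (LinearMap.IsIdempotentElem.isProj_range _ hidem).trace

/-- An idempotent complex matrix which is not zero has positive dimensional range. -/
theorem finrank_range_pos_of_ne_zero (P : Matrix (Fin k) (Fin k) ℂ) (hP0 : P ≠ 0) :
    0 < Module.finrank ℂ (LinearMap.range (Matrix.toLin' P)) := by
  rw [Module.finrank_pos_iff_exists_ne_zero]
  have : ∃ v, Matrix.toLin' P v ≠ 0 := by
    by_contra hcon
    push Not at hcon
    apply hP0
    apply Matrix.toLin'.injective
    apply LinearMap.ext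
    intro v
    rw [hcon v, map_zero, LinearMap.zero_apply]
  obtain ⟨v, hv⟩ := this
  refine ⟨⟨Matrix.toLin' P v, LinearMap.mem_range_self _ v⟩, ?_⟩
  intro h
  exact hv (congrArg Subtype.val h)

/-- The compression of a matrix to the range of `P`. -/
noncomputable def compress (P : Matrix (Fin k) (Fin k) ℂ) :
    Matrix (Fin k) (Fin k) ℂ →ₗ[ℂ]
      (LinearMap.range (Matrix.toLin' P) →ₗ[ℂ] LinearMap.range (Matrix.toLin' P)) where
  toFun M := LinearMap.codRestrict (LinearMap.range (Matrix.toLin' P))
    (Matrix.toLin' (P * M) ∘ₗ (LinearMap.range (Matrix.toLin' P)).subtype) (by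
      intro v
      rw [LinearMap.comp_apply, Matrix.toLin'_mul, LinearMap.comp_apply]
      exact LinearMap.mem_range_self _ _)
  map_add' := by
    intro M N
    apply LinearMap.ext
    intro v
    apply Subtype.ext
    simp [Matrix.mul_add]
  map_smul' := by
    intro c M
    apply LinearMap.ext
    intro v
    apply Subtype.ext
    simp

theorem compress_apply (P M : Matrix (Fin k) (Fin k) ℂ)
    (w : LinearMap.range (Matrix.toLin' P)) :
    ((compress P M w : LinearMap.range (Matrix.toLin' P)) : Fin k → ℂ)
      = (P * M) *ᵥ (w : Fin k → ℂ) := by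
  simp [compress]

theorem eq_zero_of_compress_eq_zero (P M : Matrix (Fin k) (Fin k) ℂ) (h1 : P * M = M)
    (h2 : M * P = M) (h0 : compress P M = 0) : M = 0 := by
  apply Matrix.toLin'.injective
  apply LinearMap.ext
  intro v
  have hv : Matrix.toLin' P v ∈ LinearMap.range (Matrix.toLin' P) := LinearMap.mem_range_self _ v
  have h3 := compress_apply P M ⟨Matrix.toLin' P v, hv⟩
  rw [h0] at h3
  simp only [LinearMap.zero_apply, ZeroMemClass.coe_zero] at h3
  rw [Matrix.toLin'_apply, Matrix.mulVec_mulVec, Matrix.mul_assoc, h2, h1] at h3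
  rw [Matrix.toLin'_apply, ← h3]
  simp

theorem card_le_finrank_of_disjoint_ker {𝕜 V E ι : Type*} [Field 𝕜] [Fintype ι] [AddCommGroup V]
    [Module 𝕜 V] [AddCommGroup E] [Module 𝕜 E] [Module.Finite 𝕜 E] (f : V →ₗ[𝕜] E) (X : ι → V)
    (hli : LinearIndependent 𝕜 X)
    (hdis : Disjoint (Submodule.span 𝕜 (Set.range X)) (LinearMap.ker f)) :
    Fintype.card ι ≤ Module.finrank 𝕜 E :=
  (hli.map hdis).fintype_card_le_finrank

/-- The compression, in matrix form. -/
noncomputable def compressMat (P : Matrix (Fin k) (Fin k) ℂ) :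
    Matrix (Fin k) (Fin k) ℂ →ₗ[ℂ]
      Matrix (Fin (Module.finrank ℂ (LinearMap.range (Matrix.toLin' P))))
        (Fin (Module.finrank ℂ (LinearMap.range (Matrix.toLin' P)))) ℂ :=
  (LinearMap.toMatrix (Module.finBasis ℂ (LinearMap.range (Matrix.toLin' P)))
    (Module.finBasis ℂ (LinearMap.range (Matrix.toLin' P)))).toLinearMap ∘ₗ compress P

theorem compressMat_eq_zero (P M : Matrix (Fin k) (Fin k) ℂ) (h : compressMat P M = 0) :
    compress P M = 0 := by
  unfold compressMat at h
  rw [LinearMap.comp_apply] at h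
  exact (LinearEquiv.map_eq_zero_iff _).1 h

/-- A linearly independent family in the corner `P M P` of an idempotent has at most `r ^ 2`
elements, `r` the dimension of the range of `P`. -/
theorem card_le_sq_of_linearIndependent_corner {ι : Type*} [Fintype ι]
    (P : Matrix (Fin k) (Fin k) ℂ)
    (X : ι → Matrix (Fin k) (Fin k) ℂ) (hli : LinearIndependent ℂ X)
    (hPX : ∀ i, P * X i = X i) (hXP : ∀ i, X i * P = X i) :
    Fintype.card ι ≤ (Module.finrank ℂ (LinearMap.range (Matrix.toLin' P))) ^ 2 := by
  classical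
  have hspan : ∀ M ∈ Submodule.span ℂ (Set.range X), P * M = M ∧ M * P = M := by
    intro M hM
    induction hM using Submodule.span_induction with
    | mem x hx =>
      obtain ⟨i, rfl⟩ := hx
      exact ⟨hPX i, hXP i⟩
    | zero => exact ⟨Matrix.mul_zero _, Matrix.zero_mul _⟩
    | add x y _ _ hx hy =>
      exact ⟨by rw [Matrix.mul_add, hx.1, hy.1], by rw [Matrix.add_mul, hx.2, hy.2]⟩
    | smul c x _ hx =>
      exact ⟨by rw [Matrix.mul_smul, hx.1], by rw [Matrix.smul_mul, hx.2]⟩
  have hdis : Disjoint (Submodule.span ℂ (Set.range X)) (LinearMap.ker (compressMat P)) := by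
    rw [Submodule.disjoint_def]
    intro M hM hker
    exact eq_zero_of_compress_eq_zero P M (hspan M hM).1 (hspan M hM).2
      (compressMat_eq_zero P M (LinearMap.mem_ker.1 hker))
  have := card_le_finrank_of_disjoint_ker (compressMat P) X hli hdis
  rw [Module.finrank_matrix] at this
  simpa [pow_two] using this

end corner

end Cfsg.Agent.Lib.Helper46
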