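import Mathlib

/-!
# K-GAG leaf G02 (keystone 483902, S4839): centralizers of nonidentity elements of a normal
`p`-subgroup with the Camina property are `p`-groups
-/

set_option autoImplicit false

namespace Cfsg.Agent.Lib.Helper46.Gag

variable {G : Type*} [Group G] [Finite G]

/-- G02 (MEDIUM): centralizers of nonidentity elements of `N` are `p`-groups. -/
theorem centralizer_isPGroup {p : ℕ} [Fact p.Prime] (N : Subgroup G) [N.Normal]
    (hNp : IsPGroup p N) (hcam : ∀ x : G, x ∉ N → ∀ n ∈ N, IsConj x (x * n))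
    (x : G) (hx : x ∈ N) (hx1 : x ≠ 1) :
    IsPGroup p (Subgroup.centralizer ({x} : Set G)) := by
  have hpp : p.Prime := Fact.out
  -- order of `x`
  obtain ⟨a, ha⟩ := (IsPGroup.iff_orderOf.mp hNp) ⟨x, hx⟩
  rw [Subgroup.orderOf_mk] at ha
  have ha0 : a ≠ 0 := by
    rintro rfl
    rw [pow_zero, orderOf_eq_one_iff] at ha
    exact hx1 ha
  rw [IsPGroup.iff_orderOf]
  rintro ⟨y, hy⟩
  rw [Subgroup.orderOf_mk]
  have hcomm : Commute y x := by
    rw [Subgroup.mem_centralizer_iff] at hy
    exact (hy x (Set.mem_singleton x)).symm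
  have hy0 : orderOf y ≠ 0 := (orderOf_pos y).ne'
  refine ⟨_, Nat.eq_prime_pow_of_unique_prime_dvd hy0 ?_⟩
  intro q hq hqy
  by_contra hqp
  -- an element of order `q`
  set z : G := y ^ (orderOf y / q) with hz
  have hzq : orderOf z = q := orderOf_pow_orderOf_div hy0 hqy
  have hzx : Commute z x := hcomm.pow_left _
  have hzN : z ∉ N := by
    intro hzN
    obtain ⟨b, hb⟩ := (IsPGroup.iff_orderOf.mp hNp) ⟨z, hzN⟩
    rw [Subgroup.orderOf_mk, hzq] at hb
    have hb0 : b ≠ 0 := by
      rintro rfl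
      rw [pow_zero] at hb
      exact hq.one_lt.ne' hb
    have hpq : p ∣ q := by
      rw [hb]
      exact dvd_pow_self p hb0
    exact hqp ((Nat.prime_dvd_prime_iff_eq hpp hq).mp hpq).symm
  have hconj := hcam z hzN x hx
  obtain ⟨c, hc⟩ := isConj_iff.mp hconj
  have hsemi : SemiconjBy c z (z * x) := by
    unfold SemiconjBy
    rw [← hc]
    group
  have hord : orderOf z = orderOf (z * x) := hsemi.orderOf_eq c
  have hcop : (orderOf z).Coprime (orderOf x) := by
    rw [hzq, ha]
    exact Nat.Coprime.pow_right _ ((Nat.coprime_primes hq hpp).mpr hqp)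
  rw [hzx.orderOf_mul_eq_mul_orderOf_of_coprime hcop, hzq, ha] at hord
  have hq0 : 0 < q := hq.pos
  have h1 : p ^ a = 1 := by
    have : q * 1 = q * p ^ a := by rw [mul_one]; exact hord
    exact (Nat.eq_of_mul_eq_mul_left hq0 this).symm
  have h2 : 1 < p ^ a := Nat.one_lt_pow ha0 hpp.one_lt
  omega

end Cfsg.Agent.Lib.Helper46.Gag
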