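import Mathlib

set_option autoImplicit false

namespace Cfsg.Agent.Lib.Helper46

open Matrix

section weights

variable {F : Type*} [Field F] [Fintype F] [DecidableEq F] {K : Type*} [Field K]
variable {ι : Type*} [Fintype ι] [DecidableEq ι] {d : ℕ}

/-- Orthogonality for the characters `a ↦ ψ (a ⬝ᵥ w)` of `ι → F`. -/
theorem sum_char_dot {ψ : AddChar F K} (hψ : ψ.IsPrimitive) (w : ι → F) :
    ∑ a : ι → F, ψ (a ⬝ᵥ w) = if w = 0 then (Fintype.card (ι → F) : K) else 0 := by
  classical
  split_ifs with h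
  · subst h
    simp
  · obtain ⟨i, hi⟩ : ∃ i, w i ≠ 0 := by
      by_contra hcon
      apply h
      funext i
      by_contra hi
      exact hcon ⟨i, hi⟩
    have h1 := hψ hi
    obtain ⟨x, hx⟩ := AddChar.ne_one_iff.1 h1
    rw [AddChar.mulShift_apply] at hx
    let χ : AddChar (ι → F) K :=
      { toFun := fun a => ψ (a ⬝ᵥ w)
        map_zero_eq_one' := by simp
        map_add_eq_mul' := by
          intro a b
          simp [add_dotProduct, AddChar.map_add_eq_mul] }
    have hχ : χ ≠ 1 := by
      rw [AddChar.ne_one_iff]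
      refine ⟨Pi.single i x, ?_⟩
      change ψ (Pi.single i x ⬝ᵥ w) ≠ 1
      rw [single_dotProduct, mul_comm]
      exact hx
    exact AddChar.sum_eq_zero_of_ne_one hχ

/-- The projector onto the weight space of `w`. -/
noncomputable def weightProj (ψ : AddChar F K) (T : (ι → F) → Matrix (Fin d) (Fin d) K)
    (w : ι → F) : Matrix (Fin d) (Fin d) K :=
  ((Fintype.card (ι → F) : K))⁻¹ • ∑ a : ι → F, ψ (-(a ⬝ᵥ w)) • T a

variable {ψ : AddChar F K} (hψ : ψ.IsPrimitive) {T : (ι → F) → Matrix (Fin d) (Fin d) K}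
  (hT0 : T 0 = 1) (hTadd : ∀ a b, T (a + b) = T a * T b)
  (hN : (Fintype.card (ι → F) : K) ≠ 0)

include hψ hT0 hN in
theorem sum_weightProj : ∑ w : ι → F, weightProj ψ T w = 1 := by
  classical
  unfold weightProj
  rw [← Finset.smul_sum, Finset.sum_comm]
  have h1 : ∀ a : ι → F, ∑ w : ι → F, ψ (-(a ⬝ᵥ w)) • T a
      = (if a = 0 then (Fintype.card (ι → F) : K) else 0) • T a := by
    intro a
    rw [← Finset.sum_smul]
    congr 1
    have h2 : ∀ w : ι → F, ψ (-(a ⬝ᵥ w)) = ψ (w ⬝ᵥ (-a)) := by
      intro w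
      rw [dotProduct_neg, dotProduct_comm]
    simp_rw [h2]
    rw [sum_char_dot hψ (-a)]
    simp
  simp_rw [h1]
  rw [Finset.sum_eq_single (0 : ι → F)]
  · rw [if_pos rfl, hT0, smul_smul, inv_mul_cancel₀ hN, one_smul]
  · intro b _ hb
    rw [if_neg hb, zero_smul]
  · intro h
    exact absurd (Finset.mem_univ _) h

omit [DecidableEq F] in
include hTadd in
theorem T_mul_weightProj (b w : ι → F) :
    T b * weightProj ψ T w = ψ (b ⬝ᵥ w) • weightProj ψ T w := by
  classical
  unfold weightProj
  rw [Matrix.mul_smul, Finset.mul_sum, smul_comm]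
  congr 1
  rw [Finset.smul_sum]
  have h1 : ∀ a : ι → F, T b * (ψ (-(a ⬝ᵥ w)) • T a)
      = ψ (b ⬝ᵥ w) • (ψ (-((b + a) ⬝ᵥ w)) • T (b + a)) := by
    intro a
    rw [Matrix.mul_smul, hTadd, smul_smul]
    congr 1
    rw [← AddChar.map_add_eq_mul]
    congr 1
    rw [add_dotProduct]
    ring
  simp_rw [h1]
  exact Fintype.sum_bijective (fun a => b + a) (AddGroup.addLeft_bijective b) _ _ (fun a => rfl)

include hψ hTadd hN in
theorem weightProj_mul_weightProj (w₀ w : ι → F) :
    weightProj ψ T w₀ * weightProj ψ T w = if w = w₀ then weightProj ψ T w else 0 := by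
  classical
  have h1 : weightProj ψ T w₀ * weightProj ψ T w
      = ((Fintype.card (ι → F) : K))⁻¹ • ∑ a : ι → F,
          ψ (-(a ⬝ᵥ w₀)) • (T a * weightProj ψ T w) := by
    conv_lhs => rw [weightProj]
    rw [Matrix.smul_mul, Finset.sum_mul]
    congr 1
    apply Finset.sum_congr rfl
    intro a _
    rw [Matrix.smul_mul]
  rw [h1]
  simp_rw [T_mul_weightProj hTadd, smul_smul]
  rw [← Finset.sum_smul]
  have h2 : ∀ a : ι → F, ψ (-(a ⬝ᵥ w₀)) * ψ (a ⬝ᵥ w) = ψ (a ⬝ᵥ (w - w₀)) := by
    intro a
    rw [← AddChar.map_add_eq_mul]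
    congr 1
    rw [dotProduct_sub]
    ring
  simp_rw [h2]
  rw [sum_char_dot hψ (w - w₀)]
  by_cases h : w = w₀
  · rw [if_pos h, if_pos (sub_eq_zero.2 h), smul_smul, inv_mul_cancel₀ hN, one_smul]
  · rw [if_neg h, if_neg (fun h' => h (sub_eq_zero.1 h')), zero_smul, smul_zero]

include hψ hTadd hN in
/-- The number of weights is at most the degree. -/
theorem card_weights_le (S : Finset (ι → F)) (hS : ∀ w ∈ S, weightProj ψ T w ≠ 0) :
    S.card ≤ d := by
  classical
  have hex : ∀ w : S, ∃ x : Fin d → K, weightProj ψ T (w : ι → F) *ᵥ x ≠ 0 := by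
    intro w
    by_contra hcon
    push Not at hcon
    apply hS w w.2
    ext i j
    have := congrFun (hcon (Pi.single j 1)) i
    simpa using this
  choose x hx using hex
  let v : S → (Fin d → K) := fun w => weightProj ψ T (w : ι → F) *ᵥ x w
  have hv : ∀ w₀ w : S, weightProj ψ T (w₀ : ι → F) *ᵥ v w = if w = w₀ then v w else 0 := by
    intro w₀ w
    change weightProj ψ T (w₀ : ι → F) *ᵥ (weightProj ψ T (w : ι → F) *ᵥ x w) = _
    rw [Matrix.mulVec_mulVec, weightProj_mul_weightProj hψ hTadd hN]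
    by_cases h : w = w₀
    · rw [if_pos h, if_pos (congrArg Subtype.val h)]
    · rw [if_neg h, if_neg (fun h' => h (Subtype.ext h')), Matrix.zero_mulVec]
  have hli : LinearIndependent K v := by
    rw [linearIndependent_iff']
    intro s c hc w₀ hw₀
    have h1 := congrArg (fun y => weightProj ψ T (w₀ : ι → F) *ᵥ y) hc
    simp only [Matrix.mulVec_sum, Matrix.mulVec_smul, Matrix.mulVec_zero] at h1
    simp_rw [hv] at h1
    rw [Finset.sum_eq_single w₀] at h1
    · rw [if_pos rfl] at h1
      rcases smul_eq_zero.1 h1 with h | h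
      · exact h
      · exact absurd h (hx w₀)
    · intro b _ hb
      rw [if_neg hb, smul_zero]
    · intro h
      exact absurd hw₀ h
  have := hli.fintype_card_le_finrank
  simpa using this

omit [DecidableEq F] in
/-- Conjugation moves the weight projectors. -/
theorem conj_weightProj (g g' : Matrix (Fin d) (Fin d) K) (φ : (ι → F) ≃ (ι → F))
    (φ' : (ι → F) → (ι → F)) (hφ : ∀ a w, φ a ⬝ᵥ φ' w = a ⬝ᵥ w)
    (hg : ∀ a, g * T a * g' = T (φ a)) (w : ι → F) :
    g * weightProj ψ T w * g' = weightProj ψ T (φ' w) := by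
  classical
  unfold weightProj
  rw [Matrix.mul_smul, Matrix.smul_mul, Finset.mul_sum, Finset.sum_mul]
  congr 1
  have h1 : ∀ a : ι → F, g * (ψ (-(a ⬝ᵥ w)) • T a) * g'
      = ψ (-(φ a ⬝ᵥ φ' w)) • T (φ a) := by
    intro a
    rw [Matrix.mul_smul, Matrix.smul_mul, hg, hφ]
  simp_rw [h1]
  exact Fintype.sum_equiv φ _ _ (fun a => rfl)

omit [DecidableEq F] in
theorem weightProj_ne_zero_of_conj (g g' : Matrix (Fin d) (Fin d) K) (hgg' : g' * g = 1)
    (φ : (ι → F) ≃ (ι → F))
    (φ' : (ι → F) → (ι → F)) (hφ : ∀ a w, φ a ⬝ᵥ φ' w = a ⬝ᵥ w)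
    (hg : ∀ a, g * T a * g' = T (φ a)) (w : ι → F) (hw : weightProj ψ T w ≠ 0) :
    weightProj ψ T (φ' w) ≠ 0 := by
  intro h
  apply hw
  have h1 := conj_weightProj (ψ := ψ) g g' φ φ' hφ hg w
  rw [h] at h1
  have h2 : g' * (g * weightProj ψ T w * g') * g = weightProj ψ T w := by
    calc g' * (g * weightProj ψ T w * g') * g
        = (g' * g) * weightProj ψ T w * (g' * g) := by simp only [Matrix.mul_assoc]
      _ = weightProj ψ T w := by rw [hgg', Matrix.one_mul, Matrix.mul_one]
  rw [← h2, h1, Matrix.mul_zero, Matrix.zero_mul]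

end weights

section closure

variable {F : Type*} [Field F] {ι : Type*} [Fintype ι] [DecidableEq ι]

/-- A set of vectors closed under elementary moves which contains a non-zero vector contains all
non-zero vectors (two coordinates at least). -/
theorem mem_of_closed_elementary (S : Set (ι → F))
    (hcl : ∀ w ∈ S, ∀ i j : ι, i ≠ j → ∀ t : F, w + (t * w j) • Pi.single i (1 : F) ∈ S)
    (h2 : ∀ i : ι, ∃ j : ι, j ≠ i)
    (w₀ : ι → F) (hw₀ : w₀ ∈ S) (hw₀0 : w₀ ≠ 0) (v : ι → F) (hv : v ≠ 0) : v ∈ S := by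
  classical
  -- (i) with a pivot `j`, coordinate `i` can be set to any value
  have step : ∀ w ∈ S, ∀ i j : ι, i ≠ j → w j ≠ 0 → ∀ c : F, Function.update w i c ∈ S := by
    intro w hw i j hij hwj c
    have h1 := hcl w hw i j hij ((c - w i) / w j)
    have h3 : w + ((c - w i) / w j * w j) • Pi.single i (1 : F) = Function.update w i c := by
      funext k
      by_cases hk : k = i
      · subst hk
        simp [div_mul_cancel₀ _ hwj]
      · simp [hk, Pi.single_eq_of_ne hk]
    rwa [h3] at h1
  -- (ii) with a pivot `j`, reach any vector with the same `j` coordinate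
  have reach : ∀ (n : ℕ) (u : ι → F), u ∈ S → ∀ j : ι, u j ≠ 0 → ∀ v : ι → F, v j = u j →
      (Finset.univ.filter (fun i => u i ≠ v i)).card = n → v ∈ S := by
    intro n
    induction n with
    | zero =>
      intro u hu j _ v _ hcard
      have : u = v := by
        funext i
        by_contra hi
        have : i ∈ Finset.univ.filter (fun i => u i ≠ v i) := by simp [hi]
        rw [Finset.card_eq_zero.1 hcard] at this
        simp at this
      rwa [← this]
    | succ n ih =>
      intro u hu j huj v hvj hcard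
      have hne : (Finset.univ.filter (fun i => u i ≠ v i)).Nonempty := by
        rw [← Finset.card_pos, hcard]; omega
      obtain ⟨i, hi⟩ := hne
      have hi' : u i ≠ v i := (Finset.mem_filter.1 hi).2
      have hij : i ≠ j := by
        intro h; subst h; exact hi' hvj.symm
      have hu' := step u hu i j hij huj (v i)
      apply ih (Function.update u i (v i)) hu' j (by rwa [Function.update_of_ne (Ne.symm hij)]) v
        (by rw [Function.update_of_ne (Ne.symm hij)]; exact hvj)
      have hset : Finset.univ.filter (fun k => Function.update u i (v i) k ≠ v k)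
          = (Finset.univ.filter (fun k => u k ≠ v k)).erase i := by
        ext k
        by_cases hk : k = i
        · subst hk; simp
        · simp [hk, Function.update_of_ne hk]
      rw [hset, Finset.card_erase_of_mem hi, hcard]
      rfl
  have reach' : ∀ (u : ι → F), u ∈ S → ∀ j : ι, u j ≠ 0 → ∀ v : ι → F, v j = u j → v ∈ S :=
    fun u hu j huj v hvj => reach _ u hu j huj v hvj rfl
  obtain ⟨j, hj⟩ : ∃ j, w₀ j ≠ 0 := by
    by_contra hcon
    apply hw₀0
    funext i
    by_contra hi
    exact hcon ⟨i, hi⟩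
  obtain ⟨k, hk⟩ : ∃ k, v k ≠ 0 := by
    by_contra hcon
    apply hv
    funext i
    by_contra hi
    exact hcon ⟨i, hi⟩
  by_cases hkj : k = j
  · subst hkj
    obtain ⟨i, hi⟩ := h2 k
    have h1 := step w₀ hw₀ i k hi hj 1
    have h2' := step _ h1 k i (Ne.symm hi) (by simp) (v k)
    apply reach' _ h2' k (by simpa using hk) v
    simp
  · have h1 := step w₀ hw₀ k j hkj hj (v k)
    apply reach' _ h1 k (by simpa using hk) v
    simp

end closure

end Cfsg.Agent.Lib.Helper46
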