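import Cfsg.Agent.Lib.Helper46.SpE3
import Cfsg.Agent.Lib.Helper46.Char2Field
import Cfsg.Agent.Lib.Helper46.Weights

set_option autoImplicit false
set_option linter.unusedSectionVars false

namespace Cfsg.Agent.Lib.Helper46

open Matrix

section gauss

variable {F : Type*} [Field F] [Fintype F] [DecidableEq F] [CharP F 2]
  {l : Type*} [Fintype l] [DecidableEq l]

/-- The quadratic-plus-linear function whose character sum is a Gauss sum. -/
def gf (c : l ⊕ l → F) (v : l ⊕ l → F) : F := Q0 v + c ⬝ᵥ v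

theorem gf_add (c v e : l ⊕ l → F) : gf c (v + e) = gf c v + gf c e + om v e := by
  rw [gf, gf, gf, Q0_add, dotProduct_add]
  ring

theorem gf_zero (c : l ⊕ l → F) : gf c 0 = 0 := by
  rw [gf, Q0_zero, dotProduct_zero, add_zero]

theorem gauss_sq {ψ : AddChar F ℂ} (hψ : ψ.IsPrimitive) (c : l ⊕ l → F) :
    (∑ v : l ⊕ l → F, ψ (gf c v)) * (∑ v : l ⊕ l → F, ψ (gf c v))
      = (Fintype.card (l ⊕ l → F) : ℂ) := by
  classical
  rw [Finset.sum_mul_sum]
  have h1 : ∀ v : l ⊕ l → F, ∑ v' : l ⊕ l → F, ψ (gf c v) * ψ (gf c v')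
      = ∑ e : l ⊕ l → F, ψ (gf c e) * ψ (om v e) := by
    intro v
    rw [← Fintype.sum_equiv (Equiv.addLeft v) (fun e => ψ (gf c v) * ψ (gf c (v + e)))
      (fun v' => ψ (gf c v) * ψ (gf c v')) (fun e => rfl)]
    apply Finset.sum_congr rfl
    intro e _
    rw [gf_add, AddChar.map_add_eq_mul, AddChar.map_add_eq_mul, ← mul_assoc, ← mul_assoc,
      char_sq_eq_one, one_mul]
  simp_rw [h1]
  rw [Finset.sum_comm]
  simp_rw [← Finset.mul_sum]
  have h2 : ∀ e : l ⊕ l → F, ∑ v : l ⊕ l → F, ψ (om v e)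
      = if e = 0 then (Fintype.card (l ⊕ l → F) : ℂ) else 0 := by
    intro e
    simp_rw [om_eq_dot]
    rw [sum_char_dot hψ]
    have : Sum.elim (uR e) (uI e) = 0 ↔ e = 0 := by
      constructor
      · intro h
        ext (i | i)
        · have := congrFun h (Sum.inr i)
          simp only [Sum.elim_inr, Pi.zero_apply] at this
          exact this
        · have := congrFun h (Sum.inl i)
          simp only [Sum.elim_inl, Pi.zero_apply] at this
          exact this
      · rintro rfl
        ext (i | i) <;> rfl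
    simp only [this]
  simp_rw [h2]
  rw [Finset.sum_eq_single 0]
  · rw [if_pos rfl, gf_zero, AddChar.map_zero_eq_one, one_mul]
  · intro b _ hb
    rw [if_neg hb, mul_zero]
  · intro h
    exact absurd (Finset.mem_univ _) h

/-- The number of vectors on which the twisted quadratic form has trivial character value. -/
theorem gauss_count {ψ : AddChar F ℂ} (hψ : ψ.IsPrimitive) (c : l ⊕ l → F) :
    Fintype.card F ^ (2 * Fintype.card l)
      ≤ 2 * (Finset.univ.filter (fun v : l ⊕ l → F => ψ (gf c v) = 1)).card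
        + Fintype.card F ^ Fintype.card l := by
  classical
  set D := Finset.univ.filter (fun v : l ⊕ l → F => ψ (gf c v) = 1) with hD
  set N := Fintype.card F ^ Fintype.card l with hN
  have hcard : Fintype.card (l ⊕ l → F) = N * N := by
    rw [Fintype.card_fun, Fintype.card_sum, hN, ← pow_add]
  have hS : ∑ v : l ⊕ l → F, ψ (gf c v) = (2 * (D.card : ℂ) - (N * N : ℕ)) := by
    have h1 : ∀ v : l ⊕ l → F, ψ (gf c v) = (if ψ (gf c v) = 1 then (2 : ℂ) else 0) - 1 := by
      intro v
      rcases char_eq_one_or ψ (gf c v) with h | h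
      · rw [if_pos h, h]
        norm_num
      · rw [if_neg (by rw [h]; norm_num), h]
        norm_num
    rw [Finset.sum_congr rfl (fun v _ => h1 v), Finset.sum_sub_distrib, Finset.sum_const,
      Finset.card_univ, hcard, ← Finset.sum_filter, Finset.sum_const, nsmul_eq_mul, nsmul_eq_mul,
      mul_one, mul_comm]
  have hsq := gauss_sq hψ c
  rw [hS, hcard] at hsq
  have hZ : ((2 * (D.card : ℤ) - (N * N : ℕ)) * (2 * (D.card : ℤ) - (N * N : ℕ)) : ℤ)
      = (N : ℤ) * N := by
    have : (((2 * (D.card : ℤ) - (N * N : ℕ)) * (2 * (D.card : ℤ) - (N * N : ℕ)) : ℤ) : ℂ)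
        = (((N : ℤ) * N : ℤ) : ℂ) := by
      push_cast
      push_cast at hsq
      exact hsq
    exact_mod_cast this
  have habs : |(2 * (D.card : ℤ) - (N * N : ℕ))| = |(N : ℤ)| := by
    rw [← abs_mul_abs_self, ← abs_mul_abs_self (N : ℤ)] at hZ
    exact (mul_self_eq_mul_self_iff.1 hZ).resolve_right (by
      intro h
      have h1 := abs_nonneg (2 * (D.card : ℤ) - (N * N : ℕ))
      have h2 := abs_nonneg (N : ℤ)
      have h3 : |(N : ℤ)| = 0 := by omega
      have h4 : (N : ℤ) = 0 := abs_eq_zero.1 h3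
      have h5 : 0 < N := by
        rw [hN]
        exact pow_pos Fintype.card_pos _
      omega)
  have hge : -(N : ℤ) ≤ 2 * (D.card : ℤ) - (N * N : ℕ) := by
    have h1 := neg_abs_le (2 * (D.card : ℤ) - (N * N : ℕ))
    rw [habs, abs_of_nonneg (Int.natCast_nonneg N)] at h1
    exact h1
  have hpow : Fintype.card F ^ (2 * Fintype.card l) = N * N := by
    rw [hN, ← pow_add, two_mul]
  rw [hpow]
  push_cast at hge
  zify
  linarith

end gauss

end Cfsg.Agent.Lib.Helper46
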