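import Mathlib
import Cfsg.Agent.Lib.Helper46.Corner

set_option autoImplicit false

namespace Cfsg.Agent.Lib.Helper46

open Matrix

/-- A projective family of operators on the image of an idempotent, indexed by a finite
additive group, with traceless non-identity members, forces the image to be large. -/
theorem card_le_sq_of_heisenberg {A : Type*} [AddGroup A] [Fintype A] {k : ℕ}
    (P : Matrix (Fin k) (Fin k) ℂ) (hP : P * P = P) (hP0 : P ≠ 0)
    (X : A → Matrix (Fin k) (Fin k) ℂ) (hX0 : X 0 = P) (hPX : ∀ a, P * X a = X a)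
    (hXP : ∀ a, X a * P = X a) (c : A → A → ℂ) (hc : ∀ a b, c a b ≠ 0)
    (hXX : ∀ a b, X a * X b = c a b • X (a + b)) (htr : ∀ a, a ≠ 0 → (X a).trace = 0) :
    Fintype.card A ≤ (Module.finrank ℂ (LinearMap.range (Matrix.toLin' P))) ^ 2 := by
  classical
  apply card_le_sq_of_linearIndependent_corner P X _ hPX hXP
  rw [Fintype.linearIndependent_iff]
  intro g hg s
  have h1 := congrArg (fun M => (M * X (-s)).trace) hg
  simp only [Finset.sum_mul, Matrix.smul_mul, Matrix.trace_sum, Matrix.trace_smul, Matrix.zero_mul,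
    Matrix.trace_zero, hXX, smul_eq_mul] at h1
  rw [Finset.sum_eq_single s] at h1
  · rw [add_neg_cancel, hX0, trace_eq_finrank_of_idem _ hP] at h1
    have hr : ((Module.finrank ℂ (LinearMap.range (Matrix.toLin' P)) : ℕ) : ℂ) ≠ 0 :=
      Nat.cast_ne_zero.2 (finrank_range_pos_of_ne_zero _ hP0).ne'
    rcases mul_eq_zero.1 h1 with h2 | h2
    · exact h2
    · rcases mul_eq_zero.1 h2 with h3 | h3
      · exact absurd h3 (hc _ _)
      · exact absurd h3 hr
  · intro t _ hts
    rw [htr (t + -s) (by
      intro h
      apply hts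
      rw [← sub_eq_add_neg, sub_eq_zero] at h
      exact h), mul_zero, mul_zero]
  · intro h
    exact absurd (Finset.mem_univ _) h

end Cfsg.Agent.Lib.Helper46
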