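import Mathlib

set_option autoImplicit false

namespace Cfsg.Agent.Lib.Helper46

section hermChar

variable {F : Type*} [Field F] [Fintype F]

/-- A primitive additive character of the quadratic extension which is invariant under the
involution and detects the fixed field. -/
theorem exists_invariant_char (φ : F →+* F) (hφ : ∀ x, φ (φ x) = x)
    (htr : ∃ z, z + φ z ≠ 0) :
    ∃ ψ : AddChar F ℂ, ψ.IsPrimitive ∧ (∀ z, ψ (φ z) = ψ z) ∧
      (∀ t, (∀ s, φ s = -s → ψ (s * t) = 1) → φ t = t) := by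
  obtain ⟨ψ₁, hψ₁⟩ := (AddChar.exists_apply_ne_zero (α := F) (a := 1)).2 one_ne_zero
  obtain ⟨z₁, hz₁⟩ := htr
  let f : F →+ F := AddMonoidHom.id F + φ.toAddMonoidHom
  have hf : ∀ z, f z = z + φ z := fun z => rfl
  have hval : ∀ z, (ψ₁.compAddMonoidHom f) z = ψ₁ (z + φ z) := fun z => rfl
  refine ⟨ψ₁.compAddMonoidHom f, ?_, ?_, ?_⟩
  · apply AddChar.IsPrimitive.of_ne_one
    rw [AddChar.ne_one_iff]
    refine ⟨z₁ / (z₁ + φ z₁), ?_⟩
    have e1 : z₁ / (z₁ + φ z₁) + φ (z₁ / (z₁ + φ z₁)) = 1 := by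
      rw [map_div₀, map_add, hφ, add_comm (φ z₁) z₁, ← add_div, div_self hz₁]
    rw [hval, e1]
    exact hψ₁
  · intro z
    rw [hval, hval, hφ, add_comm]
  · intro t ht
    by_contra hne
    have hu : t - φ t ≠ 0 := fun h => hne (sub_eq_zero.1 h).symm
    have hs : φ (t - φ t)⁻¹ = -(t - φ t)⁻¹ := by
      rw [map_inv₀, map_sub, hφ, ← neg_sub t (φ t), inv_neg]
    have h1 := ht _ hs
    rw [hval, map_mul, hs] at h1
    apply hψ₁
    rw [← h1]
    congr 1
    field_simp
    ring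

end hermChar

end Cfsg.Agent.Lib.Helper46
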