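import Mathlib
import Cfsg.Agent.Lib.Helper46.HermForm

set_option autoImplicit false

namespace Cfsg.Agent.Lib.Helper46

open Matrix

/-- The facts about the quadratic extension that the orbit count uses. -/
structure HermField {F : Type*} [Field F] [Fintype F] [DecidableEq F] (φ : F →+* F) (q : ℕ) :
    Prop where
  inv : ∀ x, φ (φ x) = x
  norm : ∀ c, φ c = c → c ≠ 0 → ∃ l, l * φ l = c
  moved : ∃ z, φ z ≠ z
  trace : ∃ z, z + φ z ≠ 0
  cardF : Fintype.card F = q ^ 2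
  cardK : q ≤ (Finset.univ.filter (fun c : F => φ c = c)).card
  cardK' : q - 1 ≤ (Finset.univ.filter (fun c : F => φ c = c ∧ c ≠ 0)).card

section defs

variable {F : Type*} [Field F] [DecidableEq F] (φ : F →+* F) {n : Type*} [Fintype n]
  [DecidableEq n]

/-- A set of non-zero Hermitian matrices. -/
def GoodSet (Ω : Finset (Matrix n n F)) : Prop := ∀ W ∈ Ω, IsHerm φ W ∧ W ≠ 0

/-- Closed under congruence by matrices of determinant one. -/
def ClosedSL (Ω : Finset (Matrix n n F)) : Prop :=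
  ∀ A : Matrix n n F, A.det = 1 → ∀ W ∈ Ω, cong φ A W ∈ Ω

/-- Closed under congruence by invertible matrices. -/
def ClosedGL (Ω : Finset (Matrix n n F)) : Prop :=
  ∀ A : Matrix n n F, A.det ≠ 0 → ∀ W ∈ Ω, cong φ A W ∈ Ω

theorem ClosedGL.closedSL {Ω : Finset (Matrix n n F)} (h : ClosedGL φ Ω) : ClosedSL φ Ω := by
  intro A hA W hW
  exact h A (by rw [hA]; exact one_ne_zero) W hW

end defs

section step

variable {F : Type*} [Field F] [Fintype F] [DecidableEq F] {φ : F →+* F} {q : ℕ}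
  (H : HermField φ q)
variable {ι' : Type*} [Fintype ι'] [DecidableEq ι']

include H in
theorem exists_corner_ne_zero [Nonempty ι'] (Ω : Finset (Matrix (Unit ⊕ ι') (Unit ⊕ ι') F))
    (hne : Ω.Nonempty) (hgood : GoodSet φ Ω) (hcl : ClosedSL φ Ω) :
    ∃ W ∈ Ω, W (Sum.inl ()) (Sum.inl ()) ≠ 0 := by
  obtain ⟨W₀, hW₀⟩ := hne
  obtain ⟨hherm, hW0⟩ := hgood W₀ hW₀
  obtain ⟨x, hx⟩ : ∃ x, sesq φ W₀ x x ≠ 0 := by
    by_contra hcon
    push Not at hcon
    exact hW0 (eq_zero_of_sesq_self_eq_zero φ H.moved hherm hcon)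
  have hx0 : x ≠ 0 := by
    rintro rfl
    exact hx (sesq_zero_left _ _ _)
  obtain ⟨i₁⟩ := ‹Nonempty ι'›
  obtain ⟨A, hA, hAx⟩ := exists_det_one_mulVec_single (Sum.inl ()) (Sum.inr i₁) (by simp) x hx0
  refine ⟨cong φ A W₀, hcl A hA W₀ hW₀, ?_⟩
  rw [cong_apply, hAx]
  exact hx

include H in
theorem exists_prescribed [Nonempty ι'] (Ω : Finset (Matrix (Unit ⊕ ι') (Unit ⊕ ι') F))
    (hgood : GoodSet φ Ω) (hcl : ClosedSL φ Ω) (W₁ : Matrix (Unit ⊕ ι') (Unit ⊕ ι') F)
    (hW₁ : W₁ ∈ Ω) (h₁ : W₁ (Sum.inl ()) (Sum.inl ()) ≠ 0) (a : F) (ha : φ a = a) (ha0 : a ≠ 0)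
    (v : ι' → F) :
    ∃ W ∈ Ω, W (Sum.inl ()) (Sum.inl ()) = a ∧ ∀ i, W (Sum.inr i) (Sum.inl ()) = v i := by
  obtain ⟨i₁⟩ := ‹Nonempty ι'›
  have hfix₁ : φ (W₁ (Sum.inl ()) (Sum.inl ())) = W₁ (Sum.inl ()) (Sum.inl ()) :=
    (hgood W₁ hW₁).1.apply φ _ _
  obtain ⟨l, hl⟩ := H.norm (a / W₁ (Sum.inl ()) (Sum.inl ())) (by rw [map_div₀, ha, hfix₁])
    (div_ne_zero ha0 h₁)
  have hl0 : l ≠ 0 := by
    rintro rfl
    rw [zero_mul] at hl
    exact div_ne_zero ha0 h₁ hl.symm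
  -- the scaling
  have hdet₁ : (Matrix.diagonal (Function.update (1 : Unit ⊕ ι' → F) (Sum.inl ()) l)
      * Matrix.diagonal (Function.update (1 : Unit ⊕ ι' → F) (Sum.inr i₁) l⁻¹)).det = 1 := by
    rw [Matrix.det_mul, Matrix.det_diagonal, Matrix.det_diagonal,
      Finset.prod_update_of_mem (Finset.mem_univ _), Finset.prod_update_of_mem (Finset.mem_univ _)]
    simp only [Pi.one_apply, Finset.prod_const_one, mul_one]
    exact mul_inv_cancel₀ hl0
  have hW₂ := hcl _ hdet₁ W₁ hW₁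
  set W₂ := cong φ (Matrix.diagonal (Function.update (1 : Unit ⊕ ι' → F) (Sum.inl ()) l)
      * Matrix.diagonal (Function.update (1 : Unit ⊕ ι' → F) (Sum.inr i₁) l⁻¹)) W₁ with hW₂def
  have h₂ : W₂ (Sum.inl ()) (Sum.inl ()) = a := by
    rw [hW₂def, cong_mul, cong_diagonal_apply, cong_diagonal_apply,
      Function.update_of_ne (by simp), Function.update_self, Pi.one_apply, map_one, one_mul,
      mul_one]
    have : l * φ l * W₁ (Sum.inl ()) (Sum.inl ()) = a := by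
      rw [hl, div_mul_cancel₀ _ h₁]
    linear_combination this
  -- the shear
  set r : Unit ⊕ ι' → F :=
    Sum.elim (fun _ => 0) (fun i => φ ((v i - W₂ (Sum.inr i) (Sum.inl ())) / a)) with hr
  have hr0 : r (Sum.inl ()) = 0 := rfl
  refine ⟨cong φ (shear (Sum.inl ()) r) W₂, hcl _ (det_shear _ _ hr0) W₂ hW₂, ?_, ?_⟩
  · rw [cong_shear_apply, hr0, map_zero, h₂]
    ring
  · intro i
    rw [cong_shear_apply, hr0, h₂]
    have : φ (r (Sum.inr i)) = (v i - W₂ (Sum.inr i) (Sum.inl ())) / a := by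
      rw [hr]
      simp only [Sum.elim_inr]
      rw [H.inv]
    rw [this]
    field_simp
    ring

include H in
theorem card_corner_ne_zero_ge [Nonempty ι'] (Ω : Finset (Matrix (Unit ⊕ ι') (Unit ⊕ ι') F))
    (hne : Ω.Nonempty) (hgood : GoodSet φ Ω) (hcl : ClosedSL φ Ω) :
    (q - 1) * (q ^ 2) ^ Fintype.card ι'
      ≤ (Ω.filter (fun W => W (Sum.inl ()) (Sum.inl ()) ≠ 0)).card := by
  classical
  obtain ⟨W₁, hW₁, h₁⟩ := exists_corner_ne_zero H Ω hne hgood hcl
  have hex : ∀ p : F × (ι' → F), ∃ W : Matrix (Unit ⊕ ι') (Unit ⊕ ι') F,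
      (φ p.1 = p.1 ∧ p.1 ≠ 0) → (W ∈ Ω ∧ W (Sum.inl ()) (Sum.inl ()) = p.1 ∧
        ∀ i, W (Sum.inr i) (Sum.inl ()) = p.2 i) := by
    intro p
    by_cases hp : φ p.1 = p.1 ∧ p.1 ≠ 0
    · obtain ⟨W, hW, h1, h2⟩ := exists_prescribed H Ω hgood hcl W₁ hW₁ h₁ p.1 hp.1 hp.2 p.2
      exact ⟨W, fun _ => ⟨hW, h1, h2⟩⟩
    · exact ⟨0, fun h => absurd h hp⟩
  choose g hg using hex
  have hcard : ((Finset.univ.filter (fun c : F => φ c = c ∧ c ≠ 0)) ×ˢ
      (Finset.univ : Finset (ι' → F))).card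
      ≤ (Ω.filter (fun W => W (Sum.inl ()) (Sum.inl ()) ≠ 0)).card := by
    apply Finset.card_le_card_of_injOn g
    · intro p hp
      rw [Finset.mem_coe, Finset.mem_product, Finset.mem_filter] at hp
      obtain ⟨hW, h1, h2⟩ := hg p hp.1.2
      rw [Finset.mem_coe, Finset.mem_filter]
      exact ⟨hW, by rw [h1]; exact hp.1.2.2⟩
    · intro p hp p' hp' hpp
      rw [Finset.mem_coe, Finset.mem_product, Finset.mem_filter] at hp hp'
      obtain ⟨_, h1, h2⟩ := hg p hp.1.2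
      obtain ⟨_, h1', h2'⟩ := hg p' hp'.1.2
      apply Prod.ext
      · rw [← h1, ← h1', hpp]
      · funext i
        rw [← h2, ← h2', hpp]
  refine le_trans ?_ hcard
  rw [Finset.card_product, Finset.card_univ, Fintype.card_fun, H.cardF]
  exact Nat.mul_le_mul_right _ H.cardK'


omit [Fintype F] [DecidableEq F] in
/-- The form of a matrix in block diagonal shape. -/
theorem sesq_block (W : Matrix (Unit ⊕ ι') (Unit ⊕ ι') F)
    (h1 : ∀ j, W (Sum.inl ()) (Sum.inr j) = 0) (h2 : ∀ j, W (Sum.inr j) (Sum.inl ()) = 0)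
    (x y : Unit ⊕ ι' → F) :
    sesq φ W x y = φ (x (Sum.inl ())) * W (Sum.inl ()) (Sum.inl ()) * y (Sum.inl ())
      + sesq φ W.toBlocks₂₂ (fun i => x (Sum.inr i)) (fun i => y (Sum.inr i)) := by
  unfold sesq
  simp only [dotProduct, Matrix.mulVec, Fintype.sum_sum_type, Finset.univ_unique,
    Finset.sum_singleton, h1, h2, zero_mul, Finset.sum_const_zero, add_zero, zero_add,
    Matrix.toBlocks₂₂, Matrix.of_apply, PUnit.default_eq_unit]
  ring

omit [Fintype F] [DecidableEq F] in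
theorem mulVec_block_inl (W : Matrix (Unit ⊕ ι') (Unit ⊕ ι') F)
    (h1 : ∀ j, W (Sum.inl ()) (Sum.inr j) = 0) (x : Unit ⊕ ι' → F) :
    (W *ᵥ x) (Sum.inl ()) = W (Sum.inl ()) (Sum.inl ()) * x (Sum.inl ()) := by
  simp only [Matrix.mulVec, dotProduct, Fintype.sum_sum_type, Finset.univ_unique,
    Finset.sum_singleton, h1, zero_mul, Finset.sum_const_zero, add_zero]

include H in
/-- From a matrix with non-zero corner and non-zero complement, an isotropic first basis
vector with non-zero first column. -/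
theorem exists_isotropic [Nonempty ι'] (Ω : Finset (Matrix (Unit ⊕ ι') (Unit ⊕ ι') F))
    (hgood : GoodSet φ Ω) (hcl : ClosedSL φ Ω) (W : Matrix (Unit ⊕ ι') (Unit ⊕ ι') F)
    (hW : W ∈ Ω) (h0 : W (Sum.inl ()) (Sum.inl ()) ≠ 0)
    (h2 : ∀ j, W (Sum.inr j) (Sum.inl ()) = 0) (i₂ j₂ : ι')
    (h3 : W (Sum.inr i₂) (Sum.inr j₂) ≠ 0) :
    ∃ W₂ ∈ Ω, W₂ (Sum.inl ()) (Sum.inl ()) = 0 ∧ ∃ j₀, W₂ (Sum.inr j₀) (Sum.inl ()) ≠ 0 := by
  obtain ⟨i₁⟩ := ‹Nonempty ι'›
  have hherm := (hgood W hW).1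
  have h1 : ∀ j, W (Sum.inl ()) (Sum.inr j) = 0 := by
    intro j
    rw [← hherm.apply φ, h2, map_zero]
  have hherm' : IsHerm φ W.toBlocks₂₂ := by
    ext i j
    rw [hconj_apply]
    exact hherm.apply φ _ _
  have hne' : W.toBlocks₂₂ ≠ 0 := by
    intro h
    apply h3
    have := congrFun (congrFun h i₂) j₂
    exact this
  obtain ⟨x', hx'⟩ : ∃ x', sesq φ W.toBlocks₂₂ x' x' ≠ 0 := by
    by_contra hcon
    push Not at hcon
    exact hne' (eq_zero_of_sesq_self_eq_zero φ H.moved hherm' hcon)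
  have hfix' : φ (sesq φ W.toBlocks₂₂ x' x') = sesq φ W.toBlocks₂₂ x' x' :=
    hherm'.sesq_swap φ H.inv x' x'
  have hfix0 : φ (W (Sum.inl ()) (Sum.inl ())) = W (Sum.inl ()) (Sum.inl ()) := hherm.apply φ _ _
  obtain ⟨l, hl⟩ := H.norm (-(sesq φ W.toBlocks₂₂ x' x') / W (Sum.inl ()) (Sum.inl ()))
    (by rw [map_div₀, map_neg, hfix', hfix0]) (div_ne_zero (neg_ne_zero.2 hx') h0)
  have hl0 : l ≠ 0 := by
    rintro rfl
    rw [zero_mul] at hl
    exact div_ne_zero (neg_ne_zero.2 hx') h0 hl.symm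
  set x : Unit ⊕ ι' → F := Sum.elim (fun _ => l) x' with hx
  have hxx : sesq φ W x x = 0 := by
    rw [sesq_block W h1 h2]
    simp only [hx, Sum.elim_inl, Sum.elim_inr]
    have : l * φ l * W (Sum.inl ()) (Sum.inl ()) = -(sesq φ W.toBlocks₂₂ x' x') := by
      rw [hl, div_mul_cancel₀ _ h0]
    linear_combination this
  have hWx : (W *ᵥ x) (Sum.inl ()) ≠ 0 := by
    rw [mulVec_block_inl W h1]
    exact mul_ne_zero h0 hl0
  have hx0 : x ≠ 0 := by
    intro h
    apply hl0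
    have := congrFun h (Sum.inl ())
    exact this
  obtain ⟨A, hA, hAx⟩ := exists_det_one_mulVec_single (Sum.inl ()) (Sum.inr i₁) (by simp) x hx0
  refine ⟨cong φ A W, hcl A hA W hW, ?_, ?_⟩
  · rw [cong_apply, hAx, hxx]
  · by_contra hcon
    push Not at hcon
    apply hWx
    have h5 : cong φ A W *ᵥ Pi.single (Sum.inl ()) 1 = 0 := by
      rw [Matrix.mulVec_single_one]
      funext k
      rcases k with ⟨⟩ | j
      · change cong φ A W (Sum.inl ()) (Sum.inl ()) = 0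
        rw [cong_apply, hAx, hxx]
      · exact hcon j
    unfold cong at h5
    rw [← Matrix.mulVec_mulVec, ← Matrix.mulVec_mulVec, hAx] at h5
    have h6 : (hconj φ A).det ≠ 0 := by
      rw [det_hconj, hA, map_one]
      exact one_ne_zero
    rw [Matrix.eq_zero_of_mulVec_eq_zero h6 h5]
    rfl

include H in
/-- Shearing a matrix with isotropic first basis vector gives many matrices. -/
theorem card_corner_zero_ge_of_isotropic (Ω : Finset (Matrix (Unit ⊕ ι') (Unit ⊕ ι') F))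
    (hgood : GoodSet φ Ω) (hcl : ClosedSL φ Ω) (W₂ : Matrix (Unit ⊕ ι') (Unit ⊕ ι') F)
    (hW₂ : W₂ ∈ Ω) (h0 : W₂ (Sum.inl ()) (Sum.inl ()) = 0) (j₀ : ι')
    (hj₀ : W₂ (Sum.inr j₀) (Sum.inl ()) ≠ 0) :
    q * (q ^ 2) ^ (Fintype.card ι' - 1)
      ≤ (Ω.filter (fun W => W (Sum.inl ()) (Sum.inl ()) = 0)).card := by
  classical
  obtain ⟨z₁, hz₁⟩ := H.trace
  have hherm := (hgood W₂ hW₂).1
  set v : ι' → F := fun i => W₂ (Sum.inr i) (Sum.inl ()) with hv
  have hrow : ∀ j, W₂ (Sum.inl ()) (Sum.inr j) = φ (v j) := by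
    intro j
    rw [hv]
    exact (hherm.apply φ _ _).symm
  let r : (ι' → F) → (Unit ⊕ ι' → F) := fun g =>
    Sum.elim (fun _ => 0) (fun i => if i = j₀ then g j₀ * z₁ / v j₀ else g i)
  have hr0 : ∀ g, r g (Sum.inl ()) = 0 := fun g => rfl
  let G : (ι' → F) → Matrix (Unit ⊕ ι') (Unit ⊕ ι') F := fun g =>
    cong φ (shear (Sum.inl ()) (r g)) W₂
  have hG : ∀ g i, G g (Sum.inr i) (Sum.inr j₀)
      = W₂ (Sum.inr i) (Sum.inr j₀) + (g j₀ * z₁ / v j₀) * v i
        + φ (r g (Sum.inr i)) * φ (v j₀) := by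
    intro g i
    change cong φ (shear (Sum.inl ()) (r g)) W₂ (Sum.inr i) (Sum.inr j₀) = _
    rw [cong_shear_apply, h0, hrow]
    simp only [r, Sum.elim_inr, if_true]
    ring
  have hcard : (Fintype.piFinset (fun i : ι' =>
      if i = j₀ then Finset.univ.filter (fun c : F => φ c = c) else Finset.univ)).card
      ≤ (Ω.filter (fun W => W (Sum.inl ()) (Sum.inl ()) = 0)).card := by
    apply Finset.card_le_card_of_injOn G
    · intro g _
      rw [Finset.mem_coe, Finset.mem_filter]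
      refine ⟨hcl _ (det_shear _ _ (hr0 g)) W₂ hW₂, ?_⟩
      change cong φ (shear (Sum.inl ()) (r g)) W₂ (Sum.inl ()) (Sum.inl ()) = 0
      rw [cong_shear_apply, hr0, h0]
      ring
    · intro g hg g' hg' hgg
      rw [Finset.mem_coe, Fintype.mem_piFinset] at hg hg'
      have hgj : φ (g j₀) = g j₀ := by
        have := hg j₀
        rw [if_pos rfl, Finset.mem_filter] at this
        exact this.2
      have hgj' : φ (g' j₀) = g' j₀ := by
        have := hg' j₀
        rw [if_pos rfl, Finset.mem_filter] at this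
        exact this.2
      have hvφ : φ (v j₀) ≠ 0 := by
        intro h
        apply hj₀
        have := congrArg φ h
        rwa [H.inv, map_zero] at this
      have hvj : v j₀ ≠ 0 := hj₀
      have key : ∀ g : ι' → F, φ (g j₀) = g j₀ → G g (Sum.inr j₀) (Sum.inr j₀)
          = W₂ (Sum.inr j₀) (Sum.inr j₀) + g j₀ * (z₁ + φ z₁) := by
        intro g hgj
        rw [hG g j₀]
        have e2 : r g (Sum.inr j₀) = g j₀ * z₁ / v j₀ := by
          simp only [r, Sum.elim_inr, if_true]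
        rw [e2, ← map_mul, div_mul_cancel₀ _ hvj, map_mul, hgj]
        ring
      have e1 : g j₀ = g' j₀ := by
        have h1 := key g hgj
        have h2 := key g' hgj'
        rw [hgg] at h1
        rw [h1] at h2
        have h3 : g j₀ * (z₁ + φ z₁) = g' j₀ * (z₁ + φ z₁) := by
          linear_combination h2
        exact mul_right_cancel₀ hz₁ h3
      funext i
      by_cases hi : i = j₀
      · rw [hi, e1]
      · have h1 := hG g i
        have h2 := hG g' i
        rw [hgg] at h1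
        rw [h1] at h2
        simp only [r, Sum.elim_inr, if_neg hi, e1] at h2
        have h3 : φ (g i) = φ (g' i) := by
          have h4 : φ (g i) * φ (v j₀) = φ (g' i) * φ (v j₀) := by linear_combination h2
          exact mul_right_cancel₀ hvφ h4
        have := congrArg φ h3
        rwa [H.inv, H.inv] at this
  refine le_trans ?_ hcard
  rw [Fintype.card_piFinset]
  have hprod : ∏ i : ι', (if i = j₀ then Finset.univ.filter (fun c : F => φ c = c)
      else Finset.univ).card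
      = (Finset.univ.filter (fun c : F => φ c = c)).card * (q ^ 2) ^ (Fintype.card ι' - 1) := by
    rw [← Finset.mul_prod_erase Finset.univ _ (Finset.mem_univ j₀), if_pos rfl]
    congr 1
    rw [Finset.prod_congr rfl (g := fun _ => q ^ 2)]
    · rw [Finset.prod_const, Finset.card_erase_of_mem (Finset.mem_univ _), Finset.card_univ]
    · intro i hi
      rw [if_neg (Finset.ne_of_mem_erase hi), Finset.card_univ, H.cardF]
  rw [hprod]
  exact Nat.mul_le_mul_right _ H.cardK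


theorem cong_fromBlocks_corner (c : F) (A' W' : Matrix ι' ι' F) :
    cong φ (Matrix.fromBlocks (Matrix.diagonal fun _ : Unit => c) 0 0 A')
        (Matrix.fromBlocks 0 0 0 W')
      = Matrix.fromBlocks 0 0 0 (cong φ A' W') := by
  unfold cong hconj
  rw [Matrix.fromBlocks_map, Matrix.fromBlocks_transpose, Matrix.fromBlocks_multiply,
    Matrix.fromBlocks_multiply]
  simp

theorem det_fromBlocks_corner (c : F) (A' : Matrix ι' ι' F) :
    (Matrix.fromBlocks (Matrix.diagonal fun _ : Unit => c) 0 0 A').det = c * A'.det := by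
  rw [Matrix.det_fromBlocks_zero₂₁, Matrix.det_diagonal]
  simp

/-- The matrices of the set supported on the lower right block. -/
def lowerSet (Ω : Finset (Matrix (Unit ⊕ ι') (Unit ⊕ ι') F)) : Finset (Matrix ι' ι' F) :=
  (Ω.filter (fun W => W.toBlocks₁₁ = 0 ∧ W.toBlocks₁₂ = 0 ∧ W.toBlocks₂₁ = 0)).image
    Matrix.toBlocks₂₂

theorem mem_lowerSet (Ω : Finset (Matrix (Unit ⊕ ι') (Unit ⊕ ι') F)) (W' : Matrix ι' ι' F) :
    W' ∈ lowerSet Ω ↔ Matrix.fromBlocks 0 0 0 W' ∈ Ω := by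
  unfold lowerSet
  rw [Finset.mem_image]
  constructor
  · rintro ⟨W, hW, rfl⟩
    rw [Finset.mem_filter] at hW
    obtain ⟨hW, h11, h12, h21⟩ := hW
    have := Matrix.fromBlocks_toBlocks W
    rw [h11, h12, h21] at this
    rw [this]
    exact hW
  · intro h
    refine ⟨Matrix.fromBlocks 0 0 0 W', ?_, Matrix.toBlocks_fromBlocks₂₂ _ _ _ _⟩
    rw [Finset.mem_filter]
    exact ⟨h, Matrix.toBlocks_fromBlocks₁₁ _ _ _ _, Matrix.toBlocks_fromBlocks₁₂ _ _ _ _,
      Matrix.toBlocks_fromBlocks₂₁ _ _ _ _⟩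

theorem goodSet_lowerSet (Ω : Finset (Matrix (Unit ⊕ ι') (Unit ⊕ ι') F)) (hgood : GoodSet φ Ω) :
    GoodSet φ (lowerSet Ω) := by
  intro W' hW'
  rw [mem_lowerSet] at hW'
  obtain ⟨hherm, hne⟩ := hgood _ hW'
  constructor
  · ext i j
    rw [hconj_apply]
    have := hherm.apply φ (Sum.inr j) (Sum.inr i)
    simpa using this
  · rintro rfl
    apply hne
    exact Matrix.fromBlocks_zero

theorem closedGL_lowerSet (Ω : Finset (Matrix (Unit ⊕ ι') (Unit ⊕ ι') F)) (hcl : ClosedSL φ Ω) :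
    ClosedGL φ (lowerSet Ω) := by
  intro A' hA' W' hW'
  rw [mem_lowerSet] at hW' ⊢
  rw [← cong_fromBlocks_corner (A'.det)⁻¹]
  apply hcl _ _ _ hW'
  rw [det_fromBlocks_corner, inv_mul_cancel₀ hA']

theorem card_lowerSet_le (Ω : Finset (Matrix (Unit ⊕ ι') (Unit ⊕ ι') F)) :
    (lowerSet Ω).card ≤ (Ω.filter (fun W => W (Sum.inl ()) (Sum.inl ()) = 0)).card := by
  unfold lowerSet
  refine le_trans Finset.card_image_le (Finset.card_le_card ?_)
  intro W hW
  rw [Finset.mem_filter] at hW ⊢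
  refine ⟨hW.1, ?_⟩
  have := congrFun (congrFun hW.2.1 ()) ()
  exact this

theorem sesq_zero_matrix {n : Type*} [Fintype n] (x y : n → F) :
    sesq φ (0 : Matrix n n F) x y = 0 := by
  unfold sesq
  rw [Matrix.zero_mulVec, dotProduct_zero]

/-- A rank one matrix of the set gives a matrix supported on the lower block. -/
theorem lowerSet_nonempty_of_rank_one [Nonempty ι']
    (Ω : Finset (Matrix (Unit ⊕ ι') (Unit ⊕ ι') F)) (hgood : GoodSet φ Ω) (hcl : ClosedSL φ Ω)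
    (W : Matrix (Unit ⊕ ι') (Unit ⊕ ι') F) (hW : W ∈ Ω)
    (h2 : ∀ j, W (Sum.inr j) (Sum.inl ()) = 0) (h3 : ∀ i j, W (Sum.inr i) (Sum.inr j) = 0) :
    (lowerSet Ω).Nonempty := by
  obtain ⟨i₁⟩ := ‹Nonempty ι'›
  have hherm := (hgood W hW).1
  have h1 : ∀ j, W (Sum.inl ()) (Sum.inr j) = 0 := by
    intro j
    rw [← hherm.apply φ, h2, map_zero]
  have hblock : W.toBlocks₂₂ = 0 := by
    ext i j
    exact h3 i j
  obtain ⟨B, hB, hBx⟩ := exists_det_one_mulVec_single (F := F) (Sum.inl ()) (Sum.inr i₁)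
    (by simp) (Pi.single (Sum.inr i₁) 1) (by
      intro h
      have := congrFun h (Sum.inr i₁)
      simp at this)
  have hB00 : B (Sum.inl ()) (Sum.inl ()) = 0 := by
    have := congrFun hBx (Sum.inl ())
    rw [Matrix.mulVec_single_one] at this
    simpa using this
  have hentry : ∀ i j, cong φ B W i j
      = φ (B (Sum.inl ()) i) * W (Sum.inl ()) (Sum.inl ()) * B (Sum.inl ()) j := by
    intro i j
    rw [cong_apply, sesq_block W h1 h2, hblock, sesq_zero_matrix, add_zero,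
      Matrix.mulVec_single_one, Matrix.mulVec_single_one]
    rfl
  refine ⟨(cong φ B W).toBlocks₂₂, ?_⟩
  rw [mem_lowerSet]
  have h4 : Matrix.fromBlocks 0 0 0 (cong φ B W).toBlocks₂₂ = cong φ B W := by
    conv_rhs => rw [← Matrix.fromBlocks_toBlocks (cong φ B W)]
    congr 1
    · ext i j
      simp only [Matrix.toBlocks₁₁, Matrix.of_apply, Matrix.zero_apply]
      rw [hentry, hB00, map_zero]
      ring
    · ext i j
      simp only [Matrix.toBlocks₁₂, Matrix.of_apply, Matrix.zero_apply]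
      rw [hentry, hB00, map_zero]
      ring
    · ext i j
      simp only [Matrix.toBlocks₂₁, Matrix.of_apply, Matrix.zero_apply]
      rw [hentry, hB00]
      ring
  rw [h4]
  exact hcl B hB W hW

include H in
theorem card_corner_zero_ge [Nonempty ι'] (Ω : Finset (Matrix (Unit ⊕ ι') (Unit ⊕ ι') F))
    (hne : Ω.Nonempty) (hgood : GoodSet φ Ω) (hcl : ClosedSL φ Ω) (N' : ℕ)
    (IH : ∀ Ω' : Finset (Matrix ι' ι' F), Ω'.Nonempty → GoodSet φ Ω' → ClosedGL φ Ω' →
      N' ≤ Ω'.card)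
    (hN' : N' ≤ q * (q ^ 2) ^ (Fintype.card ι' - 1)) :
    N' ≤ (Ω.filter (fun W => W (Sum.inl ()) (Sum.inl ()) = 0)).card := by
  obtain ⟨W₁, hW₁, h₁⟩ := exists_corner_ne_zero H Ω hne hgood hcl
  have hfix₁ : φ (W₁ (Sum.inl ()) (Sum.inl ())) = W₁ (Sum.inl ()) (Sum.inl ()) :=
    (hgood W₁ hW₁).1.apply φ _ _
  obtain ⟨W, hW, hW0, hWv⟩ := exists_prescribed H Ω hgood hcl W₁ hW₁ h₁ _ hfix₁ h₁ 0
  by_cases hc : ∀ i j, W (Sum.inr i) (Sum.inr j) = 0
  · have h5 := lowerSet_nonempty_of_rank_one Ω hgood hcl W hW hWv hc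
    exact le_trans (IH _ h5 (goodSet_lowerSet Ω hgood) (closedGL_lowerSet Ω hcl))
      (card_lowerSet_le Ω)
  · push Not at hc
    obtain ⟨i₂, j₂, h3⟩ := hc
    obtain ⟨W₂, hW₂, h0, j₀, hj₀⟩ := exists_isotropic H Ω hgood hcl W hW (by rw [hW0]; exact h₁)
      hWv i₂ j₂ h3
    exact le_trans hN' (card_corner_zero_ge_of_isotropic H Ω hgood hcl W₂ hW₂ h0 j₀ hj₀)

include H in
/-- The inductive step of the orbit count. -/
theorem card_step [Nonempty ι'] (Ω : Finset (Matrix (Unit ⊕ ι') (Unit ⊕ ι') F))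
    (hne : Ω.Nonempty) (hgood : GoodSet φ Ω) (hcl : ClosedSL φ Ω) (N' : ℕ)
    (IH : ∀ Ω' : Finset (Matrix ι' ι' F), Ω'.Nonempty → GoodSet φ Ω' → ClosedGL φ Ω' →
      N' ≤ Ω'.card)
    (hN' : N' ≤ q * (q ^ 2) ^ (Fintype.card ι' - 1)) :
    (q - 1) * (q ^ 2) ^ Fintype.card ι' + N' ≤ Ω.card := by
  have h1 := card_corner_ne_zero_ge H Ω hne hgood hcl
  have h2 := card_corner_zero_ge H Ω hne hgood hcl N' IH hN'
  have h3 := Finset.card_filter_add_card_filter_not (s := Ω)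
    (fun W => W (Sum.inl ()) (Sum.inl ()) = 0)
  simp only [ne_eq] at h1
  rw [← h3]
  omega

end step

end Cfsg.Agent.Lib.Helper46
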