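import Mathlib
import Cfsg.Agent.Lib.Helper46.HermOrbit

set_option autoImplicit false

namespace Cfsg.Agent.Lib.Helper46

open Matrix

/-- The number of Hermitian matrices of rank one. -/
def hermCount (q m : ℕ) : ℕ := (q - 1) * ∑ j ∈ Finset.range m, (q ^ 2) ^ j

theorem hermCount_succ (q m : ℕ) :
    hermCount q (m + 1) = (q - 1) * (q ^ 2) ^ m + hermCount q m := by
  unfold hermCount
  rw [Finset.sum_range_succ]
  ring

theorem hermCount_le (q : ℕ) (hq : 1 ≤ q) : ∀ m : ℕ, 1 ≤ m →
    hermCount q m ≤ q * (q ^ 2) ^ (m - 1) := by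
  intro m hm
  induction m, hm using Nat.le_induction with
  | base =>
    unfold hermCount
    simp
  | succ m hm ih =>
    rw [hermCount_succ, Nat.add_sub_cancel]
    obtain ⟨k, rfl⟩ : ∃ k, m = k + 1 := ⟨m - 1, by omega⟩
    rw [Nat.add_sub_cancel] at ih
    have h1 : q * (q ^ 2) ^ k ≤ (q ^ 2) ^ (k + 1) := by
      rw [pow_succ, mul_comm]
      apply Nat.mul_le_mul_left
      nlinarith
    have h2 : (q - 1) * (q ^ 2) ^ (k + 1) + (q ^ 2) ^ (k + 1) = q * (q ^ 2) ^ (k + 1) := by
      obtain ⟨r, rfl⟩ : ∃ r, q = r + 1 := ⟨q - 1, by omega⟩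
      rw [Nat.add_sub_cancel]
      ring
    omega

theorem hermCount_mul (q m : ℕ) (hq : 1 ≤ q) : (q + 1) * hermCount q m + 1 = q ^ (2 * m) := by
  unfold hermCount
  obtain ⟨r, rfl⟩ : ∃ r, q = r + 1 := ⟨q - 1, by omega⟩
  rw [Nat.add_sub_cancel]
  have h1 := geom_sum_mul (((r + 1 : ℕ) : ℤ) ^ 2) m
  zify
  rw [pow_mul]
  push_cast at h1 ⊢
  linear_combination h1

theorem hermCount_eq_div (q m : ℕ) (hq : 1 ≤ q) : (q ^ (2 * m) - 1) / (q + 1) = hermCount q m := by
  have h := hermCount_mul q m hq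
  have h2 : q ^ (2 * m) - 1 = (q + 1) * hermCount q m := by omega
  rw [h2, Nat.mul_div_cancel_left _ (by omega)]

section transport

variable {F : Type*} [Field F] [DecidableEq F] (φ : F →+* F)
variable {n n' : Type*} [Fintype n] [DecidableEq n] [Fintype n'] [DecidableEq n']

theorem cong_reindex (e : n ≃ n') (A W : Matrix n n F) :
    cong φ (Matrix.reindex e e A) (Matrix.reindex e e W) = Matrix.reindex e e (cong φ A W) := by
  unfold cong hconj
  simp only [Matrix.reindex_apply]
  rw [← Matrix.submatrix_map, Matrix.transpose_submatrix, Matrix.submatrix_mul_equiv,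
    Matrix.submatrix_mul_equiv]

theorem isHerm_reindex (e : n ≃ n') {W : Matrix n n F} (h : IsHerm φ W) :
    IsHerm φ (Matrix.reindex e e W) := by
  ext i j
  rw [hconj_apply]
  simp only [Matrix.reindex_apply, Matrix.submatrix_apply]
  exact h.apply φ _ _

/-- Transport of a set of matrices along a reindexing. -/
def reindexSet (e : n ≃ n') (Ω : Finset (Matrix n n F)) : Finset (Matrix n' n' F) :=
  Ω.map (Matrix.reindex e e).toEmbedding

theorem mem_reindexSet (e : n ≃ n') (Ω : Finset (Matrix n n F)) (W : Matrix n' n' F) :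
    W ∈ reindexSet e Ω ↔ Matrix.reindex e.symm e.symm W ∈ Ω := by
  unfold reindexSet
  rw [Finset.mem_map_equiv]
  rfl

theorem goodSet_reindexSet (e : n ≃ n') (Ω : Finset (Matrix n n F)) (h : GoodSet φ Ω) :
    GoodSet φ (reindexSet e Ω) := by
  intro W hW
  rw [mem_reindexSet] at hW
  obtain ⟨h1, h2⟩ := h _ hW
  constructor
  · have := isHerm_reindex φ e h1
    simpa using this
  · rintro rfl
    apply h2
    simp

theorem closedSL_reindexSet (e : n ≃ n') (Ω : Finset (Matrix n n F)) (h : ClosedSL φ Ω) :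
    ClosedSL φ (reindexSet e Ω) := by
  intro A hA W hW
  rw [mem_reindexSet] at hW ⊢
  rw [← cong_reindex]
  apply h _ _ _ hW
  rw [Matrix.det_reindex_self, hA]

theorem closedGL_reindexSet (e : n ≃ n') (Ω : Finset (Matrix n n F)) (h : ClosedGL φ Ω) :
    ClosedGL φ (reindexSet e Ω) := by
  intro A hA W hW
  rw [mem_reindexSet] at hW ⊢
  rw [← cong_reindex]
  apply h _ _ _ hW
  rw [Matrix.det_reindex_self]
  exact hA

theorem card_reindexSet (e : n ≃ n') (Ω : Finset (Matrix n n F)) :
    (reindexSet e Ω).card = Ω.card := Finset.card_map _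

end transport

section claim

variable {F : Type*} [Field F] [Fintype F] [DecidableEq F] {φ : F →+* F} {q : ℕ}
  (H : HermField φ q)

include H in
theorem HermField.one_le : 1 ≤ q := by
  have h1 : 0 < Fintype.card F := Fintype.card_pos
  rw [H.cardF] at h1
  by_contra h
  have : q = 0 := by omega
  rw [this] at h1
  simp at h1

include H in
/-- The inductive step on `Fin (m + 1)`. -/
theorem card_step_fin (m : ℕ) (hm : 1 ≤ m) (Ω : Finset (Matrix (Fin (m + 1)) (Fin (m + 1)) F))
    (hne : Ω.Nonempty) (hgood : GoodSet φ Ω) (hcl : ClosedSL φ Ω)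
    (IH : ∀ Ω' : Finset (Matrix (Fin m) (Fin m) F), Ω'.Nonempty → GoodSet φ Ω' →
      ClosedGL φ Ω' → hermCount q m ≤ Ω'.card) :
    hermCount q (m + 1) ≤ Ω.card := by
  have e : Fin (m + 1) ≃ Unit ⊕ Fin m := Fintype.equivOfCardEq (by simp; omega)
  haveI : Nonempty (Fin m) := ⟨⟨0, hm⟩⟩
  have h := card_step H (reindexSet e Ω) (by
      obtain ⟨W, hW⟩ := hne
      exact ⟨_, Finset.mem_map_of_mem _ hW⟩)
    (goodSet_reindexSet φ e Ω hgood) (closedSL_reindexSet φ e Ω hcl) (hermCount q m) IH (by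
      have := hermCount_le q H.one_le m hm
      rwa [Fintype.card_fin])
  rw [card_reindexSet, Fintype.card_fin] at h
  rw [hermCount_succ]
  exact h

include H in
/-- Base case: `1 × 1` matrices. -/
theorem card_ge_one (Ω : Finset (Matrix (Fin 1) (Fin 1) F))
    (hne : Ω.Nonempty) (hgood : GoodSet φ Ω) (hcl : ClosedGL φ Ω) :
    hermCount q 1 ≤ Ω.card := by
  classical
  obtain ⟨W, hW⟩ := hne
  obtain ⟨hherm, hW0⟩ := hgood W hW
  have ha0 : W 0 0 ≠ 0 := by
    intro h
    apply hW0
    ext i j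
    rw [Subsingleton.elim i 0, Subsingleton.elim j 0, h]
    rfl
  have hafix : φ (W 0 0) = W 0 0 := hherm.apply φ _ _
  have hex : ∀ c : F, ∃ W' : Matrix (Fin 1) (Fin 1) F, (φ c = c ∧ c ≠ 0) →
      (W' ∈ Ω ∧ W' 0 0 = c) := by
    intro c
    by_cases hc : φ c = c ∧ c ≠ 0
    · obtain ⟨l, hl⟩ := H.norm (c / W 0 0) (by rw [map_div₀, hc.1, hafix])
        (div_ne_zero hc.2 ha0)
      have hl0 : l ≠ 0 := by
        rintro rfl
        rw [zero_mul] at hl
        exact div_ne_zero hc.2 ha0 hl.symm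
      refine ⟨cong φ (Matrix.diagonal fun _ => l) W, fun _ => ⟨?_, ?_⟩⟩
      · apply hcl _ _ _ hW
        rw [Matrix.det_diagonal]
        simpa using hl0
      · rw [cong_diagonal_apply]
        have : l * φ l * W 0 0 = c := by rw [hl, div_mul_cancel₀ _ ha0]
        linear_combination this
    · exact ⟨0, fun h => absurd h hc⟩
  choose g hg using hex
  have hcard : (Finset.univ.filter (fun c : F => φ c = c ∧ c ≠ 0)).card ≤ Ω.card := by
    apply Finset.card_le_card_of_injOn g
    · intro c hc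
      rw [Finset.mem_coe, Finset.mem_filter] at hc
      exact (hg c hc.2).1
    · intro c hc c' hc' hcc
      rw [Finset.mem_coe, Finset.mem_filter] at hc hc'
      rw [← (hg c hc.2).2, ← (hg c' hc'.2).2, hcc]
  refine le_trans ?_ hcard
  unfold hermCount
  simp only [Finset.range_one, Finset.sum_singleton, pow_zero, mul_one]
  exact H.cardK'

include H in
/-- A non-empty set of non-zero Hermitian `m × m` matrices closed under congruence has at
least as many elements as there are Hermitian matrices of rank one. -/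
theorem card_ge_of_closedGL : ∀ (m : ℕ), 1 ≤ m → ∀ (Ω : Finset (Matrix (Fin m) (Fin m) F)),
    Ω.Nonempty → GoodSet φ Ω → ClosedGL φ Ω → hermCount q m ≤ Ω.card := by
  intro m hm
  induction m, hm using Nat.le_induction with
  | base => exact card_ge_one H
  | succ m hm ih =>
    intro Ω hne hgood hcl
    exact card_step_fin H m hm Ω hne hgood (hcl.closedSL φ) ih

include H in
/-- The same for sets closed under congruence by matrices of determinant one, if `m ≥ 2`. -/
theorem card_ge_of_closedSL (m : ℕ) (hm : 2 ≤ m) (Ω : Finset (Matrix (Fin m) (Fin m) F))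
    (hne : Ω.Nonempty) (hgood : GoodSet φ Ω) (hcl : ClosedSL φ Ω) : hermCount q m ≤ Ω.card := by
  obtain ⟨k, rfl⟩ : ∃ k, m = k + 1 := ⟨m - 1, by omega⟩
  exact card_step_fin H k (by omega) Ω hne hgood hcl (card_ge_of_closedGL H k (by omega))

end claim

end Cfsg.Agent.Lib.Helper46
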