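import Mathlib
import Cfsg.Agent.Lib.Helper46.UnitaryField2
import Cfsg.Agent.Lib.Helper46.HermCount

set_option autoImplicit false

namespace Cfsg.Agent.Lib.Helper46

/-- The field with `q^2` elements and its Frobenius satisfy the hypotheses of the orbit count. -/
theorem hermField_frobRing {F : Type*} [Field F] [Fintype F] [DecidableEq F] {q : ℕ}
    (hF : Fintype.card F = q ^ 2) : HermField (frobRing hF) q :=
  ⟨frobRing_frobRing hF, exists_norm_eq hF, exists_frobRing_ne hF, exists_trace_ne_zero hF, hF,
    le_card_filter_fixed hF, le_card_filter_fixed_ne_zero hF⟩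

end Cfsg.Agent.Lib.Helper46
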