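import Mathlib

/-!
# K-IP leaf NUM (keystone 446310, S4463): `b^4 * ((b/2)!)^2 ≤ (b!)^2` for `b ≥ 5`
-/

set_option autoImplicit false

namespace Cfsg.Agent.Lib.Helper46.IP

/-- `b^2 * (b/2)! ≤ b!` for `b ≥ 5` -/
theorem ipnum_aux (b : ℕ) (hb : 5 ≤ b) : b ^ 2 * (b / 2).factorial ≤ b.factorial := by
  obtain ⟨c, rfl⟩ : ∃ c, b = c + 3 := ⟨b - 3, by omega⟩
  have hc : 2 ≤ c := by omega
  have hm : (c + 3) / 2 ≤ c := by omega
  have h1 : ((c + 3) / 2).factorial ≤ c.factorial := Nat.factorial_le hm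
  have h2 : (c + 3).factorial = (c + 3) * ((c + 2) * ((c + 1) * c.factorial)) := by
    rw [Nat.factorial_succ (c + 2), Nat.factorial_succ (c + 1), Nat.factorial_succ c]
  have h3 : (c + 3) ^ 2 ≤ (c + 3) * ((c + 2) * (c + 1)) := by nlinarith
  calc (c + 3) ^ 2 * ((c + 3) / 2).factorial
      ≤ ((c + 3) * ((c + 2) * (c + 1))) * c.factorial := Nat.mul_le_mul h3 h1
    _ = (c + 3).factorial := by rw [h2]; ring

/-- 446310 IP-NUM (EASY, pure Nat). -/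
theorem num_bound (b : ℕ) (hb : 5 ≤ b) :
    b ^ 4 * ((b / 2).factorial) ^ 2 ≤ (b.factorial) ^ 2 := by
  have h := Nat.pow_le_pow_left (ipnum_aux b hb) 2
  calc b ^ 4 * ((b / 2).factorial) ^ 2 = (b ^ 2 * (b / 2).factorial) ^ 2 := by ring
    _ ≤ (b.factorial) ^ 2 := h

end Cfsg.Agent.Lib.Helper46.IP
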