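import Mathlib

set_option autoImplicit false

namespace Cfsg.Agent.Lib.Helper46

open Matrix

/-- Rank factorisation of an idempotent matrix. -/
theorem exists_idem_factor {d : ℕ} (E : Matrix (Fin d) (Fin d) ℂ) (hE : E * E = E) :
    ∃ (B : Matrix (Fin d) (Fin (Module.finrank ℂ (LinearMap.range (Matrix.toLin' E)))) ℂ)
      (C : Matrix (Fin (Module.finrank ℂ (LinearMap.range (Matrix.toLin' E)))) (Fin d) ℂ),
      B * C = E ∧ C * B = 1 := by
  classical
  set W := LinearMap.range (Matrix.toLin' E) with hW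
  let b := Module.finBasis ℂ W
  let f : (Fin d → ℂ) →ₗ[ℂ] W := (Matrix.toLin' E).rangeRestrict
  let g : W →ₗ[ℂ] (Fin d → ℂ) := W.subtype
  have hgf : g ∘ₗ f = Matrix.toLin' E := by
    ext x
    rfl
  have hfg : f ∘ₗ g = LinearMap.id := by
    apply LinearMap.ext
    intro w
    apply Subtype.ext
    obtain ⟨x, hx⟩ := w.2
    change Matrix.toLin' E (w : Fin d → ℂ) = (w : Fin d → ℂ)
    rw [← hx, ← LinearMap.comp_apply, ← Matrix.toLin'_mul, hE]
  refine ⟨LinearMap.toMatrix b (Pi.basisFun ℂ (Fin d)) g,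
    LinearMap.toMatrix (Pi.basisFun ℂ (Fin d)) b f, ?_, ?_⟩
  · rw [← LinearMap.toMatrix_comp, hgf, LinearMap.toMatrix_eq_toMatrix', LinearMap.toMatrix'_toLin']
  · rw [← LinearMap.toMatrix_comp, hfg, LinearMap.toMatrix_id]

end Cfsg.Agent.Lib.Helper46
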