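import Mathlib

set_option autoImplicit false

namespace Cfsg.Agent.Lib.Helper46

/-- Homomorphisms commute with `FreeGroup.lift`. -/
theorem map_lift_word {G H : Type*} [Group G] [Group H] (φ : G →* H) (f : ℕ → G)
    (w : FreeGroup ℕ) : φ (FreeGroup.lift f w) = FreeGroup.lift (fun i => φ (f i)) w := by
  have : (φ.comp (FreeGroup.lift f)) w = FreeGroup.lift (fun i => φ (f i)) w := by
    apply FreeGroup.lift_unique
    intro x
    simp
  simpa using this

/-- Laws transfer along group isomorphisms. -/
theorem law_of_mulEquiv {G H : Type*} [Group G] [Group H] (e : G ≃* H) (w : FreeGroup ℕ)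
    (hG : ∀ f : ℕ → G, FreeGroup.lift f w = 1) : ∀ f : ℕ → H, FreeGroup.lift f w = 1 := by
  intro f
  have h := map_lift_word e.toMonoidHom (fun i => e.symm (f i)) w
  rw [hG, map_one] at h
  simpa using h.symm

/-- If `H` embeds in `K` and `w` is a law in `K / Z(K)`, then `w` is a law in `H / Z(H)`. -/
theorem law_center_quot_of_injective {H K : Type*} [Group H] [Group K] (ι : H →* K)
    (hι : Function.Injective ι) (w : FreeGroup ℕ)
    (hK : ∀ f : ℕ → K ⧸ Subgroup.center K, FreeGroup.lift f w = 1) :
    ∀ f : ℕ → H ⧸ Subgroup.center H, FreeGroup.lift f w = 1 := by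
  intro f
  -- choose lifts
  have hsurj : ∀ i, ∃ x : H, (QuotientGroup.mk x : H ⧸ Subgroup.center H) = f i :=
    fun i => QuotientGroup.mk_surjective (f i)
  choose f' hf' using hsurj
  have h1 : FreeGroup.lift f w
      = (QuotientGroup.mk' (Subgroup.center H)) (FreeGroup.lift f' w) := by
    rw [map_lift_word]
    have : f = fun i => (QuotientGroup.mk' (Subgroup.center H)) (f' i) := by
      funext i
      exact (hf' i).symm
    rw [← this]
  rw [h1]
  rw [QuotientGroup.mk'_apply, QuotientGroup.eq_one_iff, Subgroup.mem_center_iff]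
  intro x
  apply hι
  rw [map_mul, map_mul]
  have h2 : (QuotientGroup.mk' (Subgroup.center K)) (ι (FreeGroup.lift f' w)) = 1 := by
    rw [map_lift_word, map_lift_word]
    exact hK _
  rw [QuotientGroup.mk'_apply, QuotientGroup.eq_one_iff, Subgroup.mem_center_iff] at h2
  exact h2 (ι x)

/-- The central quotient of a group embedded in a matrix ring over a finite field is small. -/
theorem card_center_quot_le {K : Type*} [Group K] {ι : Type*} [Fintype ι] [DecidableEq ι]
    {F : Type*} [Field F] [Fintype F] (j : K → Matrix ι ι F) (hj : Function.Injective j) :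
    Nat.card (K ⧸ Subgroup.center K) ≤ (Fintype.card F) ^ (Fintype.card ι * Fintype.card ι) := by
  have : Finite K := Finite.of_injective j hj
  calc Nat.card (K ⧸ Subgroup.center K) ≤ Nat.card K :=
        Nat.card_le_card_of_surjective _ (QuotientGroup.mk_surjective)
    _ ≤ Nat.card (Matrix ι ι F) := Nat.card_le_card_of_injective j hj
    _ = (Fintype.card F) ^ (Fintype.card ι * Fintype.card ι) := by
        rw [Nat.card_eq_fintype_card]
        have : Fintype.card (Matrix ι ι F) = Fintype.card (ι → ι → F) := rfl
        rw [this, Fintype.card_fun, Fintype.card_fun, ← pow_mul]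

end Cfsg.Agent.Lib.Helper46
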