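import Mathlib

set_option autoImplicit false

namespace Cfsg.Agent.Lib.Helper46

open Matrix

variable {F : Type*} [Field F]

/-- The companion matrix with trace `t` and determinant `D`. -/
def companion (t D : F) : Matrix (Fin 2) (Fin 2) F := !![0, -D; 1, t]

theorem companion_det (t D : F) : (companion t D).det = D := by
  simp [companion, Matrix.det_fin_two]

theorem companion_trace (t D : F) : (companion t D).trace = t := by
  simp [companion, Matrix.trace_fin_two]

/-- A `2 × 2` matrix is scalar. -/
def IsScalar (M : Matrix (Fin 2) (Fin 2) F) : Prop := M 0 1 = 0 ∧ M 1 0 = 0 ∧ M 0 0 = M 1 1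

theorem isScalar_iff (M : Matrix (Fin 2) (Fin 2) F) : IsScalar M ↔ M = (M 0 0) • (1 : Matrix (Fin 2) (Fin 2) F) := by
  constructor
  · rintro ⟨h1, h2, h3⟩
    ext i j
    fin_cases i <;> fin_cases j <;> simp [h1, h2, ← h3]
  · intro h
    refine ⟨?_, ?_, ?_⟩
    · rw [h]; simp
    · rw [h]; simp
    · conv_rhs => rw [h]
      simp

theorem companion_not_isScalar (t D : F) : ¬ IsScalar (companion t D) := by
  rintro ⟨_, h2, _⟩
  simp [companion] at h2

theorem isScalar_conj (M P Q : Matrix (Fin 2) (Fin 2) F) (hM : IsScalar M) (hPQ : P * Q = 1) :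
    P * M * Q = M := by
  rw [isScalar_iff] at hM
  rw [hM]
  simp [hPQ]

/-- A non-scalar `2 × 2` matrix is conjugate to the companion matrix of its characteristic polynomial. -/
theorem exists_conj_companion (M : Matrix (Fin 2) (Fin 2) F) (hM : ¬ IsScalar M) :
    ∃ P : Matrix (Fin 2) (Fin 2) F, P.det ≠ 0 ∧ M * P = P * companion M.trace M.det := by
  by_cases hc : M 1 0 = 0
  · by_cases hb : M 0 1 = 0
    · have had : M 0 0 ≠ M 1 1 := fun h => hM ⟨hb, hc, h⟩
      refine ⟨!![1, M 0 0; 1, M 1 1], ?_, ?_⟩
      · rw [Matrix.det_fin_two]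
        simp
        intro h
        exact had (sub_eq_zero.1 h).symm
      · ext i j
        fin_cases i <;> fin_cases j <;>
          simp [companion, Matrix.mul_apply, Fin.sum_univ_two, Matrix.det_fin_two, Matrix.trace_fin_two, hb, hc] <;>
          ring
    · refine ⟨!![0, M 0 1; 1, M 1 1], ?_, ?_⟩
      · rw [Matrix.det_fin_two]
        simpa using hb
      · ext i j
        fin_cases i <;> fin_cases j <;>
          simp [companion, Matrix.mul_apply, Fin.sum_univ_two, Matrix.det_fin_two, Matrix.trace_fin_two, hc] <;>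
          ring
  · refine ⟨!![1, M 0 0; 0, M 1 0], ?_, ?_⟩
    · rw [Matrix.det_fin_two]
      simpa using hc
    · ext i j
      fin_cases i <;> fin_cases j <;>
        simp [companion, Matrix.mul_apply, Fin.sum_univ_two, Matrix.det_fin_two, Matrix.trace_fin_two] <;>
        ring

end Cfsg.Agent.Lib.Helper46
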