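import Mathlib
import Cfsg.Prelude.Def_GeometricClasses
import Cfsg.Agent.Lib.Helper36.SLMaxD2
import Cfsg.Agent.Lib.Helper63.SLMaxD3
import Cfsg.Agent.Lib.Helper08.OOddMaxGlue
import Cfsg.Agent.Lib.Helper46.AschOGlueD
import Cfsg.Agent.Lib.Helper46.AschEDefs

/-!
Row-level bookkeeping for the even-dimensional orthogonal rows (S5826, S5874, ...): arithmetic of decompositions and field
subalgebras on `Fin n → F`, and the maximality steps.
-/

set_option autoImplicit false

namespace Cfsg.Agent.Lib.Helper46.OEvenRow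

open Cfsg Cfsg.Geo
open scoped Matrix Kronecker MatrixGroups

variable {F : Type*} [Field F] [Fintype F] {n : ℕ}

theorem mul_eq_of_isMDecomposition {t k : ℕ} (D : Fin t → Submodule F (Fin n → F))
    (hD : IsMDecomposition k D) : t * k = n := by
  have h := Cfsg.Agent.Lib.Helper36.SLMax.finrank_eq_sum_of_indep D hD.indep hD.iSup_eq_top
  rw [Module.finrank_fintype_fun_eq_card, Fintype.card_fin] at h
  rw [h]
  simp [hD.finrank_eq]

theorem dvd_of_isFieldSubalgebra (hn : 0 < n) {r : ℕ} (K : Subalgebra F (Matrix (Fin n) (Fin n) F))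
    (hK : IsFieldSubalgebra r K) : r ∣ n := by
  haveI : Nonempty (Fin n) := ⟨⟨0, hn⟩⟩
  have hnt : Nontrivial K := ⟨⟨0, 1, fun h => zero_ne_one (congrArg Subtype.val h)⟩⟩
  have hfield : IsField K :=
    { exists_pair_ne := ⟨0, 1, zero_ne_one⟩
      mul_comm := fun x y => Subtype.ext (hK.comm x x.2 y y.2)
      mul_inv_cancel := fun {a} ha => by
        obtain ⟨y, hy, hxy⟩ := hK.inv a a.2 (fun h => ha (Subtype.ext h))
        exact ⟨⟨y, hy⟩, Subtype.ext hxy⟩ }
  letI : Field K := hfield.toField
  have h1 := Cfsg.Agent.Lib.Helper63.SLMax.finrank_dvd_of_algHom (F := F) (L := K) (V := Fin n → F)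
    ((Matrix.toLinAlgEquiv' : Matrix (Fin n) (Fin n) F ≃ₐ[F] Module.End F (Fin n → F)).toAlgHom.comp K.val)
  rw [hK.finrank_eq, Module.finrank_fintype_fun_eq_card, Fintype.card_fin] at h1
  exact h1

theorem not_odd_card_of_two_eq_zero (h2 : (2 : F) = 0) : ¬ Odd (Fintype.card F) := by
  intro hodd
  have h1 : ringChar F = 2 := CharP.ringChar_of_prime_eq_zero Nat.prime_two (by exact_mod_cast h2)
  have h3 := FiniteField.even_card_of_char_two h1
  obtain ⟨k, hk⟩ := hodd
  omega

theorem finrank_span_singleton_ne {n : ℕ} (hn : 2 ≤ n) (v : Fin n → F) :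
    Submodule.span F {v} ≠ (⊤ : Submodule F (Fin n → F)) := by
  intro h
  have h1 : Module.finrank F (Submodule.span F {v}) ≤ 1 := by
    have := finrank_span_le_card (R := F) ({v} : Set (Fin n → F))
    simpa using this
  rw [h, finrank_top, Module.finrank_fintype_fun_eq_card, Fintype.card_fin] at h1
  omega

/-- the subfield shape with `r = 2` and the subfield `F₀` is proper -/
theorem subfield_ne_top_of_card {F₀ : Subfield F} {r : ℕ} (hr : r.Prime) (hF : Fintype.card F = Nat.card F₀ ^ r) :
    F₀ ≠ ⊤ := by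
  intro h
  rw [h] at hF
  have h1 : Nat.card (⊤ : Subfield F) = Fintype.card F := by
    rw [← Nat.card_eq_fintype_card]
    exact Nat.card_congr (Subfield.topEquiv (K := F)).toEquiv
  rw [h1] at hF
  have hq : 1 < Fintype.card F := Fintype.one_lt_card
  have h2 : Fintype.card F ^ 1 < Fintype.card F ^ r := Nat.pow_lt_pow_right hq hr.one_lt
  rw [pow_one] at h2
  omega

end Cfsg.Agent.Lib.Helper46.OEvenRow
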