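import Mathlib
import Cfsg.Prelude.Def_GeometricClasses
import Cfsg.Agent.Lib.Helper51.OEvenN5
import Cfsg.Agent.Lib.Helper46.AschEMain
import Cfsg.Agent.Lib.Helper46.OEvenRow12m

/-!
Row S5874 (`Ω₁₂⁻`): final assembly (Aschbacher-type theorem + block N + block X).
-/

set_option autoImplicit false

namespace Cfsg.Agent.Lib.Helper46.OEvenRow

open Cfsg Cfsg.Geo Cfsg.Agent.Lib.Helper46.AschE
open Cfsg.Agent.Lib.Helper08.OOddMax (omegaGL_le_isometryGroup)
open Cfsg.Agent.Lib.Helper51.OEvenN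
open Cfsg.Agent.Lib.Helper46.OEvenXL
open scoped Matrix Kronecker MatrixGroups

variable {F : Type*} [Field F] [Fintype F]

theorem row12minus (Q : (Fin 12 → F) → F) (hQ : IsNondegenerateQuadraticForm Q) (hminus : ¬ IsPlusTypeOn Q ⊤)
    (H : Subgroup (GL (Fin 12) F)) (hH : IsMaximalIn (omegaGL Q) H) : Concl12m Q H := by
  have hHI : H ≤ isometryGroup F Q := hH.1.le.trans (omegaGL_le_isometryGroup Q)
  exact row12minus_of Q hQ H hH
    (fun W h0 h1 => omegaGL_not_le_subspaceStabilizer (by norm_num) Q hQ W h0 h1) hminus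
    (fun D hD => omegaGL_not_le_decompositionStabilizer_orth (by norm_num) Q hQ D hD)
    (fun r E hr hE => omegaGL_not_le_subalgebraNormalizer (by norm_num) Q hQ hr E hE)
    (fun e P => omegaGL_not_le_tensorProductSubgroup (by norm_num) Q hQ (by norm_num) (by norm_num) e P)
    (fun F₀ r P hr hF => omegaGL_not_le_subfieldSubgroup (by norm_num) Q hQ F₀ r hr hF P)
    (aschbacher_orth_even (by norm_num) Q hQ H hHI)

end Cfsg.Agent.Lib.Helper46.OEvenRow
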