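import Mathlib
import Cfsg.Agent.Lib.Helper05.OEvenXX8
import Cfsg.Prelude.Def_GeometricClasses
import Cfsg.Agent.Lib.Helper61.AschDefs
import Cfsg.Agent.Lib.Helper46.AschEDefs

/-!
# K-OEvenX-X8 (class 6 in dimension 8 forces plus type), wired to its proof
-/

set_option autoImplicit false

namespace Cfsg.Agent.Lib.Helper46.OEvenXL

open Cfsg Cfsg.Geo Cfsg.Agent.Lib.Helper61.Asch
open scoped Matrix Kronecker MatrixGroups

variable {F : Type*} [Field F] [Fintype F] {n : ℕ}

/-- K-OEvenX-X8.  Class 6 in dimension 8 forces plus type (`r = 2`, `m = 3`, `q` odd).  Every `x ∈ R` is a similarity with `x² = c ∈ Z`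
(`R/Z(R)` has exponent 2), multiplier `μ = ± c`, so `x` is self-adjoint or skew-adjoint for `B`; `s(x̄) = μ/c` is a quadratic form on
`R/Z(R) ≅ 𝔽₂⁶` polarising to the commutator pairing.  Find `x, y ∈ R` commuting, independent modulo the centre, with `x² = y² = 1` and multiplier
1 (isometric involutions; a non-degenerate 6-dimensional quadratic space over `𝔽₂`, or its hyperplane, contains a totally singular
plane).  The four simultaneous eigenspaces have dimension 2 (traces 0), are pairwise orthogonal, and elements of `R` anticommuting with `x`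
or `y` permute them transitively and are similarities with multiplier `± 1`, so they all have the same discriminant `d`:
`det Gram = d⁴ · (square)` and `n/2 = 4` is even: plus type (`Helper19.OEvenType.isPlusTypeOn_top_iff_gram`). -/
theorem plus_of_symplecticType_eight (Q : (Fin 8 → F) → F) (hQ : IsNondegenerateQuadraticForm Q)
    (R : Subgroup (GL (Fin 8) F)) (r m : ℕ) (hRΔ : R ≤ quadSimilarityGroup Q) (hspan : spanAlg R = ⊤)
    (hR : IsSymplecticTypeGroup r R) (hrq : ¬ (r ∣ Fintype.card F))
    (htr : ∀ x ∈ R, x ∈ scalars (Fin 8) F ∨ Matrix.trace ((x : GL (Fin 8) F) : Matrix (Fin 8) (Fin 8) F) = 0)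
    (hexp : ∀ x ∈ R, x ^ (r * Nat.gcd 2 r) = 1) (hm : 1 ≤ m) (hn : 8 = r ^ m)
    (hcen : Nat.card (Subgroup.center R) = Nat.gcd (r * Nat.gcd 2 r) (Fintype.card F - 1))
    (hcard : Nat.card R = Nat.card (Subgroup.center R) * r ^ (2 * m)) : IsPlusTypeOn Q ⊤ := by
  exact Cfsg.Agent.Lib.Helper05.OEvenX.plus_of_symplecticType_eight Q hQ R r m hRΔ hspan hR hrq htr hexp hm hn hcen hcard


end Cfsg.Agent.Lib.Helper46.OEvenXL
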