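import Mathlib
import Cfsg.Prelude.Def_GeometricClasses
import Cfsg.Agent.Lib.Helper08.OOddMaxGlue
import Cfsg.Agent.Lib.Helper19.OEvenType
import Cfsg.Agent.Lib.Helper46.AschOGlueD
import Cfsg.Agent.Lib.Helper46.AschEDefs
import Cfsg.Agent.Lib.Helper46.OEvenRowBase
import Cfsg.Agent.Lib.Helper46.OEvenXLeaves
import Cfsg.Agent.Lib.Helper46.OEvenXLeaves8

/-!
Row S5826 (maximal subgroups of `Ω₈⁻(q)`): glue from the even-dimensional Aschbacher theorem, the non-containment block `N` and the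
shared block `X`.
-/

set_option autoImplicit false

namespace Cfsg.Agent.Lib.Helper46.OEvenRow

open Cfsg Cfsg.Geo Cfsg.Agent.Lib.Helper61.Asch Cfsg.Agent.Lib.Helper46.AschE
open Cfsg.Agent.Lib.Helper08.OOddMax (eq_inf_of_le false_of_le_nonmax omegaGL_le_isometryGroup)
open Cfsg.Agent.Lib.Helper46.OEvenXL
open scoped Matrix Kronecker MatrixGroups

variable {F : Type*} [Field F] [Fintype F]

/-- the conclusion of S5826 -/
def Concl8 (Q : (Fin 8 → F) → F) (H : Subgroup (GL (Fin 8) F)) : Prop :=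
    (∃ W : Submodule F (Fin 8 → F), W ≠ ⊥ ∧ Cfsg.Geo.IsTotallySingularQuad Q W ∧ H = Cfsg.Geo.subspaceStabilizer W ⊓ Cfsg.Geo.omegaGL Q) ∨
    (Odd (Fintype.card F) ∧ ∃ W : Submodule F (Fin 8 → F), W ≠ ⊥ ∧ W ≠ ⊤ ∧ Odd (Module.finrank F W) ∧ Cfsg.Geo.IsNondegenerateOn (QuadraticMap.polar Q) W ∧ H = Cfsg.Geo.subspaceStabilizer W ⊓ Cfsg.Geo.omegaGL Q) ∨
    (∃ W : Submodule F (Fin 8 → F), Module.finrank F W = 2 ∧ Cfsg.Geo.IsNondegenerateOn (QuadraticMap.polar Q) W ∧ ¬ Cfsg.Geo.IsPlusTypeOn Q W ∧ H = Cfsg.Geo.subspaceStabilizer W ⊓ Cfsg.Geo.omegaGL Q) ∨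
    (4 ≤ Fintype.card F ∧ ∃ W : Submodule F (Fin 8 → F), Module.finrank F W = 2 ∧ Cfsg.Geo.IsNondegenerateOn (QuadraticMap.polar Q) W ∧ Cfsg.Geo.IsPlusTypeOn Q W ∧ H = Cfsg.Geo.subspaceStabilizer W ⊓ Cfsg.Geo.omegaGL Q) ∨
    (∃ W : Submodule F (Fin 8 → F), Module.finrank F W = 4 ∧ Cfsg.Geo.IsNondegenerateOn (QuadraticMap.polar Q) W ∧ H = Cfsg.Geo.subspaceStabilizer W ⊓ Cfsg.Geo.omegaGL Q) ∨
    (¬ Odd (Fintype.card F) ∧ ∃ v : (Fin 8 → F), Q v ≠ 0 ∧ H = Cfsg.Geo.subspaceStabilizer (Submodule.span F {v}) ⊓ Cfsg.Geo.omegaGL Q) ∨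
    (∃ K : Subalgebra F (Matrix (Fin 8) (Fin 8) F), Cfsg.Geo.IsFieldSubalgebra 2 K ∧ H = Cfsg.Geo.subalgebraNormalizer K ⊓ Cfsg.Geo.omegaGL Q) ∨
    (∃ (F₀ : Subfield F) (r : ℕ) (P : Matrix.GeneralLinearGroup (Fin 8) F) (ζ : F), r.Prime ∧ Odd r ∧ Fintype.card F = Nat.card F₀ ^ r ∧ ζ ≠ 0 ∧ Cfsg.Geo.IsQuadFormRationalStructure (fun v : Fin 8 → F => ζ * Q v) F₀ P ∧ H = Cfsg.Geo.subfieldSubgroup F₀ P ⊓ Cfsg.Geo.omegaGL Q) ∨
    Cfsg.Geo.InOrthogonalResidualClass H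

section row8

variable (Q : (Fin 8 → F) → F) (hQ : IsNondegenerateQuadraticForm Q)
  (H : Subgroup (GL (Fin 8) F)) (hH : IsMaximalIn (omegaGL Q) H)
  (hN1 : ∀ W : Submodule F (Fin 8 → F), W ≠ ⊥ → W ≠ ⊤ → ¬ omegaGL Q ≤ subspaceStabilizer W)

include hQ hH hN1

/-- a non-degenerate plane -/
theorem concl8_of_plane (W : Submodule F (Fin 8 → F)) (hdim : Module.finrank F W = 2)
    (hW : IsNondegenerateOn (QuadraticMap.polar Q) W) (hHW : H ≤ subspaceStabilizer W) : Concl8 Q H := by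
  have hW0 : W ≠ ⊥ := by
    intro h; rw [h, finrank_bot] at hdim; omega
  have hW1 : W ≠ ⊤ := by
    intro h; rw [h, finrank_top, Module.finrank_fintype_fun_eq_card, Fintype.card_fin] at hdim; omega
  have hEq : H = subspaceStabilizer W ⊓ omegaGL Q := eq_inf_of_le hH hHW (hN1 W hW0 hW1)
  by_cases hplus : IsPlusTypeOn Q W
  · by_cases hq : 4 ≤ Fintype.card F
    · exact Or.inr (Or.inr (Or.inr (Or.inl ⟨hq, W, hdim, hW, hplus, hEq⟩)))
    · exfalso
      have hK := nonmax_plusPlane_small (by omega) Q hQ (by omega) W hdim hW hplus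
      exact false_of_le_nonmax hH (le_inf hHW hH.1.le) hK
  · exact Or.inr (Or.inr (Or.inl ⟨W, hdim, hW, hplus, hEq⟩))

/-- a non-degenerate proper subspace -/
theorem concl8_of_nondegenerate (W : Submodule F (Fin 8 → F)) (hW0 : W ≠ ⊥) (hW1 : W ≠ ⊤)
    (hW : IsNondegenerateOn (QuadraticMap.polar Q) W) (hHW : H ≤ subspaceStabilizer W) : Concl8 Q H := by
  have hEq : H = subspaceStabilizer W ⊓ omegaGL Q := eq_inf_of_le hH hHW (hN1 W hW0 hW1)
  have hHI : H ≤ isometryGroup F Q := hH.1.le.trans (omegaGL_le_isometryGroup Q)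
  by_cases hodd : Odd (Module.finrank F W)
  · exact Or.inr (Or.inl ⟨odd_card_of_odd_finrank Q hQ W hW hodd, W, hW0, hW1, hodd, hW, hEq⟩)
  have hd8 : Module.finrank F W ≤ 8 := by
    have := Submodule.finrank_le W
    rwa [Module.finrank_fintype_fun_eq_card, Fintype.card_fin] at this
  have hd0 : Module.finrank F W ≠ 0 := by
    intro h
    exact hW0 (Submodule.finrank_eq_zero.mp h)
  have hd8' : Module.finrank F W ≠ 8 := by
    intro h
    apply hW1
    apply Submodule.eq_top_of_finrank_eq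
    rw [h, Module.finrank_fintype_fun_eq_card, Fintype.card_fin]
  rw [Nat.not_odd_iff_even] at hodd
  obtain ⟨j, hj⟩ := hodd
  have hcases : Module.finrank F W = 2 ∨ Module.finrank F W = 4 ∨ Module.finrank F W = 6 := by omega
  rcases hcases with h | h | h
  · exact concl8_of_plane Q hQ H hH hN1 W h hW hHW
  · exact Or.inr (Or.inr (Or.inr (Or.inr (Or.inl ⟨W, h, hW, hEq⟩))))
  · obtain ⟨W', hW', hsum, hstab⟩ := exists_perp_of_isNondegenerateOn Q hQ W hW
    have hHW' : H ≤ subspaceStabilizer W' := by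
      have : H ≤ subspaceStabilizer W ⊓ isometryGroup F Q := le_inf hHW hHI
      rw [hstab] at this
      exact this.trans inf_le_left
    exact concl8_of_plane Q hQ H hH hN1 W' (by omega) hW' hHW'

omit hN1 in
/-- the shapes contradicting minus type -/
theorem plus_of_shape (X : Subgroup (GL (Fin 8) F)) :
    ((∃ (t k : ℕ) (D : Fin t → Submodule F (Fin 8 → F)), 2 ≤ t ∧ (k = 1 → (Fintype.card F).Prime) ∧
      IsOrthogonalMDecomposition Q k D ∧ X = decompositionStabilizer D) → IsPlusTypeOn Q ⊤) := by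
  rintro ⟨t, k, D, ht, -, hD, -⟩
  have htk : t * k = 8 := mul_eq_of_isMDecomposition D hD.decomp.decomp
  have hte : Even t := by
    have hdvd : t ∣ 8 := ⟨k, htk.symm⟩
    have hle : t ≤ 8 := Nat.le_of_dvd (by norm_num) hdvd
    interval_cases t <;> first | exact absurd hdvd (by decide) | decide
  by_cases h2 : (2 : F) = 0
  · exact plus_of_even_decomposition_char_two h2 Q hQ D hD hte
  · exact Cfsg.Agent.Lib.Helper19.OEvenType.isPlusTypeOn_top_of_even_decomposition_of_even Q hQ h2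
      (M := 4) (by norm_num) (by decide) D hD hte

/-- the row, from the Aschbacher-type dichotomy and the non-containment block -/
theorem row8minus_of (hminus : ¬ IsPlusTypeOn Q ⊤)
    (hN3 : ∀ (r : ℕ) (E : Subalgebra F (Matrix (Fin 8) (Fin 8) F)), 2 ≤ r → IsFieldSubalgebra r E →
      ¬ omegaGL Q ≤ subalgebraNormalizer E)
    (hN5 : ∀ (F₀ : Subfield F) (r : ℕ) (P : GL (Fin 8) F), r.Prime → Fintype.card F = Nat.card F₀ ^ r →
      ¬ omegaGL Q ≤ subfieldSubgroup F₀ P)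
    (hA : EGeom Q (H ⊔ scalars (Fin 8) F) ∨ InOrthogonalResidualClass H) : Concl8 Q H := by
  rcases hA with ⟨X, hX, hle⟩ | hres
  swap
  · exact Or.inr (Or.inr (Or.inr (Or.inr (Or.inr (Or.inr (Or.inr (Or.inr hres)))))))
  have hHX : H ≤ X := le_sup_left.trans hle
  have hHI : H ≤ isometryGroup F Q := hH.1.le.trans (omegaGL_le_isometryGroup Q)
  rcases hX with ⟨W, hW0, hWts, rfl⟩ | ⟨W, hW0, hW1, hW, rfl⟩ | ⟨v, h2, hv, rfl⟩ | h2a |
    ⟨k, D, hD, hts, rfl⟩ | ⟨r, E, hr, hE, hself, rfl⟩ | ⟨E, hE, hac, hns, hsim, rfl⟩ |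
    ⟨n₁, n₂, e, P, f₁, f₂, hn₁, hn₁₂, hforms, hT, rfl⟩ | ⟨F₀, r, P, ζ, hr, hF, hζ, hrat, rfl⟩ |
    ⟨R, r, m, hRΔ, hspan, hR, hrq, htr, hexp, hm, hn, hcen, hcard, rfl⟩ | ⟨m, t, e, P, hm, ht, hplus, rfl⟩
  · -- totally singular
    have hW1 : W ≠ ⊤ := by
      intro h
      obtain ⟨v, hv⟩ := Cfsg.Agent.Lib.Helper46.AschO.exists_Q_ne_zero (by norm_num) hQ
      exact hv (hWts v (by rw [h]; trivial))
    exact Or.inl ⟨W, hW0, hWts, eq_inf_of_le hH hHX (hN1 W hW0 hW1)⟩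
  · exact concl8_of_nondegenerate Q hQ H hH hN1 W hW0 hW1 hW hHX
  · -- non-singular point
    have hv0 : v ≠ 0 := by
      rintro rfl
      apply hv
      have := hQ.smul 0 (0 : Fin 8 → F)
      simpa using this
    have hS0 : Submodule.span F {v} ≠ ⊥ := by
      rw [Ne, Submodule.span_singleton_eq_bot]; exact hv0
    have hS1 := finrank_span_singleton_ne (F := F) (n := 8) (by norm_num) v
    exact Or.inr (Or.inr (Or.inr (Or.inr (Or.inr (Or.inl
      ⟨not_odd_card_of_two_eq_zero h2, v, hv, eq_inf_of_le hH hHX (hN1 _ hS0 hS1)⟩)))))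
  · exact absurd (plus_of_shape Q hQ H hH X h2a) hminus
  · -- pair of totally singular subspaces
    exfalso
    apply hminus
    have hk : 2 * k = 8 := mul_eq_of_isMDecomposition D hD
    refine ⟨D 0, le_top, hts 0, ?_⟩
    rw [hD.finrank_eq, finrank_top, Module.finrank_fintype_fun_eq_card, Fintype.card_fin, hk]
  · -- self-adjoint field
    have hr8 : r ∣ 8 := dvd_of_isFieldSubalgebra (by norm_num) E hE
    have hr2 : r = 2 := by
      have : r ∣ 2 ^ 3 := by norm_num; exact hr8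
      exact (Nat.prime_dvd_prime_iff_eq hr Nat.prime_two).mp (hr.dvd_of_dvd_pow this)
    subst hr2
    exact Or.inr (Or.inr (Or.inr (Or.inr (Or.inr (Or.inr (Or.inl
      ⟨E, hE, eq_inf_of_le hH hHX (hN3 2 E le_rfl hE)⟩))))))
  · exact Or.inr (Or.inr (Or.inr (Or.inr (Or.inr (Or.inr (Or.inl
      ⟨E, hE, eq_inf_of_le hH hHX (hN3 2 E le_rfl hE)⟩))))))
  · -- tensor
    exfalso
    apply hminus
    have hcard : 8 = n₁ * n₂ := by
      have := Fintype.card_congr e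
      simpa using this
    have hn₁2 : n₁ = 2 := by
      have h1 : n₁ * n₁ ≤ 8 := by rw [hcard]; exact Nat.mul_le_mul_left _ hn₁₂
      have h2 : n₁ ≤ 2 := by nlinarith
      omega
    subst hn₁2
    have hn₂4 : n₂ = 4 := by omega
    subst hn₂4
    rcases hforms with ⟨hf₁, hf₂, h2⟩ | ⟨hf₁, hf₂, hpure⟩
    · exact plus_of_tensor_symm_even h2 Q hQ (by decide) (by decide) e P f₁ f₂ hf₁ hf₂ hT
    · exact plus_of_tensor_sympl Q hQ e P f₁ f₂ hf₁ hT hpure
  · -- subfield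
    by_cases hr2 : r = 2
    · exfalso
      subst hr2
      exact hminus (plus_of_subfield_two (by decide) Q hQ F₀ hF P ζ hζ hrat)
    · have hodd : Odd r := hr.odd_of_ne_two hr2
      exact Or.inr (Or.inr (Or.inr (Or.inr (Or.inr (Or.inr (Or.inr (Or.inl
        ⟨F₀, r, P, ζ, hr, hodd, hF, hζ, hrat,
          eq_inf_of_le hH hHX (hN5 F₀ r P hr hF)⟩)))))))
  · exact absurd (plus_of_symplecticType_eight Q hQ R r m hRΔ hspan hR hrq htr hexp hm hn hcen hcard) hminus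
  · -- tensor-induced
    have hcard : 8 = m ^ t := by
      have := Fintype.card_congr e
      simpa using this
    have hm2 : m = 2 := by
      by_contra hne
      have hm3 : 3 ≤ m := by omega
      have h1 : 3 ^ 2 ≤ m ^ t := (Nat.pow_le_pow_left hm3 2).trans (Nat.pow_le_pow_right (by omega) ht)
      omega
    exact absurd (hplus hm2) hminus

end row8

end Cfsg.Agent.Lib.Helper46.OEvenRow
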