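import Mathlib
import Cfsg.Agent.Lib.Helper46.Weights

set_option autoImplicit false

namespace Cfsg.Agent.Lib.Helper46

open Matrix

section weightsGeneral

variable {F : Type*} [Field F] [Fintype F] [DecidableEq F] {K : Type*} [Field K]
variable {ι : Type*} [Fintype ι] [DecidableEq ι] {d : ℕ}
variable {ψ : AddChar F K} (hψ : ψ.IsPrimitive) {T : (ι → F) → Matrix (Fin d) (Fin d) K}
  (hT0 : T 0 = 1) (hTadd : ∀ a b, T (a + b) = T a * T b)
  (hN : (Fintype.card (ι → F) : K) ≠ 0)

include hψ hT0 hTadd hN in
/-- If the group does not act trivially, some non-zero weight occurs. -/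
theorem exists_weight_ne_zero' (b : ι → F) (hb : T b ≠ 1) :
    ∃ w : ι → F, w ≠ 0 ∧ weightProj ψ T w ≠ 0 := by
  classical
  by_contra hcon
  push Not at hcon
  have h1 : weightProj ψ T 0 = 1 := by
    rw [← sum_weightProj hψ hT0 hN (T := T)]
    symm
    apply Finset.sum_eq_single
    · intro w _ hw
      exact hcon w hw
    · intro h
      exact absurd (Finset.mem_univ _) h
  apply hb
  have h2 := T_mul_weightProj (ψ := ψ) hTadd b 0
  rw [h1, Matrix.mul_one, dotProduct_zero, AddChar.map_zero_eq_one, one_smul] at h2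
  exact h2

include hTadd in
/-- An occurring weight is trivial on the kernel of the action. -/
theorem weight_apply_eq_one (b w : ι → F) (hb : T b = 1) (hw : weightProj ψ T w ≠ 0) :
    ψ (b ⬝ᵥ w) = 1 := by
  have h2 := T_mul_weightProj (ψ := ψ) hTadd b w
  rw [hb, Matrix.one_mul] at h2
  by_contra hne
  apply hw
  have h3 : (1 - ψ (b ⬝ᵥ w)) • weightProj ψ T w = 0 := by
    rw [sub_smul, one_smul, ← h2, sub_self]
  rcases smul_eq_zero.1 h3 with h | h
  · exact absurd (sub_eq_zero.1 h).symm hne
  · exact h

/-- Matrices commuting with the group commute with the weight projectors. -/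
theorem weightProj_comm' (A : Matrix (Fin d) (Fin d) K) (hA : ∀ a, A * T a = T a * A)
    (w : ι → F) : A * weightProj ψ T w = weightProj ψ T w * A := by
  unfold weightProj
  rw [Matrix.mul_smul, Matrix.smul_mul, Finset.mul_sum, Finset.sum_mul]
  congr 1
  apply Finset.sum_congr rfl
  intro a _
  rw [Matrix.mul_smul, Matrix.smul_mul, hA]

include hψ hTadd hN in
theorem weightProj_idem' (w : ι → F) :
    weightProj ψ T w * weightProj ψ T w = weightProj ψ T w := by
  rw [weightProj_mul_weightProj hψ hTadd hN, if_pos rfl]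

include hTadd in
theorem weightProj_mul_T' (b w : ι → F) :
    weightProj ψ T w * T b = ψ (b ⬝ᵥ w) • weightProj ψ T w := by
  rw [← T_mul_weightProj (ψ := ψ) hTadd b w]
  symm
  apply weightProj_comm'
  intro a
  rw [← hTadd, ← hTadd, add_comm]

end weightsGeneral

section repMat

variable {G : Type*} [Group G] {k : ℕ} (ρ : Representation ℂ G (Fin k → ℂ))

/-- The matrices of a representation on `ℂ^k`. -/
noncomputable def repMat (g : G) : Matrix (Fin k) (Fin k) ℂ := LinearMap.toMatrix' (ρ g)

theorem repMat_mul (g h : G) : repMat ρ (g * h) = repMat ρ g * repMat ρ h := by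
  unfold repMat
  rw [map_mul, LinearMap.toMatrix'_mul]

theorem repMat_one : repMat ρ 1 = 1 := by
  unfold repMat
  rw [map_one, LinearMap.toMatrix'_one]

theorem repMat_inv_mul (g : G) : repMat ρ g⁻¹ * repMat ρ g = 1 := by
  rw [← repMat_mul, inv_mul_cancel, repMat_one]

theorem repMat_mul_inv (g : G) : repMat ρ g * repMat ρ g⁻¹ = 1 := by
  rw [← repMat_mul, mul_inv_cancel, repMat_one]

theorem repMat_eq_one_iff (g : G) : repMat ρ g = 1 ↔ ρ g = 1 := by
  unfold repMat
  constructor
  · intro h
    apply LinearMap.toMatrix'.injective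
    rw [LinearMap.toMatrix'_one]
    exact h
  · intro h
    rw [h, LinearMap.toMatrix'_one]

/-- An irreducible representation with trivial action has degree at most one. -/
theorem degree_le_one_of_trivial (hirr : ρ.IsIrreducible) (h : ∀ g, ρ g = 1) : k ≤ 1 := by
  by_contra hk
  push Not at hk
  let v : Fin k → ℂ := Pi.single ⟨0, by omega⟩ 1
  have hv : v ≠ 0 := by
    intro h0
    have := congrFun h0 ⟨0, by omega⟩
    simp [v] at this
  let S : Subrepresentation ρ := ⟨Submodule.span ℂ {v}, fun g x hx => by
    rw [h g]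
    exact hx⟩
  haveI := hirr
  rcases eq_bot_or_eq_top S with hS | hS
  · have h1 : v ∈ S.toSubmodule := Submodule.subset_span rfl
    rw [hS] at h1
    exact hv ((Submodule.mem_bot ℂ).1 h1)
  · have h1 : Submodule.span ℂ {v} = ⊤ := by
      change S.toSubmodule = ⊤
      rw [hS]
      rfl
    have h2 : Module.finrank ℂ (Submodule.span ℂ {v}) = 1 := finrank_span_singleton hv
    rw [h1, finrank_top, Module.finrank_fin_fun] at h2
    omega

/-- If the kernel of an irreducible representation of degree at least two contains a set of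
generators, we have a contradiction. -/
theorem not_closure_le_ker (hirr : ρ.IsIrreducible) (hk : 2 ≤ k) (S : Set G)
    (hS : Subgroup.closure S = ⊤) : ∃ g ∈ S, ρ g ≠ 1 := by
  by_contra hcon
  push Not at hcon
  have h1 : Subgroup.closure S ≤ MonoidHom.ker ρ := by
    rw [Subgroup.closure_le]
    intro g hg
    exact MonoidHom.mem_ker.2 (hcon g hg)
  have h2 : ∀ g, ρ g = 1 := by
    intro g
    apply MonoidHom.mem_ker.1
    apply h1
    rw [hS]
    trivial
  have := degree_le_one_of_trivial ρ hirr h2
  omega

end repMat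

end Cfsg.Agent.Lib.Helper46
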