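import Mathlib
import Cfsg.Agent.Lib.Helper46.HermCount
import Cfsg.Agent.Lib.Helper46.RepMat

set_option autoImplicit false

namespace Cfsg.Agent.Lib.Helper46

open Matrix

section vec

variable {F : Type*} [Field F] {m : ℕ}

/-- A matrix as a vector. -/
def toVec (M : Matrix (Fin m) (Fin m) F) : Fin m × Fin m → F := fun p => M p.1 p.2

/-- A vector as a matrix. -/
def ofVec (w : Fin m × Fin m → F) : Matrix (Fin m) (Fin m) F := Matrix.of fun i j => w (i, j)

theorem toVec_ofVec (w : Fin m × Fin m → F) : toVec (ofVec w) = w := rfl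

theorem ofVec_toVec (M : Matrix (Fin m) (Fin m) F) : ofVec (toVec M) = M := rfl

theorem toVec_add (M M' : Matrix (Fin m) (Fin m) F) : toVec (M + M') = toVec M + toVec M' := rfl

theorem toVec_zero : toVec (0 : Matrix (Fin m) (Fin m) F) = 0 := rfl

theorem ofVec_add (w w' : Fin m × Fin m → F) : ofVec (w + w') = ofVec w + ofVec w' := rfl

theorem ofVec_zero : ofVec (0 : Fin m × Fin m → F) = 0 := rfl

theorem toVec_dot (M W : Matrix (Fin m) (Fin m) F) :
    toVec M ⬝ᵥ toVec W = (M * Wᵀ).trace := by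
  unfold toVec
  simp only [dotProduct, Matrix.trace, Matrix.diag, Matrix.mul_apply, Matrix.transpose_apply]
  rw [Fintype.sum_prod_type]

theorem toVec_single (i j : Fin m) (z : F) :
    toVec (Matrix.single i j z) = Pi.single (i, j) z := by
  funext p
  obtain ⟨a, b⟩ := p
  simp only [toVec, Matrix.single_apply, Pi.single_apply, Prod.mk.injEq]
  by_cases h : i = a ∧ j = b
  · rw [if_pos h, if_pos ⟨h.1.symm, h.2.symm⟩]
  · rw [if_neg h, if_neg (fun h' => h ⟨h'.1.symm, h'.2.symm⟩)]

theorem toVec_sub (M M' : Matrix (Fin m) (Fin m) F) : toVec (M - M') = toVec M - toVec M' := rfl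

variable (φ : F →+* F)

theorem dot_cong (hφ : ∀ x, φ (φ x) = x) (A A' M W : Matrix (Fin m) (Fin m) F)
    (hA'A : A' * A = 1) :
    toVec (A * M * hconj φ A) ⬝ᵥ toVec (cong φ (A'.map φ) W) = toVec M ⬝ᵥ toVec W := by
  rw [toVec_dot, toVec_dot]
  have h1 : (cong φ (A'.map φ) W)ᵀ = hconj φ A' * Wᵀ * A' := by
    unfold cong hconj
    rw [Matrix.transpose_mul, Matrix.transpose_mul, Matrix.transpose_transpose]
    have : (A'.map φ).map φ = A' := by
      ext i j
      simp [hφ]
    rw [this, Matrix.mul_assoc]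
  rw [h1]
  have h2 : hconj φ A * hconj φ A' = 1 := by rw [← hconj_mul, hA'A, hconj_one]
  calc (A * M * hconj φ A * (hconj φ A' * Wᵀ * A')).trace
      = (A * M * (hconj φ A * hconj φ A') * Wᵀ * A').trace := by simp only [Matrix.mul_assoc]
    _ = (A * (M * Wᵀ * A')).trace := by
        rw [h2, Matrix.mul_one]
        simp only [Matrix.mul_assoc]
    _ = (M * Wᵀ * (A' * A)).trace := by rw [Matrix.trace_mul_comm, Matrix.mul_assoc]
    _ = (M * Wᵀ).trace := by rw [hA'A, Matrix.mul_one]

/-- The action of the Levi factor on the parameters of the unipotent radical. -/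
def leviEquiv (A A' : Matrix (Fin m) (Fin m) F) (hAA' : A * A' = 1) (hA'A : A' * A = 1) :
    (Fin m × Fin m → F) ≃ (Fin m × Fin m → F) where
  toFun b := toVec (A * ofVec b * hconj φ A)
  invFun b := toVec (A' * ofVec b * hconj φ A')
  left_inv b := by
    have h2 : hconj φ A * hconj φ A' = 1 := by rw [← hconj_mul, hA'A, hconj_one]
    change toVec (A' * ofVec (toVec (A * ofVec b * hconj φ A)) * hconj φ A') = b
    rw [ofVec_toVec]
    calc toVec (A' * (A * ofVec b * hconj φ A) * hconj φ A')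
        = toVec (A' * A * ofVec b * (hconj φ A * hconj φ A')) := by
          simp only [Matrix.mul_assoc]
      _ = b := by rw [hA'A, h2, Matrix.one_mul, Matrix.mul_one, toVec_ofVec]
  right_inv b := by
    have h2 : hconj φ A' * hconj φ A = 1 := by rw [← hconj_mul, hAA', hconj_one]
    change toVec (A * ofVec (toVec (A' * ofVec b * hconj φ A')) * hconj φ A) = b
    rw [ofVec_toVec]
    calc toVec (A * (A' * ofVec b * hconj φ A') * hconj φ A)
        = toVec (A * A' * ofVec b * (hconj φ A' * hconj φ A)) := by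
          simp only [Matrix.mul_assoc]
      _ = b := by rw [hAA', h2, Matrix.one_mul, Matrix.mul_one, toVec_ofVec]

end vec

section weights

variable {F : Type*} [Field F] [Fintype F] [DecidableEq F] {φ : F →+* F} {q : ℕ}
  (H : HermField φ q) {m k : ℕ}
  {ψ : AddChar F ℂ} (hψ : ψ.IsPrimitive) (hψφ : ∀ z, ψ (φ z) = ψ z)
  (hψK : ∀ t, (∀ s, φ s = -s → ψ (s * t) = 1) → φ t = t)
  {T : (Fin m × Fin m → F) → Matrix (Fin k) (Fin k) ℂ}
  (hTadd : ∀ a b, T (a + b) = T a * T b)
  (hker : ∀ M : Matrix (Fin m) (Fin m) F, M + hconj φ M = 0 → T (toVec M) = 1)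

include H hψ hψφ hψK hTadd hker in
/-- The occurring weights are Hermitian. -/
theorem isHerm_of_weight (w : Fin m × Fin m → F) (hw : weightProj ψ T w ≠ 0) :
    IsHerm φ (ofVec w) := by
  have key : ∀ M : Matrix (Fin m) (Fin m) F, M + hconj φ M = 0 → ψ (toVec M ⬝ᵥ w) = 1 :=
    fun M hM => weight_apply_eq_one hTadd _ w (hker M hM) hw
  ext i j
  rw [hconj_apply]
  change φ (w (j, i)) = w (i, j)
  by_cases hij : i = j
  · subst hij
    apply hψK
    intro s hs
    have h1 := key (Matrix.single i i s) (by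
      ext a b
      simp only [Matrix.add_apply, hconj_apply, Matrix.zero_apply, Matrix.single_apply]
      by_cases h : i = a ∧ i = b
      · rw [if_pos h, if_pos ⟨h.2, h.1⟩, hs, add_neg_cancel]
      · rw [if_neg h, if_neg (fun h' => h ⟨h'.2, h'.1⟩), map_zero, add_zero])
    have h2 : toVec (Matrix.single i i s) ⬝ᵥ w = s * w (i, i) := by
      have : toVec (Matrix.single i i s) = Pi.single (i, i) s := toVec_single i i s
      rw [this, single_dotProduct]
    rw [h2] at h1
    exact h1
  · have h3 : ∀ z : F, ψ (z * (w (i, j) - φ (w (j, i)))) = 1 := by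
      intro z
      have h1 := key (Matrix.single i j z - Matrix.single j i (φ z)) (by
        ext a b
        simp only [Matrix.add_apply, Matrix.sub_apply, hconj_apply, Matrix.zero_apply,
          Matrix.single_apply, map_sub]
        by_cases h1 : i = a ∧ j = b
        · have h2 : ¬ (j = a ∧ i = b) := fun h => hij (h1.1.trans h.1.symm)
          have h3 : ¬ (i = b ∧ j = a) := fun h => hij (h.1.trans h1.2.symm)
          rw [if_pos h1, if_neg h2, if_neg h3, if_pos ⟨h1.2, h1.1⟩, H.inv, map_zero]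
          ring
        · by_cases h2 : j = a ∧ i = b
          · have h3 : ¬ (j = b ∧ i = a) := fun h => hij (h2.2.trans h.1.symm)
            rw [if_neg h1, if_pos h2, if_pos ⟨h2.2, h2.1⟩, if_neg h3, map_zero]
            ring
          · rw [if_neg h1, if_neg h2, if_neg (fun h => h2 ⟨h.2, h.1⟩),
              if_neg (fun h => h1 ⟨h.2, h.1⟩), map_zero]
            ring)
      have h2 : toVec (Matrix.single i j z - Matrix.single j i (φ z)) ⬝ᵥ w
          = z * w (i, j) - φ z * w (j, i) := by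
        have : toVec (Matrix.single i j z - Matrix.single j i (φ z))
            = Pi.single (i, j) z - Pi.single (j, i) (φ z) := by
          rw [toVec_sub, toVec_single, toVec_single]
        rw [this, sub_dotProduct, single_dotProduct, single_dotProduct]
      have e1 : ψ (φ z * w (j, i)) = ψ (z * φ (w (j, i))) := by
        rw [← hψφ (φ z * w (j, i)), φ.map_mul, H.inv]
      rw [h2, sub_eq_add_neg, AddChar.map_add_eq_mul, AddChar.map_neg_eq_inv, e1,
        ← AddChar.map_neg_eq_inv, ← AddChar.map_add_eq_mul] at h1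
      rw [← h1]
      congr 1
      ring
    by_contra hne
    have hne' : w (i, j) - φ (w (j, i)) ≠ 0 := fun h => hne (sub_eq_zero.1 h).symm
    have h4 := hψ hne'
    obtain ⟨z, hz⟩ := AddChar.ne_one_iff.1 h4
    rw [AddChar.mulShift_apply] at hz
    apply hz
    rw [mul_comm]
    exact h3 z

include H in
/-- The Levi factor moves the weights. -/
theorem weight_cong (A A' : Matrix (Fin m) (Fin m) F) (hAA' : A * A' = 1)
    (g g' : Matrix (Fin k) (Fin k) ℂ) (hgg' : g' * g = 1)
    (hg : ∀ M : Matrix (Fin m) (Fin m) F,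
      g * T (toVec M) * g' = T (toVec (A * M * hconj φ A)))
    (w : Fin m × Fin m → F) (hw : weightProj ψ T w ≠ 0) :
    weightProj ψ T (toVec (cong φ (A'.map φ) (ofVec w))) ≠ 0 := by
  have hA'A : A' * A = 1 := mul_eq_one_comm.1 hAA'
  refine weightProj_ne_zero_of_conj (ψ := ψ) g g' hgg' (leviEquiv φ A A' hAA' hA'A)
    (fun w => toVec (cong φ (A'.map φ) (ofVec w))) ?_ ?_ w hw
  · intro a w
    change toVec (A * ofVec a * hconj φ A) ⬝ᵥ toVec (cong φ (A'.map φ) (ofVec w)) = a ⬝ᵥ w
    rw [dot_cong φ H.inv A A' _ _ hA'A, toVec_ofVec, toVec_ofVec]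
  · intro a
    have := hg (ofVec a)
    rw [toVec_ofVec] at this
    exact this


omit [Fintype F] [DecidableEq F] in
theorem cong_ne_zero (A W : Matrix (Fin m) (Fin m) F) (hA : A.det ≠ 0) (hW : W ≠ 0) :
    cong φ A W ≠ 0 := by
  intro h0
  apply hW
  have h1 : A * A⁻¹ = 1 := Matrix.mul_nonsing_inv A (isUnit_iff_ne_zero.2 hA)
  have h2 := cong_mul φ A A⁻¹ W
  rw [h1, cong_one, h0] at h2
  rw [h2]
  unfold cong
  rw [Matrix.mul_zero, Matrix.zero_mul]

include H in
/-- One step of the closure of the set of weights under the Levi factor. -/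
theorem weight_cong_of_levi (Ã : Matrix (Fin m) (Fin m) F) (hÃ : Ã.det ≠ 0)
    (hlevi : ∃ g g' : Matrix (Fin k) (Fin k) ℂ, g' * g = 1 ∧
      ∀ M : Matrix (Fin m) (Fin m) F, g * T (toVec M) * g'
        = T (toVec ((Ã.map φ)⁻¹ * M * hconj φ ((Ã.map φ)⁻¹))))
    (w : Fin m × Fin m → F) (hw0 : w ≠ 0) (hw : weightProj ψ T w ≠ 0) :
    toVec (cong φ Ã (ofVec w)) ≠ 0 ∧ weightProj ψ T (toVec (cong φ Ã (ofVec w))) ≠ 0 := by
  have hmm : (Ã.map φ).map φ = Ã := by
    ext i j
    simp [H.inv]
  have hdet' : (Ã.map φ).det ≠ 0 := by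
    have : (Ã.map φ).det = φ Ã.det := by
      rw [← RingHom.mapMatrix_apply, ← RingHom.map_det]
    rw [this]
    intro h
    apply hÃ
    have := congrArg φ h
    rwa [H.inv, map_zero] at this
  have hAA' : (Ã.map φ)⁻¹ * Ã.map φ = 1 :=
    Matrix.nonsing_inv_mul _ (isUnit_iff_ne_zero.2 hdet')
  obtain ⟨g, g', hgg', hg⟩ := hlevi
  constructor
  · intro h0
    have hne : ofVec w ≠ 0 := by
      intro h
      apply hw0
      rw [← toVec_ofVec w, h, toVec_zero]
    apply cong_ne_zero Ã (ofVec w) hÃ hne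
    rw [← ofVec_toVec (cong φ Ã (ofVec w)), h0, ofVec_zero]
  · have := weight_cong H ((Ã.map φ)⁻¹) (Ã.map φ) hAA' g g' hgg' hg w hw
    rwa [hmm] at this

include H hψ hψφ hψK hTadd hker in
/-- The weights of the unipotent radical of the Siegel parabolic, when the Levi factor
contains the special linear group. -/
theorem exists_weight_set_SL (hm : 2 ≤ m) (hT0 : T 0 = 1) (hnontriv : ∃ b, T b ≠ 1)
    (hlevi : ∀ A : Matrix (Fin m) (Fin m) F, A.det = 1 →
      ∃ g g' : Matrix (Fin k) (Fin k) ℂ, g' * g = 1 ∧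
        ∀ M : Matrix (Fin m) (Fin m) F,
          g * T (toVec M) * g' = T (toVec (A * M * hconj φ A))) :
    ∃ Ω : Finset (Fin m × Fin m → F), hermCount q m ≤ Ω.card ∧
      ∀ w ∈ Ω, w ≠ 0 ∧ weightProj ψ T w ≠ 0 := by
  classical
  have hN : ((Fintype.card (Fin m × Fin m → F) : ℕ) : ℂ) ≠ 0 :=
    Nat.cast_ne_zero.2 Fintype.card_ne_zero
  have hinj : Function.Injective (ofVec : (Fin m × Fin m → F) → Matrix (Fin m) (Fin m) F) := by
    intro a b hab
    rw [← toVec_ofVec a, hab, toVec_ofVec]
  refine ⟨Finset.univ.filter (fun w => w ≠ 0 ∧ weightProj ψ T w ≠ 0), ?_, ?_⟩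
  · rw [← Finset.card_image_of_injective _ hinj]
    apply card_ge_of_closedSL H m hm
    · obtain ⟨b, hb⟩ := hnontriv
      obtain ⟨w, hw0, hw⟩ := exists_weight_ne_zero' hψ hT0 hTadd hN b hb
      exact ⟨ofVec w, Finset.mem_image_of_mem _ (by simp [hw0, hw])⟩
    · intro W hW
      rw [Finset.mem_image] at hW
      obtain ⟨w, hw, rfl⟩ := hW
      rw [Finset.mem_filter] at hw
      refine ⟨isHerm_of_weight H hψ hψφ hψK hTadd hker w hw.2.2, ?_⟩
      intro h
      apply hw.2.1
      rw [← toVec_ofVec w, h, toVec_zero]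
    · intro Ã hÃ W hW
      rw [Finset.mem_image] at hW ⊢
      obtain ⟨w, hw, rfl⟩ := hW
      rw [Finset.mem_filter] at hw
      have hdet' : (Ã.map φ).det = 1 := by
        have : (Ã.map φ).det = φ Ã.det := by
          rw [← RingHom.mapMatrix_apply, ← RingHom.map_det]
        rw [this, hÃ, map_one]
      have hinvdet : ((Ã.map φ)⁻¹).det = 1 := by
        rw [Matrix.det_nonsing_inv, hdet']
        simp
      have := weight_cong_of_levi H Ã (by rw [hÃ]; exact one_ne_zero)
        (hlevi _ hinvdet) w hw.2.1 hw.2.2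
      exact ⟨toVec (cong φ Ã (ofVec w)), by simp [this.1, this.2], rfl⟩
  · intro w hw
    rw [Finset.mem_filter] at hw
    exact hw.2

include H hψ hψφ hψK hTadd hker in
/-- The weights of the unipotent radical, when the Levi factor contains the general linear
group. -/
theorem exists_weight_set_GL (hm : 1 ≤ m) (hT0 : T 0 = 1) (hnontriv : ∃ b, T b ≠ 1)
    (hlevi : ∀ A : Matrix (Fin m) (Fin m) F, A.det ≠ 0 →
      ∃ g g' : Matrix (Fin k) (Fin k) ℂ, g' * g = 1 ∧
        ∀ M : Matrix (Fin m) (Fin m) F,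
          g * T (toVec M) * g' = T (toVec (A * M * hconj φ A))) :
    ∃ Ω : Finset (Fin m × Fin m → F), hermCount q m ≤ Ω.card ∧
      ∀ w ∈ Ω, w ≠ 0 ∧ weightProj ψ T w ≠ 0 := by
  classical
  have hN : ((Fintype.card (Fin m × Fin m → F) : ℕ) : ℂ) ≠ 0 :=
    Nat.cast_ne_zero.2 Fintype.card_ne_zero
  have hinj : Function.Injective (ofVec : (Fin m × Fin m → F) → Matrix (Fin m) (Fin m) F) := by
    intro a b hab
    rw [← toVec_ofVec a, hab, toVec_ofVec]
  refine ⟨Finset.univ.filter (fun w => w ≠ 0 ∧ weightProj ψ T w ≠ 0), ?_, ?_⟩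
  · rw [← Finset.card_image_of_injective _ hinj]
    apply card_ge_of_closedGL H m hm
    · obtain ⟨b, hb⟩ := hnontriv
      obtain ⟨w, hw0, hw⟩ := exists_weight_ne_zero' hψ hT0 hTadd hN b hb
      exact ⟨ofVec w, Finset.mem_image_of_mem _ (by simp [hw0, hw])⟩
    · intro W hW
      rw [Finset.mem_image] at hW
      obtain ⟨w, hw, rfl⟩ := hW
      rw [Finset.mem_filter] at hw
      refine ⟨isHerm_of_weight H hψ hψφ hψK hTadd hker w hw.2.2, ?_⟩
      intro h
      apply hw.2.1
      rw [← toVec_ofVec w, h, toVec_zero]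
    · intro Ã hÃ W hW
      rw [Finset.mem_image] at hW ⊢
      obtain ⟨w, hw, rfl⟩ := hW
      rw [Finset.mem_filter] at hw
      have hdet' : (Ã.map φ).det ≠ 0 := by
        have : (Ã.map φ).det = φ Ã.det := by
          rw [← RingHom.mapMatrix_apply, ← RingHom.map_det]
        rw [this]
        intro h
        apply hÃ
        have := congrArg φ h
        rwa [H.inv, map_zero] at this
      have hinvdet : ((Ã.map φ)⁻¹).det ≠ 0 := by
        rw [Matrix.det_nonsing_inv]
        simpa using hdet'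
      have := weight_cong_of_levi H Ã hÃ (hlevi _ hinvdet) w hw.2.1 hw.2.2
      exact ⟨toVec (cong φ Ã (ofVec w)), by simp [this.1, this.2], rfl⟩
  · intro w hw
    rw [Finset.mem_filter] at hw
    exact hw.2

end weights

end Cfsg.Agent.Lib.Helper46
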