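import Mathlib
import Cfsg.Agent.Lib.Helper46.HermOrbit

set_option autoImplicit false
set_option linter.unusedSectionVars false
set_option linter.unusedSimpArgs false

namespace Cfsg.Agent.Lib.Helper46

open Matrix

section field

variable {F : Type*} [Field F] [Fintype F]

/-- Binary diagonal forms over a finite field of odd order are universal. -/
theorem exists_sq_add_sq (hq : Fintype.card F % 2 = 1) (c d a : F) (hc : c ≠ 0) (hd : d ≠ 0) :
    ∃ s t : F, c * s ^ 2 + d * t ^ 2 = a := by
  have hf : (Polynomial.C c * Polynomial.X ^ 2 : Polynomial F).degree = 2 := by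
    rw [Polynomial.degree_C_mul_X_pow 2 hc]
    rfl
  have hg : (Polynomial.C d * Polynomial.X ^ 2 - Polynomial.C a : Polynomial F).degree = 2 := by
    have h1 : (Polynomial.C d * Polynomial.X ^ 2 : Polynomial F).degree = 2 := by
      rw [Polynomial.degree_C_mul_X_pow 2 hd]
      rfl
    rw [Polynomial.degree_sub_C (by rw [h1]; decide), h1]
  obtain ⟨s, t, h⟩ := FiniteField.exists_root_sum_quadratic hf hg hq
  refine ⟨s, t, ?_⟩
  simp only [Polynomial.eval_mul, Polynomial.eval_C, Polynomial.eval_pow, Polynomial.eval_X,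
    Polynomial.eval_sub] at h
  linear_combination h

theorem two_ne_zero_of_odd_card (hq : Fintype.card F % 2 = 1) : (2 : F) ≠ 0 := by
  intro h2
  obtain ⟨p, hp⟩ := CharP.exists F
  have := hp
  have : Fact p.Prime := ⟨CharP.char_is_prime F p⟩
  have h3 : ((2 : ℕ) : F) = 0 := by exact_mod_cast h2
  have h4 := (CharP.cast_eq_zero_iff F p 2).1 h3
  have h5 : p = 2 := by
    have := (Nat.dvd_prime Nat.prime_two).1 h4
    rcases this with h | h
    · exact absurd h (Nat.Prime.ne_one (Fact.out))
    · exact h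
  obtain ⟨n, _, hn⟩ := FiniteField.card F p
  rw [hn, h5] at hq
  have : (2 : ℕ) ^ (n : ℕ) % 2 = 0 := by
    have hn0 : (n : ℕ) ≠ 0 := n.ne_zero
    obtain ⟨k, hk⟩ := Nat.exists_eq_succ_of_ne_zero hn0
    rw [hk, pow_succ]
    omega
  omega

end field

section symorbit

variable {F : Type*} [Field F] [Fintype F] [DecidableEq F]
variable {κ : Type*} [Fintype κ] [DecidableEq κ]

/-- The symmetric bilinear form of a symmetric matrix is symmetric. -/
theorem sesq_id_comm {W : Matrix κ κ F} (h : IsHerm (RingHom.id F) W) (x y : κ → F) :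
    sesq (RingHom.id F) W x y = sesq (RingHom.id F) W y x := by
  have := IsHerm.sesq_swap (RingHom.id F) (fun _ => rfl) h x y
  rw [RingHom.id_apply] at this
  exact this

theorem isHerm_id_apply {W : Matrix κ κ F} (h : IsHerm (RingHom.id F) W) (i j : κ) :
    W i j = W j i := by
  have := h.apply (RingHom.id F) i j
  rwa [RingHom.id_apply] at this

/-- A non-zero entry gives a vector of non-zero value supported on the two indices. -/
theorem exists_sesq_self_ne_zero (h2 : (2 : F) ≠ 0) {W : Matrix κ κ F}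
    (hW : IsHerm (RingHom.id F) W) (i j : κ) (hij : W i j ≠ 0) :
    ∃ x : κ → F, sesq (RingHom.id F) W x x ≠ 0 ∧ ∀ k, k ≠ i → k ≠ j → x k = 0 := by
  by_cases hii : W i i = 0
  · by_cases hjj : W j j = 0
    · refine ⟨Pi.single i 1 + Pi.single j 1, ?_, ?_⟩
      · rw [sesq_add_left, sesq_add_right, sesq_add_right, sesq_single, sesq_single, sesq_single,
          sesq_single, hii, hjj, ← isHerm_id_apply hW i j]
        intro h
        have : 2 * W i j = 0 := by linear_combination h
        rcases mul_eq_zero.1 this with h' | h'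
        · exact h2 h'
        · exact hij h'
      · intro k hki hkj
        simp [Pi.single_eq_of_ne hki, Pi.single_eq_of_ne hkj]
    · refine ⟨Pi.single j 1, ?_, ?_⟩
      · rw [sesq_single]
        exact hjj
      · intro k _ hkj
        simp [Pi.single_eq_of_ne hkj]
  · refine ⟨Pi.single i 1, ?_, ?_⟩
    · rw [sesq_single]
      exact hii
    · intro k hki _
      simp [Pi.single_eq_of_ne hki]

/-- The general linear group is transitive on non-zero vectors (matrix version). -/
theorem exists_det_ne_zero_mulVec_single (i₀ : κ) (x : κ → F) (hx : x ≠ 0) :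
    ∃ A : Matrix κ κ F, A.det ≠ 0 ∧ A *ᵥ Pi.single i₀ 1 = x := by
  by_cases hex : ∃ j₁ : κ, j₁ ≠ i₀
  · obtain ⟨j₁, hj₁⟩ := hex
    obtain ⟨A, hA, hAx⟩ := exists_det_one_mulVec_single i₀ j₁ hj₁ x hx
    exact ⟨A, by rw [hA]; exact one_ne_zero, hAx⟩
  · push Not at hex
    have hx0 : x i₀ ≠ 0 := by
      intro h
      apply hx
      funext k
      rw [hex k]
      exact h
    refine ⟨Matrix.diagonal (fun _ => x i₀), ?_, ?_⟩
    · rw [Matrix.det_diagonal]
      exact Finset.prod_ne_zero_iff.2 (fun _ _ => hx0)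
    · rw [Matrix.diagonal_mulVec_single, mul_one]
      funext k
      rw [hex k, Pi.single_eq_same]

/-- Moving a vector of non-zero value to the basis vector `i₀`. -/
theorem exists_corner_eq (Ω : Finset (Matrix κ κ F)) (hcl : ClosedGL (RingHom.id F) Ω)
    (i₀ : κ) (W : Matrix κ κ F) (hW : W ∈ Ω) (x : κ → F) (a : F)
    (hx : sesq (RingHom.id F) W x x = a) (ha : a ≠ 0) :
    ∃ W' ∈ Ω, W' i₀ i₀ = a := by
  have hx0 : x ≠ 0 := by
    rintro rfl
    rw [sesq_zero_left] at hx
    exact ha hx.symm
  obtain ⟨A, hA, hAx⟩ := exists_det_ne_zero_mulVec_single i₀ x hx0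
  refine ⟨cong (RingHom.id F) A W, hcl A hA W hW, ?_⟩
  rw [cong_apply, hAx, hx]

/-- Prescribing the row `i₀` of a matrix of the set. -/
theorem exists_row_eq (Ω : Finset (Matrix κ κ F)) (hcl : ClosedGL (RingHom.id F) Ω)
    (i₀ : κ) (W : Matrix κ κ F) (hW : W ∈ Ω) (a : F) (ha : W i₀ i₀ = a) (ha0 : a ≠ 0)
    (v : κ → F) :
    ∃ W' ∈ Ω, W' i₀ i₀ = a ∧ ∀ j, j ≠ i₀ → W' i₀ j = v j := by
  set r : κ → F := fun j => if j = i₀ then 0 else (v j - W i₀ j) / a with hr
  have hr0 : r i₀ = 0 := by rw [hr]; simp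
  refine ⟨cong (RingHom.id F) (shear i₀ r) W,
    hcl _ (by rw [det_shear _ _ hr0]; exact one_ne_zero) W hW, ?_, ?_⟩
  · rw [cong_shear_apply, hr0, RingHom.id_apply, ha]
    ring
  · intro j hj
    rw [cong_shear_apply, hr0, RingHom.id_apply, ha]
    have : r j = (v j - W i₀ j) / a := by rw [hr]; simp [hj]
    rw [this]
    field_simp
    ring

/-- If all non-zero values are attained in the corner, the set is large. -/
theorem card_ge_of_all_corners (Ω : Finset (Matrix κ κ F)) (hcl : ClosedGL (RingHom.id F) Ω)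
    (i₀ : κ) (hall : ∀ a : F, a ≠ 0 → ∃ W ∈ Ω, W i₀ i₀ = a) :
    (Fintype.card F - 1) * Fintype.card F ^ (Fintype.card κ - 1) ≤ Ω.card := by
  classical
  have hex : ∀ p : F × ({j : κ // j ≠ i₀} → F), ∃ W : Matrix κ κ F, p.1 ≠ 0 →
      (W ∈ Ω ∧ W i₀ i₀ = p.1 ∧ ∀ j : {j : κ // j ≠ i₀}, W i₀ j = p.2 j) := by
    intro p
    by_cases hp : p.1 ≠ 0
    · obtain ⟨W, hW, hWa⟩ := hall p.1 hp
      obtain ⟨W', hW', h1, h2⟩ := exists_row_eq Ω hcl i₀ W hW p.1 hWa hp
        (fun j => if h : j ≠ i₀ then p.2 ⟨j, h⟩ else 0)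
      refine ⟨W', fun _ => ⟨hW', h1, ?_⟩⟩
      intro j
      rw [h2 j j.2, dif_pos j.2]
    · exact ⟨0, fun h => absurd h hp⟩
  choose g hg using hex
  have hcard : ((Finset.univ.filter (fun c : F => c ≠ 0)) ×ˢ
      (Finset.univ : Finset ({j : κ // j ≠ i₀} → F))).card ≤ Ω.card := by
    apply Finset.card_le_card_of_injOn g
    · intro p hp
      rw [Finset.mem_coe, Finset.mem_product, Finset.mem_filter] at hp
      exact (hg p hp.1.2).1
    · intro p hp p' hp' hpp
      rw [Finset.mem_coe, Finset.mem_product, Finset.mem_filter] at hp hp'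
      obtain ⟨_, h1, h2⟩ := hg p hp.1.2
      obtain ⟨_, h1', h2'⟩ := hg p' hp'.1.2
      apply Prod.ext
      · rw [← h1, ← h1', hpp]
      · funext j
        rw [← h2, ← h2', hpp]
  refine le_trans (le_of_eq ?_) hcard
  rw [Finset.card_product, Finset.card_univ, Fintype.card_fun, Finset.filter_ne',
    Finset.card_erase_of_mem (Finset.mem_univ _), Finset.card_univ]
  congr 2
  rw [Fintype.card_subtype_compl, Fintype.card_subtype_eq]

/-- The rank one case. -/
theorem card_ge_of_rank_one (Ω : Finset (Matrix κ κ F)) (hcl : ClosedGL (RingHom.id F) Ω)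
    (i₀ : κ) (c : F) (hc : c ≠ 0)
    (hW : c • vecMulVec (Pi.single i₀ (1 : F)) (Pi.single i₀ (1 : F)) ∈ Ω) :
    (Fintype.card F ^ Fintype.card κ - 1) / 2 ≤ Ω.card := by
  classical
  have hmem : ∀ y : κ → F, y ≠ 0 → c • vecMulVec y y ∈ Ω := by
    intro y hy
    obtain ⟨B, hB, hBy⟩ := exists_det_ne_zero_mulVec_single i₀ y hy
    have h1 := hcl Bᵀ (by rw [Matrix.det_transpose]; exact hB) _ hW
    have h2 : cong (RingHom.id F) Bᵀ (c • vecMulVec (Pi.single i₀ (1 : F)) (Pi.single i₀ (1 : F)))
        = c • vecMulVec y y := by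
      unfold cong hconj
      have hmap : (Bᵀ.map (RingHom.id F)) = Bᵀ := by
        ext i j
        simp
      rw [hmap, transpose_transpose, Matrix.mul_smul, Matrix.smul_mul, Matrix.mul_vecMulVec,
        Matrix.vecMulVec_mul, hBy, Matrix.vecMul_transpose, hBy]
    rwa [h2] at h1
  set S := Finset.univ.filter (fun y : κ → F => y ≠ 0) with hS
  have hScard : S.card = Fintype.card F ^ Fintype.card κ - 1 := by
    rw [hS, Finset.filter_ne', Finset.card_erase_of_mem (Finset.mem_univ _), Finset.card_univ,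
      Fintype.card_fun]
  have himg : S.image (fun y => c • vecMulVec y y) ⊆ Ω := by
    intro W hW'
    rw [Finset.mem_image] at hW'
    obtain ⟨y, hy, rfl⟩ := hW'
    rw [hS, Finset.mem_filter] at hy
    exact hmem y hy.2
  have hfib : ∀ b ∈ S.image (fun y => c • vecMulVec y y),
      (S.filter (fun y => c • vecMulVec y y = b)).card ≤ 2 := by
    intro b hb
    rw [Finset.mem_image] at hb
    obtain ⟨y, hy, rfl⟩ := hb
    rw [hS, Finset.mem_filter] at hy
    have hsub : S.filter (fun y' => c • vecMulVec y' y' = c • vecMulVec y y) ⊆ {y, -y} := by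
      intro y' hy'
      rw [Finset.mem_filter] at hy'
      have heq : ∀ i j, y' i * y' j = y i * y j := by
        intro i j
        have := congrFun (congrFun hy'.2 i) j
        simp only [Matrix.smul_apply, vecMulVec_apply, smul_eq_mul] at this
        exact mul_left_cancel₀ hc this
      obtain ⟨k, hk⟩ : ∃ k, y k ≠ 0 := by
        by_contra hcon
        push Not at hcon
        exact hy.2 (funext hcon)
      have hkk := heq k k
      have hsq : (y' k - y k) * (y' k + y k) = 0 := by linear_combination hkk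
      rw [Finset.mem_insert, Finset.mem_singleton]
      rcases mul_eq_zero.1 hsq with h | h
      · left
        have hk' : y' k = y k := by linear_combination h
        funext j
        have := heq k j
        rw [hk'] at this
        exact mul_left_cancel₀ hk this
      · right
        have hk' : y' k = -y k := by linear_combination h
        funext j
        have := heq k j
        rw [hk'] at this
        have h3 : y k * (y' j + y j) = 0 := by linear_combination -this
        rcases mul_eq_zero.1 h3 with h4 | h4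
        · exact absurd h4 hk
        · rw [Pi.neg_apply]
          linear_combination h4
    refine le_trans (Finset.card_le_card hsub) ?_
    exact Finset.card_le_two
  have h1 := Finset.card_le_mul_card_image S 2 hfib
  rw [hScard] at h1
  have h2 := Finset.card_le_card himg
  apply Nat.div_le_of_le_mul
  omega

/-- A non-empty set of non-zero symmetric matrices over a finite field of odd order which is
closed under congruence has at least `(q ^ n - 1) / 2` elements. -/
theorem card_ge_of_closedGL_sym (hq : Fintype.card F % 2 = 1) [Nonempty κ]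
    (Ω : Finset (Matrix κ κ F)) (hne : Ω.Nonempty)
    (hgood : GoodSet (RingHom.id F) Ω) (hcl : ClosedGL (RingHom.id F) Ω) :
    (Fintype.card F ^ Fintype.card κ - 1) / 2 ≤ Ω.card := by
  classical
  have h2 : (2 : F) ≠ 0 := two_ne_zero_of_odd_card hq
  obtain ⟨i₀⟩ := ‹Nonempty κ›
  obtain ⟨W₀, hW₀⟩ := hne
  obtain ⟨hherm₀, hW₀0⟩ := hgood W₀ hW₀
  obtain ⟨i, j, hij⟩ : ∃ i j, W₀ i j ≠ 0 := by
    by_contra hcon
    push Not at hcon
    apply hW₀0
    ext i j
    exact hcon i j
  obtain ⟨x, hx, _⟩ := exists_sesq_self_ne_zero h2 hherm₀ i j hij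
  obtain ⟨W₁, hW₁, hc⟩ := exists_corner_eq Ω hcl i₀ W₀ hW₀ x _ rfl hx
  set c := sesq (RingHom.id F) W₀ x x with hcdef
  obtain ⟨W₂, hW₂, hW₂c, hW₂row⟩ := exists_row_eq Ω hcl i₀ W₁ hW₁ c hc hx 0
  have hherm₂ := (hgood W₂ hW₂).1
  have hW₂col : ∀ j, j ≠ i₀ → W₂ j i₀ = 0 := by
    intro j hj
    rw [isHerm_id_apply hherm₂ j i₀]
    exact hW₂row j hj
  by_cases hrest : ∃ i j, i ≠ i₀ ∧ j ≠ i₀ ∧ W₂ i j ≠ 0
  · -- the universal case
    obtain ⟨i, j, hi, hj, hWij⟩ := hrest
    obtain ⟨y, hy, hysupp⟩ := exists_sesq_self_ne_zero h2 hherm₂ i j hWij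
    set d := sesq (RingHom.id F) W₂ y y with hddef
    have hy0 : y i₀ = 0 := hysupp i₀ (Ne.symm hi) (Ne.symm hj)
    have hcross : sesq (RingHom.id F) W₂ (Pi.single i₀ 1) y = 0 := by
      unfold sesq
      have h1 : (fun k => (RingHom.id F) ((Pi.single i₀ 1 : κ → F) k)) = Pi.single i₀ 1 := by
        funext k
        simp
      rw [h1, single_dotProduct, one_mul, Matrix.mulVec, dotProduct]
      apply Finset.sum_eq_zero
      intro k _
      by_cases hk : k = i₀
      · rw [hk, hy0, mul_zero]
      · rw [hW₂row k hk]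
        simp
    have hall : ∀ a : F, a ≠ 0 → ∃ W ∈ Ω, W i₀ i₀ = a := by
      intro a ha
      obtain ⟨s, t, hst⟩ := exists_sq_add_sq hq c d a hx hy
      apply exists_corner_eq Ω hcl i₀ W₂ hW₂ (s • Pi.single i₀ 1 + t • y) a _ ha
      rw [sesq_add_left, sesq_add_right, sesq_add_right, sesq_smul_left, sesq_smul_left,
        sesq_smul_left, sesq_smul_left, sesq_smul_right, sesq_smul_right, sesq_smul_right,
        sesq_smul_right, sesq_single, hW₂c, sesq_id_comm hherm₂ y (Pi.single i₀ 1), hcross,
        RingHom.id_apply, RingHom.id_apply, ← hddef]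
      linear_combination hst
    have h3 := card_ge_of_all_corners Ω hcl i₀ hall
    refine le_trans ?_ h3
    apply Nat.div_le_of_le_mul
    have hq1 : 1 ≤ Fintype.card F := Fintype.card_pos
    have hk1 : 1 ≤ Fintype.card κ := Fintype.card_pos
    obtain ⟨m, hm⟩ : ∃ m, Fintype.card κ = m + 1 := ⟨Fintype.card κ - 1, by omega⟩
    rw [hm, Nat.add_sub_cancel, pow_succ]
    have hq2 : 2 ≤ Fintype.card F := by
      by_contra hlt
      have : Fintype.card F = 1 := by omega
      have := Fintype.one_lt_card (α := F)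
      omega
    have hpos : 1 ≤ Fintype.card F ^ m := Nat.one_le_pow _ _ (by omega)
    generalize Fintype.card F = Q at *
    obtain ⟨p, rfl⟩ : ∃ p, Q = p + 2 := ⟨Q - 2, by omega⟩
    have : (p + 2) ^ m * (p + 2) - 1 ≤ (p + 2) ^ m * (p + 2) := Nat.sub_le _ _
    refine le_trans this ?_
    have e : (p + 2 - 1) = p + 1 := by omega
    rw [e]
    nlinarith
  · -- the rank one case
    push Not at hrest
    apply card_ge_of_rank_one Ω hcl i₀ c hx
    have : W₂ = c • vecMulVec (Pi.single i₀ (1 : F)) (Pi.single i₀ (1 : F)) := by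
      ext i j
      rw [Matrix.smul_apply, vecMulVec_apply, smul_eq_mul]
      by_cases hi : i = i₀
      · by_cases hj : j = i₀
        · subst hi
          subst hj
          simp [hW₂c]
        · subst hi
          rw [hW₂row j hj, Pi.single_eq_of_ne hj]
          simp
      · by_cases hj : j = i₀
        · subst hj
          rw [hW₂col i hi, Pi.single_eq_of_ne hi]
          simp
        · rw [hrest i j hi hj, Pi.single_eq_of_ne hi]
          simp
    rwa [← this]

end symorbit

end Cfsg.Agent.Lib.Helper46
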