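import Mathlib
import Cfsg.Agent.Lib.Helper46.SymOrbit
import Cfsg.Agent.Lib.Helper46.SiegelWeights

set_option autoImplicit false
set_option linter.unusedSectionVars false
set_option linter.unusedSimpArgs false

namespace Cfsg.Agent.Lib.Helper46

open Matrix

section symweights

variable {F : Type*} [Field F] [Fintype F] [DecidableEq F] {m k : ℕ}
  {ψ : AddChar F ℂ} (hψ : ψ.IsPrimitive)
  {T : (Fin m × Fin m → F) → Matrix (Fin k) (Fin k) ℂ}
  (hTadd : ∀ a b, T (a + b) = T a * T b)
  (hker : ∀ M : Matrix (Fin m) (Fin m) F, M + Mᵀ = 0 → T (toVec M) = 1)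

omit [Fintype F] [DecidableEq F] in
theorem hconj_id {n n' : Type*} (A : Matrix n n' F) : hconj (RingHom.id F) A = Aᵀ := by
  ext i j
  simp [hconj_apply]

omit [Fintype F] [DecidableEq F] in
theorem map_id' {n n' : Type*} (A : Matrix n n' F) : A.map (RingHom.id F) = A := by
  ext i j
  simp

include hψ hTadd hker in
/-- The occurring weights are symmetric. -/
theorem isSymm_of_weight (w : Fin m × Fin m → F) (hw : weightProj ψ T w ≠ 0) :
    IsHerm (RingHom.id F) (ofVec w) := by
  have key : ∀ M : Matrix (Fin m) (Fin m) F, M + Mᵀ = 0 → ψ (toVec M ⬝ᵥ w) = 1 :=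
    fun M hM => weight_apply_eq_one hTadd _ w (hker M hM) hw
  unfold IsHerm
  rw [hconj_id]
  ext i j
  rw [Matrix.transpose_apply]
  change w (j, i) = w (i, j)
  by_cases hij : i = j
  · subst hij
    rfl
  · have h3 : ∀ z : F, ψ (z * (w (i, j) - w (j, i))) = 1 := by
      intro z
      have h1 := key (Matrix.single i j z - Matrix.single j i z) (by
        ext a b
        simp only [Matrix.add_apply, Matrix.sub_apply, Matrix.transpose_apply, Matrix.zero_apply,
          Matrix.single_apply]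
        by_cases h1 : i = a ∧ j = b
        · have h2 : ¬ (j = a ∧ i = b) := by
            rintro ⟨h3, h4⟩
            exact hij (h1.1.trans h3.symm)
          have h2' : ¬ (i = b ∧ j = a) := fun h => h2 ⟨h.2, h.1⟩
          have h1' : j = b ∧ i = a := ⟨h1.2, h1.1⟩
          rw [if_pos h1, if_neg h2, if_neg h2', if_pos h1']
          ring
        · by_cases h2 : j = a ∧ i = b
          · have h2' : i = b ∧ j = a := ⟨h2.2, h2.1⟩
            have h1' : ¬ (j = b ∧ i = a) := fun h => h1 ⟨h.2, h.1⟩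
            rw [if_neg h1, if_pos h2, if_pos h2', if_neg h1']
            ring
          · have h2' : ¬ (i = b ∧ j = a) := fun h => h2 ⟨h.2, h.1⟩
            have h1' : ¬ (j = b ∧ i = a) := fun h => h1 ⟨h.2, h.1⟩
            rw [if_neg h1, if_neg h2, if_neg h2', if_neg h1']
            ring)
      rw [toVec_sub, sub_dotProduct, toVec_single, toVec_single, single_dotProduct,
        single_dotProduct] at h1
      rw [mul_sub]
      exact h1
    by_contra hne
    have hne' : w (i, j) - w (j, i) ≠ 0 := by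
      intro h
      exact hne (sub_eq_zero.1 h).symm
    have h4 := hψ hne'
    apply h4
    ext z
    rw [AddChar.mulShift_apply, AddChar.one_apply, mul_comm]
    exact h3 z

include hψ hTadd hker in
/-- Lower bound for the degree from the weights of the Siegel unipotent radical. -/
theorem degree_ge_of_siegel_sym (hq : Fintype.card F % 2 = 1) (hm : 1 ≤ m) (hT0 : T 0 = 1)
    (hnontriv : ∃ b, T b ≠ 1)
    (hlevi : ∀ A : Matrix (Fin m) (Fin m) F, A.det ≠ 0 →
      ∃ g g' : Matrix (Fin k) (Fin k) ℂ, g' * g = 1 ∧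
        ∀ M : Matrix (Fin m) (Fin m) F,
          g * T (toVec M) * g' = T (toVec (A * M * Aᵀ))) :
    (Fintype.card F ^ m - 1) / 2 ≤ k := by
  classical
  have hN : ((Fintype.card (Fin m × Fin m → F) : ℕ) : ℂ) ≠ 0 :=
    Nat.cast_ne_zero.2 Fintype.card_ne_zero
  have hinj : Function.Injective (ofVec : (Fin m × Fin m → F) → Matrix (Fin m) (Fin m) F) := by
    intro a b hab
    rw [← toVec_ofVec a, hab, toVec_ofVec]
  haveI : Nonempty (Fin m) := ⟨⟨0, by omega⟩⟩
  set S := Finset.univ.filter (fun w : Fin m × Fin m → F => w ≠ 0 ∧ weightProj ψ T w ≠ 0)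
    with hS
  have hle : S.card ≤ k := by
    apply card_weights_le hψ hTadd hN S
    intro w hw
    rw [hS, Finset.mem_filter] at hw
    exact hw.2.2
  refine le_trans ?_ hle
  rw [← Finset.card_image_of_injective _ hinj]
  have := card_ge_of_closedGL_sym hq (S.image ofVec) ?_ ?_ ?_
  · rwa [Fintype.card_fin] at this
  · obtain ⟨b, hb⟩ := hnontriv
    obtain ⟨w, hw0, hw⟩ := exists_weight_ne_zero' hψ hT0 hTadd hN b hb
    exact ⟨ofVec w, Finset.mem_image_of_mem _ (by simp [hS, hw0, hw])⟩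
  · intro W hW
    rw [Finset.mem_image] at hW
    obtain ⟨w, hw, rfl⟩ := hW
    rw [hS, Finset.mem_filter] at hw
    refine ⟨isSymm_of_weight hψ hTadd hker w hw.2.2, ?_⟩
    intro h
    apply hw.2.1
    rw [← toVec_ofVec w, h, toVec_zero]
  · intro Ã hÃ W hW
    rw [Finset.mem_image] at hW ⊢
    obtain ⟨w, hw, rfl⟩ := hW
    rw [hS, Finset.mem_filter] at hw
    have hinvdet : (Ã⁻¹).det ≠ 0 := by
      rw [Matrix.det_nonsing_inv]
      simpa using hÃ
    have hAA' : Ã⁻¹ * Ã = 1 := Matrix.nonsing_inv_mul _ (isUnit_iff_ne_zero.2 hÃ)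
    have hA'A : Ã * Ã⁻¹ = 1 := Matrix.mul_nonsing_inv _ (isUnit_iff_ne_zero.2 hÃ)
    obtain ⟨g, g', hgg', hg⟩ := hlevi _ hinvdet
    have hne := weightProj_ne_zero_of_conj (ψ := ψ) g g' hgg'
      (leviEquiv (RingHom.id F) Ã⁻¹ Ã hAA' hA'A)
      (fun w => toVec (cong (RingHom.id F) Ã (ofVec w))) ?_ ?_ w hw.2.2
    · refine ⟨toVec (cong (RingHom.id F) Ã (ofVec w)), ?_, rfl⟩
      rw [hS, Finset.mem_filter]
      refine ⟨Finset.mem_univ _, ?_, hne⟩
      intro h0
      have hne0 : ofVec w ≠ 0 := by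
        intro h
        apply hw.2.1
        rw [← toVec_ofVec w, h, toVec_zero]
      apply cong_ne_zero (φ := RingHom.id F) Ã (ofVec w) hÃ hne0
      rw [← ofVec_toVec (cong (RingHom.id F) Ã (ofVec w)), h0, ofVec_zero]
    · intro a w'
      change toVec (Ã⁻¹ * ofVec a * hconj (RingHom.id F) Ã⁻¹)
        ⬝ᵥ toVec (cong (RingHom.id F) Ã (ofVec w')) = a ⬝ᵥ w'
      have h1 := dot_cong (RingHom.id F) (fun _ => rfl) Ã⁻¹ Ã (ofVec a) (ofVec w') hA'A
      rw [map_id'] at h1
      rw [h1, toVec_ofVec, toVec_ofVec]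
    · intro a
      have := hg (ofVec a)
      rw [toVec_ofVec] at this
      rw [this]
      change T (toVec (Ã⁻¹ * ofVec a * (Ã⁻¹)ᵀ)) = T (toVec (Ã⁻¹ * ofVec a * hconj (RingHom.id F) Ã⁻¹))
      rw [hconj_id]

end symweights

end Cfsg.Agent.Lib.Helper46
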