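import Mathlib
import Cfsg.Agent.Lib.Helper46.SymWeights

set_option autoImplicit false
set_option linter.unusedSectionVars false
set_option linter.unusedSimpArgs false

namespace Cfsg.Agent.Lib.Helper46

open Matrix

section siegelodd

variable {F : Type*} [Field F] {κ : Type*} [Fintype κ] [DecidableEq κ]

/-- Siegel unipotent element (any characteristic). -/
def sgUM (S : Matrix κ κ F) : Matrix (κ ⊕ κ) (κ ⊕ κ) F := fromBlocks 1 S 0 1

theorem sgUM_mem {S : Matrix κ κ F} (hS : Sᵀ = S) : sgUM S ∈ Matrix.symplecticGroup κ F := by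
  rw [sgUM, SymplecticGroup.fromBlocks_mem_iff]
  simp [hS]

theorem sgUM_add (S S' : Matrix κ κ F) : sgUM (S + S') = sgUM S * sgUM S' := by
  rw [sgUM, sgUM, sgUM, fromBlocks_multiply]
  simp [add_comm]

theorem sgUM_zero : sgUM (0 : Matrix κ κ F) = 1 := by
  rw [sgUM, fromBlocks_one]

/-- Levi element (any characteristic). -/
def sgLM (A A' : Matrix κ κ F) : Matrix (κ ⊕ κ) (κ ⊕ κ) F := fromBlocks A 0 0 A'ᵀ

theorem sgLM_mem {A A' : Matrix κ κ F} (h : A' * A = 1) :
    sgLM A A' ∈ Matrix.symplecticGroup κ F := by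
  rw [sgLM, SymplecticGroup.fromBlocks_mem_iff]
  refine ⟨by simp, by simp, ?_⟩
  rw [transpose_zero, Matrix.zero_mul, sub_zero, ← transpose_mul, h, transpose_one]

theorem sgLM_mul_sgUM {A A' : Matrix κ κ F} (h : A' * A = 1) (S : Matrix κ κ F) :
    sgLM A A' * sgUM S = sgUM (A * S * Aᵀ) * sgLM A A' := by
  rw [sgLM, sgUM, sgUM, fromBlocks_multiply, fromBlocks_multiply]
  have h1 : Aᵀ * A'ᵀ = 1 := by rw [← transpose_mul, h, transpose_one]
  simp [Matrix.mul_assoc, h1]

theorem add_transpose_symm (M : Matrix κ κ F) : (M + Mᵀ)ᵀ = M + Mᵀ := by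
  rw [transpose_add, transpose_transpose, add_comm]

/-- The Siegel unipotent element of the symmetrisation of `M`. -/
def sgU (M : Matrix κ κ F) : Matrix.symplecticGroup κ F :=
  ⟨sgUM (M + Mᵀ), sgUM_mem (add_transpose_symm M)⟩

theorem sgU_add (M M' : Matrix κ κ F) : sgU (M + M') = sgU M * sgU M' := by
  apply Subtype.ext
  change sgUM _ = sgUM _ * sgUM _
  rw [← sgUM_add, transpose_add]
  congr 1
  abel

theorem sgU_eq_one (M : Matrix κ κ F) (h : M + Mᵀ = 0) : sgU M = 1 := by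
  apply Subtype.ext
  change sgUM _ = 1
  rw [h, sgUM_zero]

/-- The Levi element of an invertible matrix. -/
def sgL (A A' : Matrix κ κ F) (h : A' * A = 1) : Matrix.symplecticGroup κ F :=
  ⟨sgLM A A', sgLM_mem h⟩

theorem sgL_mul_sgU (A A' : Matrix κ κ F) (h : A' * A = 1) (M : Matrix κ κ F) :
    sgL A A' h * sgU M = sgU (A * M * Aᵀ) * sgL A A' h := by
  apply Subtype.ext
  change sgLM A A' * sgUM _ = sgUM _ * sgLM A A'
  rw [sgLM_mul_sgUM h]
  congr 2
  rw [transpose_mul, transpose_mul, transpose_transpose, Matrix.mul_add, Matrix.add_mul]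
  simp only [Matrix.mul_assoc]

end siegelodd

section lower

variable {F : Type*} [Field F] [Fintype F] [DecidableEq F]

theorem exists_primitive_char : ∃ ψ : AddChar F ℂ, ψ.IsPrimitive := by
  obtain ⟨ψ₁, hψ₁⟩ := (AddChar.exists_apply_ne_zero (α := F) (a := 1)).2 one_ne_zero
  refine ⟨ψ₁, ?_⟩
  apply AddChar.IsPrimitive.of_ne_one
  rw [AddChar.ne_one_iff]
  exact ⟨1, hψ₁⟩

/-- A matrix representation of `Sp_{2n}(q)`, `q` odd, which is non-trivial on the Siegel
unipotent radical has degree at least `(q ^ n - 1) / 2`. -/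
theorem sp_odd_degree_ge (hq : Fintype.card F % 2 = 1) (n : ℕ) (hn : 1 ≤ n) {d : ℕ}
    (R : Matrix.symplecticGroup (Fin n) F →* Matrix (Fin d) (Fin d) ℂ)
    (hR : ∃ M : Matrix (Fin n) (Fin n) F, R (sgU M) ≠ 1) :
    (Fintype.card F ^ n - 1) / 2 ≤ d := by
  classical
  obtain ⟨ψ, hψ⟩ := exists_primitive_char (F := F)
  set T : (Fin n × Fin n → F) → Matrix (Fin d) (Fin d) ℂ := fun b => R (sgU (ofVec b)) with hT
  have hTadd : ∀ a b, T (a + b) = T a * T b := by
    intro a b
    rw [hT]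
    simp only
    rw [ofVec_add, sgU_add, map_mul]
  have hT0 : T 0 = 1 := by
    rw [hT]
    simp only
    rw [ofVec_zero, sgU_eq_one _ (by simp), map_one]
  have hker : ∀ M : Matrix (Fin n) (Fin n) F, M + Mᵀ = 0 → T (toVec M) = 1 := by
    intro M hM
    rw [hT]
    simp only
    rw [ofVec_toVec, sgU_eq_one M hM, map_one]
  apply degree_ge_of_siegel_sym hψ hTadd hker hq hn hT0
  · obtain ⟨M, hM⟩ := hR
    exact ⟨toVec M, by rw [hT]; simpa [ofVec_toVec] using hM⟩
  · intro A hA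
    have hAA' : A⁻¹ * A = 1 := Matrix.nonsing_inv_mul _ (isUnit_iff_ne_zero.2 hA)
    refine ⟨R (sgL A A⁻¹ hAA'), R (sgL A A⁻¹ hAA')⁻¹, ?_, ?_⟩
    · rw [← map_mul, inv_mul_cancel, map_one]
    · intro M
      rw [hT]
      simp only
      rw [ofVec_toVec, ofVec_toVec, ← map_mul, sgL_mul_sgU, map_mul, Matrix.mul_assoc, ← map_mul,
        mul_inv_cancel, map_one, Matrix.mul_one]

end lower

end Cfsg.Agent.Lib.Helper46
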