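import Mathlib
import Cfsg.Agent.Lib.Helper43.OmegaSimple4
import Cfsg.Agent.Lib.Helper46.RepMat
import Cfsg.Agent.Lib.Helper46.SpOddA

set_option autoImplicit false
set_option linter.unusedSectionVars false
set_option linter.unusedVariables false
set_option linter.unusedSimpArgs false

/-! Lower bound for the degrees of the irreducible complex representations of `PΩ(Q)`:
weights of the abelian Siegel group of a singular vector are permuted transitively, on each level
set of `Q`, by the stabiliser of the vector in `Ω`. -/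

namespace Cfsg.Agent.Lib.Helper46.OmegaDeg

open Matrix Module Cfsg.Agent.Lib.Helper43 Cfsg.Agent.Lib.Helper19
open Cfsg.Agent.Lib.Helper46

section general

variable {F : Type*} [Field F] {ι : Type} [Fintype ι] [DecidableEq ι]
variable (Q : QuadraticForm F (ι → F))

/-- Gram matrix of the polar form -/
noncomputable def gram : Matrix ι ι F := LinearMap.BilinForm.toMatrix' (QuadraticMap.polarBilin Q)

theorem dot_gram (a b : ι → F) : a ⬝ᵥ (gram Q *ᵥ b) = QuadraticMap.polarBilin Q a b := by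
  rw [gram, ← Matrix.toBilin'_apply', Matrix.toBilin'_toMatrix']

theorem polar_symm (a b : ι → F) :
    QuadraticMap.polarBilin Q a b = QuadraticMap.polarBilin Q b a := by
  simp only [QuadraticMap.polarBilin_apply_apply]
  exact QuadraticMap.polar_comm _ _ _

theorem gram_injective (hQ : (QuadraticMap.polarBilin Q).Nondegenerate) :
    Function.Injective (fun b : ι → F => gram Q *ᵥ b) := by
  intro b b' h
  have h0 : b - b' = 0 := by
    apply hQ.2
    intro x
    rw [map_sub, ← dot_gram, ← dot_gram]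
    have : gram Q *ᵥ b = gram Q *ᵥ b' := h
    rw [this, sub_self]
  exact sub_eq_zero.1 h0

/-- projection onto `u^⊥` along `u'` -/
noncomputable def pu (u u' : ι → F) : (ι → F) →ₗ[F] (ι → F) :=
  LinearMap.id - ((QuadraticMap.polarBilin Q).flip u).smulRight u'

theorem pu_apply (u u' a : ι → F) :
    pu Q u u' a = a - QuadraticMap.polarBilin Q a u • u' := by
  simp [pu]

theorem polar_u_pu (u u' : ι → F) (huu' : QuadraticMap.polarBilin Q u u' = 1) (a : ι → F) :
    QuadraticMap.polarBilin Q u (pu Q u u' a) = 0 := by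
  rw [pu_apply, map_sub, map_smul, huu', smul_eq_mul, mul_one, polar_symm Q u a, sub_self]

theorem pu_of_orth (u u' a : ι → F) (ha : QuadraticMap.polarBilin Q u a = 0) :
    pu Q u u' a = a := by
  rw [pu_apply, polar_symm Q a u, ha, zero_smul, sub_zero]

theorem pu_u' (u u' : ι → F) (huu' : QuadraticMap.polarBilin Q u u' = 1) :
    pu Q u u' u' = 0 := by
  rw [pu_apply, polar_symm Q u' u, huu', one_smul, sub_self]

end general


section siegel

variable {F : Type*} [Field F] [Fintype F] {ι : Type} [Fintype ι] [DecidableEq ι]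
variable (Q : QuadraticForm F (ι → F)) (hQ : (QuadraticMap.polarBilin Q).Nondegenerate)
  (hn : 7 ≤ Fintype.card ι)
variable (u u' : ι → F)

theorem polar_self_zero (hu : Q u = 0) : QuadraticMap.polarBilin Q u u = 0 := by
  rw [QuadraticMap.polarBilin_apply_apply, QuadraticMap.polar_self, hu, smul_zero]

/-- the Siegel transformation with parameter a multiple of `u` is trivial -/
theorem siegelO_smul_self (hu : Q u = 0) (t : F) : siegelO Q hQ u (t • u) = 1 := by
  have h0 : QuadraticMap.polarBilin Q u (t • u) = 0 := by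
    rw [map_smul, polar_self_zero Q u hu, smul_zero]
  apply linOf_injective Q
  rw [linOf_siegelO Q hQ u _ hu h0, linOf_one]
  apply LinearMap.ext
  intro v
  rw [siegelLin_apply, LinearMap.id_apply, map_smul, QuadraticMap.map_smul, hu, smul_zero,
    zero_mul, sub_zero, smul_eq_mul, smul_smul, add_assoc, ← add_smul]
  have : (t * QuadraticMap.polarBilin Q v u + -QuadraticMap.polarBilin Q v u * t) = 0 := by ring
  rw [this, zero_smul, add_zero]

/-- Siegel element of `Ω` attached to `a`, through the projection onto `u^⊥` -/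
noncomputable def sgP (hu : Q u = 0) (huu' : QuadraticMap.polarBilin Q u u' = 1) (a : ι → F) :
    ↥(Cfsg.Omega F ⇑Q) :=
  ⟨siegelO Q hQ u (pu Q u u' a), siegelO_mem_Omega Q hQ hn u _ hu (polar_u_pu Q u u' huu' a)⟩

variable (hu : Q u = 0) (huu' : QuadraticMap.polarBilin Q u u' = 1)

theorem sgP_zero : sgP Q hQ hn u u' hu huu' 0 = 1 := by
  apply Subtype.ext
  change siegelO Q hQ u (pu Q u u' 0) = 1
  rw [map_zero, siegelO_zero Q hQ u hu]

theorem sgP_add (a b : ι → F) :
    sgP Q hQ hn u u' hu huu' (a + b) = sgP Q hQ hn u u' hu huu' a * sgP Q hQ hn u u' hu huu' b := by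
  apply Subtype.ext
  change siegelO Q hQ u (pu Q u u' (a + b))
    = siegelO Q hQ u (pu Q u u' a) * siegelO Q hQ u (pu Q u u' b)
  rw [map_add, siegelO_add Q hQ u _ _ hu (polar_u_pu Q u u' huu' a) (polar_u_pu Q u u' huu' b)]

theorem sgP_smul_u' (t : F) : sgP Q hQ hn u u' hu huu' (t • u') = 1 := by
  apply Subtype.ext
  change siegelO Q hQ u (pu Q u u' (t • u')) = 1
  rw [map_smul, pu_u' Q u u' huu', smul_zero, siegelO_zero Q hQ u hu]

theorem sgP_smul_u (t : F) : sgP Q hQ hn u u' hu huu' (t • u) = 1 := by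
  apply Subtype.ext
  change siegelO Q hQ u (pu Q u u' (t • u)) = 1
  rw [pu_of_orth Q u u' (t • u) (by rw [map_smul, polar_self_zero Q u hu, smul_zero])]
  exact siegelO_smul_self Q hQ u hu t

theorem sgP_of_orth (v : ι → F) (hv : QuadraticMap.polarBilin Q u v = 0) :
    ((sgP Q hQ hn u u' hu huu' v : ↥(Cfsg.Omega F ⇑Q)) : ↥(Cfsg.isometryGroup F ⇑Q))
      = siegelO Q hQ u v := by
  change siegelO Q hQ u (pu Q u u' v) = siegelO Q hQ u v
  rw [pu_of_orth Q u u' v hv]

end siegel


section weightsPt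

variable {F : Type*} [Field F] [Fintype F] {K : Type*} [Field K]
variable {ι : Type*} [Fintype ι] [DecidableEq ι] {d : ℕ}
variable {ψ : AddChar F K} {T : (ι → F) → Matrix (Fin d) (Fin d) K}

/-- Conjugation moves the weight projectors (pointwise version). -/
theorem conj_weightProj_pt (g g' : Matrix (Fin d) (Fin d) K) (φ : (ι → F) ≃ (ι → F))
    (w w' : ι → F) (hφ : ∀ a, φ a ⬝ᵥ w' = a ⬝ᵥ w)
    (hg : ∀ a, g * T a * g' = T (φ a)) :
    g * weightProj ψ T w * g' = weightProj ψ T w' := by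
  classical
  unfold weightProj
  rw [Matrix.mul_smul, Matrix.smul_mul, Finset.mul_sum, Finset.sum_mul]
  congr 1
  have h1 : ∀ a : ι → F, g * (ψ (-(a ⬝ᵥ w)) • T a) * g'
      = ψ (-(φ a ⬝ᵥ w')) • T (φ a) := by
    intro a
    rw [Matrix.mul_smul, Matrix.smul_mul, hg, hφ]
  simp_rw [h1]
  exact Fintype.sum_equiv φ _ _ (fun a => rfl)

theorem weightProj_ne_zero_of_conj_pt (g g' : Matrix (Fin d) (Fin d) K) (hgg' : g' * g = 1)
    (φ : (ι → F) ≃ (ι → F)) (w w' : ι → F) (hφ : ∀ a, φ a ⬝ᵥ w' = a ⬝ᵥ w)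
    (hg : ∀ a, g * T a * g' = T (φ a)) (hw : weightProj ψ T w ≠ 0) :
    weightProj ψ T w' ≠ 0 := by
  intro h
  apply hw
  have h1 := conj_weightProj_pt (ψ := ψ) g g' φ w w' hφ hg
  rw [h] at h1
  have h2 : g' * (g * weightProj ψ T w * g') * g = weightProj ψ T w := by
    calc g' * (g * weightProj ψ T w * g') * g
        = (g' * g) * weightProj ψ T w * (g' * g) := by simp only [Matrix.mul_assoc]
      _ = weightProj ψ T w := by rw [hgg', Matrix.one_mul, Matrix.mul_one]
  rw [← h2, h1, Matrix.mul_zero, Matrix.zero_mul]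

end weightsPt

section rep

variable {F : Type*} [Field F] [Fintype F] [DecidableEq F] {ι : Type} [Fintype ι] [DecidableEq ι]
variable (Q : QuadraticForm F (ι → F)) (hQ : (QuadraticMap.polarBilin Q).Nondegenerate)
  (hn : 7 ≤ Fintype.card ι)
variable (u u' : ι → F) (hu : Q u = 0) (huu' : QuadraticMap.polarBilin Q u u' = 1)
variable {k : ℕ} (ρ : Representation ℂ (Cfsg.POmega F ⇑Q) (Fin k → ℂ))

/-- the matrices of the Siegel group in the representation -/
noncomputable def TT (a : ι → F) : Matrix (Fin k) (Fin k) ℂ :=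
  repMat ρ (QuotientGroup.mk (sgP Q hQ hn u u' hu huu' a))

theorem TT_zero : TT Q hQ hn u u' hu huu' ρ 0 = 1 := by
  unfold TT
  rw [sgP_zero, QuotientGroup.mk_one, repMat_one]

theorem TT_add (a b : ι → F) :
    TT Q hQ hn u u' hu huu' ρ (a + b) = TT Q hQ hn u u' hu huu' ρ a * TT Q hQ hn u u' hu huu' ρ b := by
  unfold TT
  rw [sgP_add, QuotientGroup.mk_mul, repMat_mul]

theorem TT_smul_u (t : F) : TT Q hQ hn u u' hu huu' ρ (t • u) = 1 := by
  unfold TT
  rw [sgP_smul_u, QuotientGroup.mk_one, repMat_one]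

theorem TT_smul_u' (t : F) : TT Q hQ hn u u' hu huu' ρ (t • u') = 1 := by
  unfold TT
  rw [sgP_smul_u', QuotientGroup.mk_one, repMat_one]

/-- the Siegel group does not act trivially -/
theorem exists_TT_ne_one (hirr : ρ.IsIrreducible) (hk : 2 ≤ k) (hu0 : u ≠ 0) :
    ∃ a, TT Q hQ hn u u' hu huu' ρ a ≠ 1 := by
  by_contra hcon
  push Not at hcon
  have h1 : ∀ x ∈ siegelGrp Q hQ u hu, ρ (QuotientGroup.mk x) = 1 := by
    rintro x ⟨v, hv, hx⟩
    have h2 : x = sgP Q hQ hn u u' hu huu' v := by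
      apply Subtype.ext
      rw [hx, sgP_of_orth Q hQ hn u u' hu huu' v hv]
    rw [h2, ← repMat_eq_one_iff]
    exact hcon v
  set S : Set (Cfsg.POmega F ⇑Q) :=
    (QuotientGroup.mk' (Subgroup.center ↥(Cfsg.Omega F ⇑Q))) ''
      {x : ↥(Cfsg.Omega F ⇑Q) | ∃ g : ↥(Cfsg.Omega F ⇑Q),
        ∃ a ∈ siegelGrp Q hQ u hu, x = g * a * g⁻¹} with hS
  have hSgen : Subgroup.closure S = ⊤ := by
    rw [hS, ← MonoidHom.map_closure, siegelGrp_conj_generate Q hQ hn u hu0 hu,
      Subgroup.map_top_of_surjective _ (QuotientGroup.mk'_surjective _)]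
  obtain ⟨y, hy, hρy⟩ := not_closure_le_ker ρ hirr hk S hSgen
  apply hρy
  obtain ⟨x, ⟨g, a, ha, rfl⟩, rfl⟩ := hy
  rw [QuotientGroup.mk'_apply, QuotientGroup.mk_mul, QuotientGroup.mk_mul, map_mul, map_mul,
    h1 a ha, mul_one, ← map_mul, ← QuotientGroup.mk_mul, mul_inv_cancel, QuotientGroup.mk_one,
    map_one]

/-- the stabiliser of `u` in `Ω` permutes the weights of the Siegel group lying on a level set
of `Q` in `⟨u, u'⟩^⊥` -/
theorem weight_closed {ψ : AddChar F ℂ} (b b' : ι → F) (hb : b ≠ 0) (hb' : b' ≠ 0)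
    (hub : QuadraticMap.polarBilin Q u b = 0) (hu'b : QuadraticMap.polarBilin Q u' b = 0)
    (hub' : QuadraticMap.polarBilin Q u b' = 0) (hu'b' : QuadraticMap.polarBilin Q u' b' = 0)
    (hQb : Q b = Q b')
    (hw : weightProj ψ (TT Q hQ hn u u' hu huu' ρ) (gram Q *ᵥ b) ≠ 0) :
    weightProj ψ (TT Q hQ hn u u' hu huu' ρ) (gram Q *ᵥ b') ≠ 0 := by
  have hind : ∀ c : ι → F, c ≠ 0 → QuadraticMap.polarBilin Q u' c = 0 →
      ∀ α β : F, α • u + β • c = 0 → α = 0 ∧ β = 0 := by
    intro c hc hu'c α β h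
    have h1 : QuadraticMap.polarBilin Q u' (α • u + β • c) = 0 := by rw [h, map_zero]
    rw [map_add, map_smul, map_smul, hu'c, polar_symm Q u' u, huu', smul_eq_mul, mul_one,
      smul_zero, add_zero] at h1
    subst h1
    rw [zero_smul, zero_add] at h
    exact ⟨rfl, (smul_eq_zero.1 h).resolve_right hc⟩
  obtain ⟨g, hgΩ, hgu, hgb⟩ := exists_Omega_pair Q hQ hn u b u b' (hind b hb hu'b)
    (hind b' hb' hu'b') rfl hQb (by rw [hub, hub'])
  have hgu' : linOf Q g⁻¹ u = u := by
    have := linOf_inv_apply Q g u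
    rwa [hgu] at this
  -- the permutation of the parameters
  have hpolg : ∀ x y, QuadraticMap.polarBilin Q (linOf Q g x) (linOf Q g y)
      = QuadraticMap.polarBilin Q x y :=
    polar_of_isometry Q (linOf Q g) (linOf_isometry Q g)
  have hpolg' : ∀ x y, QuadraticMap.polarBilin Q (linOf Q g⁻¹ x) (linOf Q g⁻¹ y)
      = QuadraticMap.polarBilin Q x y :=
    polar_of_isometry Q (linOf Q g⁻¹) (linOf_isometry Q g⁻¹)
  have horth : ∀ a, QuadraticMap.polarBilin Q u (linOf Q g (pu Q u u' a)) = 0 := by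
    intro a
    have := hpolg u (pu Q u u' a)
    rw [hgu] at this
    rw [this, polar_u_pu Q u u' huu']
  have horth' : ∀ a, QuadraticMap.polarBilin Q u (linOf Q g⁻¹ (pu Q u u' a)) = 0 := by
    intro a
    have := hpolg' u (pu Q u u' a)
    rw [hgu'] at this
    rw [this, polar_u_pu Q u u' huu']
  let φf : (ι → F) → (ι → F) := fun a =>
    linOf Q g (pu Q u u' a) + QuadraticMap.polarBilin Q a u • u'
  let φi : (ι → F) → (ι → F) := fun a =>
    linOf Q g⁻¹ (pu Q u u' a) + QuadraticMap.polarBilin Q a u • u'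
  have hpuφf : ∀ a, pu Q u u' (φf a) = linOf Q g (pu Q u u' a) := by
    intro a
    change pu Q u u' (linOf Q g (pu Q u u' a) + QuadraticMap.polarBilin Q a u • u') = _
    rw [map_add, map_smul, pu_u' Q u u' huu', smul_zero, add_zero,
      pu_of_orth Q u u' _ (horth a)]
  have hpuφi : ∀ a, pu Q u u' (φi a) = linOf Q g⁻¹ (pu Q u u' a) := by
    intro a
    change pu Q u u' (linOf Q g⁻¹ (pu Q u u' a) + QuadraticMap.polarBilin Q a u • u') = _
    rw [map_add, map_smul, pu_u' Q u u' huu', smul_zero, add_zero,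
      pu_of_orth Q u u' _ (horth' a)]
  have hBφf : ∀ a, QuadraticMap.polarBilin Q (φf a) u = QuadraticMap.polarBilin Q a u := by
    intro a
    change QuadraticMap.polarBilin Q
      (linOf Q g (pu Q u u' a) + QuadraticMap.polarBilin Q a u • u') u = _
    rw [map_add, LinearMap.add_apply, map_smul, LinearMap.smul_apply, polar_symm Q _ u, horth a,
      polar_symm Q u' u, huu', zero_add, smul_eq_mul, mul_one]
  have hBφi : ∀ a, QuadraticMap.polarBilin Q (φi a) u = QuadraticMap.polarBilin Q a u := by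
    intro a
    change QuadraticMap.polarBilin Q
      (linOf Q g⁻¹ (pu Q u u' a) + QuadraticMap.polarBilin Q a u • u') u = _
    rw [map_add, LinearMap.add_apply, map_smul, LinearMap.smul_apply, polar_symm Q _ u, horth' a,
      polar_symm Q u' u, huu', zero_add, smul_eq_mul, mul_one]
  have hrec : ∀ a, pu Q u u' a + QuadraticMap.polarBilin Q a u • u' = a := by
    intro a
    rw [pu_apply, sub_add_cancel]
  let φ : (ι → F) ≃ (ι → F) :=
    { toFun := φf
      invFun := φi
      left_inv := by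
        intro a
        change linOf Q g⁻¹ (pu Q u u' (φf a)) + QuadraticMap.polarBilin Q (φf a) u • u' = a
        rw [hpuφf, hBφf, linOf_inv_apply, hrec]
      right_inv := by
        intro a
        change linOf Q g (pu Q u u' (φi a)) + QuadraticMap.polarBilin Q (φi a) u • u' = a
        rw [hpuφi, hBφi, linOf_apply_inv, hrec] }
  have hφ : ∀ a, φ a ⬝ᵥ (gram Q *ᵥ b') = a ⬝ᵥ (gram Q *ᵥ b) := by
    intro a
    rw [dot_gram, dot_gram]
    change QuadraticMap.polarBilin Q
      (linOf Q g (pu Q u u' a) + QuadraticMap.polarBilin Q a u • u') b' = _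
    rw [map_add, LinearMap.add_apply, map_smul, LinearMap.smul_apply, hu'b', smul_zero, add_zero,
      ← hgb, hpolg, pu_apply, map_sub, LinearMap.sub_apply, map_smul, LinearMap.smul_apply, hu'b,
      smul_zero, sub_zero]
  let gΩ : ↥(Cfsg.Omega F ⇑Q) := ⟨g, hgΩ⟩
  have hconj : ∀ a, gΩ * sgP Q hQ hn u u' hu huu' a * gΩ⁻¹ = sgP Q hQ hn u u' hu huu' (φ a) := by
    intro a
    apply Subtype.ext
    change g * siegelO Q hQ u (pu Q u u' a) * g⁻¹ = siegelO Q hQ u (pu Q u u' (φf a))
    rw [siegelO_conj Q hQ g u _ hu (polar_u_pu Q u u' huu' a), hgu, hpuφf]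
  refine weightProj_ne_zero_of_conj_pt (ψ := ψ) (T := TT Q hQ hn u u' hu huu' ρ)
    (repMat ρ (QuotientGroup.mk gΩ)) (repMat ρ (QuotientGroup.mk gΩ)⁻¹) (repMat_inv_mul ρ _)
    φ (gram Q *ᵥ b) (gram Q *ᵥ b') hφ ?_ hw
  intro a
  unfold TT
  rw [← repMat_mul, ← repMat_mul, ← hconj a, QuotientGroup.mk_mul, QuotientGroup.mk_mul,
    QuotientGroup.mk_inv]

include hQ hn hu huu' in
/-- **Degree bound**: the degree of an irreducible representation of degree at least two of
`PΩ(Q)` is at least the size of a level set of `Q` on `⟨u, u'⟩^⊥`, for one of the levels. -/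
theorem exists_level_card_le (hirr : ρ.IsIrreducible) (hk : 2 ≤ k) (hu0 : u ≠ 0) :
    ∃ c : F, ∀ S : Finset (ι → F),
      (∀ b ∈ S, b ≠ 0 ∧ QuadraticMap.polarBilin Q u b = 0 ∧ QuadraticMap.polarBilin Q u' b = 0
        ∧ Q b = c) → S.card ≤ k := by
  classical
  obtain ⟨ψ, hψ⟩ := exists_primitive_char (F := F)
  obtain ⟨a₀, ha₀⟩ := exists_TT_ne_one Q hQ hn u u' hu huu' ρ hirr hk hu0
  have hN : ((Fintype.card (ι → F) : ℕ) : ℂ) ≠ 0 := by
    rw [Nat.cast_ne_zero]
    exact Fintype.card_ne_zero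
  have hTadd := TT_add Q hQ hn u u' hu huu' ρ
  have hT0 := TT_zero Q hQ hn u u' hu huu' ρ
  obtain ⟨w, hw0, hw⟩ := exists_weight_ne_zero' hψ hT0 hTadd hN a₀ ha₀
  -- the Gram matrix is onto
  have hsurj : Function.Surjective (fun b : ι → F => gram Q *ᵥ b) :=
    (Finite.injective_iff_surjective).1 (gram_injective Q hQ)
  obtain ⟨b₀, hb₀⟩ := hsurj w
  have hb₀' : gram Q *ᵥ b₀ = w := hb₀
  have hb₀0 : b₀ ≠ 0 := by
    rintro rfl
    apply hw0
    rw [← hb₀', Matrix.mulVec_zero]
  have hprim : ∀ x : F, (∀ t : F, ψ (t * x) = 1) → x = 0 := by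
    intro x hx
    by_contra hx0
    have h1 := hψ hx0
    apply h1
    rw [AddChar.eq_one_iff]
    intro t
    rw [AddChar.mulShift_apply, mul_comm]
    exact hx t
  have hub₀ : QuadraticMap.polarBilin Q u b₀ = 0 := by
    apply hprim
    intro t
    have := weight_apply_eq_one (ψ := ψ) hTadd (t • u) w (TT_smul_u Q hQ hn u u' hu huu' ρ t) hw
    rwa [← hb₀', dot_gram, map_smul, LinearMap.smul_apply, smul_eq_mul] at this
  have hu'b₀ : QuadraticMap.polarBilin Q u' b₀ = 0 := by
    apply hprim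
    intro t
    have := weight_apply_eq_one (ψ := ψ) hTadd (t • u') w (TT_smul_u' Q hQ hn u u' hu huu' ρ t) hw
    rwa [← hb₀', dot_gram, map_smul, LinearMap.smul_apply, smul_eq_mul] at this
  refine ⟨Q b₀, ?_⟩
  intro S hS
  have himg : (S.image (fun b : ι → F => gram Q *ᵥ b)).card = S.card :=
    Finset.card_image_of_injective S (gram_injective Q hQ)
  rw [← himg]
  apply card_weights_le hψ hTadd hN
  intro w' hw'
  obtain ⟨b, hbS, rfl⟩ := Finset.mem_image.1 hw'
  obtain ⟨hb0, hub, hu'b, hQb⟩ := hS b hbS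
  apply weight_closed Q hQ hn u u' hu huu' ρ b₀ b hb₀0 hb0 hub₀ hu'b₀ hub hu'b hQb.symm
  rw [hb₀']
  exact hw

end rep

end Cfsg.Agent.Lib.Helper46.OmegaDeg
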