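import Mathlib
import Cfsg.Agent.Lib.Helper43.OmegaSimpleModels
import Cfsg.Agent.Lib.Helper46.OmegaDeg

set_option autoImplicit false
set_option linter.unusedSectionVars false
set_option linter.unusedVariables false
set_option linter.unusedSimpArgs false

/-! The degree bound `q^(2m-3)` for `PΩ_{2m+1}(q)`, `q` odd. -/

namespace Cfsg.Agent.Lib.Helper46.OmegaDeg

open Matrix Module Cfsg.Agent.Lib.Helper43 Cfsg.Agent.Lib.Helper08
open Cfsg.Agent.Lib.Helper46

section odd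

variable {F : Type*} [Field F]

theorem polar_quadFormOdd_eq (m : ℕ) (a b : Unit ⊕ (Fin m ⊕ Fin m) → F) :
    QuadraticMap.polar (Cfsg.quadFormOdd m F) a b
      = 2 * a (Sum.inl ()) * b (Sum.inl ())
        + ∑ i : Fin m, (a (Sum.inr (Sum.inl i)) * b (Sum.inr (Sum.inr i))
          + a (Sum.inr (Sum.inr i)) * b (Sum.inr (Sum.inl i))) := by
  unfold QuadraticMap.polar Cfsg.quadFormOdd
  have key : ∑ i : Fin m, (a + b) (Sum.inr (Sum.inl i)) * (a + b) (Sum.inr (Sum.inr i))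
      = ∑ i : Fin m, a (Sum.inr (Sum.inl i)) * a (Sum.inr (Sum.inr i))
        + ∑ i : Fin m, b (Sum.inr (Sum.inl i)) * b (Sum.inr (Sum.inr i))
        + ∑ i : Fin m, (a (Sum.inr (Sum.inl i)) * b (Sum.inr (Sum.inr i))
          + a (Sum.inr (Sum.inr i)) * b (Sum.inr (Sum.inl i))) := by
    rw [← Finset.sum_add_distrib, ← Finset.sum_add_distrib]
    apply Finset.sum_congr rfl
    intro i _
    simp only [Pi.add_apply]
    ring
  rw [key]
  simp only [Pi.add_apply]
  ring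

theorem polar_single_x (m : ℕ) (i : Fin m) (b : Unit ⊕ (Fin m ⊕ Fin m) → F) :
    QuadraticMap.polar (Cfsg.quadFormOdd m F) (Pi.single (Sum.inr (Sum.inl i)) 1) b
      = b (Sum.inr (Sum.inr i)) := by
  rw [polar_quadFormOdd_eq]
  simp [Pi.single_apply, Finset.sum_ite_eq]

theorem polar_single_y (m : ℕ) (i : Fin m) (b : Unit ⊕ (Fin m ⊕ Fin m) → F) :
    QuadraticMap.polar (Cfsg.quadFormOdd m F) (Pi.single (Sum.inr (Sum.inr i)) 1) b
      = b (Sum.inr (Sum.inl i)) := by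
  rw [polar_quadFormOdd_eq]
  simp [Pi.single_apply, Finset.sum_ite_eq]

theorem quadFormOdd_single_x (m : ℕ) (i : Fin m) (t : F) :
    Cfsg.quadFormOdd m F (Pi.single (Sum.inr (Sum.inl i)) t) = 0 := by
  unfold Cfsg.quadFormOdd
  simp [Pi.single_apply]

theorem quadFormOdd_single_y (m : ℕ) (i : Fin m) (t : F) :
    Cfsg.quadFormOdd m F (Pi.single (Sum.inr (Sum.inr i)) t) = 0 := by
  unfold Cfsg.quadFormOdd
  simp [Pi.single_apply]

end odd

section family

variable {F : Type*} [Field F]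
variable (m : ℕ) (i0 i1 : Fin m)

/-- the four coordinates of the two hyperbolic pairs -/
def sset : Finset (Unit ⊕ (Fin m ⊕ Fin m)) :=
  {Sum.inr (Sum.inl i0), Sum.inr (Sum.inr i0), Sum.inr (Sum.inl i1), Sum.inr (Sum.inr i1)}

theorem card_sset (h01 : i0 ≠ i1) : (sset m i0 i1).card = 4 := by
  unfold sset
  rw [Finset.card_insert_of_notMem, Finset.card_insert_of_notMem, Finset.card_insert_of_notMem,
    Finset.card_singleton]
  · simp
  · simp [h01]
  · simp [h01]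

/-- extension by zero -/
def extz (r : {j : Unit ⊕ (Fin m ⊕ Fin m) // j ∉ sset m i0 i1} → F) :
    Unit ⊕ (Fin m ⊕ Fin m) → F :=
  fun j => if h : j ∈ sset m i0 i1 then 0 else r ⟨j, h⟩

theorem extz_of_mem (r : {j : Unit ⊕ (Fin m ⊕ Fin m) // j ∉ sset m i0 i1} → F)
    (j : Unit ⊕ (Fin m ⊕ Fin m)) (hj : j ∈ sset m i0 i1) : extz m i0 i1 r j = 0 := by
  unfold extz
  rw [dif_pos hj]

theorem extz_of_not_mem (r : {j : Unit ⊕ (Fin m ⊕ Fin m) // j ∉ sset m i0 i1} → F)
    (j : Unit ⊕ (Fin m ⊕ Fin m)) (hj : j ∉ sset m i0 i1) : extz m i0 i1 r j = r ⟨j, hj⟩ := by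
  unfold extz
  rw [dif_neg hj]

/-- the family of vectors of level `c` -/
def fam (c : F) (r : {j : Unit ⊕ (Fin m ⊕ Fin m) // j ∉ sset m i0 i1} → F) :
    Unit ⊕ (Fin m ⊕ Fin m) → F :=
  extz m i0 i1 r + Pi.single (Sum.inr (Sum.inl i1)) 1
    + Pi.single (Sum.inr (Sum.inr i1)) (c - Cfsg.quadFormOdd m F (extz m i0 i1 r))

theorem fam_x0 (h01 : i0 ≠ i1) (c : F)
    (r : {j : Unit ⊕ (Fin m ⊕ Fin m) // j ∉ sset m i0 i1} → F) :
    fam m i0 i1 c r (Sum.inr (Sum.inl i0)) = 0 := by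
  unfold fam
  rw [Pi.add_apply, Pi.add_apply, extz_of_mem m i0 i1 r _ (by simp [sset]),
    Pi.single_eq_of_ne (by simp [h01]), Pi.single_eq_of_ne (by simp)]
  simp

theorem fam_y0 (h01 : i0 ≠ i1) (c : F)
    (r : {j : Unit ⊕ (Fin m ⊕ Fin m) // j ∉ sset m i0 i1} → F) :
    fam m i0 i1 c r (Sum.inr (Sum.inr i0)) = 0 := by
  unfold fam
  rw [Pi.add_apply, Pi.add_apply, extz_of_mem m i0 i1 r _ (by simp [sset]),
    Pi.single_eq_of_ne (by simp), Pi.single_eq_of_ne (by simp [h01])]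
  simp

theorem fam_x1 (c : F)
    (r : {j : Unit ⊕ (Fin m ⊕ Fin m) // j ∉ sset m i0 i1} → F) :
    fam m i0 i1 c r (Sum.inr (Sum.inl i1)) = 1 := by
  unfold fam
  rw [Pi.add_apply, Pi.add_apply, extz_of_mem m i0 i1 r _ (by simp [sset]),
    Pi.single_eq_same, Pi.single_eq_of_ne (by simp)]
  simp

theorem fam_of_not_mem (c : F)
    (r : {j : Unit ⊕ (Fin m ⊕ Fin m) // j ∉ sset m i0 i1} → F)
    (j : Unit ⊕ (Fin m ⊕ Fin m)) (hj : j ∉ sset m i0 i1) :
    fam m i0 i1 c r j = r ⟨j, hj⟩ := by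
  have h1 : j ≠ Sum.inr (Sum.inl i1) := by
    rintro rfl
    apply hj
    simp [sset]
  have h2 : j ≠ Sum.inr (Sum.inr i1) := by
    rintro rfl
    apply hj
    simp [sset]
  unfold fam
  rw [Pi.add_apply, Pi.add_apply, extz_of_not_mem m i0 i1 r _ hj,
    Pi.single_eq_of_ne h1, Pi.single_eq_of_ne h2]
  simp

theorem fam_injective (c : F) : Function.Injective (fam m i0 i1 (F := F) c) := by
  intro r r' h
  funext ⟨j, hj⟩
  rw [← fam_of_not_mem m i0 i1 c r j hj, ← fam_of_not_mem m i0 i1 c r' j hj, h]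

theorem fam_ne_zero (c : F)
    (r : {j : Unit ⊕ (Fin m ⊕ Fin m) // j ∉ sset m i0 i1} → F) : fam m i0 i1 c r ≠ 0 := by
  intro h
  have := fam_x1 m i0 i1 c r
  rw [h] at this
  simp at this

theorem polar_smul_single_y (i : Fin m) (t : F) (b : Unit ⊕ (Fin m ⊕ Fin m) → F) :
    QuadraticMap.polar (Cfsg.quadFormOdd m F) (Pi.single (Sum.inr (Sum.inr i)) t) b
      = t * b (Sum.inr (Sum.inl i)) := by
  rw [polar_quadFormOdd_eq]
  simp [Pi.single_apply, Finset.sum_ite_eq]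

theorem quadFormOdd_fam (c : F)
    (r : {j : Unit ⊕ (Fin m ⊕ Fin m) // j ∉ sset m i0 i1} → F) :
    Cfsg.quadFormOdd m F (fam m i0 i1 c r) = c := by
  have hadd : ∀ x y : Unit ⊕ (Fin m ⊕ Fin m) → F, Cfsg.quadFormOdd m F (x + y)
      = Cfsg.quadFormOdd m F x + Cfsg.quadFormOdd m F y
        + QuadraticMap.polar (Cfsg.quadFormOdd m F) x y := by
    intro x y
    unfold QuadraticMap.polar
    ring
  unfold fam
  rw [hadd, hadd, quadFormOdd_single_x, quadFormOdd_single_y,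
    QuadraticMap.polar_comm _ (extz m i0 i1 r), polar_single_x,
    QuadraticMap.polar_comm _ _ (Pi.single (Sum.inr (Sum.inr i1)) _), polar_smul_single_y,
    extz_of_mem m i0 i1 r _ (by simp [sset]), Pi.add_apply,
    extz_of_mem m i0 i1 r _ (by simp [sset]), Pi.single_eq_same]
  ring

end family

section final

variable {F : Type*} [Field F] [Fintype F]

/-- **Landazuri–Seitz type bound**: a non-trivial irreducible complex representation of
`PΩ_{2m+1}(q)`, `q` odd, `m ≥ 3`, has degree at least `q^(2m-3)`. -/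
theorem POmega_odd_degree_ge (hodd : Odd (Fintype.card F)) (m : ℕ) (hm : 3 ≤ m) {k : ℕ}
    (ρ : Representation ℂ (Cfsg.POmega F (Cfsg.quadFormOdd m F)) (Fin k → ℂ))
    (hirr : ρ.IsIrreducible) (hk : 2 ≤ k) : Fintype.card F ^ (2 * m - 3) ≤ k := by
  classical
  have h2 : (2 : F) ≠ 0 := two_ne_zero_of_odd_card43 hodd
  set d := qdataOdd43 (F := F) m h2 with hd
  have hcardι : Fintype.card (Unit ⊕ (Fin m ⊕ Fin m)) = 2 * m + 1 := by
    rw [Fintype.card_sum, Fintype.card_sum, Fintype.card_fin, Fintype.card_unit]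
    omega
  have hn : 7 ≤ Fintype.card (Unit ⊕ (Fin m ⊕ Fin m)) := by
    rw [hcardι]
    omega
  let i0 : Fin m := ⟨0, by omega⟩
  let i1 : Fin m := ⟨1, by omega⟩
  have h01 : i0 ≠ i1 := by
    intro h
    have := congrArg Fin.val h
    simp [i0, i1] at this
  set u : Unit ⊕ (Fin m ⊕ Fin m) → F := Pi.single (Sum.inr (Sum.inl i0)) 1 with hu
  set u' : Unit ⊕ (Fin m ⊕ Fin m) → F := Pi.single (Sum.inr (Sum.inr i0)) 1 with hu'
  have hpol : ∀ a b, QuadraticMap.polarBilin d.qf a b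
      = QuadraticMap.polar (Cfsg.quadFormOdd m F) a b := by
    intro a b
    rfl
  have hQu : d.qf u = 0 := quadFormOdd_single_x m i0 1
  have huu' : QuadraticMap.polarBilin d.qf u u' = 1 := by
    rw [hpol, hu, polar_single_x, hu', Pi.single_eq_same]
  have hu0 : u ≠ 0 := by
    intro h
    have := congrFun h (Sum.inr (Sum.inl i0))
    rw [hu, Pi.single_eq_same] at this
    simp at this
  obtain ⟨c, hc⟩ := exists_level_card_le d.qf d.qf_nondeg hn u u' hQu huu' ρ hirr hk hu0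
  have h3 := hc (Finset.univ.image (fam m i0 i1 c)) (by
    intro b hb
    obtain ⟨r, _, rfl⟩ := Finset.mem_image.1 hb
    refine ⟨fam_ne_zero m i0 i1 c r, ?_, ?_, quadFormOdd_fam m i0 i1 c r⟩
    · rw [hpol, hu, polar_single_x, fam_y0 m i0 i1 h01]
    · rw [hpol, hu', polar_single_y, fam_x0 m i0 i1 h01])
  rw [Finset.card_image_of_injective _ (fam_injective m i0 i1 c), Finset.card_univ,
    Fintype.card_fun] at h3
  have h4 : Fintype.card {j : Unit ⊕ (Fin m ⊕ Fin m) // j ∉ sset m i0 i1} = 2 * m - 3 := by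
    rw [Fintype.card_subtype_compl, Fintype.card_coe, hcardι, card_sset m i0 i1 h01]
    omega
  rw [h4] at h3
  exact h3

end final

end Cfsg.Agent.Lib.Helper46.OmegaDeg
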