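import Mathlib
import Cfsg.Agent.Lib.Helper49.OrthExist

set_option autoImplicit false

/-!
# Prime graphs of `B_n(q)` and `C_n(q)`: orthogonal sums and explicit small spaces
-/

namespace Cfsg.Agent.Lib.Helper46.PG

open Module

section order

theorem orderOf_eq_of_forall {G : Type*} [Monoid G] (g : G) (N : ℕ)
    (h : ∀ j : ℕ, g ^ j = 1 ↔ N ∣ j) : orderOf g = N := by
  apply Nat.dvd_antisymm
  · exact orderOf_dvd_of_pow_eq_one ((h N).mpr dvd_rfl)
  · exact (h _).mp (pow_orderOf_eq_one g)

end order

section prodmap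

variable {F : Type*} [Field F] {V W : Type*} [AddCommGroup V] [Module F V] [AddCommGroup W]
  [Module F W]

theorem prodMap_pow' (a : Module.End F V) (b : Module.End F W) (j : ℕ) :
    (a.prodMap b : Module.End F (V × W)) ^ j = (a ^ j).prodMap (b ^ j) := by
  induction j with
  | zero => rw [pow_zero, pow_zero, pow_zero, LinearMap.prodMap_one]
  | succ j ih => rw [pow_succ, ih, pow_succ, pow_succ, LinearMap.prodMap_mul]

theorem prodMap_eq_one_iff (a : Module.End F V) (b : Module.End F W) :
    (a.prodMap b : Module.End F (V × W)) = 1 ↔ a = 1 ∧ b = 1 := by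
  constructor
  · intro h
    constructor
    · ext v
      have := congrArg (fun f : Module.End F (V × W) => (f (v, 0)).1) h
      simpa using this
    · ext w
      have := congrArg (fun f : Module.End F (V × W) => (f (0, w)).2) h
      simpa using this
  · rintro ⟨rfl, rfl⟩
    exact LinearMap.prodMap_one

theorem prodMap_eq_neg_one_iff (a : Module.End F V) (b : Module.End F W) :
    (a.prodMap b : Module.End F (V × W)) = -1 ↔ a = -1 ∧ b = -1 := by
  constructor
  · intro h
    constructor
    · ext v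
      have := congrArg (fun f : Module.End F (V × W) => (f (v, 0)).1) h
      simpa using this
    · ext w
      have := congrArg (fun f : Module.End F (V × W) => (f (0, w)).2) h
      simpa using this
  · rintro ⟨rfl, rfl⟩
    ext x <;> simp

theorem prod_isometry (Q₁ : QuadraticForm F V) (Q₂ : QuadraticForm F W) (a : Module.End F V)
    (b : Module.End F W) (ha : ∀ v, Q₁ (a v) = Q₁ v) (hb : ∀ w, Q₂ (b w) = Q₂ w) (x : V × W) :
    (Q₁.prod Q₂) ((a.prodMap b) x) = (Q₁.prod Q₂) x := by
  simp only [QuadraticMap.prod_apply, LinearMap.prodMap_apply, ha, hb]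

/-- orthogonal sum of two bilinear forms -/
noncomputable def bprod (ω₁ : LinearMap.BilinForm F V) (ω₂ : LinearMap.BilinForm F W) :
    LinearMap.BilinForm F (V × W) :=
  ω₁.compl₁₂ (LinearMap.fst F V W) (LinearMap.fst F V W) +
    ω₂.compl₁₂ (LinearMap.snd F V W) (LinearMap.snd F V W)

theorem bprod_apply (ω₁ : LinearMap.BilinForm F V) (ω₂ : LinearMap.BilinForm F W) (x y : V × W) :
    bprod ω₁ ω₂ x y = ω₁ x.1 y.1 + ω₂ x.2 y.2 := by
  simp [bprod]

theorem bprod_alt (ω₁ : LinearMap.BilinForm F V) (ω₂ : LinearMap.BilinForm F W)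
    (h₁ : ∀ v, ω₁ v v = 0) (h₂ : ∀ w, ω₂ w w = 0) (x : V × W) : bprod ω₁ ω₂ x x = 0 := by
  rw [bprod_apply, h₁, h₂, add_zero]

theorem bprod_sepLeft (ω₁ : LinearMap.BilinForm F V) (ω₂ : LinearMap.BilinForm F W)
    (h₁ : ∀ v, (∀ v', ω₁ v v' = 0) → v = 0) (h₂ : ∀ w, (∀ w', ω₂ w w' = 0) → w = 0)
    (x : V × W) (hx : ∀ y, bprod ω₁ ω₂ x y = 0) : x = 0 := by
  apply Prod.ext
  · apply h₁
    intro v'
    have := hx (v', 0)
    rw [bprod_apply] at this
    simpa using this
  · apply h₂
    intro w'
    have := hx (0, w')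
    rw [bprod_apply] at this
    simpa using this

theorem bprod_isometry (ω₁ : LinearMap.BilinForm F V) (ω₂ : LinearMap.BilinForm F W)
    (a : Module.End F V) (b : Module.End F W) (ha : ∀ u v, ω₁ (a u) (a v) = ω₁ u v)
    (hb : ∀ u v, ω₂ (b u) (b v) = ω₂ u v) (x y : V × W) :
    bprod ω₁ ω₂ ((a.prodMap b) x) ((a.prodMap b) y) = bprod ω₁ ω₂ x y := by
  simp only [bprod_apply, LinearMap.prodMap_apply, ha, hb]

/-- an alternating left-separating form is non-degenerate -/
theorem nondegenerate_of_alt_sepLeft (ω : LinearMap.BilinForm F V) (halt : ∀ v, ω v v = 0)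
    (h : ∀ v, (∀ v', ω v v' = 0) → v = 0) : ω.Nondegenerate := by
  have hskew : ∀ u v, ω u v = - ω v u := by
    intro u v
    have := halt (u + v)
    simp only [map_add, LinearMap.add_apply, halt] at this
    linear_combination this
  refine ⟨h, ?_⟩
  intro y hy
  apply h
  intro x
  rw [hskew, hy x, neg_zero]

end prodmap

section diag

variable {F : Type*} [Field F]

/-- the sum of squares on `F^k` -/
noncomputable def dQ (F : Type*) [Field F] (k : ℕ) : QuadraticForm F (Fin k → F) :=
  QuadraticMap.weightedSumSquares F (fun _ : Fin k => (1 : F))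

theorem dQ_apply (k : ℕ) (v : Fin k → F) : dQ F k v = ∑ i, v i * v i := by
  unfold dQ
  rw [QuadraticMap.weightedSumSquares_apply]
  simp

theorem dQ_QND (h2 : (2 : F) ≠ 0) (k : ℕ) : Cfsg.Agent.Lib.Helper50.QND (dQ F k) := by
  classical
  intro x hx
  funext i
  have h := hx (Pi.single i 1)
  unfold QuadraticMap.polar at h
  rw [dQ_apply, dQ_apply, dQ_apply, ← Finset.sum_sub_distrib, ← Finset.sum_sub_distrib] at h
  rw [Finset.sum_eq_single i] at h
  · simp only [Pi.add_apply, Pi.single_eq_same] at h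
    have h3 : 2 * x i = 0 := by linear_combination h
    rcases mul_eq_zero.mp h3 with h4 | h4
    · exact absurd h4 h2
    · exact h4
  · intro j _ hji
    simp only [Pi.add_apply, Pi.single_eq_of_ne hji]
    ring
  · intro hi
    exact absurd (Finset.mem_univ i) hi

theorem finrank_dQ (k : ℕ) : finrank F (Fin k → F) = k := by
  rw [Module.finrank_fintype_fun_eq_card, Fintype.card_fin]

end diag

section H3

variable {F : Type*} [Field F]

/-- the form `a b + c²` on `F³` -/
noncomputable def Q3 (F : Type*) [Field F] : QuadraticForm F (F × F × F) :=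
  QuadraticMap.linMulLin (LinearMap.fst F F (F × F))
      ((LinearMap.fst F F F).comp (LinearMap.snd F F (F × F))) +
    QuadraticMap.sq.comp ((LinearMap.snd F F F).comp (LinearMap.snd F F (F × F)))

theorem Q3_apply (v : F × F × F) : Q3 F v = v.1 * v.2.1 + v.2.2 * v.2.2 := by
  unfold Q3
  simp

theorem Q3_QND (h2 : (2 : F) ≠ 0) : Cfsg.Agent.Lib.Helper50.QND (Q3 F) := by
  intro x hx
  have h1 := hx (1, 0, 0)
  have h2' := hx (0, 1, 0)
  have h3 := hx (0, 0, 1)
  unfold QuadraticMap.polar at h1 h2' h3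
  simp only [Q3_apply, Prod.fst_add, Prod.snd_add] at h1 h2' h3
  have e1 : x.2.1 = 0 := by linear_combination h1
  have e2 : x.1 = 0 := by linear_combination h2'
  have e3 : 2 * x.2.2 = 0 := by linear_combination h3
  have e4 : x.2.2 = 0 := (mul_eq_zero.mp e3).resolve_left h2
  exact Prod.ext e2 (Prod.ext e1 e4)

/-- a unipotent isometry of `a b + c²` -/
def U3 (F : Type*) [Field F] : Module.End F (F × F × F) where
  toFun v := (v.1 - v.2.1 + 2 * v.2.2, v.2.1, v.2.2 - v.2.1)
  map_add' := by
    intro x y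
    ext <;> simp <;> ring
  map_smul' := by
    intro c x
    ext <;> simp <;> ring

theorem U3_apply (v : F × F × F) :
    U3 F v = (v.1 - v.2.1 + 2 * v.2.2, v.2.1, v.2.2 - v.2.1) := rfl

theorem U3_isometry (v : F × F × F) : Q3 F (U3 F v) = Q3 F v := by
  rw [Q3_apply, Q3_apply, U3_apply]
  ring

theorem U3_pow_apply (j : ℕ) (v : F × F × F) :
    (U3 F ^ j) v = (v.1 - (j : F) ^ 2 * v.2.1 + 2 * (j : F) * v.2.2, v.2.1,
      v.2.2 - (j : F) * v.2.1) := by
  induction j with
  | zero => simp
  | succ j ih =>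
    rw [pow_succ', Module.End.mul_apply, ih, U3_apply]
    ext <;> simp <;> ring

theorem U3_pow_eq_one_iff (p : ℕ) [CharP F p] (j : ℕ) : U3 F ^ j = 1 ↔ p ∣ j := by
  rw [← CharP.cast_eq_zero_iff F p j]
  constructor
  · intro h
    have := congrArg (fun f : Module.End F (F × F × F) => (f (0, 1, 0)).2.2) h
    simp only [U3_pow_apply, Module.End.one_apply] at this
    linear_combination -this
  · intro h
    apply LinearMap.ext
    intro v
    rw [U3_pow_apply, h]
    simp

theorem finrank_F3 : finrank F (F × F × F) = 3 := by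
  rw [Module.finrank_prod, Module.finrank_prod, Module.finrank_self]

end H3

section P2

variable {F : Type*} [Field F]

/-- the form `a² + b²` on `F²` -/
noncomputable def Q2 (F : Type*) [Field F] : QuadraticForm F (F × F) :=
  (QuadraticMap.sq (R := F)).prod (QuadraticMap.sq (R := F))

theorem Q2_apply (v : F × F) : Q2 F v = v.1 * v.1 + v.2 * v.2 := by
  unfold Q2
  simp

theorem Q2_QND (h2 : (2 : F) ≠ 0) : Cfsg.Agent.Lib.Helper50.QND (Q2 F) := by
  intro x hx
  have h1 := hx (1, 0)
  have h2' := hx (0, 1)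
  unfold QuadraticMap.polar at h1 h2'
  simp only [Q2_apply, Prod.fst_add, Prod.snd_add] at h1 h2'
  have e1 : 2 * x.1 = 0 := by linear_combination h1
  have e2 : 2 * x.2 = 0 := by linear_combination h2'
  exact Prod.ext ((mul_eq_zero.mp e1).resolve_left h2) ((mul_eq_zero.mp e2).resolve_left h2)

/-- the rotation by a quarter turn -/
def R2 (F : Type*) [Field F] : Module.End F (F × F) where
  toFun v := (-v.2, v.1)
  map_add' := by
    intro x y
    ext <;> simp <;> ring
  map_smul' := by
    intro c x
    ext <;> simp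

theorem R2_apply (v : F × F) : R2 F v = (-v.2, v.1) := rfl

theorem R2_isometry (v : F × F) : Q2 F (R2 F v) = Q2 F v := by
  rw [Q2_apply, Q2_apply, R2_apply]
  ring

theorem R2_sq : R2 F * R2 F = -1 := by
  ext v <;> simp [R2_apply]

theorem neg_one_pow_eq_one_iff {V : Type*} [AddCommGroup V] [Module F V] [Nontrivial V]
    (h2 : (2 : F) ≠ 0) (j : ℕ) : (-1 : Module.End F V) ^ j = 1 ↔ 2 ∣ j := by
  constructor
  · intro h
    by_contra hj
    have hodd : Odd j := Nat.odd_iff.mpr (by omega)
    rw [hodd.neg_one_pow] at h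
    obtain ⟨v, hv⟩ := exists_ne (0 : V)
    apply hv
    have := congrArg (fun f : Module.End F V => f v) h
    simp only [LinearMap.neg_apply, Module.End.one_apply] at this
    have h3 : (2 : F) • v = 0 := by
      rw [two_smul]
      nth_rewrite 1 [← this]
      simp
    exact (smul_eq_zero.mp h3).resolve_left h2
  · rintro ⟨k, rfl⟩
    rw [pow_mul]
    simp

theorem finrank_F2 : finrank F (F × F) = 2 := by
  rw [Module.finrank_prod, Module.finrank_self]

end P2

end Cfsg.Agent.Lib.Helper46.PG
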