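import Mathlib
import Cfsg.Agent.Lib.Helper46.PGSum
import Cfsg.Agent.Lib.Helper50.WittMain
import Cfsg.Agent.Lib.Helper50.SumForm
import Cfsg.Agent.Lib.Helper49.OrthCount
import Cfsg.Agent.Lib.Helper08.OmegaStd
import Cfsg.Agent.Lib.Helper50.SpinorCrit

set_option autoImplicit false

/-!
# Prime graphs of `B_n(q)` and `C_n(q)`: realising abstract isometries in `PΩ_{2n+1}(q)`
-/

namespace Cfsg.Agent.Lib.Helper46.PG

open Module Matrix

section center

variable {F : Type*} [Field F] [Fintype F]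

/-- the centre of `Ω_{2n+1}(q)` is trivial (`q` odd, `n ≥ 3`) -/
theorem center_Omega_odd_eq_bot (h2 : (2 : F) ≠ 0) (n : ℕ) (hn : 3 ≤ n) :
    Subgroup.center ↥(Cfsg.Omega F (Cfsg.quadFormOdd n F)) = ⊥ := by
  classical
  set d := Cfsg.Agent.Lib.Helper08.qdataOdd (F := F) n h2 with hd
  set Q : QuadraticForm F (Unit ⊕ (Fin n ⊕ Fin n) → F) := d.qf with hQ
  have HT := Cfsg.Agent.Lib.Helper08.hypTriple_odd (F := F) n hn h2
  have RP := Cfsg.Agent.Lib.Helper08.reflPairs_of_two_ne_zero (Q := Q) h2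
  have hcen : Nat.card (Subgroup.center ↥(Cfsg.Omega F ⇑Q)) = 1 := by
    apply Cfsg.Agent.Lib.Helper08.card_center_Omega_of_not d.qf_nondeg _ _ HT RP
    right
    rintro ⟨g, hgO, hgm⟩
    have h1 : Cfsg.Agent.Lib.Helper50.detHom (⇑Q) g = 1 :=
      Abelianization.commutator_subset_ker _ hgO
    have h3 := Cfsg.Agent.Lib.Helper50.detHom_val (⇑Q) g
    rw [h1, hgm, Matrix.det_neg, Matrix.det_one, mul_one] at h3
    have hodd : Odd (Fintype.card (Unit ⊕ (Fin n ⊕ Fin n))) := by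
      rw [Fintype.card_sum, Fintype.card_sum, Fintype.card_fin, Fintype.card_unit]
      exact ⟨n, by omega⟩
    rw [hodd.neg_one_pow] at h3
    apply h2
    have h4 : ((1 : Fˣ) : F) = -1 := h3
    rw [Units.val_one] at h4
    linear_combination h4
  exact Subgroup.eq_bot_of_card_eq _ hcen

/-- orders of elements of `Ω` are orders of elements of `PΩ` -/
theorem mem_range_POmega_of_mem_Omega (h2 : (2 : F) ≠ 0) (n : ℕ) (hn : 3 ≤ n)
    (g : ↥(Cfsg.isometryGroup F (Cfsg.quadFormOdd n F)))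
    (hg : g ∈ Cfsg.Omega F (Cfsg.quadFormOdd n F)) :
    orderOf g ∈ Set.range (orderOf : Cfsg.POmega F (Cfsg.quadFormOdd n F) → ℕ) := by
  have hbot := center_Omega_odd_eq_bot h2 n hn
  have hinj : Function.Injective
      (QuotientGroup.mk' (Subgroup.center ↥(Cfsg.Omega F (Cfsg.quadFormOdd n F)))) := by
    rw [← MonoidHom.ker_eq_bot_iff, QuotientGroup.ker_mk']
    exact hbot
  refine ⟨QuotientGroup.mk' _ ⟨g, hg⟩, ?_⟩
  rw [orderOf_injective _ hinj]
  exact (Subgroup.orderOf_coe (⟨g, hg⟩ : ↥(Cfsg.Omega F (Cfsg.quadFormOdd n F)))).symm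

/-- every element of `PΩ` comes from an element of `Ω` of the same order -/
theorem exists_Omega_of_POmega (h2 : (2 : F) ≠ 0) (n : ℕ) (hn : 3 ≤ n)
    (x : Cfsg.POmega F (Cfsg.quadFormOdd n F)) :
    ∃ g : ↥(Cfsg.isometryGroup F (Cfsg.quadFormOdd n F)),
      g ∈ Cfsg.Omega F (Cfsg.quadFormOdd n F) ∧ orderOf g = orderOf x := by
  have hbot := center_Omega_odd_eq_bot h2 n hn
  have hinj : Function.Injective
      (QuotientGroup.mk' (Subgroup.center ↥(Cfsg.Omega F (Cfsg.quadFormOdd n F)))) := by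
    rw [← MonoidHom.ker_eq_bot_iff, QuotientGroup.ker_mk']
    exact hbot
  obtain ⟨g, rfl⟩ := QuotientGroup.mk_surjective x
  refine ⟨g.1, g.2, ?_⟩
  rw [Subgroup.orderOf_coe g]
  exact (orderOf_injective _ hinj g).symm

end center

section bridge

variable {F : Type*} [Field F] [Fintype F]

/-- **Realisation.** The square of an isometry of a non-degenerate quadratic space of dimension
`2n+1` gives an element of `PΩ_{2n+1}(q)` of the same order. -/
theorem exists_POmega_of_isometry (h2 : (2 : F) ≠ 0) (n : ℕ) (hn : 3 ≤ n)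
    {V₁ : Type*} [AddCommGroup V₁] [Module F V₁] [FiniteDimensional F V₁]
    (Q₁ : QuadraticForm F V₁) (hQ₁ : Cfsg.Agent.Lib.Helper50.QND Q₁)
    (hdim : finrank F V₁ = 2 * n + 1)
    (h : Module.End F V₁) (hh : ∀ v, Q₁ (h v) = Q₁ v) (N : ℕ) (hN : 0 < N)
    (hord : ∀ j : ℕ, (h * h) ^ j = 1 ↔ N ∣ j) :
    N ∈ Set.range (orderOf : Cfsg.POmega F (Cfsg.quadFormOdd n F) → ℕ) := by
  classical
  -- `h` is invertible
  have hpow : h ^ (2 * N) = 1 := by
    have := (hord N).mpr dvd_rfl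
    rwa [← pow_two, ← pow_mul] at this
  have e1 : h ∘ₗ (h ^ (2 * N - 1)) = LinearMap.id := by
    have : h * h ^ (2 * N - 1) = 1 := by
      rw [← pow_succ', Nat.sub_add_cancel (by omega), hpow]
    exact this
  have e2 : (h ^ (2 * N - 1)) ∘ₗ h = LinearMap.id := by
    have : h ^ (2 * N - 1) * h = 1 := by
      rw [← pow_succ, Nat.sub_add_cancel (by omega), hpow]
    exact this
  let hE : V₁ ≃ₗ[F] V₁ := LinearEquiv.ofLinearMap h (h ^ (2 * N - 1)) e1 e2
  have hhE : ∀ v, hE v = h v := fun v => rfl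
  -- the type of the form
  obtain ⟨m, c, hm, hc, φ, hφ⟩ : ∃ (m : ℕ) (c : F), 2 * n + 1 = 2 * m + 1 ∧ c ≠ 0 ∧
      Cfsg.Agent.Lib.Helper50.IsOddType Q₁ m c := by
    rcases Cfsg.Agent.Lib.Helper50.witt_type (2 * n + 1) Q₁ hdim hQ₁ with
      ⟨m, hm, -⟩ | ⟨m, ζ, hm, -, -⟩ | ⟨m, c, hm, hc, ht⟩
    · omega
    · omega
    · exact ⟨m, c, hm, hc, ht⟩
  obtain rfl : n = m := by omega
  let ψ : V₁ ≃ₗ[F] (Unit ⊕ (Fin n ⊕ Fin n) → F) :=
    φ.trans (Cfsg.Agent.Lib.Helper49.oddScale n c hc)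
  have hψ : ∀ v, Cfsg.quadFormOdd n F (ψ v) = c⁻¹ * Q₁ v := by
    intro v
    show Cfsg.quadFormOdd n F (Cfsg.Agent.Lib.Helper49.oddScale n c hc (φ v)) = _
    rw [Cfsg.Agent.Lib.Helper49.quadFormOdd_oddScale, hφ]
  set Q := Cfsg.Agent.Lib.Helper50.QOdd n F with hQdef
  have hQcoe : ∀ v, Q v = Cfsg.quadFormOdd n F v := fun v => rfl
  let e : (Unit ⊕ (Fin n ⊕ Fin n) → F) ≃ₗ[F] (Unit ⊕ (Fin n ⊕ Fin n) → F) :=
    ψ.symm.trans (hE.trans ψ)
  have he : ∀ w, e w = ψ (h (ψ.symm w)) := fun w => rfl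
  have heQ : ∀ w, Q (e w) = Q w := by
    intro w
    rw [hQcoe, hQcoe, he, hψ, hh, ← hψ, ψ.apply_symm_apply]
  obtain ⟨g₀, hg₀⟩ := Cfsg.Agent.Lib.Helper49.exists_isometryGroup_of_equiv Q e heQ
  have hQnd : (QuadraticMap.polarBilin Q).Nondegenerate :=
    Cfsg.Agent.Lib.Helper49.QOdd_nondegenerate n h2
  have h24 : Fintype.card F ≠ 2 ∨ Fintype.card (Unit ⊕ (Fin n ⊕ Fin n)) ≠ 4 := by
    right
    rw [Fintype.card_sum, Fintype.card_sum, Fintype.card_fin, Fintype.card_unit]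
    omega
  have hgO : g₀ * g₀ ∈ Cfsg.Omega F (⇑Q) :=
    Cfsg.Agent.Lib.Helper50.mul_self_mem_Omega Q hQnd h24 g₀
  -- powers
  have hpowlin : ∀ (k : ℕ) (w : Unit ⊕ (Fin n ⊕ Fin n) → F),
      ((Matrix.toLin' (Cfsg.Agent.Lib.Helper49.omat Q g₀)) ^ k) w = ψ ((h ^ k) (ψ.symm w)) := by
    intro k
    induction k with
    | zero => intro w; simp
    | succ k ih =>
      intro w
      rw [pow_succ, Module.End.mul_apply, ih, hg₀, LinearEquiv.coe_coe, he, ψ.symm_apply_apply,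
        pow_succ, Module.End.mul_apply]
  have hiff : ∀ j : ℕ, (g₀ * g₀) ^ j = 1 ↔ N ∣ j := by
    intro j
    rw [← hord j, ← pow_two, ← pow_mul, ← pow_two, ← pow_mul]
    constructor
    · intro hj
      have h1 : Cfsg.Agent.Lib.Helper49.omat Q (g₀ ^ (2 * j)) = 1 := by
        rw [hj, Cfsg.Agent.Lib.Helper49.omat_one]
      rw [Cfsg.Agent.Lib.Helper49.omat_pow] at h1
      apply LinearMap.ext
      intro v
      have h3 := hpowlin (2 * j) (ψ v)
      rw [← Matrix.toLin'_pow, h1, Matrix.toLin'_one, ψ.symm_apply_apply] at h3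
      rw [Module.End.one_apply]
      apply ψ.injective
      rw [← h3]
      rfl
    · intro hj
      apply Cfsg.Agent.Lib.Helper49.omat_injective Q
      rw [Cfsg.Agent.Lib.Helper49.omat_pow, Cfsg.Agent.Lib.Helper49.omat_one]
      apply Matrix.toLin'.injective
      rw [Matrix.toLin'_pow, Matrix.toLin'_one]
      apply LinearMap.ext
      intro w
      rw [hpowlin, hj, Module.End.one_apply, ψ.apply_symm_apply, LinearMap.id_apply]
  have hordg : orderOf (g₀ * g₀) = N := orderOf_eq_of_forall _ N hiff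
  rw [← hordg]
  exact mem_range_POmega_of_mem_Omega h2 n hn (g₀ * g₀) hgO

/-- **Realisation of an orthogonal sum.** -/
theorem orthReal (h2 : (2 : F) ≠ 0) (n : ℕ) (hn : 3 ≤ n)
    {W : Type*} [AddCommGroup W] [Module F W] [FiniteDimensional F W]
    {C : Type*} [AddCommGroup C] [Module F C] [FiniteDimensional F C]
    (QW : QuadraticForm F W) (hQW : Cfsg.Agent.Lib.Helper50.QND QW)
    (QC : QuadraticForm F C) (hQC : Cfsg.Agent.Lib.Helper50.QND QC)
    (hdim : finrank F W + finrank F C ≤ 2 * n + 1)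
    (hW : Module.End F W) (hhW : ∀ v, QW (hW v) = QW v)
    (hC : Module.End F C) (hhC : ∀ v, QC (hC v) = QC v) (N : ℕ) (hN : 0 < N)
    (hord : ∀ j : ℕ, ((hW * hW) ^ j = 1 ∧ (hC * hC) ^ j = 1) ↔ N ∣ j) :
    N ∈ Set.range (orderOf : Cfsg.POmega F (Cfsg.quadFormOdd n F) → ℕ) := by
  obtain ⟨k, hk⟩ : ∃ k, k = 2 * n + 1 - (finrank F W + finrank F C) := ⟨_, rfl⟩
  apply exists_POmega_of_isometry h2 n hn ((QW.prod QC).prod (dQ F k))
    (Cfsg.Agent.Lib.Helper49.QND_prod _ _ (Cfsg.Agent.Lib.Helper49.QND_prod _ _ hQW hQC)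
      (dQ_QND h2 k))
    (by rw [Module.finrank_prod, Module.finrank_prod, finrank_dQ]; omega)
    ((hW.prodMap hC).prodMap (1 : Module.End F (Fin k → F)))
    (fun v => prod_isometry _ _ _ _ (fun x => prod_isometry _ _ _ _ hhW hhC x) (fun _ => rfl) v)
    N hN
  intro j
  rw [← hord j]
  have e : ((hW.prodMap hC).prodMap (1 : Module.End F (Fin k → F))) *
      ((hW.prodMap hC).prodMap (1 : Module.End F (Fin k → F))) =
      (((hW * hW).prodMap (hC * hC)).prodMap (1 : Module.End F (Fin k → F))) := by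
    rw [LinearMap.prodMap_mul, LinearMap.prodMap_mul, mul_one]
  rw [e, prodMap_pow', prodMap_pow', prodMap_eq_one_iff, prodMap_eq_one_iff, one_pow]
  constructor
  · rintro ⟨h, -⟩; exact h
  · intro h; exact ⟨h, rfl⟩

end bridge

end Cfsg.Agent.Lib.Helper46.PG
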