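import Mathlib
import Cfsg.Agent.Lib.Helper46.PGSum
import Cfsg.Agent.Lib.Helper20.SympEmbed
import Cfsg.Agent.Lib.Helper18.SympWitt
import Cfsg.Agent.Lib.Helper18.SympTrans
import Cfsg.Agent.Lib.Helper07.SpCenter
import Cfsg.Prelude.Def_Classical

set_option autoImplicit false

/-!
# Prime graphs of `B_n(q)` and `C_n(q)`: realising abstract symplectic isometries in `PSp_{2n}(q)`
-/

namespace Cfsg.Agent.Lib.Helper46.PG

open Module Matrix

section sp

variable {F : Type*} [Field F]

/-- an isometry of a non-degenerate alternating space of dimension `2n` gives a symplectic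
matrix with the same powers equal to `±1` -/
theorem exists_Sp_of_isometry (n : ℕ) {V₂ : Type*} [AddCommGroup V₂] [Module F V₂]
    [FiniteDimensional F V₂] (ω : LinearMap.BilinForm F V₂) (halt : ∀ v, ω v v = 0)
    (hsep : ∀ v, (∀ v', ω v v' = 0) → v = 0) (hdim : finrank F V₂ = 2 * n)
    (g : Module.End F V₂) (hg : ∀ u v, ω (g u) (g v) = ω u v) :
    ∃ A : Matrix.symplecticGroup (Fin n) F,
      ∀ j : ℕ, (A ^ j = 1 ↔ g ^ j = 1) ∧ ((A ^ j).1 = -1 ↔ g ^ j = -1) := by
  classical
  have hA : ω.IsAlt := fun v => halt v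
  have hND := nondegenerate_of_alt_sepLeft ω halt hsep
  obtain ⟨b, hb⟩ := Cfsg.Agent.Lib.Helper20.exists_symplectic_basis ω hA hND n hdim
  set M := LinearMap.toMatrix b b g with hMdef
  have hcomp : ω.comp g g = ω := by
    ext u v
    simp [hg]
  have hM : Mᵀ * Matrix.J (Fin n) F * M = Matrix.J (Fin n) F := by
    have := LinearMap.BilinForm.toMatrix_comp b b ω g g
    rw [hcomp, hb] at this
    exact this.symm
  have hmem : M ∈ Matrix.symplecticGroup (Fin n) F := SymplecticGroup.mem_iff'.mpr hM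
  refine ⟨⟨M, hmem⟩, fun j => ?_⟩
  have hval : ((⟨M, hmem⟩ : Matrix.symplecticGroup (Fin n) F) ^ j).1 =
      LinearMap.toMatrix b b (g ^ j) := by
    rw [SubmonoidClass.coe_pow]
    exact LinearMap.toMatrix_pow b g j
  constructor
  · constructor
    · intro h
      have h1 := congrArg Subtype.val h
      rw [hval] at h1
      apply (LinearMap.toMatrix b b).injective
      rw [h1, LinearMap.toMatrix_one]
      rfl
    · intro h
      apply Subtype.ext
      rw [hval, h, LinearMap.toMatrix_one]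
      rfl
  · rw [hval]
    constructor
    · intro h
      apply (LinearMap.toMatrix b b).injective
      rw [h, map_neg, LinearMap.toMatrix_one]
    · intro h
      rw [h, map_neg, LinearMap.toMatrix_one]

theorem mem_center_Sp_iff (n : ℕ) (hn : 1 ≤ n) (B : Matrix.symplecticGroup (Fin n) F) :
    B ∈ Subgroup.center (Matrix.symplecticGroup (Fin n) F) ↔ B = 1 ∨ B.1 = -1 := by
  have : Nonempty (Fin n) := ⟨⟨0, by omega⟩⟩
  constructor
  · intro h
    rcases Cfsg.Agent.Lib.Helper07.center_val_eq B h with h1 | h1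
    · left; exact Subtype.ext h1
    · right; exact h1
  · rintro (h | h)
    · rw [h]; exact Subgroup.one_mem _
    · rw [Subgroup.mem_center_iff]
      intro C
      apply Subtype.ext
      show C.1 * B.1 = B.1 * C.1
      rw [h]
      simp

/-- an element of `Sp_{2n}(q)` of projective order `N` gives an element of `PSp_{2n}(q)` of
order `N` -/
theorem mem_range_PSp_of_proj (n : ℕ) (hn : 1 ≤ n) (A : Matrix.symplecticGroup (Fin n) F) (N : ℕ)
    (h : ∀ j : ℕ, (A ^ j = 1 ∨ (A ^ j).1 = -1) ↔ N ∣ j) :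
    N ∈ Set.range (orderOf : Cfsg.PSp n F → ℕ) := by
  refine ⟨QuotientGroup.mk A, orderOf_eq_of_forall _ N ?_⟩
  intro j
  rw [← QuotientGroup.mk_pow, QuotientGroup.eq_one_iff, ← h j]
  exact mem_center_Sp_iff n hn (A ^ j)

/-- every element of `PSp_{2n}(q)` comes from a symplectic matrix -/
theorem exists_Sp_of_PSp (n : ℕ) (hn : 1 ≤ n) (x : Cfsg.PSp n F) :
    ∃ A : Matrix.symplecticGroup (Fin n) F,
      ∀ j : ℕ, (A ^ j = 1 ∨ (A ^ j).1 = -1) ↔ orderOf x ∣ j := by
  obtain ⟨A, rfl⟩ := QuotientGroup.mk_surjective x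
  refine ⟨A, fun j => ?_⟩
  rw [orderOf_dvd_iff_pow_eq_one, ← QuotientGroup.mk_pow, QuotientGroup.eq_one_iff]
  exact (mem_center_Sp_iff n hn (A ^ j)).symm

/-- the linear map of a symplectic matrix is an isometry of the standard form -/
theorem toLin_isometry (n : ℕ) (A : Matrix.symplecticGroup (Fin n) F)
    (u v : Fin n ⊕ Fin n → F) :
    Cfsg.Agent.Lib.Helper18.sB n F (Matrix.toLin' A.1 u) (Matrix.toLin' A.1 v) =
      Cfsg.Agent.Lib.Helper18.sB n F u v := by
  rw [Cfsg.Agent.Lib.Helper18.sB_apply, Cfsg.Agent.Lib.Helper18.sB_apply, Matrix.toLin'_apply,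
    Matrix.toLin'_apply]
  exact Cfsg.Agent.Lib.Helper18.sf_mulVec_of_mem n A.1 A.2 u v

theorem toLin_pow_eq_one_iff (n : ℕ) (A : Matrix.symplecticGroup (Fin n) F) (j : ℕ) :
    (Matrix.toLin' A.1) ^ j = 1 ↔ A ^ j = 1 := by
  rw [← Matrix.toLin'_pow]
  constructor
  · intro h
    apply Subtype.ext
    rw [SubmonoidClass.coe_pow]
    apply Matrix.toLin'.injective
    rw [h]
    exact Matrix.toLin'_one.symm
  · intro h
    have h1 := congrArg Subtype.val h
    rw [SubmonoidClass.coe_pow] at h1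
    rw [h1]
    exact Matrix.toLin'_one

theorem toLin_pow_eq_neg_one_iff (n : ℕ) (A : Matrix.symplecticGroup (Fin n) F) (j : ℕ) :
    (Matrix.toLin' A.1) ^ j = -1 ↔ (A ^ j).1 = -1 := by
  rw [← Matrix.toLin'_pow, SubmonoidClass.coe_pow]
  constructor
  · intro h
    apply Matrix.toLin'.injective
    rw [h, map_neg, Matrix.toLin'_one]
    rfl
  · intro h
    rw [h, map_neg, Matrix.toLin'_one]
    rfl

theorem sB_alt (n : ℕ) (v : Fin n ⊕ Fin n → F) : Cfsg.Agent.Lib.Helper18.sB n F v v = 0 :=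
  Cfsg.Agent.Lib.Helper18.sB_isAlt v

theorem sB_sep (n : ℕ) (v : Fin n ⊕ Fin n → F)
    (h : ∀ v', Cfsg.Agent.Lib.Helper18.sB n F v v' = 0) : v = 0 :=
  (Cfsg.Agent.Lib.Helper18.sB_nondegenerate).1 v h

theorem finrank_std (n : ℕ) : finrank F (Fin n ⊕ Fin n → F) = 2 * n := by
  rw [Module.finrank_fintype_fun_eq_card, Fintype.card_sum, Fintype.card_fin]
  ring

end sp

end Cfsg.Agent.Lib.Helper46.PG
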