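import Mathlib

set_option autoImplicit false

/-!
# Spectra of `B_n(q)` and `C_n(q)`: abstract linear algebra

Averaging idempotent of an endomorphism of finite order prime to the characteristic, fixed
point counting, and the irreducibility of the non-fixed part for a primitive prime order.
-/

namespace Cfsg.Agent.Lib.Helper46.Spec

open Module Finset

section avg

variable {F : Type*} [Field F] {V : Type*} [AddCommGroup V] [Module F V]

theorem mul_sum_pow (S : Module.End F V) (r : ℕ) (hS : S ^ r = 1) :
    S * ∑ i ∈ range r, S ^ i = ∑ i ∈ range r, S ^ i := by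
  have h1 := Finset.sum_range_succ (fun i => S ^ i) r
  have h2 := Finset.sum_range_succ' (fun i => S ^ i) r
  rw [Finset.mul_sum]
  have h3 : ∑ i ∈ range r, S * S ^ i = ∑ i ∈ range r, S ^ (i + 1) :=
    Finset.sum_congr rfl (fun i _ => (pow_succ' S i).symm)
  rw [h3]
  rw [h1] at h2
  simp only [pow_zero, hS] at h2
  exact (add_right_cancel h2).symm

/-- the averaging operator `r⁻¹ (1 + S + ⋯ + S^(r-1))` -/
noncomputable def avgE (S : Module.End F V) (r : ℕ) : Module.End F V :=
  (r : F)⁻¹ • ∑ i ∈ range r, S ^ i

theorem mul_avgE (S : Module.End F V) (r : ℕ) (hS : S ^ r = 1) : S * avgE S r = avgE S r := by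
  unfold avgE
  rw [mul_smul_comm, mul_sum_pow S r hS]

theorem commute_avgE (S T : Module.End F V) (r : ℕ) (hT : Commute T S) :
    Commute T (avgE S r) := by
  unfold avgE
  exact Commute.smul_right (Commute.sum_right _ _ _ (fun i _ => hT.pow_right i)) _

theorem apply_avgE (S : Module.End F V) (r : ℕ) (hS : S ^ r = 1) (v : V) :
    S (avgE S r v) = avgE S r v := by
  have := LinearMap.congr_fun (mul_avgE S r hS) v
  simpa using this

theorem pow_apply_fixed (S : Module.End F V) (v : V) (hv : S v = v) (i : ℕ) : (S ^ i) v = v := by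
  induction i with
  | zero => simp
  | succ i ih => rw [pow_succ, Module.End.mul_apply, hv, ih]

theorem avgE_apply_fixed (S : Module.End F V) (r : ℕ) (hr : (r : F) ≠ 0) (v : V) (hv : S v = v) :
    avgE S r v = v := by
  unfold avgE
  rw [LinearMap.smul_apply, LinearMap.sum_apply]
  rw [Finset.sum_congr rfl (fun i _ => pow_apply_fixed S v hv i)]
  rw [Finset.sum_const, card_range, ← Nat.cast_smul_eq_nsmul F, smul_smul, inv_mul_cancel₀ hr,
    one_smul]

theorem avgE_idem (S : Module.End F V) (r : ℕ) (hS : S ^ r = 1) (hr : (r : F) ≠ 0) :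
    IsIdempotentElem (avgE S r) := by
  ext v
  rw [Module.End.mul_apply]
  exact avgE_apply_fixed S r hr _ (apply_avgE S r hS v)

theorem mem_range_avgE_iff (S : Module.End F V) (r : ℕ) (hS : S ^ r = 1) (hr : (r : F) ≠ 0)
    (v : V) : v ∈ LinearMap.range (avgE S r) ↔ S v = v := by
  constructor
  · rintro ⟨w, rfl⟩
    exact apply_avgE S r hS w
  · intro hv
    exact ⟨v, avgE_apply_fixed S r hr v hv⟩

theorem isCompl_avgE (S : Module.End F V) (r : ℕ) (hS : S ^ r = 1) (hr : (r : F) ≠ 0) :
    IsCompl (LinearMap.range (avgE S r)) (LinearMap.ker (avgE S r)) :=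
  LinearMap.IsIdempotentElem.isCompl (avgE_idem S r hS hr)

/-- an endomorphism commuting with `S` preserves the kernel of the averaging operator -/
theorem map_mem_ker_avgE (S T : Module.End F V) (r : ℕ) (hT : Commute T S) (w : V)
    (hw : avgE S r w = 0) : avgE S r (T w) = 0 := by
  have h := LinearMap.congr_fun (commute_avgE S T r hT).eq w
  rw [Module.End.mul_apply, Module.End.mul_apply, hw, map_zero] at h
  exact h.symm

/-- an endomorphism commuting with `S` preserves the fixed space of `S` -/
theorem map_fixed (S T : Module.End F V) (hT : Commute T S) (c : V) (hc : S c = c) :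
    S (T c) = T c := by
  have h := LinearMap.congr_fun hT.eq c
  rw [Module.End.mul_apply, Module.End.mul_apply, hc] at h
  exact h.symm

/-- the decomposition of a vector -/
theorem decomp (S : Module.End F V) (r : ℕ) (v : V) :
    v = avgE S r v + (v - avgE S r v) := by abel

theorem avgE_sub (S : Module.End F V) (r : ℕ) (hS : S ^ r = 1) (hr : (r : F) ≠ 0) (v : V) :
    avgE S r (v - avgE S r v) = 0 := by
  rw [map_sub]
  have := LinearMap.congr_fun (avgE_idem S r hS hr).eq v
  rw [Module.End.mul_apply] at this
  rw [this, sub_self]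

/-- a fixed vector in the kernel of the averaging operator is zero -/
theorem eq_zero_of_fixed_of_ker (S : Module.End F V) (r : ℕ) (hr : (r : F) ≠ 0) (w : V)
    (hw : avgE S r w = 0) (hfix : S w = w) : w = 0 := by
  rw [← avgE_apply_fixed S r hr w hfix, hw]

end avg

section form

variable {F : Type*} [Field F] {V : Type*} [AddCommGroup V] [Module F V]

theorem polar_map_map (Q : QuadraticForm F V) (S : Module.End F V) (hSQ : ∀ v, Q (S v) = Q v)
    (x y : V) : QuadraticMap.polar Q (S x) (S y) = QuadraticMap.polar Q x y := by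
  unfold QuadraticMap.polar
  rw [← map_add, hSQ, hSQ, hSQ]

theorem pow_isometry (Q : QuadraticForm F V) (S : Module.End F V) (hSQ : ∀ v, Q (S v) = Q v)
    (i : ℕ) (v : V) : Q ((S ^ i) v) = Q v := by
  induction i with
  | zero => simp
  | succ i ih => rw [pow_succ', Module.End.mul_apply, hSQ, ih]

/-- the fixed space of an isometry of finite order prime to the characteristic is orthogonal to
the kernel of the averaging operator -/
theorem polar_fixed_ker (Q : QuadraticForm F V) (S : Module.End F V) (hSQ : ∀ v, Q (S v) = Q v)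
    (r : ℕ) (hr : (r : F) ≠ 0) (c w : V) (hc : S c = c) (hw : avgE S r w = 0) :
    QuadraticMap.polar Q c w = 0 := by
  have h1 : ∀ i : ℕ, QuadraticMap.polar Q c ((S ^ i) w) = QuadraticMap.polar Q c w := by
    intro i
    have := polar_map_map Q (S ^ i) (pow_isometry Q S hSQ i) c w
    rw [pow_apply_fixed S c hc i] at this
    exact this
  have h2 : (r : F) • avgE S r w = ∑ i ∈ range r, (S ^ i) w := by
    unfold avgE
    rw [LinearMap.smul_apply, smul_smul, mul_inv_cancel₀ hr, one_smul, LinearMap.sum_apply]
  have h3 : QuadraticMap.polar Q c (∑ i ∈ range r, (S ^ i) w) = (r : F) * QuadraticMap.polar Q c w := by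
    have : QuadraticMap.polar Q c (∑ i ∈ range r, (S ^ i) w) =
        ∑ i ∈ range r, QuadraticMap.polar Q c ((S ^ i) w) :=
      map_sum (QuadraticMap.polarBilin Q c) _ _
    rw [this, Finset.sum_congr rfl (fun i _ => h1 i), Finset.sum_const, card_range, nsmul_eq_mul]
  rw [← h2, hw, smul_zero] at h3
  have h4 : QuadraticMap.polar Q c 0 = 0 := by
    have := map_zero (QuadraticMap.polarBilin Q c)
    exact this
  rw [h4] at h3
  rcases mul_eq_zero.mp h3.symm with h | h
  · exact absurd h hr
  · exact h

end form

section count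

variable {F : Type*} [Field F] [Fintype F] {V : Type*} [AddCommGroup V] [Module F V] [Finite V]

/-- fixed point counting for an endomorphism of prime order on an invariant subspace -/
theorem card_modEq_card_fixed (S : Module.End F V) (r : ℕ) [hr : Fact r.Prime] (hS : S ^ r = 1)
    (U : Submodule F V) (hU : ∀ u ∈ U, S u ∈ U) :
    Nat.card U ≡ Nat.card {u : U // S (u : V) = u} [MOD r] := by
  classical
  letI : Fintype U := Fintype.ofFinite U
  let f : Function.End U := fun u => ⟨S u, hU u u.2⟩
  have hpow : ∀ i : ℕ, ∀ u : U, ((f ^ i) u : V) = (S ^ i) (u : V) := by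
    intro i
    induction i with
    | zero => intro u; rfl
    | succ i ih =>
      intro u
      rw [pow_succ', pow_succ', Module.End.mul_apply, ← ih u]
      rfl
  have hf : f ^ r ^ 1 = 1 := by
    rw [pow_one]
    funext u
    apply Subtype.ext
    rw [hpow, hS]
    rfl
  have h := Equiv.Perm.card_fixedPoints_modEq (f := f) (p := r) (n := 1) hf
  rw [Nat.card_eq_fintype_card]
  refine h.trans ?_
  rw [← Nat.card_eq_fintype_card]
  apply congrArg (· % r)
  apply Nat.card_congr
  refine Equiv.subtypeEquivRight ?_
  intro u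
  show f u = u ↔ S (u : V) = u
  constructor
  · intro h; exact congrArg Subtype.val h
  · intro h; exact Subtype.ext h

/-- the dimension of an invariant subspace without non-zero fixed vectors is a multiple of the
order of `q` modulo `r` -/
theorem order_dvd_finrank {q : ℕ} (hq : Fintype.card F = q) (S : Module.End F V) (r : ℕ)
    [hr : Fact r.Prime] (hS : S ^ r = 1) (d : ℕ) (hord : orderOf ((q : ℕ) : ZMod r) = d)
    (U : Submodule F V) (hU : ∀ u ∈ U, S u ∈ U) (hfix : ∀ u ∈ U, S u = u → u = 0) :
    d ∣ finrank F U := by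
  have h1 := card_modEq_card_fixed S r hS U hU
  have h2 : Nat.card {u : U // S (u : V) = u} = 1 := by
    rw [Nat.card_eq_one_iff_unique]
    refine ⟨⟨?_⟩, ⟨⟨0, by simp⟩⟩⟩
    intro a b
    apply Subtype.ext
    apply Subtype.ext
    rw [hfix a.1 a.1.2 a.2, hfix b.1 b.1.2 b.2]
  have h3 : Nat.card U = q ^ finrank F U := by
    rw [← hq, ← Nat.card_eq_fintype_card (α := F)]
    exact Module.natCard_eq_pow_finrank
  rw [h2, h3] at h1
  rw [← hord]
  apply orderOf_dvd_of_pow_eq_one
  have h4 := (ZMod.natCast_eq_natCast_iff _ _ r).mpr h1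
  rw [Nat.cast_pow, Nat.cast_one] at h4
  exact h4

/-- an invariant subspace of a `p`-th root of unity in characteristic `p` contains a non-zero
fixed vector -/
theorem exists_fixed_ne_zero (p : ℕ) [hp : Fact p.Prime] [CharP F p] (U' : Module.End F V)
    (hU' : U' ^ p = 1) (W : Submodule F V) (hW : ∀ w ∈ W, U' w ∈ W) (hW0 : W ≠ ⊥) :
    ∃ w ∈ W, w ≠ 0 ∧ U' w = w := by
  classical
  have h1 := card_modEq_card_fixed U' p hU' W hW
  have hpos : 0 < finrank F W := by
    rw [Module.finrank_pos_iff_exists_ne_zero]
    by_contra hcon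
    apply hW0
    rw [Submodule.eq_bot_iff]
    intro x hx
    by_contra hx0
    exact hcon ⟨⟨x, hx⟩, fun h => hx0 (congrArg Subtype.val h)⟩
  have h3 : Nat.card W = Fintype.card F ^ finrank F W := by
    rw [← Nat.card_eq_fintype_card (α := F)]
    exact Module.natCard_eq_pow_finrank
  have hpF : p ∣ Fintype.card F := by
    have := FiniteField.cast_card_eq_zero F
    exact (CharP.cast_eq_zero_iff F p _).mp this
  have h4 : p ∣ Nat.card W := by
    rw [h3]
    exact dvd_pow hpF hpos.ne'
  have h5 : p ∣ Nat.card {u : W // U' (u : V) = u} := by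
    have := (Nat.modEq_zero_iff_dvd.mpr h4).symm.trans h1
    exact Nat.modEq_zero_iff_dvd.mp this.symm
  have h6 : 1 < Nat.card {u : W // U' (u : V) = u} := by
    have hne : Nat.card {u : W // U' (u : V) = u} ≠ 0 := by
      have : Nonempty {u : W // U' (u : V) = u} := ⟨⟨0, by simp⟩⟩
      exact Nat.card_pos.ne'
    have := Nat.le_of_dvd (Nat.pos_of_ne_zero hne) h5
    exact lt_of_lt_of_le hp.out.one_lt this
  obtain ⟨a, b, hab⟩ := Finite.one_lt_card_iff_nontrivial.mp h6
  by_cases ha : (a : W) = 0
  · refine ⟨b.1.1, b.1.2, ?_, b.2⟩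
    intro hb
    apply hab
    apply Subtype.ext
    rw [ha]
    apply Subtype.ext
    rw [hb]
    rfl
  · refine ⟨a.1.1, a.1.2, ?_, a.2⟩
    intro h
    apply ha
    apply Subtype.ext
    rw [h]
    rfl

end count

section irr

variable {F : Type*} [Field F] [Fintype F] {V : Type*} [AddCommGroup V] [Module F V] [Finite V]

/-- the kernel of the averaging operator has dimension divisible by the order of `q` mod `r` -/
theorem order_dvd_finrank_ker {q : ℕ} (hq : Fintype.card F = q) (S : Module.End F V) (r : ℕ)
    [hr : Fact r.Prime] (hS : S ^ r = 1) (hrF : (r : F) ≠ 0) (d : ℕ)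
    (hord : orderOf ((q : ℕ) : ZMod r) = d) :
    d ∣ finrank F (LinearMap.ker (avgE S r)) := by
  apply order_dvd_finrank hq S r hS d hord
  · intro u hu
    rw [LinearMap.mem_ker] at hu ⊢
    exact map_mem_ker_avgE S S r (Commute.refl S) u hu
  · intro u hu hfix
    exact eq_zero_of_fixed_of_ker S r hrF u hu hfix

/-- invariant subspaces of the kernel of the averaging operator are trivial, when that kernel is
small -/
theorem invariant_eq_bot_or_eq {q : ℕ} (hq : Fintype.card F = q) (S : Module.End F V) (r : ℕ)
    [hr : Fact r.Prime] (hS : S ^ r = 1) (hrF : (r : F) ≠ 0) (d : ℕ)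
    (hord : orderOf ((q : ℕ) : ZMod r) = d)
    (hW : finrank F (LinearMap.ker (avgE S r)) < 2 * d)
    (U : Submodule F V) (hU : ∀ u ∈ U, S u ∈ U) (hUW : U ≤ LinearMap.ker (avgE S r)) :
    U = ⊥ ∨ U = LinearMap.ker (avgE S r) := by
  have h1 : d ∣ finrank F U := by
    apply order_dvd_finrank hq S r hS d hord U hU
    intro u hu hfix
    exact eq_zero_of_fixed_of_ker S r hrF u (hUW hu) hfix
  have h2 := order_dvd_finrank_ker hq S r hS hrF d hord
  have h3 : finrank F U ≤ finrank F (LinearMap.ker (avgE S r)) := Submodule.finrank_mono hUW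
  obtain ⟨a, ha⟩ := h1
  obtain ⟨b, hb⟩ := h2
  have hb2 : b < 2 := by
    by_contra hcon
    push Not at hcon
    have : 2 * d ≤ d * b := by
      calc 2 * d = d * 2 := by ring
        _ ≤ d * b := Nat.mul_le_mul_left d hcon
    omega
  rcases Nat.eq_zero_or_pos a with ha0 | ha0
  · left
    rw [ha0, mul_zero] at ha
    exact Submodule.finrank_eq_zero.mp ha
  · right
    apply Submodule.eq_of_le_of_finrank_le hUW
    have hab : a ≤ b := by
      by_contra hcon
      push Not at hcon
      have hd0 : 0 < d := by
        rcases Nat.eq_zero_or_pos d with h | h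
        · rw [h] at hW; omega
        · exact h
      have : d * b < d * a := Nat.mul_lt_mul_of_pos_left hcon hd0
      omega
    have hb1 : b = 1 := by omega
    have ha1 : a = 1 := by omega
    rw [ha, hb, ha1, hb1]

/-- an endomorphism commuting with `S` and fixing one non-zero vector of the kernel of the
averaging operator fixes all of it -/
theorem fix_all_of_fix_one {q : ℕ} (hq : Fintype.card F = q) (S : Module.End F V) (r : ℕ)
    [hr : Fact r.Prime] (hS : S ^ r = 1) (hrF : (r : F) ≠ 0) (d : ℕ)
    (hord : orderOf ((q : ℕ) : ZMod r) = d)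
    (hW : finrank F (LinearMap.ker (avgE S r)) < 2 * d)
    (M : Module.End F V) (hM : Commute M S) (w₀ : V) (hw₀ : avgE S r w₀ = 0) (hne : w₀ ≠ 0)
    (hfix : M w₀ = w₀) : ∀ w, avgE S r w = 0 → M w = w := by
  let U : Submodule F V := LinearMap.ker (avgE S r) ⊓ LinearMap.ker (M - 1)
  have hU : ∀ u ∈ U, S u ∈ U := by
    intro u hu
    obtain ⟨hu1, hu2⟩ := Submodule.mem_inf.mp hu
    rw [LinearMap.mem_ker] at hu1
    refine Submodule.mem_inf.mpr ⟨?_, ?_⟩
    · rw [LinearMap.mem_ker]
      exact map_mem_ker_avgE S S r (Commute.refl S) u hu1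
    · rw [LinearMap.mem_ker, LinearMap.sub_apply, Module.End.one_apply, sub_eq_zero] at hu2 ⊢
      have h := LinearMap.congr_fun hM.eq u
      rw [Module.End.mul_apply, Module.End.mul_apply, hu2] at h
      exact h
  have hUW : U ≤ LinearMap.ker (avgE S r) := inf_le_left
  rcases invariant_eq_bot_or_eq hq S r hS hrF d hord hW U hU hUW with h | h
  · exfalso
    apply hne
    have : w₀ ∈ U := by
      refine Submodule.mem_inf.mpr ⟨?_, ?_⟩
      · rw [LinearMap.mem_ker]; exact hw₀
      · rw [LinearMap.mem_ker, LinearMap.sub_apply, Module.End.one_apply, sub_eq_zero]; exact hfix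
    rw [h] at this
    exact (Submodule.mem_bot F).mp this
  · intro w hw
    have : w ∈ U := by rw [h, LinearMap.mem_ker]; exact hw
    have h2 := (Submodule.mem_inf.mp this).2
    rw [LinearMap.mem_ker, LinearMap.sub_apply, Module.End.one_apply, sub_eq_zero] at h2
    exact h2

end irr

end Cfsg.Agent.Lib.Helper46.Spec
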