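import Mathlib
import Cfsg.Agent.Lib.Helper46.SpecA
import Cfsg.Agent.Lib.Helper49.OrthExist

set_option autoImplicit false

/-!
# Prime graphs of `B_n(q)` and `C_n(q)`: the transfer between symplectic and quadratic forms

For an isometry `S` of odd order `r` prime to the characteristic, `W = ker (avgE S r)` is the
complement `[V, S]` of the fixed space.  If `S` preserves an alternating form `ω`, then
`x ↦ ω (S x) x` is a quadratic form on `W`, non-degenerate and preserved by the centralizer of `S`;
conversely, if `S` preserves a quadratic form `Q` with polar form `B`, then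
`(u, v) ↦ B ((S - S⁻¹) u) v` is alternating, non-degenerate on `W`, and preserved by the
centralizer of `S`.
-/

namespace Cfsg.Agent.Lib.Helper46.PG

open Module Finset Cfsg.Agent.Lib.Helper46.Spec

section basics

variable {F : Type*} [Field F] {V : Type*} [AddCommGroup V] [Module F V]

/-- the complement `[V, S]` of the fixed space -/
noncomputable def WS (S : Module.End F V) (r : ℕ) : Submodule F V := LinearMap.ker (avgE S r)

theorem mem_WS {S : Module.End F V} {r : ℕ} {w : V} : w ∈ WS S r ↔ avgE S r w = 0 :=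
  LinearMap.mem_ker

theorem map_mem_WS (S T : Module.End F V) (r : ℕ) (hT : Commute T S) :
    ∀ w ∈ WS S r, T w ∈ WS S r := by
  intro w hw
  exact mem_WS.mpr (map_mem_ker_avgE S T r hT w (mem_WS.mp hw))

theorem fix_of_sq_fix (S : Module.End F V) (r : ℕ) (hr : Odd r) (hS : S ^ r = 1) (w : V)
    (h : S (S w) = w) : S w = w := by
  obtain ⟨m, hm⟩ := hr
  have h2 : ∀ j : ℕ, (S ^ (2 * j)) w = w := by
    intro j
    induction j with
    | zero => simp
    | succ j ih =>
      rw [Nat.mul_succ, pow_add, Module.End.mul_apply, pow_two, Module.End.mul_apply, h, ih]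
  have h3 : (S ^ r) w = w := by rw [hS]; rfl
  rw [hm, pow_succ', Module.End.mul_apply, h2] at h3
  exact h3

theorem mul_pow_pred (S : Module.End F V) (r : ℕ) (hr : 0 < r) (hS : S ^ r = 1) (v : V) :
    S ((S ^ (r - 1)) v) = v := by
  have : S * S ^ (r - 1) = 1 := by rw [← pow_succ', Nat.sub_add_cancel hr, hS]
  exact congrArg (fun ψ : Module.End F V => ψ v) this

theorem pow_pred_mul (S : Module.End F V) (r : ℕ) (hr : 0 < r) (hS : S ^ r = 1) (v : V) :
    (S ^ (r - 1)) (S v) = v := by
  have : S ^ (r - 1) * S = 1 := by rw [← pow_succ, Nat.sub_add_cancel hr, hS]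
  exact congrArg (fun ψ : Module.End F V => ψ v) this

/-- the decomposition `V = C ⊕ W` -/
theorem exists_decomp (S : Module.End F V) (r : ℕ) (hS : S ^ r = 1) (hr : (r : F) ≠ 0) (v : V) :
    ∃ c w : V, S c = c ∧ w ∈ WS S r ∧ v = c + w :=
  ⟨avgE S r v, v - avgE S r v, apply_avgE S r hS v, mem_WS.mpr (avgE_sub S r hS hr v),
    decomp S r v⟩

theorem polar_comp_sub (Q : QuadraticForm F V) (C : Submodule F V) (x y : C) :
    QuadraticMap.polar (Q.comp C.subtype) x y = QuadraticMap.polar Q (x : V) (y : V) := by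
  unfold QuadraticMap.polar
  simp only [QuadraticMap.comp_apply, Submodule.subtype_apply, Submodule.coe_add]

/-- a fixed vector in `W` is zero -/
theorem eq_zero_of_mem_WS_of_fixed (S : Module.End F V) (r : ℕ) (hr : (r : F) ≠ 0) (w : V)
    (hw : w ∈ WS S r) (hfix : S w = w) : w = 0 :=
  eq_zero_of_fixed_of_ker S r hr w (mem_WS.mp hw) hfix

end basics

section symp

variable {F : Type*} [Field F] {V : Type*} [AddCommGroup V] [Module F V]

theorem bilin_pow_isometry (ω : LinearMap.BilinForm F V) (S : Module.End F V)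
    (hS : ∀ u v, ω (S u) (S v) = ω u v) (i : ℕ) (u v : V) :
    ω ((S ^ i) u) ((S ^ i) v) = ω u v := by
  induction i with
  | zero => simp
  | succ i ih => rw [pow_succ', Module.End.mul_apply, Module.End.mul_apply, hS, ih]

/-- the fixed space of an isometry is orthogonal to `W` -/
theorem bilin_fixed_ker (ω : LinearMap.BilinForm F V) (S : Module.End F V)
    (hSω : ∀ u v, ω (S u) (S v) = ω u v) (r : ℕ) (hr : (r : F) ≠ 0) (c w : V) (hc : S c = c)
    (hw : w ∈ WS S r) : ω c w = 0 := by
  have hw' := mem_WS.mp hw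
  have h1 : ∀ i : ℕ, ω c ((S ^ i) w) = ω c w := by
    intro i
    have := bilin_pow_isometry ω S hSω i c w
    rw [pow_apply_fixed S c hc i] at this
    exact this
  have h2 : (r : F) • avgE S r w = ∑ i ∈ range r, (S ^ i) w := by
    unfold avgE
    rw [LinearMap.smul_apply, smul_smul, mul_inv_cancel₀ hr, one_smul, LinearMap.sum_apply]
  have h3 : ω c (∑ i ∈ range r, (S ^ i) w) = (r : F) * ω c w := by
    rw [map_sum, Finset.sum_congr rfl (fun i _ => h1 i), Finset.sum_const, card_range,
      nsmul_eq_mul]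
  rw [← h2, hw', smul_zero, map_zero] at h3
  rcases mul_eq_zero.mp h3.symm with h | h
  · exact absurd h hr
  · exact h

/-- `ω` is non-degenerate on `W` -/
theorem bilin_nondeg_WS (ω : LinearMap.BilinForm F V) (hN : ω.Nondegenerate)
    (halt : ∀ x, ω x x = 0) (S : Module.End F V)
    (hSω : ∀ u v, ω (S u) (S v) = ω u v) (r : ℕ) (hS : S ^ r = 1) (hr : (r : F) ≠ 0) (w : V)
    (hw : w ∈ WS S r) (h : ∀ w' ∈ WS S r, ω w w' = 0) : w = 0 := by
  apply hN.1
  intro v
  obtain ⟨c, w', hc, hw', rfl⟩ := exists_decomp S r hS hr v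
  rw [map_add, h w' hw', add_zero]
  have hskew : ω w c = - ω c w := by
    have := halt (w + c)
    simp only [map_add, LinearMap.add_apply, halt] at this
    linear_combination this
  rw [hskew, bilin_fixed_ker ω S hSω r hr c w hc hw, neg_zero]

/-- the quadratic form `x ↦ ω (S x) x` on `W` -/
noncomputable def QS (ω : LinearMap.BilinForm F V) (S : Module.End F V) (r : ℕ) :
    QuadraticForm F (WS S r) :=
  (Cfsg.Agent.Lib.Helper49.spQuad ω S).comp (WS S r).subtype

theorem QS_apply (ω : LinearMap.BilinForm F V) (S : Module.End F V) (r : ℕ) (w : WS S r) :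
    QS ω S r w = ω (S (w : V)) (w : V) := rfl

/-- the transferred quadratic form is non-degenerate -/
theorem QS_QND (ω : LinearMap.BilinForm F V) (hN : ω.Nondegenerate)
    (halt : ∀ x, ω x x = 0) (S : Module.End F V)
    (hSω : ∀ u v, ω (S u) (S v) = ω u v) (r : ℕ) (hodd : Odd r) (hS : S ^ r = 1)
    (hr : (r : F) ≠ 0) : Cfsg.Agent.Lib.Helper50.QND (QS ω S r) := by
  intro x hx
  have hr0 : 0 < r := hodd.pos
  have hab := mul_pow_pred S r hr0 hS
  have hmemS : S (x : V) ∈ WS S r := map_mem_WS S S r (Commute.refl S) _ x.2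
  have hmemS' : (S ^ (r - 1)) (x : V) ∈ WS S r :=
    map_mem_WS S (S ^ (r - 1)) r ((Commute.refl S).pow_left _) _ x.2
  have h3 : S (x : V) - (S ^ (r - 1)) (x : V) = 0 := by
    apply bilin_nondeg_WS ω hN halt S hSω r hS hr _ (Submodule.sub_mem _ hmemS hmemS')
    intro w' hw'
    have := hx ⟨w', hw'⟩
    unfold QS at this
    rw [polar_comp_sub, Cfsg.Agent.Lib.Helper49.polar_spQuad ω S (S ^ (r - 1)) halt hSω hab]
      at this
    exact this
  have h4 : S (S (x : V)) = x := by
    rw [sub_eq_zero] at h3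
    rw [h3, hab]
  have h5 := fix_of_sq_fix S r hodd hS _ h4
  exact Subtype.ext (eq_zero_of_mem_WS_of_fixed S r hr _ x.2 h5)

/-- an isometry of `ω` commuting with `S` preserves `x ↦ ω (S x) x` -/
theorem spQuad_commute (ω : LinearMap.BilinForm F V) (S T : Module.End F V)
    (hTω : ∀ u v, ω (T u) (T v) = ω u v) (hTS : Commute T S) (x : V) :
    ω (S (T x)) (T x) = ω (S x) x := by
  have h := LinearMap.congr_fun hTS.eq x
  rw [Module.End.mul_apply, Module.End.mul_apply] at h
  rw [← h, hTω]

end symp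

section orth

variable {F : Type*} [Field F] {V : Type*} [AddCommGroup V] [Module F V]

/-- the alternating form `(u, v) ↦ B ((S - S⁻¹) u) v` -/
noncomputable def omS (Q : QuadraticForm F V) (S : Module.End F V) (r : ℕ) :
    LinearMap.BilinForm F V :=
  (QuadraticMap.polarBilin Q).comp (S - S ^ (r - 1))

theorem omS_apply (Q : QuadraticForm F V) (S : Module.End F V) (r : ℕ) (u v : V) :
    omS Q S r u v = QuadraticMap.polar Q (S u) v - QuadraticMap.polar Q ((S ^ (r - 1)) u) v := by
  unfold omS
  rw [LinearMap.comp_apply, LinearMap.sub_apply, map_sub, LinearMap.sub_apply]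
  rfl

theorem omS_alt (Q : QuadraticForm F V) (S : Module.End F V) (hSQ : ∀ v, Q (S v) = Q v) (r : ℕ)
    (hr : 0 < r) (hS : S ^ r = 1) (u : V) : omS Q S r u u = 0 := by
  rw [omS_apply, sub_eq_zero]
  have h1 := polar_map_map Q S hSQ ((S ^ (r - 1)) u) u
  rw [mul_pow_pred S r hr hS] at h1
  rw [← h1, QuadraticMap.polar_comm]

theorem omS_isometry (Q : QuadraticForm F V) (S T : Module.End F V) (hTQ : ∀ v, Q (T v) = Q v)
    (r : ℕ) (hTS : Commute T S) (u v : V) : omS Q S r (T u) (T v) = omS Q S r u v := by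
  rw [omS_apply, omS_apply]
  have h1 := LinearMap.congr_fun hTS.eq u
  rw [Module.End.mul_apply, Module.End.mul_apply] at h1
  have h2 := LinearMap.congr_fun (hTS.pow_right (r - 1)).eq u
  rw [Module.End.mul_apply, Module.End.mul_apply] at h2
  rw [← h1, ← h2, polar_map_map Q T hTQ, polar_map_map Q T hTQ]

/-- the transferred alternating form is non-degenerate on `W` -/
theorem omS_nondeg_WS (Q : QuadraticForm F V) (hQ : Cfsg.Agent.Lib.Helper50.QND Q)
    (S : Module.End F V) (hSQ : ∀ v, Q (S v) = Q v) (r : ℕ) (hodd : Odd r) (hS : S ^ r = 1)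
    (hr : (r : F) ≠ 0) (w : V) (hw : w ∈ WS S r) (h : ∀ w' ∈ WS S r, omS Q S r w w' = 0) :
    w = 0 := by
  have hr0 : 0 < r := hodd.pos
  have hmemS : S w ∈ WS S r := map_mem_WS S S r (Commute.refl S) _ hw
  have hmemS' : (S ^ (r - 1)) w ∈ WS S r :=
    map_mem_WS S (S ^ (r - 1)) r ((Commute.refl S).pow_left _) _ hw
  have hz : S w - (S ^ (r - 1)) w ∈ WS S r := Submodule.sub_mem _ hmemS hmemS'
  have h3 : S w - (S ^ (r - 1)) w = 0 := by
    apply hQ
    intro v
    obtain ⟨c, w', hc, hw', rfl⟩ := exists_decomp S r hS hr v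
    rw [QuadraticMap.polar_add_right]
    have e1 : QuadraticMap.polar Q (S w - (S ^ (r - 1)) w) w' = 0 := by
      have := h w' hw'
      rw [omS_apply] at this
      rw [QuadraticMap.polar_sub_left]
      exact this
    have e2 : QuadraticMap.polar Q (S w - (S ^ (r - 1)) w) c = 0 := by
      rw [QuadraticMap.polar_comm]
      exact polar_fixed_ker Q S hSQ r hr c _ hc (mem_WS.mp hz)
    rw [e1, e2, add_zero]
  have h4 : S (S w) = w := by
    rw [sub_eq_zero] at h3
    rw [h3, mul_pow_pred S r hr0 hS]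
  have h5 := fix_of_sq_fix S r hodd hS _ h4
  exact eq_zero_of_mem_WS_of_fixed S r hr _ hw h5

end orth

end Cfsg.Agent.Lib.Helper46.PG
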