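import Mathlib
import Cfsg.Agent.Lib.Helper46.PGLin

set_option autoImplicit false

/-!
# Prime graphs of `B_n(q)` and `C_n(q)`: restriction to `[V, S]` and the twist by an involution
-/

namespace Cfsg.Agent.Lib.Helper46.PG

open Module Finset Cfsg.Agent.Lib.Helper46.Spec

section res

variable {F : Type*} [Field F] {V : Type*} [AddCommGroup V] [Module F V]

/-- restriction to `W = [V, S]` of an endomorphism commuting with `S` -/
noncomputable def resW (S T : Module.End F V) (r : ℕ) (hT : Commute T S) :
    Module.End F (WS S r) :=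
  T.restrict (map_mem_WS S T r hT)

theorem resW_apply (S T : Module.End F V) (r : ℕ) (hT : Commute T S) (w : WS S r) :
    ((resW S T r hT w : WS S r) : V) = T (w : V) := rfl

theorem resW_mul (S T₁ T₂ : Module.End F V) (r : ℕ) (h₁ : Commute T₁ S) (h₂ : Commute T₂ S) :
    resW S T₁ r h₁ * resW S T₂ r h₂ = resW S (T₁ * T₂) r (h₁.mul_left h₂) := by
  apply LinearMap.ext
  intro w
  apply Subtype.ext
  rfl

theorem resW_pow (S T : Module.End F V) (r : ℕ) (hT : Commute T S) (j : ℕ) :
    (resW S T r hT) ^ j = resW S (T ^ j) r (hT.pow_left j) := by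
  induction j with
  | zero =>
    apply LinearMap.ext
    intro w
    apply Subtype.ext
    simp [resW_apply]
  | succ j ih =>
    rw [pow_succ, ih, resW_mul]
    apply LinearMap.ext
    intro w
    apply Subtype.ext
    rw [resW_apply, resW_apply, pow_succ]

theorem resW_eq_one_iff (S T : Module.End F V) (r : ℕ) (hT : Commute T S) (hS : S ^ r = 1)
    (hr : (r : F) ≠ 0) (hfix : ∀ c, S c = c → T c = c) : resW S T r hT = 1 ↔ T = 1 := by
  constructor
  · intro h
    apply LinearMap.ext
    intro v
    obtain ⟨c, w, hc, hw, rfl⟩ := exists_decomp S r hS hr v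
    have h1 := congrArg (fun f : Module.End F (WS S r) => ((f ⟨w, hw⟩ : WS S r) : V)) h
    simp only [resW_apply, Module.End.one_apply] at h1
    rw [map_add, hfix c hc, h1, Module.End.one_apply]
  · intro h
    apply LinearMap.ext
    intro w
    apply Subtype.ext
    rw [resW_apply, h]
    rfl

theorem resW_neg_one (S : Module.End F V) (r : ℕ) :
    resW S (-1) r (Commute.neg_left (Commute.one_left S)) = -1 := by
  apply LinearMap.ext
  intro w
  apply Subtype.ext
  simp [resW_apply]

/-- `W` is non-trivial when `S ≠ 1` -/
theorem WS_nontrivial (S : Module.End F V) (r : ℕ) (hS : S ^ r = 1) (hr : (r : F) ≠ 0)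
    (hS1 : S ≠ 1) : Nontrivial (WS S r) := by
  by_contra hnt
  rw [not_nontrivial_iff_subsingleton] at hnt
  apply hS1
  apply LinearMap.ext
  intro v
  obtain ⟨c, w, hc, hw, rfl⟩ := exists_decomp S r hS hr v
  have : (⟨w, hw⟩ : WS S r) = 0 := Subsingleton.elim _ _
  have hw0 : w = 0 := congrArg Subtype.val this
  rw [hw0, add_zero, hc, Module.End.one_apply]

/-- a power of the restriction of `S` to `W` is never `-1` -/
theorem resW_pow_ne_neg_one (S : Module.End F V) (r : ℕ) (hodd : Odd r) (hS : S ^ r = 1)
    (hr : (r : F) ≠ 0) (h2 : (2 : F) ≠ 0) (hS1 : S ≠ 1) (j : ℕ) :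
    (resW S S r (Commute.refl S)) ^ j ≠ -1 := by
  intro h
  haveI := WS_nontrivial S r hS hr hS1
  obtain ⟨w, hw⟩ := exists_ne (0 : WS S r)
  -- `S^j w = -w`
  have h1 : (S ^ j) (w : V) = -(w : V) := by
    have := congrArg (fun f : Module.End F (WS S r) => ((f w : WS S r) : V)) h
    rw [resW_pow] at this
    simpa [resW_apply] using this
  -- `S^(j r) w = w` and `= (-1)^r w = -w`
  have h3 : ∀ k : ℕ, ((S ^ j) ^ k) (w : V) = (-1 : F) ^ k • (w : V) := by
    intro k
    induction k with
    | zero => simp
    | succ k ih =>
      rw [pow_succ', Module.End.mul_apply, ih, map_smul, h1, pow_succ]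
      simp
  have h4 := h3 r
  rw [← pow_mul, mul_comm, pow_mul, hS, one_pow, Module.End.one_apply, hodd.neg_one_pow] at h4
  have h5 : (2 : F) • (w : V) = 0 := by
    rw [two_smul]
    nth_rewrite 1 [h4]
    simp
  apply hw
  apply Subtype.ext
  exact (smul_eq_zero.mp h5).resolve_left h2

end res

section twist

variable {F : Type*} [Field F] {V : Type*} [AddCommGroup V] [Module F V]

/-- the projection onto the `+1`-eigenspace of an involution -/
noncomputable def piP (t : Module.End F V) : Module.End F V := (2 : F)⁻¹ • (1 + t)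

/-- `x` on the `+1`-eigenspace of `t`, the identity on the `-1`-eigenspace -/
noncomputable def twist (x t : Module.End F V) : Module.End F V := 1 + (x - 1) * piP t

theorem piP_apply_pos (h2 : (2 : F) ≠ 0) (t : Module.End F V) (v : V) (hv : t v = v) :
    piP t v = v := by
  unfold piP
  rw [LinearMap.smul_apply, LinearMap.add_apply, Module.End.one_apply, hv, ← two_smul F v,
    smul_smul, inv_mul_cancel₀ h2, one_smul]

theorem piP_apply_neg (t : Module.End F V) (v : V) (hv : t v = -v) : piP t v = 0 := by
  unfold piP
  rw [LinearMap.smul_apply, LinearMap.add_apply, Module.End.one_apply, hv, add_neg_cancel,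
    smul_zero]

theorem t_piP (t : Module.End F V) (ht : t * t = 1) (v : V) : t (piP t v) = piP t v := by
  unfold piP
  rw [LinearMap.smul_apply, map_smul, LinearMap.add_apply, Module.End.one_apply, map_add,
    ← Module.End.mul_apply, ht, Module.End.one_apply, add_comm]

theorem t_sub_piP (t : Module.End F V) (h2 : (2 : F) ≠ 0) (ht : t * t = 1) (v : V) :
    t (v - piP t v) = -(v - piP t v) := by
  have e : v - piP t v = (2 : F)⁻¹ • (v - t v) := by
    unfold piP
    rw [LinearMap.smul_apply, LinearMap.add_apply, Module.End.one_apply, smul_add, smul_sub]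
    have : v = (2 : F)⁻¹ • v + (2 : F)⁻¹ • v := by
      rw [← add_smul, ← two_mul, mul_inv_cancel₀ h2, one_smul]
    nth_rewrite 1 [this]
    abel
  rw [e, map_smul, map_sub, ← Module.End.mul_apply, ht, Module.End.one_apply, ← smul_neg, neg_sub]

theorem twist_apply_pos (h2 : (2 : F) ≠ 0) (x t : Module.End F V) (v : V) (hv : t v = v) :
    twist x t v = x v := by
  unfold twist
  rw [LinearMap.add_apply, Module.End.one_apply, Module.End.mul_apply, piP_apply_pos h2 t v hv,
    LinearMap.sub_apply, Module.End.one_apply]
  abel

theorem twist_apply_neg (x t : Module.End F V) (v : V) (hv : t v = -v) : twist x t v = v := by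
  unfold twist
  rw [LinearMap.add_apply, Module.End.one_apply, Module.End.mul_apply, piP_apply_neg t v hv,
    map_zero, add_zero]

/-- the decomposition into eigenvectors of an involution -/
theorem twist_apply (h2 : (2 : F) ≠ 0) (x t : Module.End F V) (ht : t * t = 1) (v : V) :
    twist x t v = x (piP t v) + (v - piP t v) := by
  have e : v = piP t v + (v - piP t v) := by abel
  nth_rewrite 1 [e]
  rw [map_add, twist_apply_pos h2 x t _ (t_piP t ht v),
    twist_apply_neg x t _ (t_sub_piP t h2 ht v)]

theorem piP_idem (h2 : (2 : F) ≠ 0) (t : Module.End F V) (ht : t * t = 1) :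
    piP t * piP t = piP t := by
  apply LinearMap.ext
  intro v
  rw [Module.End.mul_apply]
  exact piP_apply_pos h2 t _ (t_piP t ht v)

theorem commute_piP (x t : Module.End F V) (hxt : Commute x t) : Commute x (piP t) := by
  unfold piP
  exact Commute.smul_right (Commute.add_right (Commute.one_right x) hxt) _

theorem twist_pow (h2 : (2 : F) ≠ 0) (x t : Module.End F V) (ht : t * t = 1)
    (hxt : Commute x t) (j : ℕ) : twist x t ^ j = twist (x ^ j) t := by
  have hπ := piP_idem h2 t ht
  have hc := commute_piP x t hxt
  induction j with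
  | zero => simp [twist]
  | succ j ih =>
    rw [pow_succ, ih]
    unfold twist
    have hcj : Commute (piP t) (x - 1) :=
      (Commute.sub_right hc.symm (Commute.one_right _))
    have e1 : (x ^ j - 1) * piP t * ((x - 1) * piP t) = (x ^ j - 1) * (x - 1) * piP t := by
      rw [mul_assoc, ← mul_assoc (piP t), hcj.eq, mul_assoc (x - 1), hπ, ← mul_assoc]
    rw [mul_add, mul_one, add_mul, one_mul, e1, pow_succ]
    noncomm_ring

theorem twist_one (t : Module.End F V) : twist 1 t = 1 := by
  unfold twist
  rw [sub_self, zero_mul, add_zero]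

theorem commute_twist (x t s : Module.End F V) (hsx : Commute s x) (hst : Commute s t) :
    Commute s (twist x t) := by
  unfold twist
  exact Commute.add_right (Commute.one_right s)
    (Commute.mul_right (Commute.sub_right hsx (Commute.one_right s)) (commute_piP s t hst))

/-- eigenvectors of an involutory isometry for different eigenvalues are orthogonal -/
theorem bilin_eigen_orth (h2 : (2 : F) ≠ 0) (B : LinearMap.BilinForm F V) (t : Module.End F V)
    (htB : ∀ u v, B (t u) (t v) = B u v) (a b : V) (ha : t a = a) (hb : t b = -b) :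
    B a b = 0 ∧ B b a = 0 := by
  constructor
  · have h := htB a b
    rw [ha, hb, map_neg] at h
    have h3 : (2 : F) * B a b = 0 := by linear_combination -h
    exact (mul_eq_zero.mp h3).resolve_left h2
  · have h := htB b a
    rw [ha, hb, map_neg, LinearMap.neg_apply] at h
    have h3 : (2 : F) * B b a = 0 := by linear_combination -h
    exact (mul_eq_zero.mp h3).resolve_left h2

/-- the twist is an isometry -/
theorem twist_bilin_isometry (h2 : (2 : F) ≠ 0) (B : LinearMap.BilinForm F V)
    (x t : Module.End F V) (ht : t * t = 1) (hxt : Commute x t)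
    (hxB : ∀ u v, B (x u) (x v) = B u v) (htB : ∀ u v, B (t u) (t v) = B u v) (u v : V) :
    B (twist x t u) (twist x t v) = B u v := by
  rw [twist_apply h2 x t ht, twist_apply h2 x t ht]
  have hu1 := t_piP t ht u
  have hu2 := t_sub_piP t h2 ht u
  have hv1 := t_piP t ht v
  have hv2 := t_sub_piP t h2 ht v
  have htx : ∀ w, t w = w → t (x w) = x w := by
    intro w hw
    have := LinearMap.congr_fun hxt.eq w
    rw [Module.End.mul_apply, Module.End.mul_apply, hw] at this
    exact this.symm
  have e1 := (bilin_eigen_orth h2 B t htB (x (piP t u)) (v - piP t v) (htx _ hu1) hv2).1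
  have e2 := (bilin_eigen_orth h2 B t htB (x (piP t v)) (u - piP t u) (htx _ hv1) hu2).2
  have e3 := (bilin_eigen_orth h2 B t htB (piP t u) (v - piP t v) hu1 hv2).1
  have e4 := (bilin_eigen_orth h2 B t htB (piP t v) (u - piP t u) hv1 hu2).2
  have eu : u = piP t u + (u - piP t u) := by abel
  have ev : v = piP t v + (v - piP t v) := by abel
  have rhs : B u v = B (piP t u) (piP t v) + B (u - piP t u) (v - piP t v) := by
    conv_lhs => rw [eu, ev]
    simp only [map_add, LinearMap.add_apply]
    rw [e3, e4]
    ring
  rw [rhs]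
  simp only [map_add, LinearMap.add_apply]
  rw [e1, e2, hxB]
  ring

end twist

end Cfsg.Agent.Lib.Helper46.PG
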