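import Cfsg.Agent.Lib.Helper20.SympEmbed

set_option autoImplicit false

namespace Cfsg.Agent.Lib.Helper46

open Module

section formK

variable {F K : Type*} [Field F] [Fintype F] [Field K] [Fintype K] [Algebra F K]

/-- On an extension of degree `2e` of a finite field with `q` elements there is a nondegenerate
alternating form invariant under multiplication by the elements `u` with `u^(q^e+1) = 1`. -/
theorem exists_unitary_alt_form (e : ℕ) (he : 0 < e) (hfin : Module.finrank F K = 2 * e) :
    ∃ B : LinearMap.BilinForm F K, B.IsAlt ∧ B.Nondegenerate ∧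
      ∀ u : K, u ^ (Fintype.card F ^ e + 1) = 1 → ∀ x y, B (u * x) (u * y) = B x y := by
  classical
  set φ : K ≃ₐ[F] K := FiniteField.frobeniusAlgEquivOfAlgebraic F K with hφ
  have hord : orderOf φ = 2 * e := by
    rw [hφ, FiniteField.orderOf_frobeniusAlgEquivOfAlgebraic, hfin]
  set σ : K ≃ₐ[F] K := φ ^ e with hσ
  have hσapp : ∀ x : K, σ x = x ^ (Fintype.card F ^ e) := by
    intro x
    rw [hσ, AlgEquiv.coe_pow, hφ, FiniteField.coe_frobeniusAlgEquivOfAlgebraic_iterate]
  have hσ2 : ∀ x : K, σ (σ x) = x := by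
    intro x
    have h1 : σ * σ = 1 := by
      rw [hσ, ← pow_add, ← two_mul, ← hord, pow_orderOf_eq_one]
    have := congrArg (fun f : K ≃ₐ[F] K => f x) h1
    simpa using this
  have hσ1 : σ ≠ 1 := by
    rw [hσ]
    exact pow_ne_one_of_lt_orderOf he.ne' (by omega)
  obtain ⟨μ, hμ⟩ : ∃ μ : K, σ μ ≠ μ := by
    by_contra hcon
    apply hσ1
    ext x
    by_contra hx
    exact hcon ⟨x, hx⟩
  set lam : K := μ - σ μ with hlam
  have hlam0 : lam ≠ 0 := by
    rw [hlam]
    intro h
    exact hμ (sub_eq_zero.1 h).symm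
  let B₁ : LinearMap.BilinForm F K :=
    (Algebra.traceForm F K).comp (LinearMap.mulLeft F μ) σ.toLinearMap
  have hB₁ : ∀ x y, B₁ x y = Algebra.trace F K (μ * x * σ y) := by
    intro x y
    rfl
  let B : LinearMap.BilinForm F K := B₁ - B₁.flip
  have hB : ∀ x y, B x y = Algebra.trace F K (μ * x * σ y) - Algebra.trace F K (μ * y * σ x) := by
    intro x y
    rfl
  have hB' : ∀ x y, B x y = Algebra.trace F K (lam * x * σ y) := by
    intro x y
    have h1 : σ (μ * y * σ x) = σ μ * σ y * x := by
      rw [map_mul σ, map_mul σ, hσ2]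
    rw [hB, ← Algebra.trace_eq_of_algEquiv σ (μ * y * σ x), h1, ← map_sub, hlam]
    congr 1
    ring
  have hAlt : B.IsAlt := by
    intro x
    rw [hB, sub_self]
  refine ⟨B, hAlt, ?_, ?_⟩
  · refine (LinearMap.IsRefl.nondegenerate_iff_separatingLeft hAlt.isRefl).2 ?_
    intro x hx
    have h1 : ∀ z, Algebra.traceForm F K (lam * x) z = 0 := by
      intro z
      have := hx (σ z)
      rw [hB', hσ2] at this
      rw [Algebra.traceForm_apply]
      exact this
    have h2 := (traceForm_nondegenerate F K).1 (lam * x) h1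
    rcases mul_eq_zero.1 h2 with h | h
    · exact absurd h hlam0
    · exact h
  · intro u hu x y
    rw [hB', hB', map_mul σ, hσapp u]
    have : u * u ^ (Fintype.card F ^ e) = 1 := by
      rw [← pow_succ', hu]
    calc Algebra.trace F K (lam * (u * x) * (u ^ (Fintype.card F ^ e) * σ y))
        = Algebra.trace F K ((u * u ^ (Fintype.card F ^ e)) * (lam * x * σ y)) := by
          congr 1; ring
      _ = Algebra.trace F K (lam * x * σ y) := by rw [this, one_mul]

end formK

section forms

variable {F : Type*} [Field F]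

/-- The orthogonal power of a bilinear form. -/
def piForm {V : Type*} [AddCommGroup V] [Module F V] (B : LinearMap.BilinForm F V) (k : ℕ) :
    LinearMap.BilinForm F (Fin k → V) :=
  ∑ i, B.comp (LinearMap.proj i) (LinearMap.proj i)

theorem piForm_apply {V : Type*} [AddCommGroup V] [Module F V] (B : LinearMap.BilinForm F V)
    (k : ℕ) (x y : Fin k → V) : piForm B k x y = ∑ i, B (x i) (y i) := by
  simp [piForm, LinearMap.sum_apply]

theorem piForm_isAlt {V : Type*} [AddCommGroup V] [Module F V] {B : LinearMap.BilinForm F V}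
    (hB : B.IsAlt) (k : ℕ) : (piForm B k).IsAlt := by
  intro x
  rw [piForm_apply]
  exact Finset.sum_eq_zero (fun i _ => hB (x i))

theorem piForm_nondegenerate {V : Type*} [AddCommGroup V] [Module F V]
    {B : LinearMap.BilinForm F V} (hA : B.IsAlt) (hB : B.Nondegenerate) (k : ℕ) :
    (piForm B k).Nondegenerate := by
  classical
  refine (LinearMap.IsRefl.nondegenerate_iff_separatingLeft (piForm_isAlt hA k).isRefl).2 ?_
  intro x hx
  funext j
  apply hB.1
  intro z
  have h1 := hx (Pi.single j z)
  rw [piForm_apply, Finset.sum_eq_single j] at h1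
  · simpa using h1
  · intro i _ hij
    rw [Pi.single_eq_of_ne hij]
    simp
  · intro h
    exact absurd (Finset.mem_univ j) h

/-- The orthogonal sum of two bilinear forms. -/
def prodForm {V W : Type*} [AddCommGroup V] [Module F V] [AddCommGroup W] [Module F W]
    (B₁ : LinearMap.BilinForm F V) (B₂ : LinearMap.BilinForm F W) :
    LinearMap.BilinForm F (V × W) :=
  B₁.comp (LinearMap.fst F V W) (LinearMap.fst F V W)
    + B₂.comp (LinearMap.snd F V W) (LinearMap.snd F V W)

theorem prodForm_apply {V W : Type*} [AddCommGroup V] [Module F V] [AddCommGroup W] [Module F W]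
    (B₁ : LinearMap.BilinForm F V) (B₂ : LinearMap.BilinForm F W) (x y : V × W) :
    prodForm B₁ B₂ x y = B₁ x.1 y.1 + B₂ x.2 y.2 := by
  simp [prodForm]

theorem prodForm_isAlt {V W : Type*} [AddCommGroup V] [Module F V] [AddCommGroup W] [Module F W]
    {B₁ : LinearMap.BilinForm F V} {B₂ : LinearMap.BilinForm F W} (h₁ : B₁.IsAlt)
    (h₂ : B₂.IsAlt) : (prodForm B₁ B₂).IsAlt := by
  intro x
  rw [prodForm_apply, h₁, h₂, add_zero]

theorem prodForm_nondegenerate {V W : Type*} [AddCommGroup V] [Module F V] [AddCommGroup W]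
    [Module F W] {B₁ : LinearMap.BilinForm F V} {B₂ : LinearMap.BilinForm F W} (h₁ : B₁.IsAlt)
    (h₂ : B₂.IsAlt) (n₁ : B₁.Nondegenerate) (n₂ : B₂.Nondegenerate) :
    (prodForm B₁ B₂).Nondegenerate := by
  refine (LinearMap.IsRefl.nondegenerate_iff_separatingLeft (prodForm_isAlt h₁ h₂).isRefl).2 ?_
  intro x hx
  apply Prod.ext
  · apply n₁.1
    intro z
    have := hx (z, 0)
    rw [prodForm_apply] at this
    simpa using this
  · apply n₂.1
    intro z
    have := hx (0, z)
    rw [prodForm_apply] at this
    simpa using this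

/-- The hyperbolic plane. -/
def hypPlane (F : Type*) [Field F] : LinearMap.BilinForm F (F × F) :=
  LinearMap.mk₂ F (fun x y => x.1 * y.2 - x.2 * y.1)
    (by intro a b c; simp; ring) (by intro c a b; simp; ring)
    (by intro a b c; simp; ring) (by intro c a b; simp; ring)

theorem hypPlane_apply (x y : F × F) : hypPlane F x y = x.1 * y.2 - x.2 * y.1 := rfl

theorem hypPlane_isAlt : (hypPlane F).IsAlt := by
  intro x
  rw [hypPlane_apply]
  ring

theorem hypPlane_nondegenerate : (hypPlane F).Nondegenerate := by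
  have hA : (hypPlane F).IsAlt := hypPlane_isAlt
  refine (LinearMap.IsRefl.nondegenerate_iff_separatingLeft hA.isRefl).2 ?_
  intro x hx
  apply Prod.ext
  · have := hx (0, 1)
    rw [hypPlane_apply] at this
    simpa using this
  · have := hx (1, 0)
    rw [hypPlane_apply] at this
    simpa using this

end forms

section embed

variable {F K : Type*} [Field F] [Fintype F] [Field K] [Fintype K] [Algebra F K]

/-- A power of the group of elements of norm one of an extension of degree `2e` embeds in
`Sp_{2n}(q)` as soon as `e * k ≤ n`. -/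
theorem exists_hom_Sp_of_torus (e : ℕ) (he : 0 < e) (hfin : Module.finrank F K = 2 * e)
    (n k : ℕ) (hk : e * k ≤ n) (C : Subgroup Kˣ)
    (hC : ∀ u ∈ C, ((u : Kˣ) : K) ^ (Fintype.card F ^ e + 1) = 1) :
    ∃ φ : (Fin k → C) →* ↥(Matrix.symplecticGroup (Fin n) F), Function.Injective φ := by
  obtain ⟨B₀, hA₀, hN₀, hinv⟩ := exists_unitary_alt_form (F := F) (K := K) e he hfin
  set t := n - e * k with ht
  let B : LinearMap.BilinForm F ((Fin k → K) × (Fin t → F × F)) :=
    prodForm (piForm B₀ k) (piForm (hypPlane F) t)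
  have hA : B.IsAlt := prodForm_isAlt (piForm_isAlt hA₀ k) (piForm_isAlt hypPlane_isAlt t)
  have hN : B.Nondegenerate :=
    prodForm_nondegenerate (piForm_isAlt hA₀ k) (piForm_isAlt hypPlane_isAlt t)
      (piForm_nondegenerate hA₀ hN₀ k)
      (piForm_nondegenerate hypPlane_isAlt hypPlane_nondegenerate t)
  have hdim : Module.finrank F ((Fin k → K) × (Fin t → F × F)) = 2 * n := by
    rw [Module.finrank_prod, Module.finrank_pi_fintype, Module.finrank_pi_fintype]
    simp only [hfin, Module.finrank_prod, Module.finrank_self, Finset.sum_const,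
      Finset.card_univ, Fintype.card_fin, smul_eq_mul]
    have : e * k + t = n := by omega
    calc k * (2 * e) + t * (1 + 1) = 2 * (e * k + t) := by ring
      _ = 2 * n := by rw [this]
  let ρ : (Fin k → C) →* (((Fin k → K) × (Fin t → F × F)) →ₗ[F] ((Fin k → K) × (Fin t → F × F))) :=
    { toFun := fun c => LinearMap.prodMap
        (LinearMap.pi fun i => (LinearMap.mulLeft F (((c i : C) : Kˣ) : K)).comp (LinearMap.proj i))
        LinearMap.id
      map_one' := by
        ext <;> simp
      map_mul' := by
        intro c c'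
        ext <;> simp }
  have hρ : ∀ c (x : (Fin k → K) × (Fin t → F × F)),
      ρ c x = (fun i => (((c i : C) : Kˣ) : K) * x.1 i, x.2) := fun c x => rfl
  have hinj : Function.Injective ρ := by
    intro c c' h
    funext i
    have h1 := congrArg (fun f : ((Fin k → K) × (Fin t → F × F)) →ₗ[F]
      ((Fin k → K) × (Fin t → F × F)) => (f (fun _ => 1, 0)).1 i) h
    simp only [hρ, mul_one] at h1
    exact Subtype.ext (Units.ext h1)
  have hpres : ∀ c u v, B (ρ c u) (ρ c v) = B u v := by
    intro c u v
    rw [prodForm_apply, prodForm_apply]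
    simp only [hρ]
    congr 1
    rw [piForm_apply, piForm_apply]
    apply Finset.sum_congr rfl
    intro i _
    exact hinv _ (hC _ (c i).2) _ _
  obtain ⟨b, hb⟩ := Cfsg.Agent.Lib.Helper20.exists_symplectic_basis B hA hN n hdim
  exact Cfsg.Agent.Lib.Helper51.embed_symplectic b B hb ρ hinj hpres

end embed

end Cfsg.Agent.Lib.Helper46
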