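import Mathlib
import Cfsg.Agent.Lib.Helper46.PGRes
import Cfsg.Agent.Lib.Helper46.PGBridgeSp
import Cfsg.Agent.Lib.Helper43.AltForm
import Cfsg.Agent.Lib.Helper99.SpRPEx

set_option autoImplicit false

/-!
# Prime graphs of `B_n(q)` and `C_n(q)`: from the orthogonal to the symplectic group (abstract part)
-/

namespace Cfsg.Agent.Lib.Helper46.PG

open Module Finset Cfsg.Agent.Lib.Helper46.Spec

section spreal

variable {F : Type*} [Field F]

/-- **Realisation of an orthogonal sum** of an abstract symplectic space and a standard one. -/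
theorem spReal (n : ℕ) (hn : 1 ≤ n)
    {W : Type*} [AddCommGroup W] [Module F W] [FiniteDimensional F W]
    (ωW : LinearMap.BilinForm F W) (halt : ∀ v, ωW v v = 0)
    (hsep : ∀ v, (∀ v', ωW v v' = 0) → v = 0) (m : ℕ) (hdim : finrank F W + 2 * m = 2 * n)
    (gW : Module.End F W) (hgW : ∀ u v, ωW (gW u) (gW v) = ωW u v)
    (M : Matrix.symplecticGroup (Fin m) F) (N : ℕ)
    (hord : ∀ j : ℕ, ((gW ^ j = 1 ∧ M ^ j = 1) ∨ (gW ^ j = -1 ∧ (M ^ j).1 = -1)) ↔ N ∣ j) :
    N ∈ Set.range (orderOf : Cfsg.PSp n F → ℕ) := by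
  obtain ⟨A, hA⟩ := exists_Sp_of_isometry n (bprod ωW (Cfsg.Agent.Lib.Helper18.sB m F))
    (bprod_alt _ _ halt (sB_alt m)) (bprod_sepLeft _ _ hsep (sB_sep m))
    (by rw [Module.finrank_prod, finrank_std, hdim])
    (gW.prodMap (Matrix.toLin' M.1))
    (bprod_isometry _ _ _ _ hgW (toLin_isometry m M))
  apply mem_range_PSp_of_proj n hn A N
  intro j
  rw [(hA j).1, (hA j).2, prodMap_pow', prodMap_eq_one_iff, prodMap_eq_neg_one_iff,
    toLin_pow_eq_one_iff, toLin_pow_eq_neg_one_iff]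
  exact hord j

/-- the element `-1` of the symplectic group -/
def negOneSp (m : ℕ) : Matrix.symplecticGroup (Fin m) F :=
  ⟨-1, SymplecticGroup.neg_mem (Submonoid.one_mem _)⟩

theorem negOneSp_pow_val (m : ℕ) (j : ℕ) :
    ((negOneSp (F := F) m) ^ j).1 = (-1) ^ j := by
  rw [SubmonoidClass.coe_pow]
  rfl

theorem negOneSp_pow_eq_one_iff (h2 : (2 : F) ≠ 0) (m : ℕ) (hm : 1 ≤ m) (j : ℕ) :
    (negOneSp (F := F) m) ^ j = 1 ↔ 2 ∣ j := by
  constructor
  · intro h
    by_contra hj
    have hodd : Odd j := Nat.odd_iff.mpr (by omega)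
    have h1 := congrArg Subtype.val h
    rw [negOneSp_pow_val, hodd.neg_one_pow] at h1
    have h3 := congrFun (congrFun h1 (Sum.inl ⟨0, by omega⟩)) (Sum.inl ⟨0, by omega⟩)
    have h01 : ((1 : Matrix.symplecticGroup (Fin m) F).1) = 1 := rfl
    rw [h01, Matrix.neg_apply, Matrix.one_apply_eq] at h3
    apply h2
    linear_combination -h3
  · rintro ⟨k, rfl⟩
    apply Subtype.ext
    rw [negOneSp_pow_val, pow_mul]
    simp

end spreal

section os

variable {F : Type*} [Field F]

/-- the transferred alternating form on `W` -/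
noncomputable def omW {V : Type*} [AddCommGroup V] [Module F V] (Q : QuadraticForm F V)
    (S : Module.End F V) (r : ℕ) : LinearMap.BilinForm F (WS S r) :=
  (omS Q S r).restrict (WS S r)

theorem omW_apply {V : Type*} [AddCommGroup V] [Module F V] (Q : QuadraticForm F V)
    (S : Module.End F V) (r : ℕ) (u v : WS S r) : omW Q S r u v = omS Q S r (u : V) (v : V) := rfl

variable {V : Type*} [AddCommGroup V] [Module F V] [FiniteDimensional F V]

theorem omW_alt (Q : QuadraticForm F V) (S : Module.End F V) (hSQ : ∀ v, Q (S v) = Q v) (r : ℕ)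
    (hr : 0 < r) (hS : S ^ r = 1) (u : WS S r) : omW Q S r u u = 0 := by
  rw [omW_apply]
  exact omS_alt Q S hSQ r hr hS _

theorem omW_sep (Q : QuadraticForm F V) (hQ : Cfsg.Agent.Lib.Helper50.QND Q)
    (S : Module.End F V) (hSQ : ∀ v, Q (S v) = Q v) (r : ℕ) (hodd : Odd r) (hS : S ^ r = 1)
    (hr : (r : F) ≠ 0) (u : WS S r) (h : ∀ v, omW Q S r u v = 0) : u = 0 := by
  apply Subtype.ext
  apply omS_nondeg_WS Q hQ S hSQ r hodd hS hr _ u.2
  intro w' hw'
  exact h ⟨w', hw'⟩

/-- `[V, S]` has even dimension -/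
theorem even_finrank_WS (Q : QuadraticForm F V) (hQ : Cfsg.Agent.Lib.Helper50.QND Q)
    (S : Module.End F V) (hSQ : ∀ v, Q (S v) = Q v) (r : ℕ) (hodd : Odd r) (hS : S ^ r = 1)
    (hr : (r : F) ≠ 0) : Even (finrank F (WS S r)) := by
  apply Cfsg.Agent.Lib.Helper43.even_finrank_of_isAlt_nondegenerate (omW Q S r)
  · exact fun u => omW_alt Q S hSQ r hodd.pos hS u
  · exact nondegenerate_of_alt_sepLeft _ (fun u => omW_alt Q S hSQ r hodd.pos hS u)
      (omW_sep Q hQ S hSQ r hodd hS hr)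

/-- realisation through the transferred alternating form -/
theorem os_real (n : ℕ) (hn : 1 ≤ n) (Q : QuadraticForm F V)
    (hQ : Cfsg.Agent.Lib.Helper50.QND Q)
    (S : Module.End F V) (hSQ : ∀ v, Q (S v) = Q v) (N' : ℕ) (hodd : Odd N')
    (hS : S ^ N' = 1) (hN' : (N' : F) ≠ 0)
    (T : Module.End F V) (hTQ : ∀ v, Q (T v) = Q v) (hTS : Commute T S)
    (m : ℕ) (hdim : finrank F (WS S N') + 2 * m = 2 * n)
    (M : Matrix.symplecticGroup (Fin m) F) (N : ℕ)
    (hord : ∀ j : ℕ, (((resW S T N' hTS) ^ j = 1 ∧ M ^ j = 1) ∨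
      ((resW S T N' hTS) ^ j = -1 ∧ (M ^ j).1 = -1)) ↔ N ∣ j) :
    N ∈ Set.range (orderOf : Cfsg.PSp n F → ℕ) := by
  apply spReal n hn (omW Q S N') (fun u => omW_alt Q S hSQ N' hodd.pos hS u)
    (omW_sep Q hQ S hSQ N' hodd hS hN') m hdim (resW S T N' hTS) _ M N hord
  intro u v
  rw [omW_apply, omW_apply, resW_apply, resW_apply]
  exact omS_isometry Q S T hTQ N' hTS _ _

/-- the dimension count for `[V, S]` and the fixed space -/
theorem finrank_fix_add_WS (S : Module.End F V) (r : ℕ) (hS : S ^ r = 1) (hr : (r : F) ≠ 0) :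
    finrank F (LinearMap.range (avgE S r)) + finrank F (WS S r) = finrank F V :=
  Submodule.finrank_add_eq_of_isCompl (isCompl_avgE S r hS hr)

/-- two independent fixed vectors -/
theorem two_le_finrank_fix (S : Module.End F V) (r : ℕ) (hS : S ^ r = 1) (hr : (r : F) ≠ 0)
    (c c' : V) (hc : S c = c) (hc' : S c' = c')
    (hind : ∀ a b : F, a • c + b • c' = 0 → a = 0 ∧ b = 0) :
    2 ≤ finrank F (LinearMap.range (avgE S r)) := by
  by_contra hlt
  have hle : finrank F (LinearMap.range (avgE S r)) ≤ 1 := by omega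
  rw [finrank_le_one_iff] at hle
  obtain ⟨v, hv⟩ := hle
  obtain ⟨a, ha⟩ := hv ⟨c, (mem_range_avgE_iff S r hS hr c).mpr hc⟩
  obtain ⟨b, hb⟩ := hv ⟨c', (mem_range_avgE_iff S r hS hr c').mpr hc'⟩
  have ha' : c = a • (v : V) := by
    have := congrArg Subtype.val ha
    simpa using this.symm
  have hb' : c' = b • (v : V) := by
    have := congrArg Subtype.val hb
    simpa using this.symm
  have h1 := hind b (-a) (by rw [ha', hb', smul_smul, smul_smul, neg_mul, neg_smul, mul_comm]; abel)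
  have h3 := hind 1 0 (by rw [ha', h1.2 |> neg_eq_zero.mp, zero_smul, zero_smul, smul_zero, add_zero])
  exact one_ne_zero h3.1

omit [FiniteDimensional F V] in
/-- a power of the restriction to `W` of an endomorphism of odd order is never `-1` -/
theorem resW_pow_ne_neg_one' (S T : Module.End F V) (r : ℕ) (hS : S ^ r = 1)
    (hr : (r : F) ≠ 0) (h2 : (2 : F) ≠ 0) (hS1 : S ≠ 1) (hTS : Commute T S) (N : ℕ)
    (hN : Odd N) (hTN : T ^ N = 1) (j : ℕ) : (resW S T r hTS) ^ j ≠ -1 := by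
  intro h
  haveI := WS_nontrivial S r hS hr hS1
  obtain ⟨w, hw⟩ := exists_ne (0 : WS S r)
  have h1 : (T ^ j) (w : V) = -(w : V) := by
    have := congrArg (fun f : Module.End F (WS S r) => ((f w : WS S r) : V)) h
    rw [resW_pow] at this
    simpa [resW_apply] using this
  have h3 : ∀ k : ℕ, ((T ^ j) ^ k) (w : V) = (-1 : F) ^ k • (w : V) := by
    intro k
    induction k with
    | zero => simp
    | succ k ih =>
      rw [pow_succ', Module.End.mul_apply, ih, map_smul, h1, pow_succ]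
      simp
  have h4 := h3 N
  rw [← pow_mul, mul_comm, pow_mul, hTN, one_pow, Module.End.one_apply, hN.neg_one_pow] at h4
  have h5 : (2 : F) • (w : V) = 0 := by
    rw [two_smul]
    nth_rewrite 1 [h4]
    simp
  apply hw
  apply Subtype.ext
  exact (smul_eq_zero.mp h5).resolve_left h2

theorem pow_eq_one_iff_of_prime' {G : Type*} [Monoid G] (x : G) (r : ℕ) [Fact r.Prime]
    (hx : x ^ r = 1) (hx1 : x ≠ 1) (j : ℕ) : x ^ j = 1 ↔ r ∣ j := by
  rw [← orderOf_eq_prime hx hx1, orderOf_dvd_iff_pow_eq_one]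

theorem two_mul_dvd_iff' (r j : ℕ) (hr : Odd r) : 2 * r ∣ j ↔ r ∣ j ∧ 2 ∣ j := by
  constructor
  · intro h
    exact ⟨dvd_trans (dvd_mul_left r 2) h, dvd_trans (dvd_mul_right 2 r) h⟩
  · rintro ⟨h1, h2⟩
    exact Nat.Coprime.mul_dvd_of_dvd_of_dvd (Nat.coprime_two_left.mpr hr) h2 h1

/-- **Case A** -/
theorem os_caseA (h2 : (2 : F) ≠ 0) (n : ℕ) (hn : 1 ≤ n) (Q : QuadraticForm F V)
    (hQ : Cfsg.Agent.Lib.Helper50.QND Q) (hdimV : finrank F V = 2 * n + 1)
    (T : Module.End F V) (hTQ : ∀ v, Q (T v) = Q v) (N : ℕ) (hNodd : Odd N) (hN1 : 1 < N)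
    (hNF : (N : F) ≠ 0) (hord : ∀ j : ℕ, T ^ j = 1 ↔ N ∣ j) :
    N ∈ Set.range (orderOf : Cfsg.PSp n F → ℕ) := by
  have hTN : T ^ N = 1 := (hord N).mpr dvd_rfl
  have hT1 : T ≠ 1 := by
    intro h
    have h1 := (hord 1).mp (by rw [pow_one, h])
    have := Nat.le_of_dvd one_pos h1
    omega
  obtain ⟨a, ha⟩ := even_finrank_WS Q hQ T hTQ N hNodd hTN hNF
  have hcount := finrank_fix_add_WS T N hTN hNF
  rw [hdimV] at hcount
  apply os_real n hn Q hQ T hTQ N hNodd hTN hNF T hTQ (Commute.refl T) (n - a) (by omega) 1 N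
  intro j
  constructor
  · rintro (⟨h1, -⟩ | ⟨h1, -⟩)
    · rw [resW_pow, resW_eq_one_iff T _ N _ hTN hNF
        (fun c hc => pow_apply_fixed T c hc j)] at h1
      exact (hord j).mp h1
    · exact absurd h1 (resW_pow_ne_neg_one T N hNodd hTN hNF h2 hT1 j)
  · intro h
    left
    refine ⟨?_, one_pow j⟩
    rw [resW_pow, resW_eq_one_iff T _ N _ hTN hNF (fun c hc => pow_apply_fixed T c hc j)]
    exact (hord j).mpr h

/-- **Type I** -/
theorem os_typeI (h2 : (2 : F) ≠ 0) (n : ℕ) (hn : 1 ≤ n) (Q : QuadraticForm F V)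
    (hQ : Cfsg.Agent.Lib.Helper50.QND Q) (hdimV : finrank F V = 2 * n + 1)
    (x : Module.End F V) (hxQ : ∀ v, Q (x v) = Q v) (r : ℕ) [hrp : Fact r.Prime] (hr2 : r ≠ 2)
    (hrF : (r : F) ≠ 0) (hxr : x ^ r = 1) (hx1 : x ≠ 1)
    (hfix : 2 ≤ finrank F (LinearMap.range (avgE x r))) :
    2 * r ∈ Set.range (orderOf : Cfsg.PSp n F → ℕ) := by
  have hrodd : Odd r := hrp.out.odd_of_ne_two hr2
  obtain ⟨a, ha⟩ := even_finrank_WS Q hQ x hxQ r hrodd hxr hrF
  have hcount := finrank_fix_add_WS x r hxr hrF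
  rw [hdimV] at hcount
  apply os_real n hn Q hQ x hxQ r hrodd hxr hrF x hxQ (Commute.refl x) (n - a) (by omega)
    (negOneSp (n - a)) (2 * r)
  intro j
  rw [two_mul_dvd_iff' r j hrodd]
  constructor
  · rintro (⟨h1, h3⟩ | ⟨h1, -⟩)
    · rw [resW_pow, resW_eq_one_iff x _ r _ hxr hrF
        (fun c hc => pow_apply_fixed x c hc j), pow_eq_one_iff_of_prime' x r hxr hx1] at h1
      exact ⟨h1, (negOneSp_pow_eq_one_iff h2 (n - a) (by omega) j).mp h3⟩
    · exact absurd h1 (resW_pow_ne_neg_one x r hrodd hxr hrF h2 hx1 j)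
  · rintro ⟨h1, h3⟩
    left
    refine ⟨?_, (negOneSp_pow_eq_one_iff h2 (n - a) (by omega) j).mpr h3⟩
    rw [resW_pow, resW_eq_one_iff x _ r _ hxr hrF (fun c hc => pow_apply_fixed x c hc j),
      pow_eq_one_iff_of_prime' x r hxr hx1]
    exact h1

/-- the fixed line -/
theorem exists_fixed_line (Q : QuadraticForm F V)
    (hQ : Cfsg.Agent.Lib.Helper50.QND Q) (S : Module.End F V) (hSQ : ∀ v, Q (S v) = Q v)
    (r : ℕ) (hS : S ^ r = 1) (hr : (r : F) ≠ 0)
    (hfix1 : finrank F (LinearMap.range (avgE S r)) = 1) :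
    ∃ d : V, Q d ≠ 0 ∧ S d = d ∧ ∀ c, S c = c → ∃ a : F, c = a • d := by
  obtain ⟨v, hv0, hall⟩ := finrank_eq_one_iff'.mp hfix1
  have hvfix : S (v : V) = v := (mem_range_avgE_iff S r hS hr _).mp v.2
  have hspan : ∀ c, S c = c → ∃ a : F, c = a • (v : V) := by
    intro c hc
    obtain ⟨a, ha⟩ := hall ⟨c, (mem_range_avgE_iff S r hS hr c).mpr hc⟩
    refine ⟨a, ?_⟩
    have := congrArg Subtype.val ha
    simpa using this.symm
  refine ⟨v, ?_, hvfix, hspan⟩
  intro hQv
  apply hv0
  apply Subtype.ext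
  apply hQ
  intro y
  obtain ⟨c, w, hc, hw, rfl⟩ := exists_decomp S r hS hr y
  obtain ⟨a, ha⟩ := hspan c hc
  rw [QuadraticMap.polar_add_right, polar_fixed_ker Q S hSQ r hr v w hvfix (mem_WS.mp hw),
    add_zero, ha, QuadraticMap.polar_smul_right, QuadraticMap.polar_self, hQv]
  simp

omit [FiniteDimensional F V] in
theorem eigen_sq_eq_one (Q : QuadraticForm F V) (d : V) (hd : Q d ≠ 0) (T : Module.End F V)
    (hTQ : ∀ v, Q (T v) = Q v) (a : F) (h : T d = a • d) : a = 1 ∨ a = -1 := by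
  have h1 := hTQ d
  rw [h, QuadraticMap.map_smul, smul_eq_mul] at h1
  have h3 : (a - 1) * (a + 1) = 0 := by
    have : (a * a - 1) * Q d = 0 := by linear_combination h1
    rcases mul_eq_zero.mp this with h4 | h4
    · linear_combination h4
    · exact absurd h4 hd
  rcases mul_eq_zero.mp h3 with h4 | h4
  · left; linear_combination h4
  · right; linear_combination h4

omit [FiniteDimensional F V] in
theorem fixed_of_odd_order (h2 : (2 : F) ≠ 0) (Q : QuadraticForm F V) (d : V) (hd : Q d ≠ 0)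
    (T : Module.End F V) (hTQ : ∀ v, Q (T v) = Q v) (N : ℕ) (hN : Odd N) (hTN : T ^ N = 1)
    (a : F) (h : T d = a • d) : T d = d := by
  rcases eigen_sq_eq_one Q d hd T hTQ a h with ha | ha
  · rw [h, ha, one_smul]
  · exfalso
    have h3 : ∀ k : ℕ, (T ^ k) d = (-1 : F) ^ k • d := by
      intro k
      induction k with
      | zero => simp
      | succ k ih =>
        rw [pow_succ', Module.End.mul_apply, ih, map_smul, h, ha, pow_succ, smul_smul]
    have h4 := h3 N
    rw [hTN, Module.End.one_apply, hN.neg_one_pow] at h4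
    have h5 : (2 : F) • d = 0 := by
      rw [two_smul]
      nth_rewrite 1 [h4]
      simp
    have hd0 : d = 0 := (smul_eq_zero.mp h5).resolve_left h2
    apply hd
    rw [hd0, map_zero]

/-- **Case B** -/
theorem os_caseB (h2 : (2 : F) ≠ 0) (p : ℕ) [hp : Fact p.Prime] [CharP F p] (n : ℕ)
    (hn : 1 ≤ n) (Q : QuadraticForm F V)
    (hQ : Cfsg.Agent.Lib.Helper50.QND Q) (hdimV : finrank F V = 2 * n + 1)
    (T : Module.End F V) (hTQ : ∀ v, Q (T v) = Q v) (r : ℕ) [hrp : Fact r.Prime]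
    (hr2 : r ≠ 2) (hrne : r ≠ p) (hord : ∀ j : ℕ, T ^ j = 1 ↔ r * p ∣ j) :
    r * p ∈ Set.range (orderOf : Cfsg.PSp n F → ℕ) := by
  have hp2 : p ≠ 2 := by
    intro h
    apply h2
    have := CharP.cast_eq_zero F p
    rw [h] at this
    exact_mod_cast this
  have hpodd : Odd p := hp.out.odd_of_ne_two hp2
  have hrodd : Odd r := hrp.out.odd_of_ne_two hr2
  have hrF : (r : F) ≠ 0 := by
    intro h
    have := (CharP.cast_eq_zero_iff F p r).mp h
    exact hrne ((Nat.prime_dvd_prime_iff_eq hp.out hrp.out).mp this).symm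
  have hrpodd : Odd (r * p) := hrodd.mul hpodd
  have hTrp : T ^ (r * p) = 1 := (hord _).mpr dvd_rfl
  set x : Module.End F V := T ^ p with hx
  have hxQ : ∀ v, Q (x v) = Q v := pow_isometry Q T hTQ p
  have hxr : x ^ r = 1 := by rw [hx, ← pow_mul, mul_comm, hTrp]
  have hx1 : x ≠ 1 := by
    intro h
    have h1 := (hord p).mp h
    have h3 : r * p ∣ 1 * p := by rwa [one_mul]
    have h4 := Nat.dvd_of_mul_dvd_mul_right hp.out.pos h3
    exact hrp.out.one_lt.ne' (Nat.dvd_one.mp h4)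
  have hcop : Nat.Coprime r p := (Nat.coprime_primes hrp.out hp.out).mpr hrne
  obtain ⟨a, ha⟩ := even_finrank_WS Q hQ x hxQ r hrodd hxr hrF
  have hcount := finrank_fix_add_WS x r hxr hrF
  rw [hdimV] at hcount
  have hdvd : ∀ j : ℕ, (r ∣ j ∧ p ∣ j) ↔ r * p ∣ j := by
    intro j
    constructor
    · rintro ⟨h1, h3⟩
      exact Nat.Coprime.mul_dvd_of_dvd_of_dvd hcop h1 h3
    · intro h
      exact ⟨dvd_trans (dvd_mul_right r p) h, dvd_trans (dvd_mul_left p r) h⟩
  by_cases han : a + 1 ≤ n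
  · obtain ⟨u₀, hu₀⟩ := Cfsg.Agent.Lib.Helper99.SpRP.exists_orderOf_p F p (n - a) (by omega)
    apply os_real n hn Q hQ x hxQ r hrodd hxr hrF x hxQ (Commute.refl x) (n - a) (by omega)
      u₀ (r * p)
    intro j
    rw [← hdvd j]
    constructor
    · rintro (⟨h1, h3⟩ | ⟨h1, -⟩)
      · rw [resW_pow, resW_eq_one_iff x _ r _ hxr hrF
          (fun c hc => pow_apply_fixed x c hc j), pow_eq_one_iff_of_prime' x r hxr hx1] at h1
        refine ⟨h1, ?_⟩
        rw [← hu₀]
        exact orderOf_dvd_of_pow_eq_one h3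
      · exact absurd h1 (resW_pow_ne_neg_one x r hrodd hxr hrF h2 hx1 j)
    · rintro ⟨h1, h3⟩
      left
      refine ⟨?_, ?_⟩
      · rw [resW_pow, resW_eq_one_iff x _ r _ hxr hrF (fun c hc => pow_apply_fixed x c hc j),
          pow_eq_one_iff_of_prime' x r hxr hx1]
        exact h1
      · rw [← hu₀] at h3
        exact orderOf_dvd_iff_pow_eq_one.mp h3
  · have hfix1 : finrank F (LinearMap.range (avgE x r)) = 1 := by omega
    obtain ⟨d, hQd, hxd, hspan⟩ := exists_fixed_line Q hQ x hxQ r hxr hrF hfix1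
    have hTx : Commute T x := by
      rw [hx]
      exact (Commute.refl T).pow_right p
    obtain ⟨b, hb⟩ := hspan (T d) (map_fixed x T hTx d hxd)
    have hTd : T d = d := fixed_of_odd_order h2 Q d hQd T hTQ (r * p) hrpodd hTrp b hb
    have hfixT : ∀ c, x c = c → T c = c := by
      intro c hc
      obtain ⟨a', ha'⟩ := hspan c hc
      rw [ha', map_smul, hTd]
    apply os_real n hn Q hQ x hxQ r hrodd hxr hrF T hTQ hTx 0 (by omega) 1 (r * p)
    intro j
    constructor
    · rintro (⟨h1, -⟩ | ⟨h1, -⟩)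
      · rw [resW_pow, resW_eq_one_iff x _ r _ hxr hrF
          (fun c hc => pow_apply_fixed T c (hfixT c hc) j)] at h1
        exact (hord j).mp h1
      · exact absurd h1 (resW_pow_ne_neg_one' x T r hxr hrF h2 hx1 hTx (r * p) hrpodd hTrp j)
    · intro h
      left
      refine ⟨?_, one_pow j⟩
      rw [resW_pow, resW_eq_one_iff x _ r _ hxr hrF
        (fun c hc => pow_apply_fixed T c (hfixT c hc) j)]
      exact (hord j).mpr h

omit [FiniteDimensional F V] in
theorem twist_apply_fixed (x t : Module.End F V) (hxt : Commute x t) (c : V) (hc : x c = c) :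
    twist x t c = c := by
  unfold twist
  have h := LinearMap.congr_fun (commute_piP x t hxt).eq c
  rw [Module.End.mul_apply, Module.End.mul_apply, hc] at h
  rw [LinearMap.add_apply, Module.End.one_apply, Module.End.mul_apply, LinearMap.sub_apply,
    Module.End.one_apply, h, sub_self, add_zero]

omit [FiniteDimensional F V] in
theorem piP_apply (t : Module.End F V) (v : V) : piP t v = (2 : F)⁻¹ • (v + t v) := by
  unfold piP
  rw [LinearMap.smul_apply, LinearMap.add_apply, Module.End.one_apply]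

/-- **Case C**, abstract part -/
theorem os_caseC_abs (h2 : (2 : F) ≠ 0) (n : ℕ) (hn : 1 ≤ n) (Q : QuadraticForm F V)
    (hQ : Cfsg.Agent.Lib.Helper50.QND Q) (hdimV : finrank F V = 2 * n + 1)
    (T : Module.End F V) (hTQ : ∀ v, Q (T v) = Q v) (r : ℕ) [hrp : Fact r.Prime] (hr2 : r ≠ 2)
    (hrF : (r : F) ≠ 0) (hord : ∀ j : ℕ, T ^ j = 1 ↔ 2 * r ∣ j) :
    2 * r ∈ Set.range (orderOf : Cfsg.PSp n F → ℕ) ∨
      (finrank F (WS (T ^ 2) r) = 2 * n ∧
        ((∀ w ∈ WS (T ^ 2) r, (T ^ r) w = w) ∨ (∀ w ∈ WS (T ^ 2) r, (T ^ r) w = -w))) := by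
  have hrodd : Odd r := hrp.out.odd_of_ne_two hr2
  have hr3 : 3 ≤ r := by
    have := hrp.out.two_le
    omega
  have hT2r : T ^ (2 * r) = 1 := (hord _).mpr dvd_rfl
  set x : Module.End F V := T ^ 2 with hx
  set t : Module.End F V := T ^ r with ht
  have hxQ : ∀ v, Q (x v) = Q v := pow_isometry Q T hTQ 2
  have htQ : ∀ v, Q (t v) = Q v := pow_isometry Q T hTQ r
  have hxr : x ^ r = 1 := by rw [hx, ← pow_mul, hT2r]
  have htt : t * t = 1 := by rw [ht, ← pow_add, ← two_mul, hT2r]
  have hx1 : x ≠ 1 := by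
    intro h
    have h1 := (hord 2).mp h
    have := Nat.le_of_dvd (by omega) h1
    omega
  have hxt : Commute x t := by
    rw [hx, ht]
    exact (Commute.refl T).pow_pow 2 r
  obtain ⟨a, ha⟩ := even_finrank_WS Q hQ x hxQ r hrodd hxr hrF
  have hcount := finrank_fix_add_WS x r hxr hrF
  rw [hdimV] at hcount
  by_cases hfix : 2 ≤ finrank F (LinearMap.range (avgE x r))
  · left
    exact os_typeI h2 n hn Q hQ hdimV x hxQ r hr2 hrF hxr hx1 hfix
  · have hfix1 : finrank F (LinearMap.range (avgE x r)) = 1 := by omega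
    have hW : finrank F (WS x r) = 2 * n := by omega
    by_cases hboth : (∃ w ∈ WS x r, w ≠ 0 ∧ t w = w) ∧ (∃ w' ∈ WS x r, w' ≠ 0 ∧ t w' = -w')
    · left
      obtain ⟨⟨w, hwW, hw0, htw⟩, ⟨w', hw'W, hw'0, htw'⟩⟩ := hboth
      obtain ⟨d, hQd, hxd, -⟩ := exists_fixed_line Q hQ x hxQ r hxr hrF hfix1
      have hx'r : twist x t ^ r = 1 := by rw [twist_pow h2 x t htt hxt, hxr, twist_one]
      have hB := twist_bilin_isometry h2 (QuadraticMap.polarBilin Q) x t htt hxt
        (fun u v => polar_map_map Q x hxQ u v) (fun u v => polar_map_map Q t htQ u v)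
      have hx'Q : ∀ v, Q (twist x t v) = Q v := by
        intro v
        have h1 := hB v v
        change QuadraticMap.polar Q (twist x t v) (twist x t v) = QuadraticMap.polar Q v v at h1
        rw [QuadraticMap.polar_self, QuadraticMap.polar_self, two_nsmul, two_nsmul, ← two_mul,
          ← two_mul] at h1
        exact mul_left_cancel₀ h2 h1
      have hx'1 : twist x t ≠ 1 := by
        intro h
        have h4 := twist_apply_pos h2 x t w htw
        rw [h, Module.End.one_apply] at h4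
        exact hw0 (eq_zero_of_mem_WS_of_fixed x r hrF w hwW h4.symm)
      have hd0 : d ≠ 0 := by
        intro h
        apply hQd
        rw [h, map_zero]
      have hfix' : 2 ≤ finrank F (LinearMap.range (avgE (twist x t) r)) := by
        apply two_le_finrank_fix (twist x t) r hx'r hrF d w' (twist_apply_fixed x t hxt d hxd)
          (twist_apply_neg x t w' htw')
        intro a' b' hab
        have h1 : a' • d = -(b' • w') := eq_neg_of_add_eq_zero_left hab
        have h3 : a' • d ∈ WS x r := by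
          rw [h1]
          exact Submodule.neg_mem _ (Submodule.smul_mem _ _ hw'W)
        have h4 : a' • d = 0 :=
          eq_zero_of_mem_WS_of_fixed x r hrF _ h3 (by rw [map_smul, hxd])
        have h5 : b' • w' = 0 := by
          rw [h4] at h1
          exact neg_eq_zero.mp h1.symm
        exact ⟨(smul_eq_zero.mp h4).resolve_right hd0, (smul_eq_zero.mp h5).resolve_right hw'0⟩
      exact os_typeI h2 n hn Q hQ hdimV (twist x t) hx'Q r hr2 hrF hx'r hx'1 hfix'
    · right
      refine ⟨hW, ?_⟩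
      have htW : ∀ w ∈ WS x r, t w ∈ WS x r := map_mem_WS x t r hxt.symm
      have hpiW : ∀ w ∈ WS x r, piP t w ∈ WS x r := by
        intro w hw
        rw [piP_apply]
        exact Submodule.smul_mem _ _ (Submodule.add_mem _ hw (htW w hw))
      rw [not_and_or] at hboth
      rcases hboth with h | h
      · right
        intro w hw
        have h0 : piP t w = 0 := by
          by_contra hne
          exact h ⟨piP t w, hpiW w hw, hne, t_piP t htt w⟩
        rw [piP_apply, smul_eq_zero] at h0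
        have h4 := h0.resolve_left (inv_ne_zero h2)
        exact eq_neg_of_add_eq_zero_right h4
      · left
        intro w hw
        have h0 : w - piP t w = 0 := by
          by_contra hne
          exact h ⟨w - piP t w, Submodule.sub_mem _ hw (hpiW w hw), hne, t_sub_piP t h2 htt w⟩
        have h4 := t_piP t htt w
        have h5 : piP t w = w := (sub_eq_zero.mp h0).symm
        rw [h5] at h4
        exact h4

omit [FiniteDimensional F V] in
/-- **Case D**: `2p` -/
theorem os_caseD (h2 : (2 : F) ≠ 0) (p : ℕ) [hp : Fact p.Prime] [CharP F p] (n : ℕ)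
    (hn : 2 ≤ n) : 2 * p ∈ Set.range (orderOf : Cfsg.PSp n F → ℕ) := by
  have hp2 : p ≠ 2 := by
    intro h
    apply h2
    have := CharP.cast_eq_zero F p
    rw [h] at this
    exact_mod_cast this
  have hpodd : Odd p := hp.out.odd_of_ne_two hp2
  obtain ⟨u₀, hu₀⟩ := Cfsg.Agent.Lib.Helper99.SpRP.exists_orderOf_p F p 1 le_rfl
  apply spReal n (by omega) (Cfsg.Agent.Lib.Helper18.sB 1 F) (sB_alt 1) (sB_sep 1) (n - 1)
    (by rw [finrank_std]; omega) (Matrix.toLin' u₀.1) (toLin_isometry 1 u₀)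
    (negOneSp (n - 1)) (2 * p)
  intro j
  rw [toLin_pow_eq_one_iff, toLin_pow_eq_neg_one_iff, two_mul_dvd_iff' p j hpodd,
    negOneSp_pow_eq_one_iff h2 (n - 1) (by omega) j]
  constructor
  · rintro (⟨h1, h3⟩ | ⟨h1, -⟩)
    · refine ⟨?_, h3⟩
      rw [← hu₀]
      exact orderOf_dvd_of_pow_eq_one h1
    · exfalso
      have h4 : ((u₀ ^ j) ^ p).1 = (-1) ^ p := by
        rw [SubmonoidClass.coe_pow, h1]
      have h5 : (u₀ ^ j) ^ p = 1 := by
        rw [← pow_mul, mul_comm, pow_mul, ← hu₀, pow_orderOf_eq_one, one_pow]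
      rw [h5, hpodd.neg_one_pow] at h4
      have h6 := congrFun (congrFun h4 (Sum.inl 0)) (Sum.inl 0)
      have h01 : ((1 : Matrix.symplecticGroup (Fin 1) F).1) = 1 := rfl
      rw [h01, Matrix.neg_apply, Matrix.one_apply_eq] at h6
      apply h2
      linear_combination h6
  · rintro ⟨h1, h3⟩
    left
    refine ⟨?_, h3⟩
    rw [← hu₀] at h1
    exact orderOf_dvd_iff_pow_eq_one.mp h1

end os

end Cfsg.Agent.Lib.Helper46.PG
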