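import Mathlib
import Cfsg.Agent.Lib.Helper46.PGRes
import Cfsg.Agent.Lib.Helper46.PGBridgeO

set_option autoImplicit false

/-!
# Prime graphs of `B_n(q)` and `C_n(q)`: from the symplectic to the orthogonal group
-/

namespace Cfsg.Agent.Lib.Helper46.PG

open Module Finset Cfsg.Agent.Lib.Helper46.Spec

section fin

variable {F : Type*} [Field F] {V : Type*} [AddCommGroup V] [Module F V] [FiniteDimensional F V]

/-- if `S` has a non-zero fixed vector, then `[V, S]` has codimension at least two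
(alternating case) -/
theorem finrank_WS_add_two_le (ω : LinearMap.BilinForm F V) (halt : ∀ v, ω v v = 0)
    (hsep : ∀ v, (∀ v', ω v v' = 0) → v = 0) (S : Module.End F V)
    (hSω : ∀ u v, ω (S u) (S v) = ω u v) (r : ℕ) (hS : S ^ r = 1) (hr : (r : F) ≠ 0)
    (c : V) (hc0 : c ≠ 0) (hc : S c = c) : finrank F (WS S r) + 2 ≤ finrank F V := by
  have hcompl := isCompl_avgE S r hS hr
  have hsum := Submodule.finrank_add_eq_of_isCompl hcompl
  have hC : 2 ≤ finrank F (LinearMap.range (avgE S r)) := by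
    by_contra hlt
    have hle : finrank F (LinearMap.range (avgE S r)) ≤ 1 := by omega
    rw [finrank_le_one_iff] at hle
    obtain ⟨v, hv⟩ := hle
    -- a vector `c'` in the fixed space with `ω c c' ≠ 0`
    have hex : ∃ v', ω c v' ≠ 0 := by
      by_contra hno
      push Not at hno
      exact hc0 (hsep c hno)
    obtain ⟨v', hv'⟩ := hex
    obtain ⟨c', w, hc', hw, rfl⟩ := exists_decomp S r hS hr v'
    rw [map_add, bilin_fixed_ker ω S hSω r hr c w hc hw, add_zero] at hv'
    obtain ⟨a, ha⟩ := hv ⟨c, (mem_range_avgE_iff S r hS hr c).mpr hc⟩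
    obtain ⟨b, hb⟩ := hv ⟨c', (mem_range_avgE_iff S r hS hr c').mpr hc'⟩
    have ha' : c = a • (v : V) := by
      have := congrArg Subtype.val ha
      simpa using this.symm
    have hb' : c' = b • (v : V) := by
      have := congrArg Subtype.val hb
      simpa using this.symm
    apply hv'
    rw [ha', hb']
    simp [halt]
  unfold WS
  omega

end fin

section real

variable {F : Type*} [Field F] [Fintype F]

/-- realisation through the transferred quadratic form -/
theorem so_real (h2 : (2 : F) ≠ 0) (n : ℕ) (hn : 3 ≤ n)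
    {V : Type*} [AddCommGroup V] [Module F V] [FiniteDimensional F V]
    (ω : LinearMap.BilinForm F V) (halt : ∀ v, ω v v = 0) (hND : ω.Nondegenerate)
    (S : Module.End F V) (hSω : ∀ u v, ω (S u) (S v) = ω u v) (N' : ℕ) (hodd : Odd N')
    (hS : S ^ N' = 1) (hN' : (N' : F) ≠ 0)
    (T : Module.End F V) (hTω : ∀ u v, ω (T u) (T v) = ω u v) (hTS : Commute T S)
    {C : Type*} [AddCommGroup C] [Module F C] [FiniteDimensional F C]
    (QC : QuadraticForm F C) (hQC : Cfsg.Agent.Lib.Helper50.QND QC)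
    (hC : Module.End F C) (hhC : ∀ v, QC (hC v) = QC v)
    (hdim : finrank F (WS S N') + finrank F C ≤ 2 * n + 1)
    (N : ℕ) (hN : 0 < N)
    (hord : ∀ j : ℕ, ((resW S T N' hTS * resW S T N' hTS) ^ j = 1 ∧ (hC * hC) ^ j = 1) ↔ N ∣ j) :
    N ∈ Set.range (orderOf : Cfsg.POmega F (Cfsg.quadFormOdd n F) → ℕ) := by
  apply orthReal h2 n hn (QS ω S N') (QS_QND ω hND halt S hSω N' hodd hS hN') QC hQC hdim
    (resW S T N' hTS) _ hC hhC N hN hord
  intro w
  rw [QS_apply, QS_apply, resW_apply]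
  exact spQuad_commute ω S T hTω hTS (w : V)

theorem one_mul_one_pow {C : Type*} [AddCommGroup C] [Module F C] (j : ℕ) :
    ((1 : Module.End F C) * 1) ^ j = 1 := by
  rw [mul_one, one_pow]

/-- **Case A**: an isometry of odd order prime to the characteristic -/
theorem so_caseA (h2 : (2 : F) ≠ 0) (n : ℕ) (hn : 3 ≤ n)
    {V : Type*} [AddCommGroup V] [Module F V] [FiniteDimensional F V]
    (ω : LinearMap.BilinForm F V) (halt : ∀ v, ω v v = 0)
    (hsep : ∀ v, (∀ v', ω v v' = 0) → v = 0) (hdimV : finrank F V = 2 * n)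
    (T : Module.End F V) (hTω : ∀ u v, ω (T u) (T v) = ω u v) (N : ℕ) (hNodd : Odd N)
    (hNF : (N : F) ≠ 0) (hord : ∀ j : ℕ, T ^ j = 1 ↔ N ∣ j) :
    N ∈ Set.range (orderOf : Cfsg.POmega F (Cfsg.quadFormOdd n F) → ℕ) := by
  have hN0 : 0 < N := hNodd.pos
  have hTN : T ^ N = 1 := (hord N).mpr dvd_rfl
  obtain ⟨e, he⟩ : ∃ e, N + 1 = 2 * e := by
    obtain ⟨k, hk⟩ := hNodd
    exact ⟨k + 1, by omega⟩
  have hND := nondegenerate_of_alt_sepLeft ω halt hsep
  have hcomm : Commute (T ^ e) T := (Commute.refl T).pow_left e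
  apply so_real h2 n hn ω halt hND T hTω N hNodd hTN hNF (T ^ e) (bilin_pow_isometry ω T hTω e)
    hcomm (dQ F 0) (dQ_QND h2 0) 1 (fun _ => rfl) _ N hN0
  · intro j
    rw [resW_mul, resW_pow, one_mul_one_pow, and_iff_left rfl, ← hord j]
    have hpow : (T ^ e * T ^ e) ^ j = T ^ j := by
      rw [← pow_add, ← two_mul, ← he, pow_succ, hTN, one_mul]
    rw [resW_eq_one_iff T _ N _ hTN hNF
      (fun c hc => by rw [hpow]; exact pow_apply_fixed T c hc j), hpow]
  · rw [finrank_dQ, add_zero]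
    have := Submodule.finrank_le (WS T N)
    omega

theorem pow_eq_one_iff_of_prime {G : Type*} [Monoid G] (x : G) (r : ℕ) [Fact r.Prime]
    (hx : x ^ r = 1) (hx1 : x ≠ 1) (j : ℕ) : x ^ j = 1 ↔ r ∣ j := by
  rw [← orderOf_eq_prime hx hx1, orderOf_dvd_iff_pow_eq_one]

theorem two_mul_dvd_iff (r j : ℕ) (hr : Odd r) : 2 * r ∣ j ↔ r ∣ j ∧ 2 ∣ j := by
  constructor
  · intro h
    exact ⟨dvd_trans (dvd_mul_left r 2) h, dvd_trans (dvd_mul_right 2 r) h⟩
  · rintro ⟨h1, h2⟩
    exact Nat.Coprime.mul_dvd_of_dvd_of_dvd (Nat.coprime_two_left.mpr hr) h2 h1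

/-- **Type I**: an isometry of odd prime order with a non-zero fixed vector gives `2r` -/
theorem so_typeI (h2 : (2 : F) ≠ 0) (n : ℕ) (hn : 3 ≤ n)
    {V : Type*} [AddCommGroup V] [Module F V] [FiniteDimensional F V]
    (ω : LinearMap.BilinForm F V) (halt : ∀ v, ω v v = 0)
    (hsep : ∀ v, (∀ v', ω v v' = 0) → v = 0) (hdimV : finrank F V = 2 * n)
    (x : Module.End F V) (hxω : ∀ u v, ω (x u) (x v) = ω u v) (r : ℕ) [hrp : Fact r.Prime]
    (hr2 : r ≠ 2) (hrF : (r : F) ≠ 0) (hxr : x ^ r = 1) (hx1 : x ≠ 1)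
    (c : V) (hc0 : c ≠ 0) (hc : x c = c) :
    2 * r ∈ Set.range (orderOf : Cfsg.POmega F (Cfsg.quadFormOdd n F) → ℕ) := by
  have hrodd : Odd r := hrp.out.odd_of_ne_two hr2
  obtain ⟨e, he⟩ : ∃ e, r + 1 = 2 * e := by
    obtain ⟨k, hk⟩ := hrodd
    exact ⟨k + 1, by omega⟩
  have hND := nondegenerate_of_alt_sepLeft ω halt hsep
  have hcomm : Commute (x ^ e) x := (Commute.refl x).pow_left e
  apply so_real h2 n hn ω halt hND x hxω r hrodd hxr hrF (x ^ e) (bilin_pow_isometry ω x hxω e)
    hcomm (Q2 F) (Q2_QND h2) (R2 F) R2_isometry _ (2 * r) (by have := hrp.out.pos; omega)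
  · intro j
    rw [resW_mul, resW_pow, R2_sq, neg_one_pow_eq_one_iff h2, two_mul_dvd_iff r j hrodd]
    have hpow : (x ^ e * x ^ e) ^ j = x ^ j := by
      rw [← pow_add, ← two_mul, ← he, pow_succ, hxr, one_mul]
    rw [resW_eq_one_iff x _ r _ hxr hrF
      (fun c hc => by rw [hpow]; exact pow_apply_fixed x c hc j), hpow,
      pow_eq_one_iff_of_prime x r hxr hx1]
  · rw [finrank_F2]
    have := finrank_WS_add_two_le ω halt hsep x hxω r hxr hrF c hc0 hc
    omega

/-- **Case D**: `2p` -/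
theorem so_caseD (h2 : (2 : F) ≠ 0) (p : ℕ) [hp : Fact p.Prime] [CharP F p] (n : ℕ)
    (hn : 3 ≤ n) :
    2 * p ∈ Set.range (orderOf : Cfsg.POmega F (Cfsg.quadFormOdd n F) → ℕ) := by
  have hp2 : p ≠ 2 := by
    intro h
    apply h2
    have := CharP.cast_eq_zero F p
    rw [h] at this
    exact_mod_cast this
  have hpodd : Odd p := hp.out.odd_of_ne_two hp2
  obtain ⟨e, he⟩ : ∃ e, p + 1 = 2 * e := by
    obtain ⟨k, hk⟩ := hpodd
    exact ⟨k + 1, by omega⟩
  have hUp : U3 F ^ p = 1 := (U3_pow_eq_one_iff p p).mpr dvd_rfl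
  apply orthReal h2 n hn (Q3 F) (Q3_QND h2) (Q2 F) (Q2_QND h2) _ (U3 F ^ e)
    (pow_isometry (Q3 F) (U3 F) U3_isometry e) (R2 F) R2_isometry (2 * p)
    (by have := hp.out.pos; omega)
  · intro j
    rw [R2_sq, neg_one_pow_eq_one_iff h2, two_mul_dvd_iff p j hpodd]
    have hpow : (U3 F ^ e * U3 F ^ e) ^ j = U3 F ^ j := by
      rw [← pow_add, ← two_mul, ← he, pow_succ, hUp, one_mul]
    rw [hpow, U3_pow_eq_one_iff p]
  · rw [finrank_F3, finrank_F2]
    omega

/-- **Case B**: `r p` -/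
theorem so_caseB (h2 : (2 : F) ≠ 0) (p : ℕ) [hp : Fact p.Prime] [CharP F p] (n : ℕ)
    (hn : 3 ≤ n)
    {V : Type*} [AddCommGroup V] [Module F V] [FiniteDimensional F V]
    (ω : LinearMap.BilinForm F V) (halt : ∀ v, ω v v = 0)
    (hsep : ∀ v, (∀ v', ω v v' = 0) → v = 0) (hdimV : finrank F V = 2 * n)
    (T : Module.End F V) (hTω : ∀ u v, ω (T u) (T v) = ω u v) (r : ℕ) [hrp : Fact r.Prime]
    (hr2 : r ≠ 2) (hrne : r ≠ p) (hord : ∀ j : ℕ, T ^ j = 1 ↔ r * p ∣ j) :
    r * p ∈ Set.range (orderOf : Cfsg.POmega F (Cfsg.quadFormOdd n F) → ℕ) := by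
  have hp2 : p ≠ 2 := by
    intro h
    apply h2
    have := CharP.cast_eq_zero F p
    rw [h] at this
    exact_mod_cast this
  have hpodd : Odd p := hp.out.odd_of_ne_two hp2
  have hrodd : Odd r := hrp.out.odd_of_ne_two hr2
  have hrF : (r : F) ≠ 0 := by
    intro h
    have := (CharP.cast_eq_zero_iff F p r).mp h
    exact hrne ((Nat.prime_dvd_prime_iff_eq hp.out hrp.out).mp this).symm
  obtain ⟨e, he⟩ : ∃ e, r + 1 = 2 * e := by
    obtain ⟨k, hk⟩ := hrodd
    exact ⟨k + 1, by omega⟩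
  obtain ⟨e', he'⟩ : ∃ e', p + 1 = 2 * e' := by
    obtain ⟨k, hk⟩ := hpodd
    exact ⟨k + 1, by omega⟩
  have hrpodd : Odd (r * p) := hrodd.mul hpodd
  obtain ⟨e'', he''⟩ : ∃ e'', r * p + 1 = 2 * e'' := by
    obtain ⟨k, hk⟩ := hrpodd
    exact ⟨k + 1, by omega⟩
  have hND := nondegenerate_of_alt_sepLeft ω halt hsep
  have hTrp : T ^ (r * p) = 1 := (hord _).mpr dvd_rfl
  set x : Module.End F V := T ^ p with hx
  have hxω : ∀ u v, ω (x u) (x v) = ω u v := bilin_pow_isometry ω T hTω p
  have hxr : x ^ r = 1 := by rw [hx, ← pow_mul, mul_comm, hTrp]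
  have hx1 : x ≠ 1 := by
    intro h
    have h1 := (hord p).mp h
    have h3 : r * p ∣ 1 * p := by rwa [one_mul]
    have h4 := Nat.dvd_of_mul_dvd_mul_right hp.out.pos h3
    exact hrp.out.one_lt.ne' (Nat.dvd_one.mp h4)
  have hpos : 0 < r * p := Nat.mul_pos hrp.out.pos hp.out.pos
  have hcop : Nat.Coprime r p := (Nat.coprime_primes hrp.out hp.out).mpr hrne
  by_cases hfix : ∃ c : V, c ≠ 0 ∧ x c = c
  · obtain ⟨c, hc0, hc⟩ := hfix
    have hcomm : Commute (x ^ e) x := (Commute.refl x).pow_left e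
    have hUp : U3 F ^ p = 1 := (U3_pow_eq_one_iff p p).mpr dvd_rfl
    apply so_real h2 n hn ω halt hND x hxω r hrodd hxr hrF (x ^ e)
      (bilin_pow_isometry ω x hxω e) hcomm (Q3 F) (Q3_QND h2) (U3 F ^ e')
      (pow_isometry (Q3 F) (U3 F) U3_isometry e') _ (r * p) hpos
    · intro j
      rw [resW_mul, resW_pow]
      have hpow : (x ^ e * x ^ e) ^ j = x ^ j := by
        rw [← pow_add, ← two_mul, ← he, pow_succ, hxr, one_mul]
      have hpow' : (U3 F ^ e' * U3 F ^ e') ^ j = U3 F ^ j := by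
        rw [← pow_add, ← two_mul, ← he', pow_succ, hUp, one_mul]
      rw [resW_eq_one_iff x _ r _ hxr hrF
        (fun c hc => by rw [hpow]; exact pow_apply_fixed x c hc j), hpow, hpow',
        pow_eq_one_iff_of_prime x r hxr hx1, U3_pow_eq_one_iff p]
      constructor
      · rintro ⟨h1, h3⟩
        exact Nat.Coprime.mul_dvd_of_dvd_of_dvd hcop h1 h3
      · intro h
        exact ⟨dvd_trans (dvd_mul_right r p) h, dvd_trans (dvd_mul_left p r) h⟩
    · rw [finrank_F3]
      have := finrank_WS_add_two_le ω halt hsep x hxω r hxr hrF c hc0 hc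
      omega
  · push Not at hfix
    have hcomm : Commute (T ^ e'') x := by
      rw [hx]
      exact (Commute.refl T).pow_pow e'' p
    apply so_real h2 n hn ω halt hND x hxω r hrodd hxr hrF (T ^ e'')
      (bilin_pow_isometry ω T hTω e'') hcomm (dQ F 0) (dQ_QND h2 0) 1 (fun _ => rfl) _ (r * p)
      hpos
    · intro j
      rw [resW_mul, resW_pow, one_mul_one_pow, and_iff_left rfl, ← hord j]
      have hpow : (T ^ e'' * T ^ e'') ^ j = T ^ j := by
        rw [← pow_add, ← two_mul, ← he'', pow_succ, hTrp, one_mul]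
      rw [resW_eq_one_iff x _ r _ hxr hrF
        (fun c hc => by
          have : c = 0 := by
            by_contra h0
            exact hfix c h0 hc
          rw [this, map_zero]), hpow]
    · rw [finrank_dQ, add_zero]
      have := Submodule.finrank_le (WS x r)
      omega

theorem neg_pow_eq_one_iff {V : Type*} [AddCommGroup V] [Module F V] [Nontrivial V]
    (h2 : (2 : F) ≠ 0) (x : Module.End F V) (r : ℕ) [hrp : Fact r.Prime] (hr2 : r ≠ 2)
    (hxr : x ^ r = 1) (hx1 : x ≠ 1) (j : ℕ) : (-x) ^ j = 1 ↔ 2 * r ∣ j := by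
  have hrodd : Odd r := hrp.out.odd_of_ne_two hr2
  rw [two_mul_dvd_iff r j hrodd]
  constructor
  · intro h
    have h1 : x ^ (2 * j) = 1 := by
      have : ((-x) ^ j) ^ 2 = 1 := by rw [h, one_pow]
      rw [← pow_mul, mul_comm, pow_mul, neg_sq, ← pow_mul] at this
      exact this
    have h3 : r ∣ 2 * j := (pow_eq_one_iff_of_prime x r hxr hx1 _).mp h1
    have h4 : r ∣ j := (Nat.Coprime.dvd_of_dvd_mul_left (Nat.coprime_two_right.mpr hrodd) h3)
    refine ⟨h4, ?_⟩
    have h5 : x ^ j = 1 := (pow_eq_one_iff_of_prime x r hxr hx1 _).mpr h4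
    rw [neg_pow, h5, mul_one] at h
    exact (neg_one_pow_eq_one_iff h2 j).mp h
  · rintro ⟨h1, h3⟩
    rw [neg_pow, (pow_eq_one_iff_of_prime x r hxr hx1 _).mpr h1, mul_one]
    exact (neg_one_pow_eq_one_iff h2 j).mpr h3

/-- **Case C**: `2 r` with `r` odd, prime to the characteristic -/
theorem so_caseC (h2 : (2 : F) ≠ 0) (n : ℕ) (hn : 3 ≤ n)
    {V : Type*} [AddCommGroup V] [Module F V] [FiniteDimensional F V]
    (ω : LinearMap.BilinForm F V) (halt : ∀ v, ω v v = 0)
    (hsep : ∀ v, (∀ v', ω v v' = 0) → v = 0) (hdimV : finrank F V = 2 * n)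
    (T : Module.End F V) (hTω : ∀ u v, ω (T u) (T v) = ω u v) (r : ℕ) [hrp : Fact r.Prime]
    (hr2 : r ≠ 2) (hrF : (r : F) ≠ 0)
    (hord : ∀ j : ℕ, (T ^ j = 1 ∨ T ^ j = -1) ↔ 2 * r ∣ j) :
    2 * r ∈ Set.range (orderOf : Cfsg.POmega F (Cfsg.quadFormOdd n F) → ℕ) := by
  have hrodd : Odd r := hrp.out.odd_of_ne_two hr2
  have hr3 : 3 ≤ r := by
    have := hrp.out.two_le
    omega
  obtain ⟨e, he⟩ : ∃ e, r + 1 = 2 * e := by
    obtain ⟨k, hk⟩ := hrodd
    exact ⟨k + 1, by omega⟩
  have hND := nondegenerate_of_alt_sepLeft ω halt hsep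
  have hVnt : Nontrivial V := Module.nontrivial_of_finrank_pos (R := F) (by omega)
  have hT2r := (hord (2 * r)).mpr dvd_rfl
  set x : Module.End F V := T ^ 4 with hx
  have hxω : ∀ u v, ω (x u) (x v) = ω u v := bilin_pow_isometry ω T hTω 4
  have hxr : x ^ r = 1 := by
    rw [hx, ← pow_mul, show 4 * r = (2 * r) * 2 by ring, pow_mul]
    rcases hT2r with h | h
    · rw [h, one_pow]
    · rw [h, neg_sq, one_pow]
  have hx1 : x ≠ 1 := by
    intro h
    have h1 := (hord 4).mp (Or.inl h)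
    have := Nat.le_of_dvd (by omega) h1
    omega
  by_cases hfix : ∃ c : V, c ≠ 0 ∧ x c = c
  · obtain ⟨c, hc0, hc⟩ := hfix
    exact so_typeI h2 n hn ω halt hsep hdimV x hxω r hr2 hrF hxr hx1 c hc0 hc
  · push Not at hfix
    have hfix0 : ∀ c, x c = c → c = 0 := by
      intro c hc
      by_contra h0
      exact hfix c h0 hc
    rcases hT2r with h1 | h1
    · -- `t = T^r` is an involution different from `±1`
      set t : Module.End F V := T ^ r with ht
      have htt : t * t = 1 := by rw [ht, ← pow_add, ← two_mul, h1]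
      have ht1 : t ≠ 1 := by
        intro h
        have h3 := (hord r).mp (Or.inl h)
        have := Nat.le_of_dvd (by omega) h3
        omega
      have htm1 : t ≠ -1 := by
        intro h
        have h3 := (hord r).mp (Or.inr h)
        have := Nat.le_of_dvd (by omega) h3
        omega
      have htω : ∀ u v, ω (t u) (t v) = ω u v := bilin_pow_isometry ω T hTω r
      have hxt : Commute x t := by
        rw [hx, ht]
        exact (Commute.refl T).pow_pow 4 r
      have hx'r : twist x t ^ r = 1 := by rw [twist_pow h2 x t htt hxt, hxr, twist_one]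
      have hx'ω := twist_bilin_isometry h2 ω x t htt hxt hxω htω
      -- a non-zero `+1`-eigenvector
      obtain ⟨v, hv⟩ : ∃ v, piP t v ≠ 0 := by
        by_contra hno
        push Not at hno
        apply htm1
        apply LinearMap.ext
        intro v
        have := hno v
        unfold piP at this
        rw [LinearMap.smul_apply, smul_eq_zero] at this
        have h4 := this.resolve_left (inv_ne_zero h2)
        rw [LinearMap.add_apply, Module.End.one_apply] at h4
        rw [LinearMap.neg_apply, Module.End.one_apply]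
        exact eq_neg_of_add_eq_zero_right h4
      obtain ⟨v', hv'⟩ : ∃ v', v' - piP t v' ≠ 0 := by
        by_contra hno
        push Not at hno
        apply ht1
        apply LinearMap.ext
        intro v
        have h4 := t_piP t htt v
        have h5 : piP t v = v := (sub_eq_zero.mp (hno v)).symm
        rw [h5] at h4
        rw [h4, Module.End.one_apply]
      have hx'1 : twist x t ≠ 1 := by
        intro h
        have h4 := twist_apply_pos h2 x t _ (t_piP t htt v)
        rw [h, Module.End.one_apply] at h4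
        exact hv (hfix0 _ h4.symm)
      exact so_typeI h2 n hn ω halt hsep hdimV (twist x t) hx'ω r hr2 hrF hx'r hx'1 _ hv'
        (twist_apply_neg x t _ (t_sub_piP t h2 htt v'))
    · -- `T^(2r) = -1`
      set T' : Module.End F V := T ^ (4 * e + r) with hT'
      have hT'T' : T' * T' = -x := by
        rw [hT', ← pow_add, show 4 * e + r + (4 * e + r) = 4 * (r + 1) + 2 * r by omega, pow_add,
          h1, pow_mul, ← hx, pow_succ, hxr, one_mul, mul_neg, mul_one]
      have hcomm : Commute T' x := by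
        rw [hx, hT']
        exact (Commute.refl T).pow_pow _ 4
      apply so_real h2 n hn ω halt hND x hxω r hrodd hxr hrF T'
        (bilin_pow_isometry ω T hTω _) hcomm (dQ F 0) (dQ_QND h2 0) 1 (fun _ => rfl) _ (2 * r)
        (by omega)
      · intro j
        rw [resW_mul, resW_pow, one_mul_one_pow, and_iff_left rfl]
        rw [resW_eq_one_iff x _ r _ hxr hrF
          (fun c hc => by rw [hfix0 c hc, map_zero]), hT'T']
        exact neg_pow_eq_one_iff h2 x r hr2 hxr hx1 j
      · rw [finrank_dQ, add_zero]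
        have := Submodule.finrank_le (WS x r)
        omega

end real

end Cfsg.Agent.Lib.Helper46.PG
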