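import Mathlib

set_option autoImplicit false

/-!
# The sign of a permutation all of whose non-trivial cycles have the same length
-/

namespace Cfsg.Agent.Lib.Helper46.Spec

open Equiv Equiv.Perm

theorem sign_of_semiregular {X : Type*} [Fintype X] [DecidableEq X] (σ : Perm X) (m : ℕ)
    (h1 : ∀ x, σ x ≠ x → (σ ^ m) x = x)
    (h2 : ∀ x (k : ℕ), σ x ≠ x → (σ ^ k) x = x → m ∣ k) :
    ∃ N : ℕ, N * m + (Finset.univ.filter (fun x => σ x = x)).card = Fintype.card X ∧
      Perm.sign σ = (-1) ^ (N * (m + 1)) := by
  have hall : ∀ n ∈ σ.cycleType, n = m := by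
    intro n hn
    obtain ⟨c, τ, hστ, hdisj, hc, hcard⟩ := mem_cycleType_iff.mp hn
    obtain ⟨x, hx⟩ : ∃ x, c x ≠ x := by
      obtain ⟨x, hx, -⟩ := hc
      exact ⟨x, hx⟩
    have hτx : τ x = x := by
      rcases hdisj x with h | h
      · exact absurd h hx
      · exact h
    have hpow : ∀ k : ℕ, (σ ^ k) x = (c ^ k) x := by
      intro k
      rw [hστ, hdisj.commute.mul_pow, Perm.mul_apply,
        Perm.pow_apply_eq_self_of_apply_eq_self hτx]
    have hσx : σ x ≠ x := by
      have := hpow 1
      rw [pow_one, pow_one] at this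
      rw [this]
      exact hx
    have hord : orderOf c = n := by rw [hc.orderOf, hcard]
    have d1 : m ∣ n := by
      apply h2 x n hσx
      rw [hpow, ← hord, pow_orderOf_eq_one, Perm.one_apply]
    have d2 : n ∣ m := by
      rw [← hord]
      apply orderOf_dvd_of_pow_eq_one
      rw [hc.pow_eq_one_iff' hx, ← hpow]
      exact h1 x hσx
    exact Nat.dvd_antisymm d2 d1
  have hrep : σ.cycleType = Multiset.replicate (Multiset.card σ.cycleType) m :=
    Multiset.eq_replicate.mpr ⟨rfl, hall⟩
  refine ⟨Multiset.card σ.cycleType, ?_, ?_⟩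
  · have hsum : σ.cycleType.sum = Multiset.card σ.cycleType * m := by
      conv_lhs => rw [hrep]
      rw [Multiset.sum_replicate, smul_eq_mul]
    rw [← hsum, sum_cycleType]
    have : σ.support = Finset.univ.filter (fun x => ¬ σ x = x) := by
      ext x
      simp
    rw [this, add_comm]
    exact Finset.card_filter_add_card_filter_not (s := Finset.univ) (fun x => σ x = x)
  · rw [sign_of_cycleType]
    congr 1
    conv_lhs => rw [hrep]
    rw [Multiset.sum_replicate, smul_eq_mul, Multiset.card_replicate]
    ring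

end Cfsg.Agent.Lib.Helper46.Spec
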