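import Mathlib
import Cfsg.Agent.Lib.Helper46.PGLin
import Cfsg.Agent.Lib.Helper46.SpecSign
import Cfsg.Agent.Lib.Helper46.SpecCount

set_option autoImplicit false

/-!
# Prime graphs of `B_n(q)` and `C_n(q)`: the sign of an involution on the unit sphere
-/

namespace Cfsg.Agent.Lib.Helper46.PG

open Module Finset Cfsg.Agent.Lib.Helper46.Spec

section arith

theorem sphere_arith_nat (A N f r : ℕ) (hA : Odd A) (hr : r.Prime) (hr2 : r ≠ 2) (hN : Even N)
    (h1 : N * 2 + f = A * A + A) (hf : f = 0 ∨ f = 2) (hmod : A * A + A ≡ f [MOD r])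
    (hsq : A * A ≡ 1 [MOD r]) : 4 * r ∣ A + 1 ∨ 4 * r ∣ A - 1 := by
  have hrodd : Odd r := hr.odd_of_ne_two hr2
  have hcop : Nat.Coprime 4 r := by
    have : Nat.Coprime (2 ^ 2) r := Nat.Coprime.pow_left 2 (Nat.coprime_two_left.mpr hrodd)
    exact this
  obtain ⟨k, hk⟩ := hA
  obtain ⟨M, hM⟩ := hN
  have hAA : A * A = 4 * (k * k) + 4 * k + 1 := by rw [hk]; ring
  have h3 : 1 + A ≡ f [MOD r] := ((Nat.ModEq.add_right A hsq).symm).trans hmod
  generalize k * k = K at hAA
  rcases hf with hf | hf
  · left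
    apply Nat.Coprime.mul_dvd_of_dvd_of_dvd hcop
    · omega
    · rw [hf] at h3
      have := (Nat.modEq_zero_iff_dvd).mp h3
      rwa [add_comm] at this
  · right
    apply Nat.Coprime.mul_dvd_of_dvd_of_dvd hcop
    · omega
    · rw [hf] at h3
      have h4 : A ≡ 1 [MOD r] := Nat.ModEq.add_left_cancel' 1 h3
      exact (Nat.modEq_iff_dvd' (by omega)).mp h4.symm

end arith

section sphere

variable {F : Type*} [Field F] [Fintype F] {V : Type*} [AddCommGroup V] [Module F V] [Finite V]

/-- **The sphere argument.** -/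
theorem sphere_arith (h2 : (2 : F) ≠ 0) {q : ℕ} (hq : Fintype.card F = q) (hqodd : Odd q)
    (Q : QuadraticForm F V) (n : ℕ)
    (hcount : Nat.card {v : V // Q v = 1} = q ^ (2 * n) + q ^ n)
    (T : Module.End F V) (hTQ : ∀ v, Q (T v) = Q v) (r : ℕ) [hrp : Fact r.Prime] (hr2 : r ≠ 2)
    (hrF : (r : F) ≠ 0) (hT2r : T ^ (2 * r) = 1)
    (hW : finrank F (WS (T ^ 2) r) = 2 * n)
    (hneg : ∀ w ∈ WS (T ^ 2) r, (T ^ r) w = -w)
    (d : V) (hQd : Q d ≠ 0) (hxd : (T ^ 2) d = d)
    (hspan : ∀ c, (T ^ 2) c = c → ∃ a : F, c = a • d) (htd : (T ^ r) d = d)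
    [Fintype {v : V // Q v = 1}] [DecidableEq {v : V // Q v = 1}]
    (σ : Equiv.Perm {v : V // Q v = 1})
    (hσ : ∀ v, ((σ v : {v : V // Q v = 1}) : V) = (T ^ r) (v : V))
    (hsign : Equiv.Perm.sign σ = 1) :
    4 * r ∣ q ^ n + 1 ∨ 4 * r ∣ q ^ n - 1 := by
  classical
  set x : Module.End F V := T ^ 2 with hx
  set t : Module.End F V := T ^ r with ht
  have hxr : x ^ r = 1 := by rw [hx, ← pow_mul, hT2r]
  have htt : t * t = 1 := by rw [ht, ← pow_add, ← two_mul, hT2r]
  have hxQ : ∀ v, Q (x v) = Q v := pow_isometry Q T hTQ 2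
  have hd0 : d ≠ 0 := by
    intro h
    apply hQd
    rw [h, map_zero]
  -- characterisations of the fixed points
  have hchar' : ∀ v : V, x v = v ↔ ∃ a : F, v = a • d := by
    intro v
    constructor
    · exact hspan v
    · rintro ⟨a, rfl⟩
      rw [map_smul, hxd]
  have hchar : ∀ v : V, t v = v ↔ ∃ a : F, v = a • d := by
    intro v
    constructor
    · intro hv
      obtain ⟨c, w, hc, hw, rfl⟩ := exists_decomp x r hxr hrF v
      obtain ⟨a, ha⟩ := hspan c hc
      refine ⟨a, ?_⟩
      have h1 : t c = c := by rw [ha, map_smul, htd]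
      rw [map_add, h1, hneg w hw] at hv
      have h3 : (2 : F) • w = 0 := by
        rw [two_smul]
        have := add_left_cancel hv
        nth_rewrite 1 [← this]
        exact neg_add_cancel w
      have hw0 : w = 0 := (smul_eq_zero.mp h3).resolve_left h2
      rw [hw0, add_zero, ha]
    · rintro ⟨a, rfl⟩
      rw [map_smul, htd]
  -- the count
  set f := Nat.card {γ : F // Q d * γ ^ 2 - 1 = 0} with hf
  have hcard : ∀ P : {v : V // Q v = 1} → Prop, (∀ v, P v ↔ ∃ a : F, (v : V) = a • d) →
      Nat.card {v // P v} = f := by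
    intro P hP
    symm
    have hmk : ∀ γ : {γ : F // Q d * γ ^ 2 - 1 = 0}, Q (γ.1 • d) = 1 := by
      intro γ
      rw [QuadraticMap.map_smul, smul_eq_mul]
      linear_combination γ.2
    apply Nat.card_congr
    apply Equiv.ofBijective
      (fun γ => (⟨⟨γ.1 • d, hmk γ⟩, (hP _).mpr ⟨γ.1, rfl⟩⟩ : {v // P v}))
    constructor
    · intro γ₁ γ₂ h
      have h1 : γ₁.1 • d = γ₂.1 • d := congrArg (fun z : {v // P v} => ((z.1 : {v : V // Q v = 1}) : V)) h
      exact Subtype.ext (smul_left_injective F hd0 h1)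
    · intro v
      obtain ⟨a, ha⟩ := (hP v.1).mp v.2
      have hQa : Q d * a ^ 2 - 1 = 0 := by
        have := v.1.2
        rw [ha, QuadraticMap.map_smul, smul_eq_mul] at this
        linear_combination this
      exact ⟨⟨a, hQa⟩, Subtype.ext (Subtype.ext ha.symm)⟩
  -- the permutation
  have hσk : ∀ (k : ℕ) (v : {v : V // Q v = 1}), (((σ ^ k) v : {v : V // Q v = 1}) : V) =
      (t ^ k) (v : V) := by
    intro k
    induction k with
    | zero => intro v; simp
    | succ k ih =>
      intro v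
      rw [pow_succ', pow_succ', Equiv.Perm.mul_apply, hσ, ih, Module.End.mul_apply]
  have htpow : ∀ j : ℕ, t ^ (2 * j) = 1 := by
    intro j
    rw [pow_mul, pow_two, htt, one_pow]
  obtain ⟨N, hN1, hN2⟩ := sign_of_semiregular σ 2
    (by
      intro v _
      apply Subtype.ext
      rw [hσk, htpow 1, Module.End.one_apply])
    (by
      intro v k hv hk
      by_contra hodd
      obtain ⟨j, hj⟩ : ∃ j, k = 2 * j + 1 := ⟨k / 2, by omega⟩
      apply hv
      apply Subtype.ext
      have h1 := congrArg Subtype.val hk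
      rw [hσk, hj, pow_succ, htpow, one_mul] at h1
      rw [hσ]
      exact h1)
  have hfixcard : (Finset.univ.filter (fun v : {v : V // Q v = 1} => σ v = v)).card = f := by
    rw [← Fintype.card_subtype, ← Nat.card_eq_fintype_card]
    apply hcard
    intro v
    rw [← hchar]
    constructor
    · intro h
      rw [← hσ, h]
    · intro h
      apply Subtype.ext
      rw [hσ]
      exact h
  have hXcard : Fintype.card {v : V // Q v = 1} = q ^ (2 * n) + q ^ n := by
    rw [← Nat.card_eq_fintype_card]; exact hcount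
  rw [hfixcard, hXcard] at hN1
  have hNeven : Even N := by
    rw [hsign] at hN2
    have h3 := (neg_one_pow_eq_one_iff_even (R := ℤˣ) (by decide)).mp hN2.symm
    rcases Nat.even_mul.mp h3 with h | h
    · exact h
    · exact absurd h (by decide)
  -- the action of `x`
  let f' : Function.End {v : V // Q v = 1} := fun v => ⟨x v.1, (hxQ _).trans v.2⟩
  have hpow : ∀ (i : ℕ) (v : {v : V // Q v = 1}), ((f' ^ i) v : V) = (x ^ i) (v : V) := by
    intro i
    induction i with
    | zero => intro v; rfl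
    | succ i ih =>
      intro v
      rw [pow_succ', pow_succ', Module.End.mul_apply, ← ih v]
      rfl
  have hf' : f' ^ r ^ 1 = 1 := by
    rw [pow_one]
    funext v
    apply Subtype.ext
    rw [hpow, hxr]
    rfl
  have hmod := Equiv.Perm.card_fixedPoints_modEq (f := f') (p := r) (n := 1) hf'
  have hfix' : Fintype.card (Function.fixedPoints f') = f := by
    rw [← Nat.card_eq_fintype_card]
    apply hcard (fun v => f' v = v)
    intro v
    rw [← hchar']
    constructor
    · intro h
      exact congrArg Subtype.val h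
    · intro h
      exact Subtype.ext h
  rw [hfix', hXcard] at hmod
  -- the order of `q` modulo `r`
  have hk := order_dvd_finrank_ker hq x r hxr hrF _ rfl
  have hW' : finrank F (LinearMap.ker (avgE x r)) = 2 * n := hW
  rw [hW'] at hk
  have hq2n : q ^ (2 * n) ≡ 1 [MOD r] := by
    rw [← ZMod.natCast_eq_natCast_iff, Nat.cast_pow, Nat.cast_one]
    exact orderOf_dvd_iff_pow_eq_one.mp hk
  have hAA : q ^ n * q ^ n = q ^ (2 * n) := by rw [← pow_add, two_mul]
  have hroots := card_sq_roots h2 (Q d) 1 one_ne_zero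
  rw [← hf] at hroots
  apply sphere_arith_nat (q ^ n) N f r hqodd.pow hrp.out hr2 hNeven
  · rw [hAA]; exact hN1
  · exact hroots
  · rw [hAA]; exact hmod
  · rw [hAA]; exact hq2n

end sphere

end Cfsg.Agent.Lib.Helper46.PG
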