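import Mathlib
import Cfsg.Agent.Lib.Helper46.PGCoreSO
import Cfsg.Agent.Lib.Helper46.PGBridgeSp

set_option autoImplicit false

/-!
# Prime graphs of `B_n(q)` and `C_n(q)`: `PSp_{2n}(q) → PΩ_{2n+1}(q)`
-/

namespace Cfsg.Agent.Lib.Helper46.PG

open Module Matrix

section top

variable {F : Type*} [Field F] [Fintype F]

theorem char_facts (hodd : Odd (Fintype.card F)) :
    ∃ p : ℕ, p.Prime ∧ CharP F p ∧ p ≠ 2 ∧ (2 : F) ≠ 0 := by
  obtain ⟨p, hpc⟩ := CharP.exists F
  have : CharP F p := hpc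
  have hpp : p.Prime := CharP.char_is_prime F p
  have hp2 : p ≠ 2 := by
    intro h
    have h1 : p ∣ Fintype.card F := by
      have := FiniteField.cast_card_eq_zero F
      exact (CharP.cast_eq_zero_iff F p _).mp this
    rw [h] at h1
    exact (Nat.not_even_iff_odd.mpr hodd) (even_iff_two_dvd.mpr h1)
  refine ⟨p, hpp, hpc, hp2, ?_⟩
  intro h
  have h' : ((2 : ℕ) : F) = 0 := by exact_mod_cast h
  have hd := (CharP.cast_eq_zero_iff F p 2).mp h'
  exact hp2 ((Nat.prime_dvd_prime_iff_eq hpp Nat.prime_two).mp hd)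

theorem cast_ne_zero_of_prime_ne (p : ℕ) [hp : Fact p.Prime] [CharP F p] (r : ℕ) (hr : r.Prime)
    (hrp : r ≠ p) : (r : F) ≠ 0 := by
  intro h
  have := (CharP.cast_eq_zero_iff F p r).mp h
  exact hrp ((Nat.prime_dvd_prime_iff_eq hp.out hr).mp this).symm

/-- **From `PSp_{2n}(q)` to `PΩ_{2n+1}(q)`.** -/
theorem sp_to_omega (hodd : Odd (Fintype.card F)) (n : ℕ) (hn : 3 ≤ n) (r s : ℕ) (hr : r.Prime)
    (hs : s.Prime) (hrs : r ≠ s) (h : r * s ∈ Set.range (orderOf : Cfsg.PSp n F → ℕ)) :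
    r * s ∈ Set.range (orderOf : Cfsg.POmega F (Cfsg.quadFormOdd n F) → ℕ) := by
  classical
  obtain ⟨p, hpp, hpc, hp2, h2⟩ := char_facts hodd
  have : CharP F p := hpc
  have : Fact p.Prime := ⟨hpp⟩
  obtain ⟨x, hx⟩ := h
  obtain ⟨A, hA⟩ := exists_Sp_of_PSp (F := F) n (by omega) x
  rw [hx] at hA
  set T : Module.End F (Fin n ⊕ Fin n → F) := Matrix.toLin' A.1 with hTdef
  have hT : ∀ j : ℕ, (T ^ j = 1 ∨ T ^ j = -1) ↔ r * s ∣ j := by
    intro j
    rw [toLin_pow_eq_one_iff, toLin_pow_eq_neg_one_iff]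
    exact hA j
  have hTω := toLin_isometry n A
  have halt := sB_alt (F := F) n
  have hsep := sB_sep (F := F) n
  have hdimV := finrank_std (F := F) n
  -- one prime is two
  have aux2 : ∀ r' : ℕ, r'.Prime → r' ≠ 2 → (∀ j : ℕ, (T ^ j = 1 ∨ T ^ j = -1) ↔ 2 * r' ∣ j) →
      2 * r' ∈ Set.range (orderOf : Cfsg.POmega F (Cfsg.quadFormOdd n F) → ℕ) := by
    intro r' hr' hr'2 hT'
    have : Fact r'.Prime := ⟨hr'⟩
    by_cases hr'p : r' = p
    · rw [hr'p]
      exact so_caseD h2 p n hn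
    · exact so_caseC h2 n hn _ halt hsep hdimV T hTω r' hr'2
        (cast_ne_zero_of_prime_ne p r' hr' hr'p) hT'
  by_cases hr2 : r = 2
  · subst hr2
    exact aux2 s hs (Ne.symm hrs) hT
  by_cases hs2 : s = 2
  · subst hs2
    rw [mul_comm]
    exact aux2 r hr hr2 (by intro j; rw [mul_comm]; exact hT j)
  -- both primes are odd
  have hrodd : Odd r := hr.odd_of_ne_two hr2
  have hsodd : Odd s := hs.odd_of_ne_two hs2
  have hNodd : Odd (r * s) := hrodd.mul hsodd
  obtain ⟨T', hT'ω, hT'ord⟩ : ∃ T' : Module.End F (Fin n ⊕ Fin n → F),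
      (∀ u v, Cfsg.Agent.Lib.Helper18.sB n F (T' u) (T' v) = Cfsg.Agent.Lib.Helper18.sB n F u v) ∧
      ∀ j : ℕ, T' ^ j = 1 ↔ r * s ∣ j := by
    rcases (hT (r * s)).mpr dvd_rfl with h1 | h1
    · refine ⟨T, hTω, fun j => ?_⟩
      constructor
      · intro hj
        exact (hT j).mp (Or.inl hj)
      · rintro ⟨k, rfl⟩
        rw [pow_mul, h1, one_pow]
    · refine ⟨-T, ?_, fun j => ?_⟩
      · intro u v
        simp only [LinearMap.neg_apply, map_neg, neg_neg]
        exact hTω u v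
      · constructor
        · intro hj
          have hnp : (-T) ^ j = (-1) ^ j * T ^ j := neg_pow T j
          rw [hnp] at hj
          rcases neg_one_pow_eq_or (Module.End F (Fin n ⊕ Fin n → F)) j with h3 | h3
          · rw [h3, one_mul] at hj
            exact (hT j).mp (Or.inl hj)
          · rw [h3, neg_one_mul, neg_eq_iff_eq_neg] at hj
            exact (hT j).mp (Or.inr hj)
        · rintro ⟨k, rfl⟩
          have hnp : (-T) ^ (r * s) = -T ^ (r * s) := hNodd.neg_pow T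
          rw [pow_mul, hnp, h1, neg_neg, one_pow]
  by_cases hrp : r = p
  · subst hrp
    have : Fact s.Prime := ⟨hs⟩
    rw [mul_comm]
    exact so_caseB h2 r n hn _ halt hsep hdimV T' hT'ω s hs2 (Ne.symm hrs)
      (by intro j; rw [mul_comm]; exact hT'ord j)
  by_cases hsp : s = p
  · subst hsp
    have : Fact r.Prime := ⟨hr⟩
    exact so_caseB h2 s n hn _ halt hsep hdimV T' hT'ω r hr2 hrs hT'ord
  · have hNF : ((r * s : ℕ) : F) ≠ 0 := by
      rw [Nat.cast_mul]
      exact mul_ne_zero (cast_ne_zero_of_prime_ne p r hr hrp) (cast_ne_zero_of_prime_ne p s hs hsp)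
    exact so_caseA h2 n hn _ halt hsep hdimV T' hT'ω (r * s) hNodd hNF hT'ord

end top

end Cfsg.Agent.Lib.Helper46.PG
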