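import Mathlib
import Cfsg.Agent.Lib.Helper46.PGBridgeSp
import Cfsg.Agent.Lib.Helper46.SympTorus
import Cfsg.Agent.Lib.Helper46.ClassicalEmb

set_option autoImplicit false

/-!
# Prime graphs of `B_n(q)` and `C_n(q)`: elements of the cyclic tori of `Sp_{2n}(q)`
-/

namespace Cfsg.Agent.Lib.Helper46.PG

open Module Matrix

section units

/-- the multiplicative group of a finite field has elements of every order dividing its order -/
theorem exists_unit_orderOf {K : Type*} [Field K] [Fintype K] (m : ℕ)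
    (hm : m ∣ Fintype.card K - 1) : ∃ ξ : Kˣ, orderOf ξ = m := by
  classical
  obtain ⟨g, hg⟩ := IsCyclic.exists_ofOrder_eq_natCard (α := Kˣ)
  have hcard : Nat.card Kˣ = Fintype.card K - 1 := by
    rw [Nat.card_eq_fintype_card, Fintype.card_units]
  rw [hcard] at hg
  have h0 : orderOf g ≠ 0 := (orderOf_pos g).ne'
  exact ⟨g ^ (orderOf g / m), orderOf_pow_orderOf_div h0 (hg ▸ hm)⟩

end units

section torus

variable {F : Type*} [Field F] [Fintype F]

/-- elements of the torus of order `q^η + 1` -/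
theorem exists_orderOf_dvd_add_one (p : ℕ) [Fact p.Prime] [CharP F p] (η : ℕ) (hη : 0 < η)
    (m : ℕ) (hm : m ∣ Fintype.card F ^ η + 1) :
    ∃ s : Matrix.symplecticGroup (Fin η) F, orderOf s = m := by
  classical
  have : NeZero (2 * η) := ⟨by omega⟩
  let K := FiniteField.Extension F p (2 * η)
  have : Fintype K := Fintype.ofFinite K
  have hfin : Module.finrank F K = 2 * η := FiniteField.finrank_extension F p (2 * η)
  have hcardK : Fintype.card K = Fintype.card F ^ (2 * η) := by
    rw [← Nat.card_eq_fintype_card, FiniteField.natCard_extension, Nat.card_eq_fintype_card]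
  have hdvd : m ∣ Fintype.card K - 1 := by
    rw [hcardK]
    have h1 : Fintype.card F ^ (2 * η) - 1 =
        (Fintype.card F ^ η + 1) * (Fintype.card F ^ η - 1) := by
      have hpos : 1 ≤ Fintype.card F ^ η := Nat.one_le_pow _ _ Fintype.card_pos
      obtain ⟨c, hc⟩ := Nat.exists_eq_add_of_le hpos
      rw [mul_comm 2 η, pow_mul, hc]
      have : (1 + c) ^ 2 - 1 = (1 + c + 1) * (1 + c - 1) := by
        rw [Nat.add_sub_cancel_left]
        have : (1 + c) ^ 2 = (1 + c + 1) * c + 1 := by ring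
        rw [this, Nat.add_sub_cancel]
      exact this
    rw [h1]
    exact dvd_mul_of_dvd_left hm _
  obtain ⟨ξ, hξ⟩ := exists_unit_orderOf (K := K) m hdvd
  let C : Subgroup Kˣ := (powMonoidHom (Fintype.card F ^ η + 1) : Kˣ →* Kˣ).ker
  have hξC : ξ ∈ C := by
    rw [MonoidHom.mem_ker, powMonoidHom_apply]
    exact orderOf_dvd_iff_pow_eq_one.mp (hξ ▸ hm)
  have hC : ∀ u ∈ C, ((u : Kˣ) : K) ^ (Fintype.card F ^ η + 1) = 1 := by
    intro u hu
    rw [MonoidHom.mem_ker, powMonoidHom_apply] at hu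
    rw [← Units.val_pow_eq_pow_val, hu, Units.val_one]
  obtain ⟨φ, hφ⟩ := Cfsg.Agent.Lib.Helper46.exists_hom_Sp_of_torus (F := F) (K := K) η hη hfin η 1
    (by omega) C hC
  refine ⟨φ (fun _ => ⟨ξ, hξC⟩), ?_⟩
  rw [orderOf_injective φ hφ, ← hξ]
  apply orderOf_eq_orderOf_iff.mpr
  intro j
  constructor
  · intro h
    have h1 := congrFun h 0
    simp only [Pi.pow_apply, Pi.one_apply] at h1
    exact congrArg (fun c : C => (c : Kˣ)) h1
  · intro h
    funext i
    simp only [Pi.pow_apply, Pi.one_apply]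
    exact Subtype.ext h

/-- elements of the torus of order `q^η - 1` -/
theorem exists_orderOf_dvd_sub_one (p : ℕ) [Fact p.Prime] [CharP F p] (η : ℕ) (hη : 0 < η)
    (m : ℕ) (hm : m ∣ Fintype.card F ^ η - 1) :
    ∃ s : Matrix.symplecticGroup (Fin η) F, orderOf s = m := by
  classical
  have : NeZero η := ⟨by omega⟩
  let K := FiniteField.Extension F p η
  have : Fintype K := Fintype.ofFinite K
  have hfin : Module.finrank F K = η := FiniteField.finrank_extension F p η
  have hcardK : Fintype.card K = Fintype.card F ^ η := by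
    rw [← Nat.card_eq_fintype_card, FiniteField.natCard_extension, Nat.card_eq_fintype_card]
  have hdvd : m ∣ Fintype.card K - 1 := by rw [hcardK]; exact hm
  obtain ⟨ξ, hξ⟩ := exists_unit_orderOf (K := K) m hdvd
  let b : Module.Basis (Fin η) F K := Module.finBasisOfFinrankEq F K hfin
  let φ0 : K →* Matrix (Fin η) (Fin η) F :=
    (Algebra.leftMulMatrix b : K →ₐ[F] Matrix (Fin η) (Fin η) F)
  let Ψ : Kˣ →* Matrix.GeneralLinearGroup (Fin η) F := Units.map φ0
  have hΨ : Function.Injective Ψ := Units.map_injective (Algebra.leftMulMatrix_injective b)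
  obtain ⟨Ψ', hΨ'⟩ := Cfsg.Agent.Lib.Helper46.exists_hom_Sp Ψ hΨ
  exact ⟨Ψ' ξ, by rw [orderOf_injective Ψ' hΨ', hξ]⟩

end torus

section half

variable {F : Type*} [Field F]

/-- an element of `Sp_{2n}(q)` of order `2N` gives an element of `PSp_{2n}(q)` of order `N` -/
theorem half_order_mem_range_PSp (n : ℕ) (hn : 1 ≤ n) (s : Matrix.symplecticGroup (Fin n) F)
    (N : ℕ) (hN : 0 < N) (hs : orderOf s = 2 * N) :
    N ∈ Set.range (orderOf : Cfsg.PSp n F → ℕ) := by
  set x : Cfsg.PSp n F := QuotientGroup.mk s with hx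
  have hx1 : x ^ (2 * N) = 1 := by
    rw [hx, ← QuotientGroup.mk_pow, ← hs, pow_orderOf_eq_one]
    rfl
  have hx2 : ∀ k : ℕ, x ^ k = 1 → N ∣ k := by
    intro k hk
    rw [hx, ← QuotientGroup.mk_pow, QuotientGroup.eq_one_iff, mem_center_Sp_iff n hn] at hk
    have h2k : s ^ (2 * k) = 1 := by
      rw [mul_comm, pow_mul]
      rcases hk with h | h
      · rw [h, one_pow]
      · apply Subtype.ext
        rw [SubmonoidClass.coe_pow, h]
        simp
    have h3 := orderOf_dvd_of_pow_eq_one h2k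
    rw [hs] at h3
    exact Nat.dvd_of_mul_dvd_mul_left (by norm_num) h3
  have hd1 : orderOf x ∣ 2 * N := orderOf_dvd_of_pow_eq_one hx1
  have hd2 : N ∣ orderOf x := hx2 _ (pow_orderOf_eq_one x)
  obtain ⟨c, hc⟩ := hd2
  have hc2 : c ∣ 2 := by
    rw [hc, mul_comm 2 N] at hd1
    exact Nat.dvd_of_mul_dvd_mul_left hN hd1
  have hc12 : c = 1 ∨ c = 2 := by
    have := Nat.le_of_dvd (by norm_num) hc2
    have h0 : c ≠ 0 := by
      rintro rfl
      simp at hc2
    interval_cases c
    · exact absurd rfl h0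
    · left; rfl
    · right; rfl
  rcases hc12 with h | h
  · exact ⟨x, by rw [hc, h, mul_one]⟩
  · refine ⟨x ^ 2, ?_⟩
    rw [orderOf_pow_of_dvd (by norm_num) (by rw [hc, h]; exact dvd_mul_left 2 N), hc, h]
    simp

end half

end Cfsg.Agent.Lib.Helper46.PG
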