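import Mathlib
import Cfsg.Agent.Lib.Helper46.PGCoreOS
import Cfsg.Agent.Lib.Helper46.PGSphere
import Cfsg.Agent.Lib.Helper46.PGTorus
import Cfsg.Agent.Lib.Helper46.PGBridgeO
import Cfsg.Agent.Lib.Helper46.PGTopSO
import Cfsg.Agent.Lib.Helper08.OmegaStd
import Cfsg.Agent.Lib.Helper08.OmegaCenterCard
import Cfsg.Agent.Lib.Helper43.Dickson
import Cfsg.Agent.Lib.Helper50.SpinorCrit
import Cfsg.Agent.Lib.Helper50.SpinorIndex
import Cfsg.Agent.Lib.Helper50.OmegaCenter

set_option autoImplicit false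

/-!
# Prime graphs of `B_n(q)` and `C_n(q)`: `PΩ_{2n+1}(q) → PSp_{2n}(q)`
-/

namespace Cfsg.Agent.Lib.Helper46.PG

open Module Matrix Cfsg.Agent.Lib.Helper46.Spec

section top

variable {F : Type*} [Field F] [Fintype F]

/-- the concrete part of the case `2r` -/
theorem sphere_concrete (p : ℕ) [hp : Fact p.Prime] [CharP F p] (h2 : (2 : F) ≠ 0)
    (hqodd : Odd (Fintype.card F)) (n : ℕ) (hn : 3 ≤ n)
    (Q : QuadraticForm F (Unit ⊕ (Fin n ⊕ Fin n) → F))
    (hQND : Cfsg.Agent.Lib.Helper50.QND Q)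
    (hcount : Nat.card {v : Unit ⊕ (Fin n ⊕ Fin n) → F // Q v = 1} =
      Fintype.card F ^ (2 * n) + Fintype.card F ^ n)
    (g : ↥(Cfsg.isometryGroup F ⇑Q))
    (hg : g ∈ commutator ↥(Cfsg.isometryGroup F ⇑Q))
    (r : ℕ) [hrp : Fact r.Prime] (hr2 : r ≠ 2) (hrF : (r : F) ≠ 0)
    (hTord : ∀ j : ℕ, (Cfsg.Agent.Lib.Helper43.linOf Q g) ^ j = 1 ↔ 2 * r ∣ j)
    (hW : finrank F (WS ((Cfsg.Agent.Lib.Helper43.linOf Q g) ^ 2) r) = 2 * n)
    (hpm : (∀ w ∈ WS ((Cfsg.Agent.Lib.Helper43.linOf Q g) ^ 2) r,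
        ((Cfsg.Agent.Lib.Helper43.linOf Q g) ^ r) w = w) ∨
      (∀ w ∈ WS ((Cfsg.Agent.Lib.Helper43.linOf Q g) ^ 2) r,
        ((Cfsg.Agent.Lib.Helper43.linOf Q g) ^ r) w = -w)) :
    2 * r ∈ Set.range (orderOf : Cfsg.PSp n F → ℕ) := by
  classical
  set T : Module.End F (Unit ⊕ (Fin n ⊕ Fin n) → F) := Cfsg.Agent.Lib.Helper43.linOf Q g with hT
  have hr3 : 3 ≤ r := by
    have := hrp.out.two_le
    omega
  have hTpow : ∀ k : ℕ, T ^ k = Cfsg.Agent.Lib.Helper43.linOf Q (g ^ k) := by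
    intro k
    induction k with
    | zero =>
      rw [pow_zero, pow_zero, Cfsg.Agent.Lib.Helper43.linOf_one]
      rfl
    | succ k ih =>
      rw [pow_succ, pow_succ, Cfsg.Agent.Lib.Helper43.linOf_mul, ih]
      rfl
  have hTQ : ∀ v, Q (T v) = Q v := Cfsg.Agent.Lib.Helper43.linOf_isometry Q g
  have hV : finrank F (Unit ⊕ (Fin n ⊕ Fin n) → F) = 2 * n + 1 := by
    rw [Module.finrank_fintype_fun_eq_card, Fintype.card_sum, Fintype.card_sum, Fintype.card_fin,
      Fintype.card_unit]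
    omega
  have hcard_odd : Odd (Fintype.card (Unit ⊕ (Fin n ⊕ Fin n))) := by
    rw [Fintype.card_sum, Fintype.card_sum, Fintype.card_fin, Fintype.card_unit]
    exact ⟨n, by omega⟩
  have hT2r : T ^ (2 * r) = 1 := (hTord _).mpr dvd_rfl
  set x : Module.End F (Unit ⊕ (Fin n ⊕ Fin n) → F) := T ^ 2 with hx
  set t : Module.End F (Unit ⊕ (Fin n ⊕ Fin n) → F) := T ^ r with ht
  have hxQ : ∀ v, Q (x v) = Q v := pow_isometry Q T hTQ 2
  have htQ : ∀ v, Q (t v) = Q v := pow_isometry Q T hTQ r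
  have hxr : x ^ r = 1 := by rw [hx, ← pow_mul, hT2r]
  have htx : Commute t x := by
    rw [hx, ht]
    exact (Commute.refl T).pow_pow r 2
  have hcountW := finrank_fix_add_WS x r hxr hrF
  rw [hV, hW] at hcountW
  have hfix1 : finrank F (LinearMap.range (avgE x r)) = 1 := by omega
  obtain ⟨d, hQd, hxd, hspan⟩ := exists_fixed_line Q hQND x hxQ r hxr hrF hfix1
  obtain ⟨a, ha⟩ := hspan (t d) (map_fixed x t htx d hxd)
  have hgr : g ^ r ∈ commutator ↥(Cfsg.isometryGroup F ⇑Q) := Subgroup.pow_mem _ hg r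
  have hdet : Cfsg.Agent.Lib.Helper50.detHom (⇑Q) (g ^ r) = 1 :=
    Abelianization.commutator_subset_ker _ hgr
  have hneq : (1 : Fˣ) ≠ -1 := by
    intro h
    apply h2
    have h4 : ((1 : Fˣ) : F) = ((-1 : Fˣ) : F) := congrArg Units.val h
    rw [Units.val_one, Units.val_neg, Units.val_one] at h4
    linear_combination h4
  -- the shape of `t`
  have hshape : ∀ (ε δ : F) (E : Module.End F (Unit ⊕ (Fin n ⊕ Fin n) → F)),
      (∀ w ∈ WS x r, t w = ε • w) → t d = δ • d → (∀ w ∈ WS x r, E w = ε • w) → E d = δ • d →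
      t = E := by
    intro ε δ E h1 h3 h4 h5
    apply LinearMap.ext
    intro v
    obtain ⟨c, w, hc, hw, rfl⟩ := exists_decomp x r hxr hrF v
    obtain ⟨b, hb⟩ := hspan c hc
    rw [map_add, map_add, h1 w hw, h4 w hw, hb, map_smul, map_smul, h3, h5]
  rcases eigen_sq_eq_one Q d hQd t htQ a ha with ha1 | ha1
  · rw [ha1, one_smul] at ha
    rcases hpm with hpos | hneg
    · -- `t = 1`
      exfalso
      have h1 : t = 1 := by
        apply hshape 1 1 1
        · intro w hw; rw [hpos w hw, one_smul]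
        · rw [ha, one_smul]
        · intro w _; rw [Module.End.one_apply, one_smul]
        · rw [Module.End.one_apply, one_smul]
      have h3 := (hTord r).mp h1
      have := Nat.le_of_dvd (by omega) h3
      omega
    · -- the sphere argument
      have h4r : 4 * r ∣ Fintype.card F ^ n + 1 ∨ 4 * r ∣ Fintype.card F ^ n - 1 := by
        by_contra hno
        have key : ∀ [inst1 : Fintype {v : Unit ⊕ (Fin n ⊕ Fin n) → F // Q v = 1}]
            [inst2 : DecidableEq {v : Unit ⊕ (Fin n ⊕ Fin n) → F // Q v = 1}],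
            @Equiv.Perm.sign _ inst2 inst1
              (Cfsg.Agent.Lib.Helper50.spherePerm (⇑Q) 1 (g ^ r)) = -1 := by
          intro inst1 inst2
          rcases Int.units_eq_one_or (@Equiv.Perm.sign _ inst2 inst1
              (Cfsg.Agent.Lib.Helper50.spherePerm (⇑Q) 1 (g ^ r))) with h | h
          · exfalso
            apply hno
            exact sphere_arith h2 rfl hqodd Q n hcount T hTQ r hr2 hrF hT2r hW hneg d hQd hxd
              hspan ha _
              (fun v => by
                rw [hTpow, Cfsg.Agent.Lib.Helper43.linOf_apply]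
                rfl) h
          · exact h
        have h1 : Cfsg.Agent.Lib.Helper50.theta (⇑Q) 1 (g ^ r) = 1 :=
          Abelianization.commutator_subset_ker _ hgr
        have h3 : Cfsg.Agent.Lib.Helper50.theta (⇑Q) 1 (g ^ r) = -1 := key
        rw [h1] at h3
        exact absurd h3 (by decide)
      have hrpos : 0 < 2 * r := by omega
      rcases h4r with h | h
      · obtain ⟨s, hs⟩ := exists_orderOf_dvd_add_one (F := F) p n (by omega) (4 * r) h
        exact half_order_mem_range_PSp n (by omega) s (2 * r) hrpos (by rw [hs]; ring)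
      · obtain ⟨s, hs⟩ := exists_orderOf_dvd_sub_one (F := F) p n (by omega) (4 * r) h
        exact half_order_mem_range_PSp n (by omega) s (2 * r) hrpos (by rw [hs]; ring)
  · exfalso
    rw [ha1] at ha
    rcases hpm with hpos | hneg
    · -- `t` is the reflection in `d`
      have h1 : t = Cfsg.Agent.Lib.Helper19.reflLin Q d := by
        apply hshape 1 (-1) _
        · intro w hw; rw [hpos w hw, one_smul]
        · exact ha
        · intro w hw
          rw [Cfsg.Agent.Lib.Helper19.reflLin_apply,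
            polar_fixed_ker Q x hxQ r hrF d w hxd (mem_WS.mp hw), mul_zero, zero_smul, sub_zero,
            one_smul]
        · rw [Cfsg.Agent.Lib.Helper19.reflLin_apply, QuadraticMap.polar_self, two_nsmul,
            ← two_mul, ← mul_assoc, mul_comm _ (2 : F), mul_assoc, inv_mul_cancel₀ hQd, mul_one,
            two_smul, neg_smul, one_smul]
          abel
      have h3 : g ^ r = Cfsg.Agent.Lib.Helper50.reflO Q d := by
        apply Cfsg.Agent.Lib.Helper43.linOf_injective Q
        rw [← hTpow, Cfsg.Agent.Lib.Helper08.linOf_reflO50 Q d hQd]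
        exact h1
      rw [h3, Cfsg.Agent.Lib.Helper50.detHom_reflO Q d hQd] at hdet
      exact hneq hdet.symm
    · -- `t = -1`
      have h1 : t = Cfsg.Agent.Lib.Helper43.linOf Q (Cfsg.Agent.Lib.Helper50.negO Q) := by
        have hnegv : ∀ v, Cfsg.Agent.Lib.Helper43.linOf Q (Cfsg.Agent.Lib.Helper50.negO Q) v =
            -v := by
          intro v
          rw [Cfsg.Agent.Lib.Helper43.linOf_apply, Cfsg.Agent.Lib.Helper50.negO_val,
            Matrix.neg_mulVec, Matrix.one_mulVec]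
        apply hshape (-1) (-1) _
        · intro w hw; rw [hneg w hw, neg_smul, one_smul]
        · exact ha
        · intro w _; rw [hnegv, neg_smul, one_smul]
        · rw [hnegv, neg_smul, one_smul]
      have h3 : g ^ r = Cfsg.Agent.Lib.Helper50.negO Q := by
        apply Cfsg.Agent.Lib.Helper43.linOf_injective Q
        rw [← hTpow]
        exact h1
      rw [h3, Cfsg.Agent.Lib.Helper50.detHom_negO Q hcard_odd] at hdet
      exact hneq hdet.symm

/-- **From `PΩ_{2n+1}(q)` to `PSp_{2n}(q)`.** -/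
theorem omega_to_sp (hodd : Odd (Fintype.card F)) (n : ℕ) (hn : 3 ≤ n) (r s : ℕ) (hr : r.Prime)
    (hs : s.Prime) (hrs : r ≠ s)
    (h : r * s ∈ Set.range (orderOf : Cfsg.POmega F (Cfsg.quadFormOdd n F) → ℕ)) :
    r * s ∈ Set.range (orderOf : Cfsg.PSp n F → ℕ) := by
  classical
  obtain ⟨p, hpp, hpc, hp2, h2⟩ := char_facts hodd
  have : CharP F p := hpc
  have : Fact p.Prime := ⟨hpp⟩
  obtain ⟨x, hx⟩ := h
  obtain ⟨g, hgO, hgord⟩ := exists_Omega_of_POmega h2 n hn x
  rw [hx] at hgord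
  set dd := Cfsg.Agent.Lib.Helper08.qdataOdd (F := F) n h2 with hdd
  set Q : QuadraticForm F (Unit ⊕ (Fin n ⊕ Fin n) → F) := dd.qf with hQ
  let g' : ↥(Cfsg.isometryGroup F ⇑Q) := g
  have hg'O : g' ∈ commutator ↥(Cfsg.isometryGroup F ⇑Q) := hgO
  set T : Module.End F (Unit ⊕ (Fin n ⊕ Fin n) → F) := Cfsg.Agent.Lib.Helper43.linOf Q g' with hT
  have hTpow : ∀ k : ℕ, T ^ k = Cfsg.Agent.Lib.Helper43.linOf Q (g' ^ k) := by
    intro k
    induction k with
    | zero =>
      rw [pow_zero, pow_zero, Cfsg.Agent.Lib.Helper43.linOf_one]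
      rfl
    | succ k ih =>
      rw [pow_succ, pow_succ, Cfsg.Agent.Lib.Helper43.linOf_mul, ih]
      rfl
  have hone : Cfsg.Agent.Lib.Helper43.linOf Q (1 : ↥(Cfsg.isometryGroup F ⇑Q)) = 1 := by
    rw [Cfsg.Agent.Lib.Helper43.linOf_one]; rfl
  have hTord : ∀ j : ℕ, T ^ j = 1 ↔ r * s ∣ j := by
    intro j
    rw [hTpow, ← hgord]
    constructor
    · intro hj
      rw [← hone] at hj
      have := Cfsg.Agent.Lib.Helper43.linOf_injective Q hj
      exact orderOf_dvd_of_pow_eq_one this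
    · intro hj
      have : g' ^ j = 1 := orderOf_dvd_iff_pow_eq_one.mp hj
      rw [this, hone]
  have hTQ : ∀ v, Q (T v) = Q v := Cfsg.Agent.Lib.Helper43.linOf_isometry Q g'
  have hQND : Cfsg.Agent.Lib.Helper50.QND Q := fun x hx => dd.qf_nondeg.1 x hx
  have hV : finrank F (Unit ⊕ (Fin n ⊕ Fin n) → F) = 2 * n + 1 := by
    rw [Module.finrank_fintype_fun_eq_card, Fintype.card_sum, Fintype.card_sum, Fintype.card_fin,
      Fintype.card_unit]
    omega
  have hcount : Nat.card {v : Unit ⊕ (Fin n ⊕ Fin n) → F // Q v = 1} =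
      Fintype.card F ^ (2 * n) + Fintype.card F ^ n := card_sphere_odd_one h2 n (by omega)
  -- one prime is two
  have aux2 : ∀ r' : ℕ, r'.Prime → r' ≠ 2 → (∀ j : ℕ, T ^ j = 1 ↔ 2 * r' ∣ j) →
      2 * r' ∈ Set.range (orderOf : Cfsg.PSp n F → ℕ) := by
    intro r' hr' hr'2 hT'
    have : Fact r'.Prime := ⟨hr'⟩
    by_cases hr'p : r' = p
    · rw [hr'p]
      exact os_caseD h2 p n (by omega)
    · have hr'F := cast_ne_zero_of_prime_ne (F := F) p r' hr' hr'p
      rcases os_caseC_abs h2 n (by omega) Q hQND hV T hTQ r' hr'2 hr'F hT' with h1 | ⟨hW, hpm⟩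
      · exact h1
      · exact sphere_concrete p h2 hodd n hn Q hQND hcount g' hg'O r' hr'2 hr'F hT' hW hpm
  by_cases hr2 : r = 2
  · subst hr2
    exact aux2 s hs (Ne.symm hrs) hTord
  by_cases hs2 : s = 2
  · subst hs2
    rw [mul_comm]
    exact aux2 r hr hr2 (by intro j; rw [mul_comm]; exact hTord j)
  -- both primes are odd
  have hrodd : Odd r := hr.odd_of_ne_two hr2
  have hsodd : Odd s := hs.odd_of_ne_two hs2
  have hNodd : Odd (r * s) := hrodd.mul hsodd
  by_cases hrp : r = p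
  · subst hrp
    have : Fact s.Prime := ⟨hs⟩
    rw [mul_comm]
    exact os_caseB h2 r n (by omega) Q hQND hV T hTQ s hs2 (Ne.symm hrs)
      (by intro j; rw [mul_comm]; exact hTord j)
  by_cases hsp : s = p
  · subst hsp
    have : Fact r.Prime := ⟨hr⟩
    exact os_caseB h2 s n (by omega) Q hQND hV T hTQ r hr2 hrs hTord
  · have hNF : ((r * s : ℕ) : F) ≠ 0 := by
      rw [Nat.cast_mul]
      exact mul_ne_zero (cast_ne_zero_of_prime_ne p r hr hrp) (cast_ne_zero_of_prime_ne p s hs hsp)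
    have hN1 : 1 < r * s := by
      have := hr.two_le
      have := hs.two_le
      nlinarith
    exact os_caseA h2 n (by omega) Q hQND hV T hTQ (r * s) hNodd hN1 hNF hTord

end top

end Cfsg.Agent.Lib.Helper46.PG
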