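import Mathlib
import Cfsg.Agent.Lib.Helper05.CharDecomp

set_option autoImplicit false
set_option linter.unusedSectionVars false
set_option linter.unusedVariables false
set_option linter.unusedSimpArgs false

/-! A non-trivial finite-dimensional complex representation of a finite perfect group has an
irreducible constituent of degree at least two. -/

namespace Cfsg.Agent.Lib.Helper46

open Representation Module

universe u

section perfect

variable {G : Type*} [Group G]

/-- a one-dimensional representation of a perfect group is trivial -/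
theorem rep_eq_one_of_finrank_eq_one {V : Type*} [AddCommGroup V] [Module ℂ V]
    (hG : commutator G = ⊤) (ρ : Representation ℂ G V) (h1 : finrank ℂ V = 1) (g : G) :
    ρ g = 1 := by
  obtain ⟨v, hv0, hv⟩ := finrank_eq_one_iff'.1 h1
  choose χ hχ using fun g : G => hv (ρ g v)
  have hinj : Function.Injective fun c : ℂ => c • v := smul_left_injective ℂ hv0
  have hmul : ∀ g h, χ (g * h) = χ g * χ h := by
    intro g h
    apply hinj
    change χ (g * h) • v = (χ g * χ h) • v
    rw [hχ, map_mul, Module.End.mul_apply, ← hχ h, map_smul, ← hχ g, smul_smul, mul_comm]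
  have hone : χ 1 = 1 := by
    apply hinj
    change χ 1 • v = (1 : ℂ) • v
    rw [hχ, map_one, Module.End.one_apply, one_smul]
  let χ' : G →* ℂ := ⟨⟨χ, hone⟩, hmul⟩
  have hker : commutator G ≤ χ'.toHomUnits.ker := Abelianization.commutator_subset_ker _
  rw [hG] at hker
  have hg : χ'.toHomUnits g = 1 := hker (Subgroup.mem_top g)
  have hχg : χ g = 1 := by
    have := congrArg Units.val hg
    exact this
  apply LinearMap.ext
  intro w
  obtain ⟨c, rfl⟩ := hv w
  rw [map_smul, ← hχ g, hχg, one_smul]
  rfl

/-- **Constituents of perfect groups**: a finite-dimensional complex representation of a finite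
perfect group which is not trivial has an irreducible constituent of degree at least two. -/
theorem exists_irreducible_of_perfect [Finite G] (hG : commutator G = ⊤)
    (V : Type u) [AddCommGroup V] [Module ℂ V] [FiniteDimensional ℂ V]
    (ρ : Representation ℂ G V) (hρ : ∃ g, ρ g ≠ 1) :
    ∃ d : ℕ, 2 ≤ d ∧ d ≤ finrank ℂ V ∧
      ∃ σ : Representation ℂ G (Fin d → ℂ), σ.IsIrreducible := by
  revert hρ
  refine Cfsg.Agent.Lib.Helper05.rep_induction
    (P := fun V _ _ _ ρ => (∃ g, ρ g ≠ 1) → ∃ d : ℕ, 2 ≤ d ∧ d ≤ finrank ℂ V ∧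
      ∃ σ : Representation ℂ G (Fin d → ℂ), σ.IsIrreducible) ?_ ?_ V ρ
  · intro V _ _ _ ρ hV ⟨g, hg⟩
    exfalso
    apply hg
    apply LinearMap.ext
    intro v
    exact Subsingleton.elim _ _
  · intro V _ _ _ ρ U U' hU hU' hc hirr ih ⟨g, hg⟩
    have hUpos : 0 < finrank ℂ U := by
      rw [Module.finrank_pos_iff]
      rw [Cfsg.Agent.Lib.Helper05.isIrreducible_iff] at hirr
      exact hirr.1
    have hsum := Submodule.finrank_add_eq_of_isCompl hc
    by_cases hU2 : 2 ≤ finrank ℂ U
    · refine ⟨finrank ℂ U, hU2, by omega, ?_⟩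
      have hfin : finrank ℂ U = finrank ℂ (Fin (finrank ℂ U) → ℂ) := by
        rw [Module.finrank_fin_fun]
      let e : U ≃ₗ[ℂ] (Fin (finrank ℂ U) → ℂ) := LinearEquiv.ofFinrankEq _ _ hfin
      refine ⟨Cfsg.Agent.Lib.Helper05.conjRep (ρ.subrepresentation U hU) e, ?_⟩
      apply Cfsg.Agent.Lib.Helper05.isIrreducible_of_linearEquiv e _ hirr
      intro g v
      rw [Cfsg.Agent.Lib.Helper05.conjRep_apply, LinearEquiv.symm_apply_apply]
    · have hU1 : finrank ℂ U = 1 := by omega
      have htriv := rep_eq_one_of_finrank_eq_one hG (ρ.subrepresentation U hU) hU1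
      have hnon : ∃ g, (ρ.subrepresentation U' hU') g ≠ 1 := by
        by_contra hcon
        push Not at hcon
        apply hg
        apply LinearMap.ext
        intro v
        have hv : v ∈ U ⊔ U' := by
          rw [hc.sup_eq_top]
          trivial
        obtain ⟨a, ha, b, hb, rfl⟩ := Submodule.mem_sup.1 hv
        have h1 := congrArg (fun f : Module.End ℂ U => ((f ⟨a, ha⟩ : U) : V)) (htriv g)
        have h2 := congrArg (fun f : Module.End ℂ U' => ((f ⟨b, hb⟩ : U') : V)) (hcon g)
        simp only [Module.End.one_apply] at h1 h2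
        rw [map_add, Module.End.one_apply]
        have h1' : ρ g a = a := h1
        have h2' : ρ g b = b := h2
        rw [h1', h2']
      obtain ⟨d, hd2, hdle, σ, hσ⟩ := ih hnon
      exact ⟨d, hd2, by omega, σ, hσ⟩

end perfect

end Cfsg.Agent.Lib.Helper46
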