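import Mathlib
import Cfsg.Agent.Lib.Helper48.RSpDefs2

/-! Pack K-RSp (S2281), leaf P1 `sym_step`: the induction step `Sym{0..k} → Sym{0..k+1}`. -/

set_option autoImplicit false
set_option linter.unusedSimpArgs false
set_option linter.unusedVariables false

namespace Cfsg.Agent.Lib.Helper46.RSp

open Matrix Cfsg.Agent.Lib.Helper48.RSp Cfsg.Agent.Lib.Helper18

section aux

variable (m : ℕ) (F : Type*) [Field F]

/-- the `i`-th standard vector, indexed by a natural number (zero if out of range) -/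
def p1e (i : ℕ) : Fin (m + 2) → F := fun r => if r.val = i then 1 else 0

/-- `B_ab = E_ab + E_ba` (natural number indices) -/
def p1B (a b : ℕ) : SM m F :=
  vecMulVec (p1e m F a) (p1e m F b) + vecMulVec (p1e m F b) (p1e m F a)

/-- `E_aa` (natural number index) -/
def p1E (a : ℕ) : SM m F := vecMulVec (p1e m F a) (p1e m F a)

variable {m F}

/-- `δ_i`, extended by zero -/
def p1d (δ : Fin (m + 2) → F) (i : ℕ) : F := if h : i < m + 2 then δ ⟨i, h⟩ else 0

theorem p1_conj (M : SM m F) (v w : Fin (m + 2) → F) :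
    M * vecMulVec v w * Mᵀ = vecMulVec (M *ᵥ v) (M *ᵥ w) := by
  rw [mul_vecMulVec, vecMulVec_mul, vecMul_transpose]

theorem p1e_eq_single (i : ℕ) (hi : i < m + 2) : p1e m F i = Pi.single (⟨i, hi⟩ : Fin (m + 2)) 1 := by
  ext r
  by_cases h : r = ⟨i, hi⟩
  · subst h
    simp [p1e]
  · have h' : r.val ≠ i := fun e => h (Fin.ext e)
    simp [p1e, h, h']

theorem p1e_eq_zero (i : ℕ) (hi : ¬ i < m + 2) : p1e m F i = 0 := by
  ext r
  have h' : r.val ≠ i := fun e => hi (e ▸ r.isLt)
  simp [p1e, h']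

theorem p1_L_e (δ : Fin (m + 2) → F) (i : ℕ) :
    Lbi m δ *ᵥ p1e m F i = p1e m F i + p1d δ i • p1e m F (i + 1) := by
  by_cases hi : i < m + 2
  · rw [p1e_eq_single i hi, mulVec_single_one]
    ext r
    have hd : p1d δ i = δ ⟨i, hi⟩ := by simp [p1d, hi]
    rw [hd]
    simp only [Matrix.col_apply, Lbi, Pi.add_apply, Pi.smul_apply, smul_eq_mul, p1e, Pi.single_apply]
    by_cases h1 : r = ⟨i, hi⟩
    · have h2 : r.val ≠ i + 1 := by rw [h1]; simp
      simp [h1]
    · have h1' : r.val ≠ i := fun e => h1 (Fin.ext e)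
      by_cases h2 : r.val = i + 1
      · simp [h1, h2]
      · have h3 : ¬ i + 1 = r.val := fun e => h2 e.symm
        simp [h1, h2, h3]
  · have hd : p1d δ i = 0 := by simp [p1d, hi]
    rw [p1e_eq_zero i hi, hd, mulVec_zero, zero_smul, add_zero]

theorem p1_U_e_succ (j : ℕ) (hj : j + 1 < m + 2) :
    Uup m F *ᵥ p1e m F (j + 1) = p1e m F (j + 1) + p1e m F j := by
  rw [p1e_eq_single (j + 1) hj, mulVec_single_one]
  ext r
  simp only [Matrix.col_apply, Uup, Nup, Matrix.add_apply, Matrix.one_apply, Pi.add_apply, Pi.single_apply]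
  by_cases h1 : r = ⟨j + 1, hj⟩
  · have h2 : r.val ≠ j := by rw [h1]; simp
    have h3 : ¬ r.val + 1 = j + 1 := by omega
    simp [h1, p1e]
  · have h1' : r.val ≠ j + 1 := fun e => h1 (Fin.ext e)
    by_cases h2 : r.val = j
    · simp [h1, h2, p1e]
    · have h3 : ¬ r.val + 1 = j + 1 := by omega
      simp [h1, h2, p1e]

theorem p1_U_e_zero : Uup m F *ᵥ p1e m F 0 = p1e m F 0 := by
  rw [p1e_eq_single 0 (by omega), mulVec_single_one]
  ext r
  simp only [Matrix.col_apply, Uup, Nup, Matrix.add_apply, Matrix.one_apply, Pi.single_apply]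
  by_cases h1 : r = ⟨0, by omega⟩
  · simp [h1]
  · simp

theorem p1_L_B (δ : Fin (m + 2) → F) (μ : F) (a b : ℕ) :
    Lbi m δ * (μ • p1B m F a b) * (Lbi m δ)ᵀ =
      μ • (p1B m F a b + p1d δ b • p1B m F a (b + 1) + p1d δ a • p1B m F (a + 1) b +
        (p1d δ a * p1d δ b) • p1B m F (a + 1) (b + 1)) := by
  rw [Matrix.mul_smul, Matrix.smul_mul]
  congr 1
  unfold p1B
  rw [Matrix.mul_add, Matrix.add_mul, p1_conj, p1_conj, p1_L_e, p1_L_e]
  simp only [add_vecMulVec, vecMulVec_add, smul_vecMulVec, vecMulVec_smul]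
  module

theorem p1_L_E (δ : Fin (m + 2) → F) (μ : F) (a : ℕ) :
    Lbi m δ * (μ • p1E m F a) * (Lbi m δ)ᵀ =
      μ • (p1E m F a + p1d δ a • p1B m F a (a + 1) + (p1d δ a) ^ 2 • p1E m F (a + 1)) := by
  rw [Matrix.mul_smul, Matrix.smul_mul]
  congr 1
  unfold p1E p1B
  rw [p1_conj, p1_L_e]
  simp only [add_vecMulVec, vecMulVec_add, smul_vecMulVec, vecMulVec_smul]
  module

theorem p1_U_B_succ (ν : F) (a b : ℕ) (ha : a + 1 < m + 2) (hb : b + 1 < m + 2) :
    Uup m F * (ν • p1B m F (a + 1) (b + 1)) * (Uup m F)ᵀ =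
      ν • (p1B m F (a + 1) (b + 1) + p1B m F (a + 1) b + p1B m F a (b + 1) + p1B m F a b) := by
  rw [Matrix.mul_smul, Matrix.smul_mul]
  congr 1
  unfold p1B
  rw [Matrix.mul_add, Matrix.add_mul, p1_conj, p1_conj, p1_U_e_succ a ha, p1_U_e_succ b hb]
  simp only [add_vecMulVec, vecMulVec_add]
  abel

theorem p1_U_B_zero (ν : F) (b : ℕ) (hb : b + 1 < m + 2) :
    Uup m F * (ν • p1B m F 0 (b + 1)) * (Uup m F)ᵀ =
      ν • (p1B m F 0 (b + 1) + p1B m F 0 b) := by
  rw [Matrix.mul_smul, Matrix.smul_mul]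
  congr 1
  unfold p1B
  rw [Matrix.mul_add, Matrix.add_mul, p1_conj, p1_conj, p1_U_e_zero, p1_U_e_succ b hb]
  simp only [add_vecMulVec, vecMulVec_add]
  abel

theorem p1B_mem (k a b : ℕ) (ha : a ≤ k) (hb : b ≤ k) (μ : F) : μ • p1B m F a b ∈ SymLE m k := by
  refine ⟨?_, ?_⟩
  · unfold p1B
    rw [transpose_smul, transpose_add, transpose_vecMulVec, transpose_vecMulVec]
    congr 1
    exact add_comm _ _
  · intro i j hij
    simp only [p1B, Matrix.smul_apply, Matrix.add_apply, vecMulVec_apply, p1e, smul_eq_mul]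
    rcases hij with h | h
    · have h1 : i.val ≠ a := by omega
      have h2 : i.val ≠ b := by omega
      simp [h1, h2]
    · have h1 : j.val ≠ a := by omega
      have h2 : j.val ≠ b := by omega
      simp [h1, h2]

theorem p1E_mem (k a : ℕ) (ha : a ≤ k) (μ : F) : μ • p1E m F a ∈ SymLE m k := by
  refine ⟨?_, ?_⟩
  · unfold p1E
    rw [transpose_smul, transpose_vecMulVec]
  · intro i j hij
    simp only [p1E, Matrix.smul_apply, vecMulVec_apply, p1e, smul_eq_mul]
    rcases hij with h | h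
    · have h1 : i.val ≠ a := by omega
      simp [h1]
    · have h1 : j.val ≠ a := by omega
      simp [h1]

end aux

variable {m : ℕ} {F : Type*} [Field F]

/-- **LEAF P1** the induction step `Sym{0..k} → Sym{0..k+1}`, `k ≥ 1`. -/
theorem sym_step (X : AddSubgroup (SM m F)) (δ : Fin (m + 2) → F)
    (hδ : ∀ j, δ j ≠ 0)
    (hU : ∀ S ∈ X, Uup m F * S * (Uup m F)ᵀ ∈ X)
    (hL : ∀ S ∈ X, Sᵀ = S → (∀ j, S (Fin.last (m + 1)) j = 0) → Lbi m δ * S * (Lbi m δ)ᵀ ∈ X)
    (k : ℕ) (hk1 : 1 ≤ k) (hk : k + 1 < m + 2) (h : SymLE m k ⊆ (X : Set (SM m F))) :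
    SymLE m (k + 1) ⊆ (X : Set (SM m F)) := by
  have hd : ∀ i, i < m + 2 → p1d δ i ≠ 0 := by
    intro i hi
    simp only [p1d, hi, dif_pos]
    exact hδ _
  have hLk : ∀ S ∈ SymLE m k, Lbi m δ * S * (Lbi m δ)ᵀ ∈ X := by
    intro S hS
    refine hL S (h hS) hS.1 (fun j => hS.2 _ _ (Or.inl ?_))
    simp only [Fin.val_last]
    omega
  have hXB : ∀ a b, a ≤ k → b ≤ k → ∀ μ : F, μ • p1B m F a b ∈ X :=
    fun a b ha hb μ => h (p1B_mem k a b ha hb μ)
  have hXE : ∀ a, a ≤ k → ∀ μ : F, μ • p1E m F a ∈ X := fun a ha μ => h (p1E_mem k a ha μ)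
  -- Step A
  have hZ : ∀ i, i < k → ∀ ν : F,
      ν • (p1B m F i (k + 1) + p1d δ i • p1B m F (i + 1) (k + 1)) ∈ X := by
    intro i hi ν
    have hdk := hd k (by omega)
    have h1 := hLk ((ν / p1d δ k) • p1B m F i k) (p1B_mem k i k (by omega) le_rfl _)
    rw [p1_L_B] at h1
    have h2 := hXB i k (by omega) le_rfl (ν / p1d δ k)
    have h3 := hXB (i + 1) k (by omega) le_rfl (ν / p1d δ k * p1d δ i)
    have h4 := X.sub_mem (X.sub_mem h1 h2) h3
    convert h4 using 1
    have hν : ν = ν / p1d δ k * p1d δ k := by field_simp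
    conv_lhs => rw [hν]
    module
  -- Step B1
  have hB0 : ∀ ν : F, ν • p1B m F 0 (k + 1) ∈ X := by
    intro ν
    have hd0 := hd 0 (by omega)
    obtain ⟨k', rfl⟩ : ∃ k', k = k' + 1 := ⟨k - 1, by omega⟩
    have hZ0 := hZ 0 (by omega) (ν / p1d δ 0)
    rw [smul_add, smul_smul] at hZ0
    -- apply U to both pieces
    have hU0 := hU _ hZ0
    rw [Matrix.mul_add, Matrix.add_mul, p1_U_B_zero _ _ (by omega),
      p1_U_B_succ _ 0 (k' + 1) (by omega) (by omega)] at hU0
    have h2 := hXB 0 (k' + 1) (by omega) le_rfl (ν / p1d δ 0)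
    have h3 := hXB 1 (k' + 1) (by omega) le_rfl (ν / p1d δ 0 * p1d δ 0)
    have h4 := hXB 0 (k' + 1) (by omega) le_rfl (ν / p1d δ 0 * p1d δ 0)
    have h5 := X.sub_mem (X.sub_mem (X.sub_mem (X.sub_mem hU0 hZ0) h2) h3) h4
    convert h5 using 1
    have hν : ν = ν / p1d δ 0 * p1d δ 0 := by field_simp
    conv_lhs => rw [hν]
    simp only [zero_add]
    module
  -- Step B2
  have hBa : ∀ a, a ≤ k → ∀ ν : F, ν • p1B m F a (k + 1) ∈ X := by
    intro a
    induction a with
    | zero => intro _ ν; exact hB0 ν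
    | succ a ih =>
      intro ha ν
      have hda := hd a (by omega)
      have h1 := hZ a (by omega) (ν / p1d δ a)
      have h2 := ih (by omega) (ν / p1d δ a)
      have h3 := X.sub_mem h1 h2
      convert h3 using 1
      have hν : ν = ν / p1d δ a * p1d δ a := by field_simp
      conv_lhs => rw [hν]
      module
  -- Step C
  have hEK : ∀ ν : F, ν • p1E m F (k + 1) ∈ X := by
    intro ν
    have hdk := hd k (by omega)
    have h1 := hLk ((ν / (p1d δ k) ^ 2) • p1E m F k) (p1E_mem k k le_rfl _)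
    rw [p1_L_E] at h1
    have h2 := hXE k le_rfl (ν / (p1d δ k) ^ 2)
    have h3 := hBa k le_rfl (ν / (p1d δ k) ^ 2 * p1d δ k)
    have h4 := X.sub_mem (X.sub_mem h1 h2) h3
    convert h4 using 1
    have hν : ν = ν / (p1d δ k) ^ 2 * (p1d δ k) ^ 2 := by field_simp
    conv_lhs => rw [hν]
    module
  -- the decomposition
  intro S hS
  obtain ⟨hSt, hS0⟩ := hS
  have hsym : ∀ i j, S j i = S i j := fun i j => congrFun (congrFun hSt i) j
  set Kf : Fin (m + 2) := ⟨k + 1, hk⟩ with hKf
  let S₀ : SM m F := Matrix.of fun i j => if i.val ≤ k ∧ j.val ≤ k then S i j else 0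
  have hS₀ : S₀ ∈ SymLE m k := by
    refine ⟨?_, ?_⟩
    · ext i j
      simp only [S₀, Matrix.transpose_apply, Matrix.of_apply]
      by_cases hc : i.val ≤ k ∧ j.val ≤ k
      · rw [if_pos hc, if_pos ⟨hc.2, hc.1⟩, hsym]
      · rw [if_neg hc, if_neg (fun hc' => hc ⟨hc'.2, hc'.1⟩)]
    · intro i j hij
      simp only [S₀, Matrix.of_apply]
      rw [if_neg]
      rintro ⟨h1, h2⟩
      omega
  let c : Fin (m + 2) → F := fun a => if a.val ≤ k then S a Kf else 0
  let R : SM m F := ∑ a : Fin (m + 2), c a • p1B m F a.val (k + 1)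
  have hR : R ∈ X := by
    apply X.sum_mem
    intro a _
    by_cases ha : a.val ≤ k
    · exact hBa a.val ha _
    · simp only [c, if_neg ha, zero_smul]
      exact X.zero_mem
  have hRij : ∀ i j : Fin (m + 2), R i j =
      (if j.val = k + 1 then c i else 0) + (if i.val = k + 1 then c j else 0) := by
    intro i j
    simp only [R, Matrix.sum_apply, Matrix.smul_apply, smul_eq_mul, p1B, Matrix.add_apply,
      vecMulVec_apply, p1e]
    have hterm : ∀ a : Fin (m + 2),
        c a * ((if i.val = a.val then 1 else 0) * (if j.val = k + 1 then 1 else 0) +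
          (if i.val = k + 1 then 1 else 0) * (if j.val = a.val then 1 else 0)) =
        (if a = i then (if j.val = k + 1 then c a else 0) else 0) +
          (if a = j then (if i.val = k + 1 then c a else 0) else 0) := by
      intro a
      have e1 : (if i.val = a.val then (1 : F) else 0) = if a = i then 1 else 0 := by
        by_cases h1 : a = i
        · subst h1; simp
        · have h1' : ¬ i.val = a.val := fun e => h1 (Fin.ext e.symm)
          simp [h1, h1']
      have e2 : (if j.val = a.val then (1 : F) else 0) = if a = j then 1 else 0 := by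
        by_cases h1 : a = j
        · subst h1; simp
        · have h1' : ¬ j.val = a.val := fun e => h1 (Fin.ext e.symm)
          simp [h1, h1']
      rw [e1, e2]
      split_ifs <;> ring
    rw [Finset.sum_congr rfl (fun a _ => hterm a), Finset.sum_add_distrib,
      Finset.sum_ite_eq' Finset.univ i, Finset.sum_ite_eq' Finset.univ j]
    simp
  have hdec : S = S₀ + R + S Kf Kf • p1E m F (k + 1) := by
    ext i j
    rw [Matrix.add_apply, Matrix.add_apply, hRij]
    simp only [S₀, Matrix.of_apply, Matrix.smul_apply, smul_eq_mul, p1E, vecMulVec_apply, p1e, c]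
    have hKv : Kf.val = k + 1 := rfl
    have hKv' : ¬ Kf.val ≤ k := by rw [hKv]; omega
    have hi3 : i.val ≤ k ∨ i.val = k + 1 ∨ k + 1 < i.val := by omega
    have hj3 : j.val ≤ k ∨ j.val = k + 1 ∨ k + 1 < j.val := by omega
    rcases hi3 with hi | hi | hi
    · have hi' : ¬ i.val = k + 1 := by omega
      rcases hj3 with hj | hj | hj
      · have hj' : ¬ j.val = k + 1 := by omega
        simp [hi, hj, hi', hj']
      · have hjK : j = Kf := Fin.ext hj
        have hj' : ¬ j.val ≤ k := by omega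
        simp [hi, hj, hi', hj', hjK, hKv, hKv']
      · have hj' : ¬ j.val = k + 1 := by omega
        have hj'' : ¬ j.val ≤ k := by omega
        rw [hS0 i j (Or.inr hj)]
        simp [hi', hj', hj'']
    · have hiK : i = Kf := Fin.ext hi
      have hi' : ¬ i.val ≤ k := by omega
      rcases hj3 with hj | hj | hj
      · have hj' : ¬ j.val = k + 1 := by omega
        simp [hi, hj, hi', hj', hiK, hsym, hKv, hKv']
      · have hjK : j = Kf := Fin.ext hj
        have hj' : ¬ j.val ≤ k := by omega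
        simp [hi, hj, hi', hj', hiK, hjK, hKv, hKv']
      · have hj' : ¬ j.val = k + 1 := by omega
        have hj'' : ¬ j.val ≤ k := by omega
        rw [hS0 i j (Or.inr hj)]
        simp [hi, hi', hj', hj'']
    · have hi' : ¬ i.val = k + 1 := by omega
      have hi'' : ¬ i.val ≤ k := by omega
      rw [hS0 i j (Or.inl hi)]
      simp [hi', hi'']
  rw [hdec]
  exact X.add_mem (X.add_mem (h hS₀) hR) (hEK _)

end Cfsg.Agent.Lib.Helper46.RSp
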