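import Mathlib
import Cfsg.Agent.Lib.Helper73.RUDefs
import Cfsg.Agent.Lib.Helper73.RUHub

set_option autoImplicit false

/-!
# K-RU4 leaf C (S2279): the step up, conjugation by `u⁻¹ v`
(header definitions copied verbatim from `notes/S2279_primecore_helper2.lean.txt`)
-/

namespace Cfsg.Agent.Lib.Helper46.RU4C

open Matrix Cfsg.Agent.Lib.Helper73.RU Cfsg.Agent.Lib.Helper73.RUSpec

section defs
variable (m : ℕ) (F : Type*) [Field F]

/-- the index `last - 1` -/
def pen : Fin (m + 3) := ⟨m + 1, by omega⟩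

/-- the conjugator `g = 1 + l E_{last,0}` (a transvection) -/
def g4 (l : F) : Matrix (Fin (m + 3)) (Fin (m + 3)) F :=
  1 + Matrix.single (Fin.last (m + 2)) 0 l

/-- `v = g a g⁻¹ = a + l E_{last,1} - l E_{last-1,0}` -/
def v4 (l : F) : Matrix (Fin (m + 3)) (Fin (m + 3)) F :=
  aMat m F + Matrix.single (Fin.last (m + 2)) 1 l - Matrix.single (pen m) 0 l

/-- `c₁ = a e_last = e_last + e_{last-1}` -/
def c1 : Fin (m + 3) → F := Pi.single (Fin.last (m + 2)) 1 + Pi.single (pen m) 1

/-- `φ₋₁ = e_0ᵀ a = e_0 + e_1` -/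
def f1 : Fin (m + 3) → F := Pi.single 0 1 + Pi.single 1 1

end defs

/-- row `0` of `aMat` -/
theorem e0_vecMul_aMat (m : ℕ) (F : Type*) [Field F] :
    (Pi.single 0 1 : Fin (m + 3) → F) ᵥ* aMat m F = f1 m F := by
  ext j
  rw [single_vecMul, one_smul]
  unfold f1 aMat
  simp only [Matrix.row, of_apply, Pi.add_apply, Pi.single_apply]
  by_cases h0 : j = 0
  · subst h0
    simp
  · by_cases h1 : j = 1
    · subst h1
      simp
    · have h4 : ¬ ((0 : Fin (m + 3)) = j) := fun h => h0 h.symm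
      have h5 : ¬ ((0 : Fin (m + 3)).val + 1 = j.val) := by
        intro h
        apply h1
        ext
        simpa using h.symm
      rw [if_neg (by tauto), if_neg h0, if_neg h1, add_zero]

/-- the entries of `aMat *ᵥ v` -/
theorem aMat_mulVec_apply (m : ℕ) (F : Type*) [Field F] (v : Fin (m + 3) → F) (i : Fin (m + 3)) :
    (aMat m F *ᵥ v) i = v i + (if h : i.val + 1 < m + 3 then v ⟨i.val + 1, h⟩ else 0) := by
  have key : ∀ j : Fin (m + 3), aMat m F i j * v j =
      (if i = j then v j else 0) + (if i.val + 1 = j.val then v j else 0) := by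
    intro j
    unfold aMat
    rw [Matrix.of_apply]
    by_cases h1 : i = j
    · subst h1
      simp
    · by_cases h2 : i.val + 1 = j.val
      · simp [h1, h2]
      · simp [h1, h2]
  rw [Matrix.mulVec, dotProduct, Finset.sum_congr rfl (fun j _ => key j), Finset.sum_add_distrib,
    Finset.sum_ite_eq, if_pos (Finset.mem_univ i)]
  congr 1
  by_cases h : i.val + 1 < m + 3
  · rw [dif_pos h, Finset.sum_eq_single (⟨i.val + 1, h⟩ : Fin (m + 3))]
    · simp
    · intro b _ hb
      rw [if_neg]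
      intro h'
      apply hb
      ext
      exact h'.symm
    · intro h'
      exact absurd (Finset.mem_univ _) h'
  · rw [dif_neg h]
    apply Finset.sum_eq_zero
    intro j _
    rw [if_neg]
    intro h'
    have := j.2
    omega

/-- the alternating column `c₋₁` -/
def cm1 (m : ℕ) (F : Type*) [Field F] : Fin (m + 3) → F := fun i => (-1) ^ (m + 2 - i.val)

theorem aMat_mulVec_cm1 (m : ℕ) (F : Type*) [Field F] :
    aMat m F *ᵥ cm1 m F = Pi.single (Fin.last (m + 2)) 1 := by
  ext i
  rw [aMat_mulVec_apply]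
  by_cases h : i.val + 1 < m + 3
  · rw [dif_pos h]
    have hne : i ≠ Fin.last (m + 2) := by
      intro h'
      rw [h'] at h
      simp at h
    rw [Pi.single_apply, if_neg hne]
    unfold cm1
    have e : m + 2 - i.val = (m + 2 - (i.val + 1)) + 1 := by omega
    simp only
    rw [e, pow_succ]
    ring
  · rw [dif_neg h]
    have hi : i = Fin.last (m + 2) := by
      ext
      have := i.2
      simp
      omega
    subst hi
    unfold cm1
    simp

theorem aMat_mulVec_last (m : ℕ) (F : Type*) [Field F] :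
    aMat m F *ᵥ (Pi.single (Fin.last (m + 2)) 1 : Fin (m + 3) → F) = c1 m F := by
  ext i
  rw [aMat_mulVec_apply]
  unfold c1 pen
  by_cases h : i.val + 1 < m + 3
  · rw [dif_pos h]
    have hne : i ≠ Fin.last (m + 2) := by
      intro h'
      rw [h'] at h
      simp at h
    simp only [Pi.add_apply, Pi.single_apply, if_neg hne, zero_add]
    by_cases h2 : i.val + 1 = m + 2
    · have e1 : (⟨i.val + 1, h⟩ : Fin (m + 3)) = Fin.last (m + 2) := by
        ext
        simpa using h2
      have e2 : i = (⟨m + 1, by omega⟩ : Fin (m + 3)) := by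
        ext
        simp
        omega
      rw [if_pos e1, if_pos e2]
    · have e1 : (⟨i.val + 1, h⟩ : Fin (m + 3)) ≠ Fin.last (m + 2) := by
        intro h'
        apply h2
        simpa using congrArg Fin.val h'
      have e2 : i ≠ (⟨m + 1, by omega⟩ : Fin (m + 3)) := by
        intro h'
        apply h2
        have := congrArg Fin.val h'
        simp at this
        omega
      rw [if_neg e1, if_neg e2]
  · rw [dif_neg h]
    have hi : i = Fin.last (m + 2) := by
      ext
      have := i.2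
      simp
      omega
    subst hi
    have e2 : Fin.last (m + 2) ≠ (⟨m + 1, by omega⟩ : Fin (m + 3)) := by
      intro h'
      have := congrArg Fin.val h'
      simp at this
    simp [e2]

/-- `D₁ = u⁻¹ v` -/
def dOne (m : ℕ) (F : Type*) [Field F] (l : F) : Matrix (Fin (m + 3)) (Fin (m + 3)) F :=
  1 + l • (vecMulVec (cm1 m F) (f1 m F) -
    vecMulVec (Pi.single (Fin.last (m + 2)) 1) (Pi.single 0 1))

theorem aMat_mul_dOne (m : ℕ) (F : Type*) [Field F] (l : F) :
    aMat m F * dOne m F l = v4 m F l := by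
  unfold dOne v4
  rw [Matrix.mul_add, Matrix.mul_one, Matrix.mul_smul, Matrix.mul_sub, mul_vecMulVec, mul_vecMulVec,
    aMat_mulVec_cm1, aMat_mulVec_last]
  unfold c1 f1
  rw [vecMulVec_add, add_vecMulVec]
  simp only [← single_eq_single_vecMulVec_single]
  have e1 : (Matrix.single (Fin.last (m + 2)) 1 l : Matrix (Fin (m + 3)) (Fin (m + 3)) F) =
      l • Matrix.single (Fin.last (m + 2)) 1 1 := by
    rw [Matrix.smul_single, smul_eq_mul, mul_one]
  have e2 : (Matrix.single (pen m) 0 l : Matrix (Fin (m + 3)) (Fin (m + 3)) F) =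
      l • Matrix.single (pen m) 0 1 := by
    rw [Matrix.smul_single, smul_eq_mul, mul_one]
  rw [e1, e2]
  module

theorem dOne_mulVec (m : ℕ) (F : Type*) [Field F] (l : F) (x : Fin (m + 3) → F)
    (hx0 : x 0 = 0) (hx1 : x 1 = 0) : dOne m F l *ᵥ x = x := by
  unfold dOne
  rw [Matrix.add_mulVec, Matrix.one_mulVec, Matrix.smul_mulVec, Matrix.sub_mulVec, vecMulVec_mulVec,
    vecMulVec_mulVec]
  have h1 : f1 m F ⬝ᵥ x = 0 := by
    unfold f1
    rw [add_dotProduct, single_dotProduct, single_dotProduct, hx0, hx1]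
    simp
  have h2 : (Pi.single 0 1 : Fin (m + 3) → F) ⬝ᵥ x = 0 := by
    rw [single_dotProduct, hx0, mul_zero]
  rw [h1, h2]
  simp

theorem rho_vecMul_dOne (m : ℕ) (F : Type*) [Field F] (l : F) :
    ((Pi.single 0 1 : Fin (m + 3) → F) - (l * (-1) ^ m) • f1 m F) ᵥ* dOne m F l = Pi.single 0 1 := by
  unfold dOne
  rw [Matrix.vecMul_add, Matrix.vecMul_one, Matrix.vecMul_smul, Matrix.vecMul_sub, vecMul_vecMulVec,
    vecMul_vecMulVec]
  have h01 : (0 : Fin (m + 3)) ≠ 1 := by
    intro h
    have := congrArg Fin.val h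
    simp at this
  have hl0 : (Fin.last (m + 2) : Fin (m + 3)) ≠ 0 := by
    intro h; have := congrArg Fin.val h; simp at this
  have hl1 : (Fin.last (m + 2) : Fin (m + 3)) ≠ 1 := by
    intro h; have := congrArg Fin.val h; simp at this
  have hc0 : cm1 m F 0 = (-1) ^ m := by
    unfold cm1
    simp [pow_add]
  have hc1 : cm1 m F 1 = -(-1) ^ m := by
    unfold cm1
    have : m + 2 - (1 : Fin (m + 3)).val = m + 1 := by
      simp
    rw [this, pow_succ]
    ring
  have h1 : ((Pi.single 0 1 : Fin (m + 3) → F) - (l * (-1) ^ m) • f1 m F) ⬝ᵥ cm1 m F = (-1) ^ m := by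
    unfold f1
    rw [sub_dotProduct, smul_dotProduct, add_dotProduct, single_dotProduct, single_dotProduct, hc0, hc1]
    simp
  have h2 : ((Pi.single 0 1 : Fin (m + 3) → F) - (l * (-1) ^ m) • f1 m F) ⬝ᵥ
      (Pi.single (Fin.last (m + 2)) 1 : Fin (m + 3) → F) = 0 := by
    rw [dotProduct_single, mul_one]
    unfold f1
    simp [hl0, hl1]
  rw [h1, h2]
  simp only [zero_smul, sub_zero]
  rw [smul_smul]
  abel

/-! ## LEAF C (MEDIUM): the step up, conjugation by `u⁻¹ v` -/

theorem up_step {m : ℕ} {F : Type*} [Field F]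
    {G : Subgroup (SpecialLinearGroup (Fin (m + 3)) F)} (l : F)
    (ha : InG G (aMat m F)) (hv : InG G (v4 m F l))
    (x : Fin (m + 3) → F) (hx0 : x 0 = 0) (hx1 : x 1 = 0)
    (hx : InG G (tvm x (Pi.single 0 1))) :
    InG G (tvm ((l * (-1) ^ (m + 1)) • (aMat m F *ᵥ x)) (Pi.single 0 1)) := by
  set e : Fin (m + 3) → F := Pi.single 0 1 with he
  set ρ : Fin (m + 3) → F := e - (l * (-1) ^ m) • f1 m F with hρ
  -- `D₁ ∈ G`
  have hD : InG G (dOne m F l) := inG_of_mul_left ha (by rw [aMat_mul_dOne]; exact hv)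
  -- `tvm x ρ ∈ G`
  have h1 : dOne m F l * tvm x e = tvm x ρ * dOne m F l := by
    have := mul_tvm (dOne m F l) x ρ
    rw [hρ, he, rho_vecMul_dOne, dOne_mulVec m F l x hx0 hx1] at this
    exact this
  have h2 : InG G (tvm x ρ) := inG_of_mul_right hD (h1 ▸ inG_mul hD hx)
  -- `tvm (-(l ε) • x) f1 ∈ G`
  have hex : e ⬝ᵥ x = 0 := by rw [he, single_dotProduct, hx0, mul_zero]
  have h3 : tvm x e * tvm ((-(l * (-1) ^ m)) • x) (f1 m F) = tvm x ρ := by
    unfold tvm
    rw [Matrix.mul_add, Matrix.mul_one, Matrix.add_mul, Matrix.one_mul,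
      vecMulVec_mul_vecMulVec, dotProduct_smul, hex, smul_zero, zero_smul, Matrix.vecMulVec_zero, add_zero,
      hρ, vecMulVec_sub, smul_vecMulVec, vecMulVec_smul, neg_smul]
    abel
  have h4 : InG G (tvm ((-(l * (-1) ^ m)) • x) (f1 m F)) := inG_of_mul_left hx (h3 ▸ h2)
  -- conjugate by `a`
  have h5 := mul_tvm (aMat m F) ((-(l * (-1) ^ m)) • x) e
  rw [he, e0_vecMul_aMat] at h5
  have h6 : InG G (tvm (aMat m F *ᵥ ((-(l * (-1) ^ m)) • x)) (Pi.single 0 1)) :=
    inG_of_mul_right ha (h5 ▸ inG_mul ha h4)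
  have h7 : aMat m F *ᵥ ((-(l * (-1) ^ m)) • x) = (l * (-1) ^ (m + 1)) • (aMat m F *ᵥ x) := by
    rw [Matrix.mulVec_smul, pow_succ]
    congr 1
    ring
  rw [h7] at h6
  exact h6

end Cfsg.Agent.Lib.Helper46.RU4C
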