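import Mathlib

set_option autoImplicit false

namespace Cfsg.Agent.Lib.Helper46

open Matrix

section rowU

variable {F : Type*} [Field F] {m : ℕ}

/-- Extension of a vector by a zero first coordinate. -/
def ext0 (a : Fin m → F) : Fin (m + 1) → F := Fin.cons 0 a

@[simp] theorem ext0_zero_apply (a : Fin m → F) : ext0 a 0 = 0 := rfl

@[simp] theorem ext0_succ (a : Fin m → F) (j : Fin m) : ext0 a j.succ = a j := by
  simp [ext0]

theorem ext0_add (a b : Fin m → F) : ext0 (a + b) = ext0 a + ext0 b := by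
  funext k
  refine Fin.cases ?_ (fun j => ?_) k
  · simp
  · simp

theorem ext0_sub (a b : Fin m → F) : ext0 (a - b) = ext0 a - ext0 b := by
  funext k
  refine Fin.cases ?_ (fun j => ?_) k
  · simp
  · simp

theorem ext0_smul (c : F) (a : Fin m → F) : ext0 (c • a) = c • ext0 a := by
  funext k
  refine Fin.cases ?_ (fun j => ?_) k
  · simp
  · simp

theorem ext0_zero : ext0 (0 : Fin m → F) = 0 := by
  funext k
  refine Fin.cases ?_ (fun j => ?_) k
  · simp
  · simp

theorem ext0_single (j : Fin m) (c : F) :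
    ext0 (Pi.single j c) = Pi.single j.succ c := by
  funext k
  refine Fin.cases ?_ (fun l => ?_) k
  · simp [Pi.single_apply, Fin.succ_ne_zero, eq_comm]
  · simp [Pi.single_apply]

theorem ext0_dotProduct (a w : Fin m → F) : ext0 a ⬝ᵥ ext0 w = a ⬝ᵥ w := by
  simp [ext0, dotProduct, Fin.sum_univ_succ]

theorem ext0_dot_single_zero (a : Fin m → F) : ext0 a ⬝ᵥ Pi.single 0 1 = 0 := by
  simp

theorem single_dot_ext0 (j : Fin m) (a : Fin m → F) :
    (Pi.single j.succ (1 : F)) ⬝ᵥ ext0 a = a j := by
  simp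

/-- The unipotent matrix with first row `(1, a)`. -/
def rowU (a : Fin m → F) : Matrix (Fin (m + 1)) (Fin (m + 1)) F :=
  1 + vecMulVec (Pi.single 0 1) (ext0 a)

theorem rowU_zero : rowU (0 : Fin m → F) = 1 := by
  simp [rowU, ext0_zero]

theorem rowU_add (a b : Fin m → F) : rowU (a + b) = rowU a * rowU b := by
  unfold rowU
  rw [Matrix.add_mul, Matrix.mul_add, Matrix.mul_add, Matrix.one_mul, Matrix.mul_one,
    Matrix.one_mul, vecMulVec_mul_vecMulVec, ext0_dot_single_zero, zero_smul, vecMulVec_zero,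
    add_zero, ext0_add, vecMulVec_add]
  abel

theorem rowU_apply_zero_succ (a : Fin m → F) (j : Fin m) : rowU a 0 j.succ = a j := by
  simp [rowU, vecMulVec_apply, Matrix.one_apply, Fin.succ_ne_zero, eq_comm]

theorem det_rowU (a : Fin m → F) : (rowU a).det = 1 := by
  unfold rowU
  rw [vecMulVec_eq Unit, det_one_add_replicateCol_mul_replicateRow, ext0_dot_single_zero,
    add_zero]

/-- Conjugating `rowU a` by an elementary transvection. -/
theorem transvection_conj_rowU (i j : Fin m) (hij : i ≠ j) (t : F) (a : Fin m → F) :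
    transvection i.succ j.succ t * rowU a * transvection i.succ j.succ (-t)
      = rowU (a - (t * a i) • Pi.single j 1) := by
  have hE : ∀ c : F, transvection i.succ j.succ c
      = 1 + c • vecMulVec (Pi.single i.succ (1 : F)) (Pi.single j.succ (1 : F)) := by
    intro c
    rw [transvection, ← single_eq_single_vecMulVec_single, smul_single, smul_eq_mul, mul_one]
  set E := vecMulVec (Pi.single i.succ (1 : F)) (Pi.single j.succ (1 : F)) with hEdef
  set X := vecMulVec (Pi.single (0 : Fin (m + 1)) (1 : F)) (ext0 a) with hXdef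
  set Y := vecMulVec (Pi.single (0 : Fin (m + 1)) (1 : F)) (Pi.single j.succ (1 : F)) with hYdef
  have hEX : E * X = 0 := by
    rw [hEdef, hXdef, vecMulVec_mul_vecMulVec]
    have : (Pi.single j.succ (1 : F)) ⬝ᵥ (Pi.single (0 : Fin (m + 1)) (1 : F)) = 0 := by
      simp [Fin.succ_ne_zero]
    rw [this, zero_smul, vecMulVec_zero]
  have hEE : E * E = 0 := by
    rw [hEdef, vecMulVec_mul_vecMulVec]
    have : (Pi.single j.succ (1 : F)) ⬝ᵥ (Pi.single i.succ (1 : F)) = 0 := by
      simp [hij]
    rw [this, zero_smul, vecMulVec_zero]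
  have hXE : X * E = a i • Y := by
    rw [hXdef, hEdef, hYdef, vecMulVec_mul_vecMulVec]
    have : ext0 a ⬝ᵥ Pi.single i.succ (1 : F) = a i := by simp
    rw [this, vecMulVec_smul]
  have hR : rowU (a - (t * a i) • Pi.single j 1) = 1 + X - (t * a i) • Y := by
    rw [rowU, ext0_sub, ext0_smul, ext0_single, vecMulVec_sub, vecMulVec_smul, hXdef, hYdef]
    abel
  have hRa : rowU a = 1 + X := rfl
  set P := t • E with hP
  have hPX : P * X = 0 := by rw [hP, Matrix.smul_mul, hEX, smul_zero]
  have hPP : P * P = 0 := by rw [hP, Matrix.smul_mul, Matrix.mul_smul, hEE, smul_zero, smul_zero]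
  have hXP : X * P = (t * a i) • Y := by rw [hP, Matrix.mul_smul, hXE, smul_smul]
  have hneg : (-t) • E = -P := by rw [hP, neg_smul]
  rw [hE, hE, hR, hRa, hneg]
  have hexp : (1 + P) * (1 + X) * (1 + -P)
      = 1 + X - X * P + P * X - P * X * P - P * P := by noncomm_ring
  rw [hexp, hPX, hPP, hXP]
  simp

end rowU

end Cfsg.Agent.Lib.Helper46
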