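import Cfsg.Agent.Lib.Helper38.SQ.Defs
import Cfsg.Agent.S0278

/-!
K-SQ PSU sub-leaf (C) (helper53's spec `notes/SQPSU_subleaves_helper53.lean.txt`):
the 2-part of `|SU n F q|` in characteristic 2, from `Cfsg.Agent.S0278.result`.
-/

set_option autoImplicit false

namespace Cfsg.Agent.Lib.Helper46.SQPSU

open Cfsg Cfsg.Agent.Lib.Helper38.SQ

/-- (C) 2-PART of `|SU n F q|` from `Cfsg.Agent.S0278.result`
(`(q+1) |SU| = q^(n(n-1)/2) ∏ (q^(i+1) ± 1)`; `q` is a power of 2, all other factors are odd). -/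
theorem twoPart_SU {F : Type} [Field F] [Fintype F] [CharP F 2] {q : ℕ}
    (hF : Fintype.card F = q ^ 2) (n : ℕ) (hn : 1 ≤ n) :
    ∃ e : ℕ, q = 2 ^ e ∧ TwoPart (↥(Cfsg.SU n F q)) (2 ^ (e * (n * (n - 1) / 2))) := by
  obtain ⟨k, -, hk⟩ := FiniteField.card F 2
  have hq2 : q ^ 2 = 2 ^ (k : ℕ) := by rw [← hF, hk]
  have hqd : q ∣ 2 ^ (k : ℕ) := by rw [← hq2]; exact dvd_pow_self q two_ne_zero
  obtain ⟨e, -, rfl⟩ := (Nat.dvd_prime_pow Nat.prime_two).mp hqd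
  refine ⟨e, rfl, ?_⟩
  have he : 1 ≤ e := by
    rcases Nat.eq_zero_or_pos e with h0 | h0
    · subst h0
      have h1 : Fintype.card F = 1 := by rw [hF]; norm_num
      have h2 := Fintype.one_lt_card (α := F)
      omega
    · exact h0
  have hmain := Cfsg.Agent.S0278.result hF n hn
  have h2q : 2 ∣ 2 ^ e := dvd_pow_self 2 (by omega)
  have hPodd : ¬ 2 ∣ ∏ i ∈ Finset.range n,
      (if Even i then (2 ^ e) ^ (i + 1) + 1 else (2 ^ e) ^ (i + 1) - 1) := by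
    rw [Nat.prime_two.prime.dvd_finsetProd_iff]
    rintro ⟨i, -, hi⟩
    have h2x : 2 ∣ (2 ^ e) ^ (i + 1) := dvd_pow h2q (by omega)
    have hpos : 0 < (2 ^ e) ^ (i + 1) := by positivity
    split_ifs at hi <;> omega
  have hpow : (2 ^ e) ^ (n * (n - 1) / 2) = 2 ^ (e * (n * (n - 1) / 2)) := by
    rw [← pow_mul]
  rw [hpow] at hmain
  have hcop : Nat.Coprime (2 ^ (e * (n * (n - 1) / 2))) (2 ^ e + 1) := by
    apply Nat.Coprime.pow_left
    rw [Nat.coprime_two_left]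
    exact (Nat.even_pow.mpr ⟨even_two, by omega⟩).add_one
  have hdvd : 2 ^ (e * (n * (n - 1) / 2)) ∣ Nat.card ↥(Cfsg.SU n F (2 ^ e)) := by
    apply hcop.dvd_of_dvd_mul_left
    rw [hmain]
    exact Dvd.intro _ rfl
  obtain ⟨m, hm⟩ := hdvd
  refine ⟨m, ?_, hm⟩
  intro h2m
  apply hPodd
  have hpos : 0 < 2 ^ (e * (n * (n - 1) / 2)) := by positivity
  have hP : (2 ^ e + 1) * m = ∏ i ∈ Finset.range n,
      (if Even i then (2 ^ e) ^ (i + 1) + 1 else (2 ^ e) ^ (i + 1) - 1) := by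
    apply Nat.eq_of_mul_eq_mul_left hpos
    rw [← hmain, hm]
    ring
  rw [← hP]
  exact Dvd.dvd.mul_left h2m _

end Cfsg.Agent.Lib.Helper46.SQPSU
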