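import Mathlib
import Cfsg.Agent.Lib.Helper46.HermForm

set_option autoImplicit false

namespace Cfsg.Agent.Lib.Helper46

open Matrix

section siegel

variable {F : Type*} [Field F] {m : ℕ}

/-- The base change matrix from the hyperbolic form to the standard Hermitian form. -/
def siegelP (α μ ε : F) : Matrix (Fin m ⊕ Fin m) (Fin m ⊕ Fin m) F :=
  Matrix.fromBlocks 1 (ε • 1) (α • 1) ((ε * α * μ) • 1)

/-- Its inverse. -/
def siegelP' (α μ ε : F) : Matrix (Fin m ⊕ Fin m) (Fin m ⊕ Fin m) F :=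
  (ε * α * (μ - 1))⁻¹ •
    Matrix.fromBlocks ((ε * α * μ) • 1) ((-ε) • 1) ((-α) • 1) 1

/-- The hyperbolic Gram matrix. -/
def siegelJ (δ : F) : Matrix (Fin m ⊕ Fin m) (Fin m ⊕ Fin m) F :=
  Matrix.fromBlocks 0 ((-δ) • 1) (δ • 1) 0

theorem siegelP_mul_siegelP' (α μ ε : F) (h : ε * α * (μ - 1) ≠ 0) :
    (siegelP α μ ε : Matrix (Fin m ⊕ Fin m) (Fin m ⊕ Fin m) F) * siegelP' α μ ε = 1 := by
  unfold siegelP siegelP'
  rw [Matrix.mul_smul, Matrix.fromBlocks_multiply, Matrix.fromBlocks_smul,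
    ← Matrix.fromBlocks_one]
  congr 1
  · simp only [Matrix.one_mul, Matrix.smul_mul, Matrix.mul_smul, smul_smul, ← add_smul]
    convert one_smul F (1 : Matrix (Fin m) (Fin m) F) using 2
    linear_combination inv_mul_cancel₀ h
  · simp only [Matrix.one_mul, Matrix.smul_mul, Matrix.mul_smul, Matrix.mul_one, ← add_smul]
    rw [show -ε + ε = 0 by ring, zero_smul, smul_zero]
  · simp only [Matrix.one_mul, Matrix.smul_mul, Matrix.mul_smul, smul_smul, ← add_smul]
    convert zero_smul F (1 : Matrix (Fin m) (Fin m) F) using 2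
    ring
  · simp only [Matrix.one_mul, Matrix.smul_mul, Matrix.mul_smul, Matrix.mul_one, smul_smul,
      ← add_smul]
    convert one_smul F (1 : Matrix (Fin m) (Fin m) F) using 2
    linear_combination inv_mul_cancel₀ h

theorem siegelP_gram (φ : F →+* F) (α μ ε δ : F) (hα : α * φ α = -1) (hμ : μ * φ μ = 1)
    (hδ : φ δ = -δ) (hε : ε * (1 - μ) = δ) :
    (siegelP α μ ε : Matrix (Fin m ⊕ Fin m) (Fin m ⊕ Fin m) F)ᵀ * (siegelP α μ ε).map φ
      = siegelJ δ := by
  have hε' : φ ε * (1 - φ μ) = φ δ := by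
    rw [← hε, map_mul, map_sub, map_one]
  have hmap : ∀ c : F, ((c • (1 : Matrix (Fin m) (Fin m) F)).map φ) = φ c • 1 := by
    intro c
    ext i j
    by_cases hij : i = j
    · subst hij
      simp
    · simp [hij]
  have hone : ((1 : Matrix (Fin m) (Fin m) F).map φ) = 1 := by
    have := hmap 1
    rwa [one_smul, map_one, one_smul] at this
  unfold siegelP siegelJ
  rw [Matrix.fromBlocks_transpose, Matrix.fromBlocks_map, Matrix.fromBlocks_multiply]
  simp only [Matrix.transpose_one, Matrix.transpose_smul, hmap, hone, Matrix.one_mul,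
    Matrix.smul_mul, Matrix.mul_smul, Matrix.mul_one, smul_smul]
  congr 1
  · rw [← one_smul F (1 : Matrix (Fin m) (Fin m) F), smul_smul, ← add_smul]
    convert zero_smul F (1 : Matrix (Fin m) (Fin m) F) using 2
    linear_combination hα
  · rw [← add_smul]
    congr 1
    simp only [map_mul]
    linear_combination (φ ε * φ μ) * hα + hε' + hδ
  · rw [← add_smul]
    congr 1
    linear_combination (ε * μ) * hα + hε
  · rw [← add_smul]
    convert zero_smul F (1 : Matrix (Fin m) (Fin m) F) using 2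
    simp only [map_mul]
    linear_combination (ε * φ ε) * hα + (ε * φ ε * α * φ α) * hμ

/-- The unipotent radical of the Siegel parabolic. -/
def uB (B : Matrix (Fin m) (Fin m) F) : Matrix (Fin m ⊕ Fin m) (Fin m ⊕ Fin m) F :=
  Matrix.fromBlocks 1 B 0 1

/-- The Levi factor of the Siegel parabolic. -/
def lA (φ : F →+* F) (A A' : Matrix (Fin m) (Fin m) F) :
    Matrix (Fin m ⊕ Fin m) (Fin m ⊕ Fin m) F :=
  Matrix.fromBlocks A 0 0 (hconj φ A')

theorem det_uB (B : Matrix (Fin m) (Fin m) F) : (uB B).det = 1 := by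
  unfold uB
  rw [Matrix.det_fromBlocks_zero₂₁, Matrix.det_one, one_mul]

theorem uB_zero : uB (0 : Matrix (Fin m) (Fin m) F) = 1 := by
  unfold uB
  exact Matrix.fromBlocks_one

theorem uB_mul (B C : Matrix (Fin m) (Fin m) F) : uB B * uB C = uB (B + C) := by
  unfold uB
  rw [Matrix.fromBlocks_multiply]
  simp [add_comm]

theorem uB_preserves (φ : F →+* F) (δ : F) (B : Matrix (Fin m) (Fin m) F) (hB : IsHerm φ B) :
    (uB B)ᵀ * siegelJ δ * (uB B).map φ = siegelJ δ := by
  have hone : ((1 : Matrix (Fin m) (Fin m) F).map φ) = 1 :=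
    Matrix.map_one _ (map_zero φ) (map_one φ)
  have hzero : ((0 : Matrix (Fin m) (Fin m) F).map φ) = 0 := Matrix.map_zero _ (map_zero φ)
  have hB' : B.map φ = Bᵀ := by
    have := congrArg Matrix.transpose hB
    unfold hconj at this
    rwa [Matrix.transpose_transpose] at this
  unfold uB siegelJ
  rw [Matrix.fromBlocks_transpose, Matrix.fromBlocks_map, Matrix.fromBlocks_multiply,
    Matrix.fromBlocks_multiply, hone, hzero, hB']
  simp

theorem det_lA (φ : F →+* F) (A A' : Matrix (Fin m) (Fin m) F) (hA : A.det = 1)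
    (hA' : A'.det = 1) : (lA φ A A').det = 1 := by
  unfold lA
  rw [Matrix.det_fromBlocks_zero₂₁, det_hconj, hA, hA', map_one, one_mul]

theorem lA_preserves (φ : F →+* F) (hφ : ∀ x, φ (φ x) = x) (δ : F)
    (A A' : Matrix (Fin m) (Fin m) F) (hAA' : A' * A = 1) :
    (lA φ A A')ᵀ * siegelJ δ * (lA φ A A').map φ = siegelJ δ := by
  have hzero : ((0 : Matrix (Fin m) (Fin m) F).map φ) = 0 := Matrix.map_zero _ (map_zero φ)
  have h1 : (hconj φ A').map φ = A'ᵀ := by
    ext i j
    simp [hconj_apply, hφ]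
  have h2 : (hconj φ A')ᵀ = A'.map φ := by
    unfold hconj
    rw [Matrix.transpose_transpose]
  have h3 : Aᵀ * A'ᵀ = 1 := by rw [← Matrix.transpose_mul, hAA', Matrix.transpose_one]
  have h4 : A'.map φ * A.map φ = 1 := by
    rw [← Matrix.map_mul, hAA']
    exact Matrix.map_one _ (map_zero φ) (map_one φ)
  unfold lA siegelJ
  rw [Matrix.fromBlocks_transpose, Matrix.fromBlocks_map, Matrix.fromBlocks_multiply,
    Matrix.fromBlocks_multiply, hzero, h1, h2]
  simp only [Matrix.transpose_zero, Matrix.mul_zero, Matrix.zero_mul, add_zero, zero_add,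
    Matrix.mul_smul, Matrix.smul_mul, Matrix.mul_one, h3, h4, smul_zero]

theorem lA_mul_uB (φ : F →+* F) (A A' B : Matrix (Fin m) (Fin m) F) (hAA' : A * A' = 1) :
    lA φ A A' * uB B * lA φ A' A = uB (A * B * hconj φ A) := by
  have h1 : hconj φ A' * hconj φ A = 1 := by
    rw [← hconj_mul, hAA', hconj_one]
  unfold lA uB
  rw [Matrix.fromBlocks_multiply, Matrix.fromBlocks_multiply]
  simp [hAA', h1]

theorem lA_mul_lA (φ : F →+* F) (A A' : Matrix (Fin m) (Fin m) F) (hAA' : A * A' = 1) :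
    lA φ A A' * lA φ A' A = 1 := by
  have h1 : hconj φ A' * hconj φ A = 1 := by
    rw [← hconj_mul, hAA', hconj_one]
  unfold lA
  rw [Matrix.fromBlocks_multiply]
  simp [hAA', h1, Matrix.fromBlocks_one]

end siegel

end Cfsg.Agent.Lib.Helper46
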