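import Cfsg.Prelude.Def_Classical
import Cfsg.Agent.Lib.Helper46.ClassicalEmb
import Cfsg.Agent.Lib.Helper46.UnitaryField

set_option autoImplicit false

namespace Cfsg.Agent.Lib.Helper46

open Matrix

section unitaryMat

variable {F : Type*} [Field F] [Fintype F] {q : ℕ}

/-- A matrix with `Mᵀ M^(q) = 1` preserves the hermitian form. -/
theorem herm_of_unitary (hF : Fintype.card F = q ^ 2) {n : ℕ} (M : Matrix (Fin n) (Fin n) F)
    (hM : Mᵀ * M.map (frobRing hF) = 1) (u v : Fin n → F) :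
    Cfsg.hermForm n F q (M *ᵥ u) (M *ᵥ v) = Cfsg.hermForm n F q u v := by
  have key : ∀ x y : Fin n → F, Cfsg.hermForm n F q x y = x ⬝ᵥ (frobRing hF ∘ y) := by
    intro x y
    unfold Cfsg.hermForm dotProduct
    apply Finset.sum_congr rfl
    intro i _
    rw [Function.comp_apply, frobRing_apply]
  rw [key, key]
  have h1 : frobRing hF ∘ (M *ᵥ v) = M.map (frobRing hF) *ᵥ (frobRing hF ∘ v) := by
    funext i
    rw [Function.comp_apply, RingHom.map_mulVec]
  rw [h1]
  calc (M *ᵥ u) ⬝ᵥ (M.map (frobRing hF) *ᵥ (frobRing hF ∘ v))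
      = (u ᵥ* Mᵀ) ⬝ᵥ (M.map (frobRing hF) *ᵥ (frobRing hF ∘ v)) := by
        rw [Matrix.vecMul_transpose]
    _ = u ⬝ᵥ (Mᵀ *ᵥ (M.map (frobRing hF) *ᵥ (frobRing hF ∘ v))) := by
        rw [← Matrix.dotProduct_mulVec]
    _ = u ⬝ᵥ ((Mᵀ * M.map (frobRing hF)) *ᵥ (frobRing hF ∘ v)) := by
        rw [Matrix.mulVec_mulVec]
    _ = u ⬝ᵥ (frobRing hF ∘ v) := by rw [hM, Matrix.one_mulVec]

omit [Fintype F] in
/-- Conjugating an isometry of the form `Pᵀ P^(q)` by `P` gives a unitary matrix. -/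
theorem unitary_of_conj {ι : Type*} [Fintype ι] [DecidableEq ι] (φ : F →+* F)
    (P B M : Matrix ι ι F) (hP : IsUnit P.det)
    (hMP : M * P = P * B) (hB : Bᵀ * (Pᵀ * P.map φ) * B.map φ = Pᵀ * P.map φ) :
    Mᵀ * M.map φ = 1 := by
  have hPT : IsUnit Pᵀ := (Matrix.isUnit_iff_isUnit_det _).2 (by rw [Matrix.det_transpose]; exact hP)
  have hPφ : IsUnit (P.map φ) := by
    rw [Matrix.isUnit_iff_isUnit_det]
    have : (P.map φ).det = φ P.det := by
      rw [RingHom.map_det]; rfl
    rw [this]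
    exact hP.map φ
  have h1 : Pᵀ * (Mᵀ * M.map φ) * P.map φ = Pᵀ * 1 * P.map φ := by
    calc Pᵀ * (Mᵀ * M.map φ) * P.map φ = (M * P)ᵀ * (M * P).map φ := by
          rw [Matrix.transpose_mul, Matrix.map_mul]
          simp only [Matrix.mul_assoc]
      _ = (P * B)ᵀ * (P * B).map φ := by rw [hMP]
      _ = Bᵀ * (Pᵀ * P.map φ) * B.map φ := by
          rw [Matrix.transpose_mul, Matrix.map_mul]
          simp only [Matrix.mul_assoc]
      _ = Pᵀ * P.map φ := hB
      _ = Pᵀ * 1 * P.map φ := by rw [Matrix.mul_one]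
  have h2 := hPφ.mul_right_cancel h1
  exact hPT.mul_left_cancel h2

omit [Fintype F] in
theorem blockHom_unitary {κ ρ ι : Type*} [Fintype κ] [DecidableEq κ] [Fintype ρ] [DecidableEq ρ]
    [Fintype ι] [DecidableEq ι] (e : κ ⊕ ρ ≃ ι) (φ : F →+* F) (M : Matrix κ κ F)
    (hM : Mᵀ * M.map φ = 1) :
    (blockHom e M)ᵀ * (blockHom e M).map φ = 1 := by
  rw [blockHom_transpose, blockHom_map, ← map_mul, hM, map_one]

end unitaryMat

section twoByTwo

variable {F : Type*} [Field F]

/-- The base change matrix from the alternating form to the hermitian form. -/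
def baseP (α μ ε : F) : Matrix (Fin 2) (Fin 2) F := !![1, ε; α, ε * α * μ]

theorem det_baseP (α μ ε : F) : (baseP α μ ε).det = ε * α * (μ - 1) := by
  rw [baseP, Matrix.det_fin_two_of]
  ring

theorem baseP_gram (φ : F →+* F) (α μ ε δ : F) (hα : α * φ α = -1) (hμ : μ * φ μ = 1)
    (hδ : φ δ = -δ) (hε : ε * (1 - μ) = δ) :
    (baseP α μ ε)ᵀ * (baseP α μ ε).map φ = !![0, -δ; δ, 0] := by
  have hε' : φ ε * (1 - φ μ) = φ δ := by
    rw [← hε, map_mul, map_sub, map_one]
  ext i j
  fin_cases i <;> fin_cases j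
  · simp [baseP, Matrix.mul_apply, Fin.sum_univ_two]
    linear_combination hα
  · simp [baseP, Matrix.mul_apply, Fin.sum_univ_two]
    linear_combination (φ ε * φ μ) * hα + hε' + hδ
  · simp [baseP, Matrix.mul_apply, Fin.sum_univ_two]
    linear_combination (ε * μ) * hα + hε
  · simp [baseP, Matrix.mul_apply, Fin.sum_univ_two]
    linear_combination (ε * φ ε) * hα + (ε * φ ε * α * φ α) * hμ

theorem gram_invariant (B : Matrix (Fin 2) (Fin 2) F) (hB : B.det = 1) (δ : F) :
    Bᵀ * !![0, -δ; δ, 0] * B = !![0, -δ; δ, 0] := by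
  rw [Matrix.det_fin_two] at hB
  ext i j
  fin_cases i <;> fin_cases j
  · simp [Matrix.mul_apply, Fin.sum_univ_two]
    ring
  · simp [Matrix.mul_apply, Fin.sum_univ_two]
    linear_combination (-δ) * hB
  · simp [Matrix.mul_apply, Fin.sum_univ_two]
    linear_combination δ * hB
  · simp [Matrix.mul_apply, Fin.sum_univ_two]
    ring

end twoByTwo

section embed

variable {F : Type*} [Field F] [Fintype F] {q : ℕ}

omit [Fintype F] in
/-- A determinant one, form preserving homomorphism to `GL_n` lands in `SU_n`. -/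
theorem exists_hom_SU {n : ℕ} {H : Type*} [Group H]
    (Ψ : H →* Matrix.GeneralLinearGroup (Fin n) F) (hΨ : Function.Injective Ψ)
    (hdet : ∀ x, ((Ψ x : Matrix.GeneralLinearGroup (Fin n) F) : Matrix (Fin n) (Fin n) F).det = 1)
    (hpres : ∀ x u v, Cfsg.hermForm n F q
        (((Ψ x : Matrix.GeneralLinearGroup (Fin n) F) : Matrix (Fin n) (Fin n) F) *ᵥ u)
        (((Ψ x : Matrix.GeneralLinearGroup (Fin n) F) : Matrix (Fin n) (Fin n) F) *ᵥ v)
      = Cfsg.hermForm n F q u v) :
    ∃ Ψ' : H →* ↥(Cfsg.SU n F q), Function.Injective Ψ' := by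
  have hmem : ∀ x, liftSL Ψ hdet x ∈ Cfsg.SU n F q := by
    intro x u v
    exact hpres x u v
  refine ⟨(liftSL Ψ hdet).codRestrict (Cfsg.SU n F q) hmem, ?_⟩
  intro a b hab
  exact liftSL_injective Ψ hdet hΨ (congrArg Subtype.val hab)

omit [Fintype F] in
/-- The alternating group embeds in `SU_n` by permutation matrices. -/
theorem exists_hom_alt_SU (n : ℕ) :
    ∃ Ψ' : alternatingGroup (Fin n) →* ↥(Cfsg.SU n F q), Function.Injective Ψ' := by
  apply exists_hom_SU (altGL n) (altGL_injective n) (det_altGL n)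
  intro σ u v
  rw [altGL_mulVec, altGL_mulVec]
  unfold Cfsg.hermForm
  exact Equiv.sum_comp ((σ : Equiv.Perm (Fin n))⁻¹ : Equiv.Perm (Fin n)) (fun i => u i * v i ^ q)

/-- `SL₂` of the fixed field embeds in `SU_n`. -/
theorem exists_hom_sl2_SU (hF : Fintype.card F = q ^ 2) (n : ℕ) (hn : 2 ≤ n) :
    ∃ Ψ' : Matrix.SpecialLinearGroup (Fin 2) (fixedField hF) →* ↥(Cfsg.SU n F q),
      Function.Injective Ψ' := by
  obtain ⟨α, hα⟩ := exists_norm_neg_one hF
  obtain ⟨δ, hδ0, hδ⟩ := exists_trace_zero hF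
  obtain ⟨μ, hμ1, hμ⟩ := exists_norm_one_ne_one hF
  have hμ' : (1 : F) - μ ≠ 0 := sub_ne_zero.2 (Ne.symm hμ1)
  set ε : F := δ / (1 - μ) with hεdef
  have hε : ε * (1 - μ) = δ := by
    rw [hεdef]; field_simp
  have hε0 : ε ≠ 0 := by
    intro h
    rw [h, zero_mul] at hε
    exact hδ0 hε.symm
  have hα0 : α ≠ 0 := by
    intro h
    rw [h, zero_mul] at hα
    exact absurd hα (by simp)
  have hPdet : (baseP α μ ε).det ≠ 0 := by
    rw [det_baseP]
    exact mul_ne_zero (mul_ne_zero hε0 hα0) (sub_ne_zero.2 hμ1)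
  set Pg : Matrix.GeneralLinearGroup (Fin 2) F :=
    Matrix.GeneralLinearGroup.mkOfDetNeZero (baseP α μ ε) hPdet with hPg
  have hPgval : (Pg : Matrix (Fin 2) (Fin 2) F) = baseP α μ ε := rfl
  -- the 2x2 homomorphism
  set Ψ₂ : Matrix.SpecialLinearGroup (Fin 2) (fixedField hF) →* Matrix.GeneralLinearGroup (Fin 2) F :=
    (MulAut.conj Pg).toMonoidHom.comp
      (Matrix.SpecialLinearGroup.toGL.comp
        (Matrix.SpecialLinearGroup.map (fixedField hF).subtype)) with hΨ₂
  have hΨ₂val : ∀ A : Matrix.SpecialLinearGroup (Fin 2) (fixedField hF),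
      ((Ψ₂ A : Matrix.GeneralLinearGroup (Fin 2) F) : Matrix (Fin 2) (Fin 2) F)
        = (Pg : Matrix (Fin 2) (Fin 2) F)
          * ((A : Matrix (Fin 2) (Fin 2) (fixedField hF)).map (fixedField hF).subtype)
          * ((Pg⁻¹ : Matrix.GeneralLinearGroup (Fin 2) F) : Matrix (Fin 2) (Fin 2) F) := by
    intro A
    rfl
  have hΨ₂inj : Function.Injective Ψ₂ := by
    intro A B hAB
    have h1 := (MulAut.conj Pg).injective hAB
    have h2 := Matrix.SpecialLinearGroup.toGL_injective h1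
    apply Subtype.ext
    have h3 : (A : Matrix (Fin 2) (Fin 2) (fixedField hF)).map (fixedField hF).subtype
        = (B : Matrix (Fin 2) (Fin 2) (fixedField hF)).map (fixedField hF).subtype :=
      congrArg Subtype.val h2
    ext i j
    have := congrFun (congrFun h3 i) j
    simpa using this
  set e := finTwoSumEquiv n hn with he
  refine exists_hom_SU ((blockGL e).comp Ψ₂) ?_ ?_ ?_
  · intro A B hAB
    exact hΨ₂inj (blockGL_injective e hAB)
  · intro A
    change (blockHom e ((Ψ₂ A : Matrix.GeneralLinearGroup (Fin 2) F) :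
      Matrix (Fin 2) (Fin 2) F)).det = 1
    rw [det_blockHom, hΨ₂val, Matrix.det_units_conj]
    have := (Matrix.SpecialLinearGroup.map (fixedField hF).subtype A).2
    exact this
  · intro A u v
    change Cfsg.hermForm n F q
      (blockHom e ((Ψ₂ A : Matrix.GeneralLinearGroup (Fin 2) F) : Matrix (Fin 2) (Fin 2) F) *ᵥ u)
      (blockHom e ((Ψ₂ A : Matrix.GeneralLinearGroup (Fin 2) F) : Matrix (Fin 2) (Fin 2) F) *ᵥ v)
      = Cfsg.hermForm n F q u v
    apply herm_of_unitary hF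
    apply blockHom_unitary
    set A' : Matrix (Fin 2) (Fin 2) F :=
      (A : Matrix (Fin 2) (Fin 2) (fixedField hF)).map (fixedField hF).subtype with hA'
    have hA'det : A'.det = 1 := (Matrix.SpecialLinearGroup.map (fixedField hF).subtype A).2
    have hA'map : A'.map (frobRing hF) = A' := by
      ext i j
      simp only [hA', Matrix.map_apply]
      exact frobRing_fixed hF _
    apply unitary_of_conj (frobRing hF) (baseP α μ ε) A'
    · exact isUnit_iff_ne_zero.2 hPdet
    · rw [hΨ₂val, hPgval.symm, Matrix.mul_assoc, ← Units.val_mul, inv_mul_cancel, Units.val_one,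
        Matrix.mul_one]
    · rw [baseP_gram (frobRing hF) α μ ε δ hα hμ hδ hε, hA'map]
      exact gram_invariant A' hA'det δ

end embed

end Cfsg.Agent.Lib.Helper46
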