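import Mathlib
import Cfsg.Prelude.Def_Classical
import Cfsg.Agent.Lib.Helper46.UnitaryEmb

set_option autoImplicit false

namespace Cfsg.Agent.Lib.Helper46

open Matrix

section gen

variable {F : Type*} [Field F] [Fintype F] {q : ℕ} (hF : Fintype.card F = q ^ 2) {n : ℕ}
  {κ : Type*} [Fintype κ] [DecidableEq κ] (e : κ ≃ Fin n) (P P' : Matrix κ κ F)

/-- Conjugation by the base change matrix, followed by reindexing. -/
def conjMat (B : Matrix κ κ F) : Matrix (Fin n) (Fin n) F := Matrix.reindex e e (P * B * P')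

omit [Fintype F] in
theorem conjMat_mul (hP'P : P' * P = 1) (B C : Matrix κ κ F) :
    conjMat e P P' (B * C) = conjMat e P P' B * conjMat e P P' C := by
  unfold conjMat
  simp only [Matrix.reindex_apply]
  rw [Matrix.submatrix_mul_equiv]
  congr 1
  calc P * (B * C) * P' = P * B * (1 * C) * P' := by rw [Matrix.one_mul]; simp only [Matrix.mul_assoc]
    _ = P * B * P' * (P * C * P') := by rw [← hP'P]; simp only [Matrix.mul_assoc]

omit [Fintype F] in
theorem conjMat_one (hPP' : P * P' = 1) : conjMat e P P' 1 = 1 := by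
  unfold conjMat
  rw [Matrix.mul_one, hPP']
  simp

omit [Fintype F] in
theorem det_conjMat (hPP' : P * P' = 1) (B : Matrix κ κ F) :
    (conjMat e P P' B).det = B.det := by
  unfold conjMat
  rw [Matrix.det_reindex_self, Matrix.det_mul, Matrix.det_mul, mul_comm, ← mul_assoc,
    ← Matrix.det_mul, mul_eq_one_comm.1 hPP', Matrix.det_one, one_mul]

omit [Fintype F] in
theorem conjMat_unitary (φ : F →+* F) (hPP' : P * P' = 1) (B : Matrix κ κ F)
    (hB : Bᵀ * (Pᵀ * P.map φ) * B.map φ = Pᵀ * P.map φ) :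
    (conjMat e P P' B)ᵀ * (conjMat e P P' B).map φ = 1 := by
  have hP'P : P' * P = 1 := mul_eq_one_comm.1 hPP'
  have hdet : IsUnit P.det := by
    have h := congrArg Matrix.det hPP'
    rw [Matrix.det_mul, Matrix.det_one] at h
    exact IsUnit.of_mul_eq_one _ h
  have h1 : (P * B * P')ᵀ * (P * B * P').map φ = 1 := by
    apply unitary_of_conj φ P B (P * B * P') hdet _ hB
    rw [Matrix.mul_assoc, hP'P, Matrix.mul_one]
  unfold conjMat
  simp only [Matrix.reindex_apply]
  rw [Matrix.transpose_submatrix, ← Matrix.submatrix_map, Matrix.submatrix_mul_equiv, h1,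
    Matrix.submatrix_one_equiv]

/-- The element of `SU_n` given by a matrix preserving the transported form. -/
noncomputable def toSU (φ : F →+* F) (hφ : φ = frobRing hF) (hPP' : P * P' = 1)
    (B : Matrix κ κ F) (hdet : B.det = 1)
    (hB : Bᵀ * (Pᵀ * P.map φ) * B.map φ = Pᵀ * P.map φ) : ↥(Cfsg.SU n F q) :=
  ⟨⟨conjMat e P P' B, by rw [det_conjMat e P P' hPP', hdet]⟩, by
    intro u v
    subst hφ
    exact herm_of_unitary hF _ (conjMat_unitary e P P' _ hPP' B hB) u v⟩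

theorem toSU_coe (φ : F →+* F) (hφ : φ = frobRing hF) (hPP' : P * P' = 1)
    (B : Matrix κ κ F) (hdet : B.det = 1)
    (hB : Bᵀ * (Pᵀ * P.map φ) * B.map φ = Pᵀ * P.map φ) :
    (((toSU hF e P P' φ hφ hPP' B hdet hB : ↥(Cfsg.SU n F q)) :
      Matrix.SpecialLinearGroup (Fin n) F) : Matrix (Fin n) (Fin n) F) = conjMat e P P' B := rfl

theorem toSU_mul (φ : F →+* F) (hφ : φ = frobRing hF) (hPP' : P * P' = 1)
    (B C : Matrix κ κ F) (hdetB : B.det = 1)
    (hB : Bᵀ * (Pᵀ * P.map φ) * B.map φ = Pᵀ * P.map φ) (hdetC : C.det = 1)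
    (hC : Cᵀ * (Pᵀ * P.map φ) * C.map φ = Pᵀ * P.map φ) (hdetBC : (B * C).det = 1)
    (hBC : (B * C)ᵀ * (Pᵀ * P.map φ) * (B * C).map φ = Pᵀ * P.map φ) :
    toSU hF e P P' φ hφ hPP' (B * C) hdetBC hBC
      = toSU hF e P P' φ hφ hPP' B hdetB hB * toSU hF e P P' φ hφ hPP' C hdetC hC := by
  apply Subtype.ext
  apply Subtype.ext
  exact conjMat_mul e P P' (mul_eq_one_comm.1 hPP') B C

theorem toSU_one (φ : F →+* F) (hφ : φ = frobRing hF) (hPP' : P * P' = 1)
    (h1 : (1 : Matrix κ κ F).det = 1)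
    (h2 : (1 : Matrix κ κ F)ᵀ * (Pᵀ * P.map φ) * (1 : Matrix κ κ F).map φ = Pᵀ * P.map φ) :
    toSU hF e P P' φ hφ hPP' 1 h1 h2 = 1 := by
  apply Subtype.ext
  apply Subtype.ext
  exact conjMat_one e P P' hPP'

/-- Equal matrices give equal elements. -/
theorem toSU_congr (φ : F →+* F) (hφ : φ = frobRing hF) (hPP' : P * P' = 1)
    (B C : Matrix κ κ F) (hBC : B = C) (hdetB : B.det = 1)
    (hB : Bᵀ * (Pᵀ * P.map φ) * B.map φ = Pᵀ * P.map φ) (hdetC : C.det = 1)
    (hC : Cᵀ * (Pᵀ * P.map φ) * C.map φ = Pᵀ * P.map φ) :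
    toSU hF e P P' φ hφ hPP' B hdetB hB = toSU hF e P P' φ hφ hPP' C hdetC hC := by
  subst hBC
  rfl

end gen

end Cfsg.Agent.Lib.Helper46
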