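import Mathlib
import Cfsg.Prelude.Def_ClassicalGeometry
import Cfsg.Agent.Lib.Helper46.UnitaryGen
import Cfsg.Agent.Lib.Helper46.SiegelEven

set_option autoImplicit false

namespace Cfsg.Agent.Lib.Helper46

open Matrix

section rankTools

theorem rank_pos_of_ne_zero' {K m n : Type*} [Field K] [Fintype m] [Fintype n] [DecidableEq n]
    (A : Matrix m n K) (hA : A ≠ 0) : 0 < A.rank := by
  by_contra h
  have h0 : A.rank = 0 := by omega
  apply hA
  rw [Matrix.rank, Submodule.finrank_eq_zero, LinearMap.range_eq_bot] at h0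
  ext i j
  have := congrFun (LinearMap.congr_fun h0 (Pi.single j 1)) i
  simpa using this

theorem rank_vecMulVec_eq_one {K m n : Type*} [Field K] [Fintype m] [Fintype n] [DecidableEq n]
    (u : m → K) (v : n → K) (hu : u ≠ 0) (hv : v ≠ 0) : (vecMulVec u v).rank = 1 := by
  have h1 := Matrix.rank_vecMulVec_le u v
  have h2 : 0 < (vecMulVec u v).rank := by
    apply rank_pos_of_ne_zero'
    intro h
    obtain ⟨i, hi⟩ : ∃ i, u i ≠ 0 := by
      by_contra hcon
      push Not at hcon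
      exact hu (funext hcon)
    obtain ⟨j, hj⟩ : ∃ j, v j ≠ 0 := by
      by_contra hcon
      push Not at hcon
      exact hv (funext hcon)
    have := congrFun (congrFun h i) j
    rw [Matrix.vecMulVec_apply, Matrix.zero_apply] at this
    exact mul_ne_zero hi hj this
  omega

variable {F : Type*} [Field F] {n : ℕ} {κ : Type*} [Fintype κ] [DecidableEq κ]
  (e : κ ≃ Fin n) (P P' : Matrix κ κ F)

/-- Conjugates of `1 + N` with `N` of rank one and square zero are transvections. -/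
theorem isTransvection_conjMat (hPP' : P * P' = 1) (N : Matrix κ κ F) (hN2 : N * N = 0)
    (hrank : N.rank = 1) : Cfsg.IsTransvection (conjMat e P P' (1 + N)) := by
  have hP'P : P' * P = 1 := mul_eq_one_comm.1 hPP'
  have hdetP : IsUnit P.det := by
    have h := congrArg Matrix.det hPP'
    rw [Matrix.det_mul, Matrix.det_one] at h
    exact IsUnit.of_mul_eq_one _ h
  have hdetP' : IsUnit P'.det := by
    have h := congrArg Matrix.det hP'P
    rw [Matrix.det_mul, Matrix.det_one] at h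
    exact IsUnit.of_mul_eq_one _ h
  have h1 : conjMat e P P' (1 + N) - 1 = Matrix.reindex e e (P * N * P') := by
    unfold conjMat
    rw [Matrix.mul_add, Matrix.add_mul, Matrix.mul_one, hPP']
    ext i j
    simp [Matrix.submatrix_apply, Matrix.add_apply, Matrix.sub_apply, Matrix.one_apply]
  constructor
  · rw [h1, Matrix.rank_reindex, Matrix.rank_mul_eq_left_of_isUnit_det _ _ hdetP',
      Matrix.rank_mul_eq_right_of_isUnit_det _ _ hdetP, hrank]
  · rw [h1]
    simp only [Matrix.reindex_apply]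
    rw [Matrix.submatrix_mul_equiv]
    have : P * N * P' * (P * N * P') = 0 := by
      calc P * N * P' * (P * N * P') = P * N * (P' * P) * N * P' := by
            simp only [Matrix.mul_assoc]
        _ = P * (N * N) * P' := by rw [hP'P, Matrix.mul_one]; simp only [Matrix.mul_assoc]
        _ = 0 := by rw [hN2, Matrix.mul_zero, Matrix.zero_mul]
    rw [this]
    simp

end rankTools

section suEven

variable {F : Type*} [Field F] [Fintype F] {q : ℕ} (hF : Fintype.card F = q ^ 2)

/-- The constants of the base change. -/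
structure SiegelData where
  α : F
  μ : F
  ε : F
  δ : F
  hα : α * frobRing hF α = -1
  hμ : μ * frobRing hF μ = 1
  hδ : frobRing hF δ = -δ
  hε : ε * (1 - μ) = δ
  hdet : ε * α * (μ - 1) ≠ 0

theorem exists_siegelData : Nonempty (SiegelData hF) := by
  obtain ⟨α, hα⟩ := exists_norm_neg_one hF
  obtain ⟨δ, hδ0, hδ⟩ := exists_trace_zero hF
  obtain ⟨μ, hμ1, hμ⟩ := exists_norm_one_ne_one hF
  have hμ' : (1 : F) - μ ≠ 0 := sub_ne_zero.2 (Ne.symm hμ1)
  have hε : δ / (1 - μ) * (1 - μ) = δ := by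
    field_simp
  have hε0 : δ / (1 - μ) ≠ 0 := div_ne_zero hδ0 hμ'
  have hα0 : α ≠ 0 := by
    intro h
    rw [h, zero_mul] at hα
    exact absurd hα (by simp)
  exact ⟨⟨α, μ, δ / (1 - μ), δ, hα, hμ, hδ, hε,
    mul_ne_zero (mul_ne_zero hε0 hα0) (sub_ne_zero.2 hμ1)⟩⟩

variable {hF} (D : SiegelData hF) {m : ℕ}

theorem SiegelData.mul_inv :
    (siegelP D.α D.μ D.ε : Matrix (Fin m ⊕ Fin m) (Fin m ⊕ Fin m) F) * siegelP' D.α D.μ D.ε = 1 :=
  siegelP_mul_siegelP' _ _ _ D.hdet

theorem SiegelData.gram :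
    (siegelP D.α D.μ D.ε : Matrix (Fin m ⊕ Fin m) (Fin m ⊕ Fin m) F)ᵀ
      * (siegelP D.α D.μ D.ε).map (frobRing hF) = siegelJ D.δ :=
  siegelP_gram _ _ _ _ _ D.hα D.hμ D.hδ D.hε

/-- The element of `SU_{2m}` of a matrix preserving the hyperbolic form. -/
noncomputable def suOf (B : Matrix (Fin m ⊕ Fin m) (Fin m ⊕ Fin m) F) (hdet : B.det = 1)
    (hB : Bᵀ * siegelJ D.δ * B.map (frobRing hF) = siegelJ D.δ) : ↥(Cfsg.SU (m + m) F q) :=
  toSU hF finSumFinEquiv (siegelP D.α D.μ D.ε) (siegelP' D.α D.μ D.ε) (frobRing hF) rfl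
    D.mul_inv B hdet (by rw [D.gram]; exact hB)

theorem suOf_coe (B : Matrix (Fin m ⊕ Fin m) (Fin m ⊕ Fin m) F) (hdet : B.det = 1)
    (hB : Bᵀ * siegelJ D.δ * B.map (frobRing hF) = siegelJ D.δ) :
    (((suOf D B hdet hB : ↥(Cfsg.SU (m + m) F q)) :
      Matrix.SpecialLinearGroup (Fin (m + m)) F) : Matrix (Fin (m + m)) (Fin (m + m)) F)
      = conjMat finSumFinEquiv (siegelP D.α D.μ D.ε) (siegelP' D.α D.μ D.ε) B := rfl

theorem suOf_mul (B C : Matrix (Fin m ⊕ Fin m) (Fin m ⊕ Fin m) F) (hdetB : B.det = 1)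
    (hB : Bᵀ * siegelJ D.δ * B.map (frobRing hF) = siegelJ D.δ) (hdetC : C.det = 1)
    (hC : Cᵀ * siegelJ D.δ * C.map (frobRing hF) = siegelJ D.δ) (hdetBC : (B * C).det = 1)
    (hBC : (B * C)ᵀ * siegelJ D.δ * (B * C).map (frobRing hF) = siegelJ D.δ) :
    suOf D (B * C) hdetBC hBC = suOf D B hdetB hB * suOf D C hdetC hC := by
  unfold suOf
  apply toSU_mul

theorem suOf_eq_one (B : Matrix (Fin m ⊕ Fin m) (Fin m ⊕ Fin m) F) (hdet : B.det = 1)
    (hB : Bᵀ * siegelJ D.δ * B.map (frobRing hF) = siegelJ D.δ) (h1 : B = 1) :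
    suOf D B hdet hB = 1 := by
  subst h1
  unfold suOf
  apply toSU_one

theorem suOf_congr (B C : Matrix (Fin m ⊕ Fin m) (Fin m ⊕ Fin m) F) (hBC : B = C)
    (hdetB : B.det = 1)
    (hB : Bᵀ * siegelJ D.δ * B.map (frobRing hF) = siegelJ D.δ) (hdetC : C.det = 1)
    (hC : Cᵀ * siegelJ D.δ * C.map (frobRing hF) = siegelJ D.δ) :
    suOf D B hdetB hB = suOf D C hdetC hC := by
  subst hBC
  rfl

theorem isHerm_add_hconj (M : Matrix (Fin m) (Fin m) F) :
    IsHerm (frobRing hF) (M + hconj (frobRing hF) M) := by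
  ext i j
  simp only [hconj_apply, Matrix.add_apply, map_add, frobRing_frobRing]
  ring

/-- The unipotent elements. -/
noncomputable def uG (M : Matrix (Fin m) (Fin m) F) : ↥(Cfsg.SU (m + m) F q) :=
  suOf D (uB (M + hconj (frobRing hF) M)) (det_uB _)
    (uB_preserves _ _ _ (isHerm_add_hconj M))

/-- The Levi elements. -/
noncomputable def lG (A : Matrix.SpecialLinearGroup (Fin m) F) : ↥(Cfsg.SU (m + m) F q) :=
  suOf D (lA (frobRing hF) (A : Matrix (Fin m) (Fin m) F) (A⁻¹ : Matrix.SpecialLinearGroup (Fin m) F))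
    (det_lA _ _ _ A.2 (A⁻¹).2)
    (lA_preserves _ (frobRing_frobRing hF) _ _ _ (by
      rw [← Matrix.SpecialLinearGroup.coe_mul, inv_mul_cancel, Matrix.SpecialLinearGroup.coe_one]))

theorem uG_eq_one (M : Matrix (Fin m) (Fin m) F) (h : M + hconj (frobRing hF) M = 0) :
    uG D M = 1 := by
  unfold uG
  apply suOf_eq_one
  rw [h, uB_zero]

theorem uG_add (M M' : Matrix (Fin m) (Fin m) F) : uG D (M + M') = uG D M * uG D M' := by
  unfold uG
  rw [← suOf_mul D _ _ _ _ _ _ (by rw [uB_mul]; exact det_uB _) (by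
    rw [uB_mul]
    exact uB_preserves _ _ _ (by
      have := isHerm_add_hconj (hF := hF) (M + M')
      convert this using 1
      ext i j
      simp only [hconj_apply, Matrix.add_apply, map_add]
      ring))]
  apply suOf_congr
  rw [uB_mul]
  congr 1
  ext i j
  simp only [hconj_apply, Matrix.add_apply, map_add]
  ring

theorem lG_mul_inv (A : Matrix.SpecialLinearGroup (Fin m) F) : lG D A * lG D A⁻¹ = 1 := by
  have hAA' : (A : Matrix (Fin m) (Fin m) F) * (A⁻¹ : Matrix.SpecialLinearGroup (Fin m) F) = 1 := by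
    rw [← Matrix.SpecialLinearGroup.coe_mul, mul_inv_cancel, Matrix.SpecialLinearGroup.coe_one]
  unfold lG
  rw [← suOf_mul D _ _ _ _ _ _ (by rw [inv_inv, lA_mul_lA _ _ _ hAA', Matrix.det_one]) (by
    rw [inv_inv, lA_mul_lA _ _ _ hAA']
    simp [Matrix.map_one])]
  apply suOf_eq_one
  rw [inv_inv, lA_mul_lA _ _ _ hAA']

theorem lG_mul_uG (A : Matrix.SpecialLinearGroup (Fin m) F) (M : Matrix (Fin m) (Fin m) F) :
    lG D A * uG D M * lG D A⁻¹
      = uG D ((A : Matrix (Fin m) (Fin m) F) * M * hconj (frobRing hF) (A : Matrix (Fin m) (Fin m) F)) := by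
  have hAA' : (A : Matrix (Fin m) (Fin m) F) * (A⁻¹ : Matrix.SpecialLinearGroup (Fin m) F) = 1 := by
    rw [← Matrix.SpecialLinearGroup.coe_mul, mul_inv_cancel, Matrix.SpecialLinearGroup.coe_one]
  have key : lA (frobRing hF) (A : Matrix (Fin m) (Fin m) F)
        (A⁻¹ : Matrix.SpecialLinearGroup (Fin m) F) * uB (M + hconj (frobRing hF) M)
        * lA (frobRing hF) (A⁻¹ : Matrix.SpecialLinearGroup (Fin m) F)
          ((A⁻¹)⁻¹ : Matrix.SpecialLinearGroup (Fin m) F)
      = uB ((A : Matrix (Fin m) (Fin m) F) * M * hconj (frobRing hF) (A : Matrix (Fin m) (Fin m) F)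
        + hconj (frobRing hF) ((A : Matrix (Fin m) (Fin m) F) * M
          * hconj (frobRing hF) (A : Matrix (Fin m) (Fin m) F))) := by
    rw [inv_inv, lA_mul_uB _ _ _ _ hAA']
    congr 1
    rw [hconj_mul, hconj_mul, Matrix.mul_add, Matrix.add_mul]
    congr 1
    have : hconj (frobRing hF) (hconj (frobRing hF) (A : Matrix (Fin m) (Fin m) F)) = A := by
      ext i j
      simp [hconj_apply, frobRing_frobRing]
    rw [this, Matrix.mul_assoc]
  unfold lG uG
  have hd1 : (lA (frobRing hF) (A : Matrix (Fin m) (Fin m) F)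
        (A⁻¹ : Matrix.SpecialLinearGroup (Fin m) F) * uB (M + hconj (frobRing hF) M)).det = 1 := by
    rw [Matrix.det_mul, det_lA _ _ _ A.2 (A⁻¹).2, det_uB, one_mul]
  have hp1 : (lA (frobRing hF) (A : Matrix (Fin m) (Fin m) F)
        (A⁻¹ : Matrix.SpecialLinearGroup (Fin m) F) * uB (M + hconj (frobRing hF) M))ᵀ
        * siegelJ D.δ * (lA (frobRing hF) (A : Matrix (Fin m) (Fin m) F)
        (A⁻¹ : Matrix.SpecialLinearGroup (Fin m) F) * uB (M + hconj (frobRing hF) M)).map
          (frobRing hF) = siegelJ D.δ := by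
    rw [Matrix.transpose_mul, Matrix.map_mul]
    have h1 := lA_preserves (frobRing hF) (frobRing_frobRing hF) D.δ
      (A : Matrix (Fin m) (Fin m) F) (A⁻¹ : Matrix.SpecialLinearGroup (Fin m) F) (by
        rw [← Matrix.SpecialLinearGroup.coe_mul, inv_mul_cancel,
          Matrix.SpecialLinearGroup.coe_one])
    have h2 := uB_preserves (frobRing hF) D.δ _ (isHerm_add_hconj (hF := hF) M)
    calc (uB (M + hconj (frobRing hF) M))ᵀ * (lA (frobRing hF) (A : Matrix (Fin m) (Fin m) F)
          (A⁻¹ : Matrix.SpecialLinearGroup (Fin m) F))ᵀ * siegelJ D.δ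
          * ((lA (frobRing hF) (A : Matrix (Fin m) (Fin m) F)
          (A⁻¹ : Matrix.SpecialLinearGroup (Fin m) F)).map (frobRing hF)
          * (uB (M + hconj (frobRing hF) M)).map (frobRing hF))
        = (uB (M + hconj (frobRing hF) M))ᵀ * ((lA (frobRing hF) (A : Matrix (Fin m) (Fin m) F)
          (A⁻¹ : Matrix.SpecialLinearGroup (Fin m) F))ᵀ * siegelJ D.δ
          * (lA (frobRing hF) (A : Matrix (Fin m) (Fin m) F)
          (A⁻¹ : Matrix.SpecialLinearGroup (Fin m) F)).map (frobRing hF))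
          * (uB (M + hconj (frobRing hF) M)).map (frobRing hF) := by
            simp only [Matrix.mul_assoc]
      _ = siegelJ D.δ := by rw [h1, h2]
  rw [← suOf_mul D _ _ _ _ _ _ hd1 hp1]
  rw [← suOf_mul D _ _ _ _ _ _ (by rw [key]; exact det_uB _) (by
    rw [key]
    exact uB_preserves _ _ _ (isHerm_add_hconj _))]
  apply suOf_congr
  exact key

end suEven

end Cfsg.Agent.Lib.Helper46
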