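import Mathlib
import Cfsg.Agent.Lib.Helper46.SiegelEven

set_option autoImplicit false

namespace Cfsg.Agent.Lib.Helper46

open Matrix

section siegelOdd

variable {F : Type*} [Field F] {m : ℕ}

/-- The base change matrix in odd dimension. -/
def oddP (α μ ε : F) : Matrix ((Fin m ⊕ Fin m) ⊕ Unit) ((Fin m ⊕ Fin m) ⊕ Unit) F :=
  Matrix.fromBlocks (siegelP α μ ε) 0 0 1

/-- Its inverse. -/
def oddP' (α μ ε : F) : Matrix ((Fin m ⊕ Fin m) ⊕ Unit) ((Fin m ⊕ Fin m) ⊕ Unit) F :=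
  Matrix.fromBlocks (siegelP' α μ ε) 0 0 1

/-- The Gram matrix in odd dimension. -/
def oddJ (δ : F) : Matrix ((Fin m ⊕ Fin m) ⊕ Unit) ((Fin m ⊕ Fin m) ⊕ Unit) F :=
  Matrix.fromBlocks (siegelJ δ) 0 0 1

theorem oddP_mul_oddP' (α μ ε : F) (h : ε * α * (μ - 1) ≠ 0) :
    (oddP α μ ε : Matrix ((Fin m ⊕ Fin m) ⊕ Unit) ((Fin m ⊕ Fin m) ⊕ Unit) F) * oddP' α μ ε
      = 1 := by
  unfold oddP oddP'
  rw [Matrix.fromBlocks_multiply, siegelP_mul_siegelP' α μ ε h]
  simp [Matrix.fromBlocks_one]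

theorem oddP_gram (φ : F →+* F) (α μ ε δ : F) (hα : α * φ α = -1) (hμ : μ * φ μ = 1)
    (hδ : φ δ = -δ) (hε : ε * (1 - μ) = δ) :
    (oddP α μ ε : Matrix ((Fin m ⊕ Fin m) ⊕ Unit) ((Fin m ⊕ Fin m) ⊕ Unit) F)ᵀ
      * (oddP α μ ε).map φ = oddJ δ := by
  unfold oddP oddJ
  rw [Matrix.fromBlocks_transpose, Matrix.fromBlocks_map, Matrix.fromBlocks_multiply,
    siegelP_gram φ α μ ε δ hα hμ hδ hε]
  simp [Matrix.map_zero, Matrix.map_one]

theorem fromBlocks_sub' {l m' n o : Type*} (A A' : Matrix n l F) (B B' : Matrix n m' F)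
    (C C' : Matrix o l F) (D D' : Matrix o m' F) :
    Matrix.fromBlocks A B C D - Matrix.fromBlocks A' B' C' D'
      = Matrix.fromBlocks (A - A') (B - B') (C - C') (D - D') := by
  ext (i | i) (j | j) <;> simp

/-- The elements of the unipotent radical of the maximal parabolic. -/
def qMat (φ : F →+* F) (δ : F) (a : Matrix (Fin m) Unit F) (B : Matrix (Fin m) (Fin m) F) :
    Matrix ((Fin m ⊕ Fin m) ⊕ Unit) ((Fin m ⊕ Fin m) ⊕ Unit) F :=
  Matrix.fromBlocks (uB B) (Matrix.fromRows a 0) (Matrix.fromCols 0 ((-δ) • hconj φ a)) 1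

theorem qMat_zero (φ : F →+* F) (δ : F) (B : Matrix (Fin m) (Fin m) F) :
    qMat φ δ 0 B = Matrix.fromBlocks (uB B) 0 0 1 := by
  unfold qMat
  rw [hconj_zero, smul_zero, Matrix.fromRows_zero, Matrix.fromCols_zero]

theorem qMat_mul (φ : F →+* F) (δ : F) (a a' : Matrix (Fin m) Unit F)
    (B B' : Matrix (Fin m) (Fin m) F) :
    qMat φ δ a B * qMat φ δ a' B'
      = qMat φ δ (a + a') (B + B' + a * ((-δ) • hconj φ a')) := by
  have hadd : hconj φ (a + a') = hconj φ a + hconj φ a' := by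
    ext i j
    simp [hconj_apply]
  unfold qMat uB
  rw [Matrix.fromBlocks_multiply]
  simp only [Matrix.fromRows_mul_fromCols, Matrix.fromCols_mul_fromRows,
    Matrix.fromCols_mul_fromBlocks, Matrix.fromBlocks_mul_fromRows, Matrix.fromBlocks_multiply,
    Matrix.fromBlocks_add, Matrix.mul_zero, Matrix.zero_mul, Matrix.mul_one, Matrix.one_mul,
    add_zero, zero_add, hadd, smul_add]
  congr 1
  · congr 1
    rw [add_comm B' B]
  · ext (i | i) j <;> simp [add_comm]
  · ext i (j | j) <;> simp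

theorem det_qMat (φ : F →+* F) (δ : F) (a : Matrix (Fin m) Unit F)
    (B : Matrix (Fin m) (Fin m) F) : (qMat φ δ a B).det = 1 := by
  unfold qMat
  rw [Matrix.det_fromBlocks_one₂₂, Matrix.fromRows_mul_fromCols]
  unfold uB
  rw [fromBlocks_sub']
  simp only [Matrix.mul_zero, Matrix.zero_mul, sub_zero]
  rw [Matrix.det_fromBlocks_zero₂₁, Matrix.det_one, one_mul]

theorem qMat_preserves (φ : F →+* F) (hφ : ∀ x, φ (φ x) = x) (δ : F) (hδ : φ δ = -δ)
    (a : Matrix (Fin m) Unit F) (B : Matrix (Fin m) (Fin m) F)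
    (hB : hconj φ B - B = δ • (a * hconj φ a)) :
    (qMat φ δ a B)ᵀ * oddJ δ * (qMat φ δ a B).map φ = oddJ δ := by
  have hone : ((1 : Matrix (Fin m) (Fin m) F).map φ) = 1 :=
    Matrix.map_one _ (map_zero φ) (map_one φ)
  have hone' : ((1 : Matrix Unit Unit F).map φ) = 1 :=
    Matrix.map_one _ (map_zero φ) (map_one φ)
  have hzero : ((0 : Matrix (Fin m) (Fin m) F).map φ) = 0 := Matrix.map_zero _ (map_zero φ)
  have hzero1 : ((0 : Matrix (Fin m) Unit F).map φ) = 0 := Matrix.map_zero _ (map_zero φ)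
  have hzero2 : ((0 : Matrix Unit (Fin m) F).map φ) = 0 := Matrix.map_zero _ (map_zero φ)
  have hcφ : ((-δ) • hconj φ a).map φ = δ • aᵀ := by
    ext i j
    simp [hconj_apply, hφ, hδ]
  have hcT : ((-δ) • hconj φ a)ᵀ = (-δ) • a.map φ := by
    ext i j
    simp [hconj_apply]
  have hB' : B.map φ - Bᵀ = δ • (a.map φ * aᵀ) := by
    have := congrArg Matrix.transpose hB
    rw [Matrix.transpose_sub, Matrix.transpose_smul, Matrix.transpose_mul] at this
    unfold hconj at this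
    rw [Matrix.transpose_transpose, Matrix.transpose_transpose] at this
    exact this
  unfold qMat oddJ uB siegelJ
  rw [Matrix.fromBlocks_transpose, Matrix.fromBlocks_map, Matrix.fromBlocks_multiply,
    Matrix.fromBlocks_multiply]
  simp only [Matrix.transpose_fromCols, Matrix.transpose_fromRows, Matrix.fromRows_map,
    Matrix.fromCols_map, Matrix.fromBlocks_transpose, Matrix.fromBlocks_map, hone, hone', hzero,
    hzero1, hzero2, hcφ, hcT, Matrix.transpose_one, Matrix.transpose_zero, Matrix.mul_zero,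
    Matrix.zero_mul, Matrix.mul_one, Matrix.one_mul, add_zero, zero_add,
    Matrix.fromBlocks_multiply, Matrix.fromBlocks_mul_fromRows, Matrix.fromCols_mul_fromBlocks,
    Matrix.fromRows_mul_fromCols, Matrix.fromCols_mul_fromRows]
  congr 1
  · rw [Matrix.fromBlocks_add]
    congr 1
    · simp
    · simp
    · simp
    · simp only [Matrix.smul_mul, Matrix.mul_smul, Matrix.one_mul, Matrix.mul_one, zero_add,
        smul_smul]
      have : δ • B.map φ + -δ • Bᵀ = δ • (B.map φ - Bᵀ) := by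
        rw [smul_sub, neg_smul, sub_eq_add_neg]
      rw [this, hB', smul_smul, ← add_smul]
      convert zero_smul F _ using 2
      ring
  · simp only [Matrix.smul_mul, Matrix.mul_smul, Matrix.one_mul, Matrix.mul_one, zero_add,
      add_zero, Matrix.mul_zero, smul_zero]
    ext (i | i) j <;> simp
  · simp only [Matrix.smul_mul, Matrix.mul_smul, Matrix.one_mul, Matrix.mul_one, zero_add,
      add_zero, Matrix.mul_zero, Matrix.zero_mul, smul_zero]
    ext i (j | j) <;> simp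


/-- The Levi factor in odd dimension. -/
def lMatO (φ : F →+* F) (A A' : Matrix (Fin m) (Fin m) F) (μ : F) :
    Matrix ((Fin m ⊕ Fin m) ⊕ Unit) ((Fin m ⊕ Fin m) ⊕ Unit) F :=
  Matrix.fromBlocks (lA φ A A') 0 0 (Matrix.diagonal fun _ => μ)

theorem det_lMatO (φ : F →+* F) (A A' : Matrix (Fin m) (Fin m) F) (μ : F) :
    (lMatO φ A A' μ).det = A.det * φ A'.det * μ := by
  unfold lMatO lA
  rw [Matrix.det_fromBlocks_zero₂₁, Matrix.det_fromBlocks_zero₂₁, det_hconj, Matrix.det_diagonal]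
  simp

theorem lMatO_preserves (φ : F →+* F) (hφ : ∀ x, φ (φ x) = x) (δ : F)
    (A A' : Matrix (Fin m) (Fin m) F) (hAA' : A' * A = 1) (μ : F) (hμ : μ * φ μ = 1) :
    (lMatO φ A A' μ)ᵀ * oddJ δ * (lMatO φ A A' μ).map φ = oddJ δ := by
  have h1 := lA_preserves φ hφ δ A A' hAA'
  unfold lMatO oddJ
  rw [Matrix.fromBlocks_transpose, Matrix.fromBlocks_map, Matrix.fromBlocks_multiply,
    Matrix.fromBlocks_multiply]
  simp only [Matrix.transpose_zero, Matrix.mul_zero, Matrix.zero_mul, add_zero, zero_add,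
    Matrix.map_zero _ (map_zero φ), Matrix.mul_one, h1]
  congr 1
  ext i j
  simp [Matrix.diagonal_apply, hμ]

theorem lMatO_mul_qMat (φ : F →+* F) (δ : F) (A A' B : Matrix (Fin m) (Fin m) F)
    (hAA' : A * A' = 1) (μ μ' : F) (hμ : μ * μ' = 1) :
    lMatO φ A A' μ * qMat φ δ 0 B * lMatO φ A' A μ' = qMat φ δ 0 (A * B * hconj φ A) := by
  rw [qMat_zero, qMat_zero]
  unfold lMatO
  rw [Matrix.fromBlocks_multiply, Matrix.fromBlocks_multiply]
  simp only [Matrix.mul_zero, Matrix.zero_mul, add_zero, zero_add, Matrix.mul_one,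
    lA_mul_uB φ A A' B hAA']
  congr 1
  ext i j
  simp [Matrix.diagonal_apply, hμ]

theorem lMatO_mul_lMatO (φ : F →+* F) (A A' : Matrix (Fin m) (Fin m) F) (hAA' : A * A' = 1)
    (μ μ' : F) (hμ : μ * μ' = 1) : lMatO φ A A' μ * lMatO φ A' A μ' = 1 := by
  unfold lMatO
  rw [Matrix.fromBlocks_multiply]
  simp only [Matrix.mul_zero, Matrix.zero_mul, add_zero, zero_add, lA_mul_lA φ A A' hAA']
  rw [← Matrix.fromBlocks_one]
  congr 1
  ext i j
  simp [Matrix.diagonal_apply, hμ]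

end siegelOdd

end Cfsg.Agent.Lib.Helper46
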