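import Mathlib
import Cfsg.Agent.Lib.Helper46.SUEven
import Cfsg.Agent.Lib.Helper46.SiegelOdd
import Cfsg.Agent.Lib.Helper46.UnitaryField2

set_option autoImplicit false

namespace Cfsg.Agent.Lib.Helper46

open Matrix

section hconjMore

variable {F : Type*} [Field F] (φ : F →+* F)

theorem hconj_add {m n : Type*} (A B : Matrix m n F) :
    hconj φ (A + B) = hconj φ A + hconj φ B := by
  ext i j
  simp [hconj_apply]

theorem hconj_sub {m n : Type*} (A B : Matrix m n F) :
    hconj φ (A - B) = hconj φ A - hconj φ B := by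
  ext i j
  simp [hconj_apply]

theorem hconj_smul {m n : Type*} (c : F) (A : Matrix m n F) :
    hconj φ (c • A) = φ c • hconj φ A := by
  ext i j
  simp [hconj_apply]

theorem hconj_hconj (hφ : ∀ x, φ (φ x) = x) {m n : Type*} (A : Matrix m n F) :
    hconj φ (hconj φ A) = A := by
  ext i j
  simp [hconj_apply, hφ]

end hconjMore

section suOdd

variable {F : Type*} [Field F] [Fintype F] {q : ℕ} (hF : Fintype.card F = q ^ 2)

/-- The constants in odd dimension. -/
structure SiegelDataO extends SiegelData hF where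
  τ : F
  hτ : τ + frobRing hF τ = 1

theorem exists_siegelDataO : Nonempty (SiegelDataO hF) := by
  obtain ⟨D⟩ := exists_siegelData hF
  obtain ⟨z, hz⟩ := exists_trace_ne_zero hF
  refine ⟨⟨D, z / (z + frobRing hF z), ?_⟩⟩
  rw [map_div₀, map_add, frobRing_frobRing, add_comm (frobRing hF z) z, ← add_div, div_self hz]

variable {hF} (D : SiegelDataO hF) {m n : ℕ} (e : (Fin m ⊕ Fin m) ⊕ Unit ≃ Fin n)

theorem SiegelDataO.mul_inv_odd :
    (oddP D.α D.μ D.ε : Matrix ((Fin m ⊕ Fin m) ⊕ Unit) ((Fin m ⊕ Fin m) ⊕ Unit) F)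
      * oddP' D.α D.μ D.ε = 1 :=
  oddP_mul_oddP' _ _ _ D.hdet

theorem SiegelDataO.gram_odd :
    (oddP D.α D.μ D.ε : Matrix ((Fin m ⊕ Fin m) ⊕ Unit) ((Fin m ⊕ Fin m) ⊕ Unit) F)ᵀ
      * (oddP D.α D.μ D.ε).map (frobRing hF) = oddJ D.δ :=
  oddP_gram _ _ _ _ _ D.hα D.hμ D.hδ D.hε

/-- The element of `SU_n` of a matrix preserving the odd hyperbolic form. -/
noncomputable def suOfO (B : Matrix ((Fin m ⊕ Fin m) ⊕ Unit) ((Fin m ⊕ Fin m) ⊕ Unit) F)
    (hdet : B.det = 1)
    (hB : Bᵀ * oddJ D.δ * B.map (frobRing hF) = oddJ D.δ) : ↥(Cfsg.SU n F q) :=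
  toSU hF e (oddP D.α D.μ D.ε) (oddP' D.α D.μ D.ε) (frobRing hF) rfl
    D.mul_inv_odd B hdet (by rw [D.gram_odd]; exact hB)

theorem suOfO_coe (B : Matrix ((Fin m ⊕ Fin m) ⊕ Unit) ((Fin m ⊕ Fin m) ⊕ Unit) F)
    (hdet : B.det = 1)
    (hB : Bᵀ * oddJ D.δ * B.map (frobRing hF) = oddJ D.δ) :
    (((suOfO D e B hdet hB : ↥(Cfsg.SU n F q)) :
      Matrix.SpecialLinearGroup (Fin n) F) : Matrix (Fin n) (Fin n) F)
      = conjMat e (oddP D.α D.μ D.ε) (oddP' D.α D.μ D.ε) B := rfl

theorem suOfO_mul (B C : Matrix ((Fin m ⊕ Fin m) ⊕ Unit) ((Fin m ⊕ Fin m) ⊕ Unit) F)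
    (hdetB : B.det = 1)
    (hB : Bᵀ * oddJ D.δ * B.map (frobRing hF) = oddJ D.δ) (hdetC : C.det = 1)
    (hC : Cᵀ * oddJ D.δ * C.map (frobRing hF) = oddJ D.δ) (hdetBC : (B * C).det = 1)
    (hBC : (B * C)ᵀ * oddJ D.δ * (B * C).map (frobRing hF) = oddJ D.δ) :
    suOfO D e (B * C) hdetBC hBC = suOfO D e B hdetB hB * suOfO D e C hdetC hC := by
  unfold suOfO
  apply toSU_mul

theorem suOfO_eq_one (B : Matrix ((Fin m ⊕ Fin m) ⊕ Unit) ((Fin m ⊕ Fin m) ⊕ Unit) F)
    (hdet : B.det = 1)
    (hB : Bᵀ * oddJ D.δ * B.map (frobRing hF) = oddJ D.δ) (h1 : B = 1) :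
    suOfO D e B hdet hB = 1 := by
  subst h1
  unfold suOfO
  apply toSU_one

theorem suOfO_congr (B C : Matrix ((Fin m ⊕ Fin m) ⊕ Unit) ((Fin m ⊕ Fin m) ⊕ Unit) F)
    (hBC : B = C) (hdetB : B.det = 1)
    (hB : Bᵀ * oddJ D.δ * B.map (frobRing hF) = oddJ D.δ) (hdetC : C.det = 1)
    (hC : Cᵀ * oddJ D.δ * C.map (frobRing hF) = oddJ D.δ) :
    suOfO D e B hdetB hB = suOfO D e C hdetC hC := by
  subst hBC
  rfl

/-- The Hermitian-type parameter of an element of the unipotent radical. -/
noncomputable def qB (a : Matrix (Fin m) Unit F) (M : Matrix (Fin m) (Fin m) F) : Matrix (Fin m) (Fin m) F :=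
  M + hconj (frobRing hF) M - (D.τ * D.δ) • (a * hconj (frobRing hF) a)

theorem qB_valid (a : Matrix (Fin m) Unit F) (M : Matrix (Fin m) (Fin m) F) :
    hconj (frobRing hF) (qB D a M) - qB D a M = D.δ • (a * hconj (frobRing hF) a) := by
  have hφτ : frobRing hF D.τ = 1 - D.τ := by linear_combination D.hτ
  unfold qB
  rw [hconj_sub, hconj_add, hconj_smul, hconj_mul, hconj_hconj _ (frobRing_frobRing hF),
    hconj_hconj _ (frobRing_frobRing hF), map_mul, D.hδ, hφτ]
  module

/-- The elements of the unipotent radical of the maximal parabolic. -/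
noncomputable def qG (a : Matrix (Fin m) Unit F) (M : Matrix (Fin m) (Fin m) F) :
    ↥(Cfsg.SU n F q) :=
  suOfO D e (qMat (frobRing hF) D.δ a (qB D a M)) (det_qMat _ _ _ _)
    (qMat_preserves _ (frobRing_frobRing hF) _ D.hδ _ _ (qB_valid D a M))

theorem qG_congr (a : Matrix (Fin m) Unit F) (M M' : Matrix (Fin m) (Fin m) F)
    (h : M + hconj (frobRing hF) M = M' + hconj (frobRing hF) M') : qG D e a M = qG D e a M' := by
  unfold qG
  apply suOfO_congr
  unfold qB
  rw [h]

theorem qG_mul (a a' : Matrix (Fin m) Unit F) (M M' : Matrix (Fin m) (Fin m) F) :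
    qG D e a M * qG D e a' M'
      = qG D e (a + a') (M + M' + (D.τ * D.δ) • (a' * hconj (frobRing hF) a)) := by
  have hφτ : frobRing hF D.τ = 1 - D.τ := by linear_combination D.hτ
  have key : qMat (frobRing hF) D.δ a (qB D a M) * qMat (frobRing hF) D.δ a' (qB D a' M')
      = qMat (frobRing hF) D.δ (a + a')
        (qB D (a + a') (M + M' + (D.τ * D.δ) • (a' * hconj (frobRing hF) a))) := by
    rw [qMat_mul]
    congr 1
    unfold qB
    rw [hconj_add, hconj_add, hconj_smul, hconj_mul, hconj_hconj _ (frobRing_frobRing hF),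
      hconj_add, Matrix.add_mul, Matrix.mul_add, Matrix.mul_add, Matrix.mul_smul, map_mul, D.hδ,
      hφτ]
    module
  unfold qG
  rw [← suOfO_mul D e _ _ _ _ _ _ (by rw [key]; exact det_qMat _ _ _ _) (by
    rw [key]
    exact qMat_preserves _ (frobRing_frobRing hF) _ D.hδ _ _ (qB_valid D _ _))]
  apply suOfO_congr
  exact key

theorem qG_zero_zero : qG D e (0 : Matrix (Fin m) Unit F) 0 = 1 := by
  unfold qG
  apply suOfO_eq_one
  unfold qB
  rw [qMat_zero]
  simp [hconj_zero, uB_zero, Matrix.fromBlocks_one]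

/-- The central elements. -/
noncomputable def zG (M : Matrix (Fin m) (Fin m) F) : ↥(Cfsg.SU n F q) := qG D e 0 M

/-- The non-central elements. -/
noncomputable def xG (a : Matrix (Fin m) Unit F) : ↥(Cfsg.SU n F q) := qG D e a 0

theorem zG_add (M M' : Matrix (Fin m) (Fin m) F) : zG D e (M + M') = zG D e M * zG D e M' := by
  unfold zG
  rw [qG_mul, add_zero, Matrix.zero_mul, smul_zero, add_zero]

theorem zG_eq_one (M : Matrix (Fin m) (Fin m) F) (h : M + hconj (frobRing hF) M = 0) :
    zG D e M = 1 := by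
  unfold zG
  rw [qG_congr D e 0 M 0 (by rw [h, zero_add, hconj_zero]), qG_zero_zero]

theorem zG_congr (M M' : Matrix (Fin m) (Fin m) F)
    (h : M + hconj (frobRing hF) M = M' + hconj (frobRing hF) M') : zG D e M = zG D e M' :=
  qG_congr D e 0 M M' h

theorem xG_mul_zG (a : Matrix (Fin m) Unit F) (M : Matrix (Fin m) (Fin m) F) :
    xG D e a * zG D e M = zG D e M * xG D e a := by
  unfold xG zG
  rw [qG_mul, qG_mul]
  simp only [add_zero, zero_add, Matrix.zero_mul, Matrix.mul_zero, hconj_zero, smul_zero]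

theorem xG_mul_xG (a a' : Matrix (Fin m) Unit F) :
    xG D e a * xG D e a'
      = zG D e ((D.τ * D.δ) • (a' * hconj (frobRing hF) a)) * xG D e (a + a') := by
  unfold xG zG
  rw [qG_mul, qG_mul]
  simp only [add_zero, zero_add, Matrix.mul_zero, hconj_zero, smul_zero]

theorem xG_comm (a a' : Matrix (Fin m) Unit F) :
    xG D e a' * xG D e a
      = zG D e (D.δ • (a * hconj (frobRing hF) a')) * (xG D e a * xG D e a') := by
  have hφτ : frobRing hF D.τ = 1 - D.τ := by linear_combination D.hτ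
  unfold xG zG
  rw [qG_mul, qG_mul, qG_mul]
  simp only [add_zero, zero_add, Matrix.mul_zero, hconj_zero, smul_zero]
  rw [add_comm a' a]
  apply qG_congr
  rw [hconj_add, hconj_smul, hconj_smul, hconj_smul, hconj_mul, hconj_mul,
    hconj_hconj _ (frobRing_frobRing hF), hconj_hconj _ (frobRing_frobRing hF), map_mul, D.hδ,
    hφτ]
  module

/-- The Levi elements in odd dimension. -/
noncomputable def lGo (A A' : Matrix (Fin m) (Fin m) F) (hAA' : A * A' = 1) :
    ↥(Cfsg.SU n F q) :=
  suOfO D e (lMatO (frobRing hF) A A' (frobRing hF A.det * A'.det)) (by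
      rw [det_lMatO]
      have h1 : A.det * A'.det = 1 := by rw [← Matrix.det_mul, hAA', Matrix.det_one]
      have h2 := congrArg (frobRing hF) h1
      rw [map_mul, map_one] at h2
      linear_combination (frobRing hF A.det * frobRing hF A'.det) * h1 + h2)
    (lMatO_preserves _ (frobRing_frobRing hF) _ _ _ (mul_eq_one_comm.1 hAA') _ (by
      have h1 : A.det * A'.det = 1 := by rw [← Matrix.det_mul, hAA', Matrix.det_one]
      have h2 := congrArg (frobRing hF) h1
      rw [map_mul, map_one] at h2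
      rw [map_mul, frobRing_frobRing]
      linear_combination (frobRing hF A.det * frobRing hF A'.det) * h1 + h2))

theorem lGo_mul_lGo (A A' : Matrix (Fin m) (Fin m) F) (hAA' : A * A' = 1) :
    lGo D e A A' hAA' * lGo D e A' A (mul_eq_one_comm.1 hAA') = 1 := by
  have h1 : A.det * A'.det = 1 := by rw [← Matrix.det_mul, hAA', Matrix.det_one]
  have h2 := congrArg (frobRing hF) h1
  rw [map_mul, map_one] at h2
  have key : lMatO (frobRing hF) A A' (frobRing hF A.det * A'.det)
      * lMatO (frobRing hF) A' A (frobRing hF A'.det * A.det) = 1 := by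
    apply lMatO_mul_lMatO _ _ _ hAA'
    linear_combination (frobRing hF A.det * frobRing hF A'.det) * h1 + h2
  unfold lGo
  rw [← suOfO_mul D e _ _ _ _ _ _ (by rw [key, Matrix.det_one]) (by
    rw [key]
    simp [Matrix.map_one])]
  apply suOfO_eq_one
  exact key

theorem lGo_mul_zG (A A' : Matrix (Fin m) (Fin m) F) (hAA' : A * A' = 1)
    (M : Matrix (Fin m) (Fin m) F) :
    lGo D e A A' hAA' * zG D e M * lGo D e A' A (mul_eq_one_comm.1 hAA')
      = zG D e (A * M * hconj (frobRing hF) A) := by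
  have h1 : A.det * A'.det = 1 := by rw [← Matrix.det_mul, hAA', Matrix.det_one]
  have h2 := congrArg (frobRing hF) h1
  rw [map_mul, map_one] at h2
  have hq0 : ∀ M : Matrix (Fin m) (Fin m) F, qB D (0 : Matrix (Fin m) Unit F) M
      = M + hconj (frobRing hF) M := by
    intro M
    unfold qB
    rw [Matrix.zero_mul, smul_zero, sub_zero]
  have key : lMatO (frobRing hF) A A' (frobRing hF A.det * A'.det)
      * qMat (frobRing hF) D.δ 0 (qB D 0 M)
      * lMatO (frobRing hF) A' A (frobRing hF A'.det * A.det)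
      = qMat (frobRing hF) D.δ 0 (qB D 0 (A * M * hconj (frobRing hF) A)) := by
    rw [lMatO_mul_qMat _ _ _ _ _ hAA' _ _ (by
      linear_combination (frobRing hF A.det * frobRing hF A'.det) * h1 + h2)]
    congr 1
    rw [hq0, hq0, hconj_mul, hconj_mul, hconj_hconj _ (frobRing_frobRing hF), Matrix.mul_add,
      Matrix.add_mul]
    simp only [Matrix.mul_assoc]
  have hd1 : (lMatO (frobRing hF) A A' (frobRing hF A.det * A'.det)
      * qMat (frobRing hF) D.δ 0 (qB D 0 M)).det = 1 := by
    rw [Matrix.det_mul, det_qMat, mul_one, det_lMatO]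
    linear_combination (frobRing hF A.det * frobRing hF A'.det) * h1 + h2
  have hμ : frobRing hF A.det * A'.det * frobRing hF (frobRing hF A.det * A'.det) = 1 := by
    rw [map_mul, frobRing_frobRing]
    linear_combination (frobRing hF A.det * frobRing hF A'.det) * h1 + h2
  have hp1 : (lMatO (frobRing hF) A A' (frobRing hF A.det * A'.det)
      * qMat (frobRing hF) D.δ 0 (qB D 0 M))ᵀ * oddJ D.δ
      * (lMatO (frobRing hF) A A' (frobRing hF A.det * A'.det)
      * qMat (frobRing hF) D.δ 0 (qB D 0 M)).map (frobRing hF) = oddJ D.δ := by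
    rw [Matrix.transpose_mul, Matrix.map_mul]
    have e1 := lMatO_preserves (frobRing hF) (frobRing_frobRing hF) D.δ A A'
      (mul_eq_one_comm.1 hAA') _ hμ
    have e2 := qMat_preserves (frobRing hF) (frobRing_frobRing hF) D.δ D.hδ 0 _ (qB_valid D 0 M)
    calc (qMat (frobRing hF) D.δ 0 (qB D 0 M))ᵀ
          * (lMatO (frobRing hF) A A' (frobRing hF A.det * A'.det))ᵀ * oddJ D.δ
          * ((lMatO (frobRing hF) A A' (frobRing hF A.det * A'.det)).map (frobRing hF)
          * (qMat (frobRing hF) D.δ 0 (qB D 0 M)).map (frobRing hF))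
        = (qMat (frobRing hF) D.δ 0 (qB D 0 M))ᵀ
          * ((lMatO (frobRing hF) A A' (frobRing hF A.det * A'.det))ᵀ * oddJ D.δ
          * (lMatO (frobRing hF) A A' (frobRing hF A.det * A'.det)).map (frobRing hF))
          * (qMat (frobRing hF) D.δ 0 (qB D 0 M)).map (frobRing hF) := by
            simp only [Matrix.mul_assoc]
      _ = oddJ D.δ := by rw [e1, e2]
  unfold lGo zG qG
  rw [← suOfO_mul D e _ _ _ _ _ _ hd1 hp1]
  rw [← suOfO_mul D e _ _ _ _ _ _ (by rw [key]; exact det_qMat _ _ _ _) (by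
    rw [key]
    exact qMat_preserves _ (frobRing_frobRing hF) _ D.hδ _ _ (qB_valid D _ _))]
  apply suOfO_congr
  exact key

/-- The central element of a rank one Hermitian matrix is a transvection. -/
theorem isTransvection_zG (i₀ : Fin m) (z : F) (hz : z + frobRing hF z ≠ 0) :
    Cfsg.IsTransvection (((zG D e (Matrix.single i₀ i₀ z) : ↥(Cfsg.SU n F q)) :
      Matrix.SpecialLinearGroup (Fin n) F) : Matrix (Fin n) (Fin n) F) := by
  unfold zG qG
  rw [suOfO_coe]
  have h1 : qMat (frobRing hF) D.δ 0 (qB D 0 (Matrix.single i₀ i₀ z))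
      = 1 + vecMulVec (Pi.single (Sum.inl (Sum.inl i₀)) (z + frobRing hF z))
        (Pi.single (Sum.inl (Sum.inr i₀)) (1 : F)) := by
    rw [qMat_zero]
    unfold qB uB
    rw [Matrix.zero_mul, smul_zero, sub_zero]
    ext ((a | a) | a) ((b | b) | b)
    · simp [Matrix.vecMulVec_apply, Matrix.one_apply]
    · simp only [Matrix.fromBlocks_apply₁₁, Matrix.fromBlocks_apply₁₂, Matrix.add_apply,
        hconj_apply, Matrix.single_apply,
        Matrix.vecMulVec_apply, Pi.single_apply, Matrix.one_apply, Sum.inl.injEq, Sum.inr.injEq,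
        reduceCtorEq, if_false, zero_add]
      by_cases h : i₀ = a ∧ i₀ = b
      · rw [if_pos h, if_pos ⟨h.2, h.1⟩, if_pos h.1.symm, if_pos h.2.symm, mul_one]
      · rw [if_neg h, if_neg (fun h' => h ⟨h'.2, h'.1⟩), map_zero, add_zero]
        by_cases ha : a = i₀
        · rw [if_pos ha, if_neg (fun hb => h ⟨ha.symm, hb.symm⟩), mul_zero]
        · rw [if_neg ha, zero_mul]
    · simp [Matrix.vecMulVec_apply, Matrix.one_apply]
    · simp [Matrix.vecMulVec_apply, Matrix.one_apply]
    · simp [Matrix.vecMulVec_apply, Matrix.one_apply]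
    · simp [Matrix.vecMulVec_apply, Matrix.one_apply]
    · simp [Matrix.vecMulVec_apply, Matrix.one_apply]
    · simp [Matrix.vecMulVec_apply, Matrix.one_apply]
    · simp [Matrix.vecMulVec_apply, Matrix.one_apply]
  rw [h1]
  apply isTransvection_conjMat _ _ _ D.mul_inv_odd
  · rw [Matrix.vecMulVec_mul_vecMulVec]
    have : (Pi.single (Sum.inl (Sum.inr i₀)) (1 : F) : (Fin m ⊕ Fin m) ⊕ Unit → F)
        ⬝ᵥ (Pi.single (Sum.inl (Sum.inl i₀)) (z + frobRing hF z)) = 0 := by
      rw [single_dotProduct, Pi.single_eq_of_ne (by simp), mul_zero]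
    rw [this, zero_smul]
    ext i j
    simp [Matrix.vecMulVec_apply]
  · apply rank_vecMulVec_eq_one
    · intro h
      have := congrFun h (Sum.inl (Sum.inl i₀))
      rw [Pi.single_eq_same] at this
      exact hz this
    · intro h
      have := congrFun h (Sum.inl (Sum.inr i₀))
      rw [Pi.single_eq_same] at this
      exact one_ne_zero this

end suOdd

end Cfsg.Agent.Lib.Helper46
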