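import Mathlib
import Cfsg.Agent.S0780
import Cfsg.Agent.S2644
import Cfsg.Agent.Lib.Helper46.SUEven
import Cfsg.Agent.Lib.Helper46.RepMat

set_option autoImplicit false

namespace Cfsg.Agent.Lib.Helper46

open Matrix

section suTransv

variable {F : Type*} [Field F] [Fintype F] {q : ℕ}

/-- The matrix of a unitary transvection is the identity or a transvection. -/
theorem unitaryTransvection_eq_one_or {n : ℕ} (hq : q ≠ 0) (v : Fin n → F) (c : F)
    (hv : Cfsg.hermForm n F q v v = 0) :
    Cfsg.unitaryTransvection n q v c = 1 ∨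
      Cfsg.IsTransvection (Cfsg.unitaryTransvection n q v c) := by
  by_cases hc : c = 0
  · left
    unfold Cfsg.unitaryTransvection
    rw [hc, zero_smul, add_zero]
  by_cases hv0 : v = 0
  · left
    unfold Cfsg.unitaryTransvection
    rw [hv0]
    ext i j
    simp [Matrix.vecMulVec_apply]
  right
  have h1 : Cfsg.unitaryTransvection n q v c - 1
      = vecMulVec (c • v) (fun j => (v j) ^ q) := by
    unfold Cfsg.unitaryTransvection
    rw [add_sub_cancel_left]
    ext i j
    simp [Matrix.vecMulVec_apply, mul_assoc]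
  constructor
  · rw [h1]
    apply rank_vecMulVec_eq_one
    · exact smul_ne_zero hc hv0
    · intro h
      apply hv0
      funext i
      have := congrFun h i
      exact pow_eq_zero_iff hq |>.1 this
  · rw [h1, Matrix.vecMulVec_mul_vecMulVec]
    have : (fun j => (v j) ^ q) ⬝ᵥ (c • v) = 0 := by
      rw [dotProduct_smul]
      have h2 : (fun j => (v j) ^ q) ⬝ᵥ v = Cfsg.hermForm n F q v v := by
        unfold Cfsg.hermForm
        simp only [dotProduct]
        apply Finset.sum_congr rfl
        intro i _
        ring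
      rw [h2, hv, smul_zero]
    rw [this, zero_smul]
    ext i j
    simp [Matrix.vecMulVec_apply]

/-- An irreducible representation of degree at least two of `SU_n(q)` is non-trivial on every
transvection. -/
theorem rho_transvection_ne_one (hF : Fintype.card F = q ^ 2) (n : ℕ) (hn : 3 ≤ n)
    (h32 : ¬ (n = 3 ∧ q = 2)) {k : ℕ} (ρ : Representation ℂ ↥(Cfsg.SU n F q) (Fin k → ℂ))
    (hirr : ρ.IsIrreducible) (hk : 2 ≤ k) (t : ↥(Cfsg.SU n F q))
    (ht : Cfsg.IsTransvection
      ((t : Matrix.SpecialLinearGroup (Fin n) F) : Matrix (Fin n) (Fin n) F)) :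
    ρ t ≠ 1 := by
  intro h1
  have hq : q ≠ 0 := by
    have := one_lt_of_card hF
    omega
  obtain ⟨g, hg, hρg⟩ := not_closure_le_ker ρ hirr hk _ (Cfsg.Agent.S0780.result hF n hn h32)
  obtain ⟨v, c, hv, hgm⟩ := hg
  apply hρg
  rcases unitaryTransvection_eq_one_or hq v c hv with h | h
  · have : g = 1 := by
      apply Subtype.ext
      apply Subtype.ext
      rw [hgm, h]
      rfl
    rw [this, map_one]
  · rw [← hgm] at h
    have hconj : IsConj t g := Cfsg.Agent.S2644.result hF hn t g ht h
    obtain ⟨x, hx⟩ := isConj_iff.1 hconj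
    rw [← hx, map_mul, map_mul, h1, mul_one, ← map_mul, mul_inv_cancel, map_one]

end suTransv

end Cfsg.Agent.Lib.Helper46
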