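import Mathlib

set_option autoImplicit false
set_option linter.unusedSectionVars false
set_option linter.unusedSimpArgs false

namespace Cfsg.Agent.Lib.Helper46

open Matrix

section char2mat

variable {F : Type*} [Field F] [CharP F 2] {m n : Type*}

theorem mat_add_self (M : Matrix m n F) : M + M = 0 := by
  ext i j
  simp [CharTwo.add_self_eq_zero]

theorem mat_sub_eq_add (M N : Matrix m n F) : M - N = M + N := by
  ext i j
  simp [CharTwo.sub_eq_add]

theorem mat_neg_eq (M : Matrix m n F) : -M = M := by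
  ext i j
  simp [CharTwo.neg_eq]

theorem transpose_unit (K : Matrix Unit Unit F) : Kᵀ = K := by
  ext i j
  rfl

end char2mat

section elems

variable {F : Type*} [Field F] [CharP F 2] {l : Type*} [Fintype l] [DecidableEq l]

/-- Elements of the unipotent radical of the stabiliser of the first basis vector, with the
corner entry `K` as parameter. -/
def elemM (K : Matrix Unit Unit F) (X Y : Matrix l Unit F) :
    Matrix ((Unit ⊕ l) ⊕ (Unit ⊕ l)) ((Unit ⊕ l) ⊕ (Unit ⊕ l)) F :=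
  fromBlocks (fromBlocks 1 Yᵀ 0 1) (fromBlocks K Xᵀ X 0) 0 (fromBlocks 1 0 Y 1)

theorem elemM_mem (K : Matrix Unit Unit F) (X Y : Matrix l Unit F) :
    elemM K X Y ∈ Matrix.symplecticGroup (Unit ⊕ l) F := by
  rw [elemM, SymplecticGroup.fromBlocks_mem_iff]
  refine ⟨by simp, ?_, ?_⟩
  · rw [fromBlocks_transpose, fromBlocks_transpose, fromBlocks_multiply, fromBlocks_multiply]
    have h : Xᵀ * Y = Yᵀ * X := by
      rw [← transpose_unit (Xᵀ * Y), transpose_mul, transpose_transpose]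
    simp [transpose_unit, h]
  · rw [fromBlocks_transpose, fromBlocks_multiply]
    simp [mat_add_self, fromBlocks_one]

theorem elemM_mul (K K' : Matrix Unit Unit F) (X Y X' Y' : Matrix l Unit F) :
    elemM K X Y * elemM K' X' Y' = elemM (K + K' + Yᵀ * X' + Xᵀ * Y') (X + X') (Y + Y') := by
  rw [elemM, elemM, elemM, fromBlocks_multiply]
  simp only [fromBlocks_multiply, Matrix.mul_zero, Matrix.zero_mul, add_zero, zero_add,
    Matrix.mul_one, Matrix.one_mul, fromBlocks_add, transpose_add]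
  congr 2 <;> abel

theorem elemM_zero : elemM (0 : Matrix Unit Unit F) (0 : Matrix l Unit F) 0 = 1 := by
  rw [elemM]
  simp [fromBlocks_one]

theorem elemM_injective {K K' : Matrix Unit Unit F} {X Y X' Y' : Matrix l Unit F}
    (h : elemM K X Y = elemM K' X' Y') : K = K' ∧ X = X' ∧ Y = Y' := by
  rw [elemM, elemM, fromBlocks_inj] at h
  obtain ⟨_, h2, _, h4⟩ := h
  rw [fromBlocks_inj] at h2 h4
  exact ⟨h2.1, h2.2.2.1, h4.2.2.1⟩

/-- The embedding of block matrices fixing the first hyperbolic pair. -/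
def iotaB (p q r s : Matrix l l F) :
    Matrix ((Unit ⊕ l) ⊕ (Unit ⊕ l)) ((Unit ⊕ l) ⊕ (Unit ⊕ l)) F :=
  fromBlocks (fromBlocks 1 0 0 p) (fromBlocks 0 0 0 q) (fromBlocks 0 0 0 r) (fromBlocks 1 0 0 s)

theorem iotaB_mul (p q r s p' q' r' s' : Matrix l l F) :
    iotaB p q r s * iotaB p' q' r' s'
      = iotaB (p * p' + q * r') (p * q' + q * s') (r * p' + s * r') (r * q' + s * s') := by
  rw [iotaB, iotaB, iotaB, fromBlocks_multiply]
  simp only [fromBlocks_multiply, Matrix.mul_zero, Matrix.zero_mul, add_zero, zero_add,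
    Matrix.mul_one, Matrix.one_mul, fromBlocks_add]

theorem iotaB_one : iotaB (1 : Matrix l l F) 0 0 1 = 1 := by
  rw [iotaB]
  simp [fromBlocks_one]

theorem iotaB_mem {p q r s : Matrix l l F}
    (h : fromBlocks p q r s ∈ Matrix.symplecticGroup l F) :
    iotaB p q r s ∈ Matrix.symplecticGroup (Unit ⊕ l) F := by
  rw [SymplecticGroup.fromBlocks_mem_iff] at h
  obtain ⟨h1, h2, h3⟩ := h
  rw [iotaB, SymplecticGroup.fromBlocks_mem_iff]
  simp only [fromBlocks_transpose, fromBlocks_multiply, Matrix.mul_zero, Matrix.zero_mul, add_zero,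
    zero_add, Matrix.mul_one, Matrix.one_mul, transpose_zero, transpose_one]
  refine ⟨by rw [h1], by rw [h2], ?_⟩
  rw [mat_sub_eq_add, fromBlocks_add, ← mat_sub_eq_add (pᵀ * s), h3]
  simp [fromBlocks_one]

theorem iotaB_mul_elemM {p q r s : Matrix l l F}
    (h : fromBlocks p q r s ∈ Matrix.symplecticGroup l F)
    (K : Matrix Unit Unit F) (X Y : Matrix l Unit F) :
    iotaB p q r s * elemM K X Y
      = elemM K (p * X + q * Y) (r * X + s * Y) * iotaB p q r s := by
  rw [SymplecticGroup.fromBlocks_mem_iff] at h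
  obtain ⟨h1, h2, h3⟩ := h
  have e1 : rᵀ * p + pᵀ * r = 0 := by rw [h1, mat_add_self]
  have e2 : sᵀ * q + qᵀ * s = 0 := by rw [h2, mat_add_self]
  have e3 : pᵀ * s + rᵀ * q = 1 := by rw [← mat_sub_eq_add, h3]
  have e4 : sᵀ * p + qᵀ * r = 1 := by
    have := congrArg transpose e3
    rw [transpose_add, transpose_mul, transpose_mul, transpose_transpose, transpose_transpose,
      transpose_one] at this
    exact this
  rw [iotaB, elemM, elemM, fromBlocks_multiply, fromBlocks_multiply]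
  simp only [fromBlocks_multiply, Matrix.mul_zero, Matrix.zero_mul, add_zero, zero_add,
    Matrix.mul_one, Matrix.one_mul, fromBlocks_add, transpose_add, transpose_mul]
  have g1 : (Xᵀ * rᵀ + Yᵀ * sᵀ) * p + (Xᵀ * pᵀ + Yᵀ * qᵀ) * r = Yᵀ := by
    calc (Xᵀ * rᵀ + Yᵀ * sᵀ) * p + (Xᵀ * pᵀ + Yᵀ * qᵀ) * r
        = Xᵀ * (rᵀ * p + pᵀ * r) + Yᵀ * (sᵀ * p + qᵀ * r) := by
          simp only [Matrix.add_mul, Matrix.mul_add, Matrix.mul_assoc]
          abel
      _ = Yᵀ := by rw [e1, e4, Matrix.mul_zero, zero_add, Matrix.mul_one]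
  have g2 : (Xᵀ * rᵀ + Yᵀ * sᵀ) * q + (Xᵀ * pᵀ + Yᵀ * qᵀ) * s = Xᵀ := by
    calc (Xᵀ * rᵀ + Yᵀ * sᵀ) * q + (Xᵀ * pᵀ + Yᵀ * qᵀ) * s
        = Xᵀ * (pᵀ * s + rᵀ * q) + Yᵀ * (sᵀ * q + qᵀ * s) := by
          simp only [Matrix.add_mul, Matrix.mul_add, Matrix.mul_assoc]
          abel
      _ = Xᵀ := by rw [e2, e3, Matrix.mul_zero, add_zero, Matrix.mul_one]
  rw [g1, g2]

/-- The torus element scaling the first hyperbolic pair. -/
def torM (t : F) : Matrix ((Unit ⊕ l) ⊕ (Unit ⊕ l)) ((Unit ⊕ l) ⊕ (Unit ⊕ l)) F :=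
  fromBlocks (fromBlocks (t • 1) 0 0 1) 0 0 (fromBlocks (t⁻¹ • 1) 0 0 1)

theorem torM_mem {t : F} (ht : t ≠ 0) : torM (l := l) t ∈ Matrix.symplecticGroup (Unit ⊕ l) F := by
  rw [torM, SymplecticGroup.fromBlocks_mem_iff]
  refine ⟨by simp, by simp, ?_⟩
  rw [fromBlocks_transpose, fromBlocks_multiply]
  simp [fromBlocks_one, smul_smul, inv_mul_cancel₀ ht]

theorem torM_mul_elemM {t : F} (ht : t ≠ 0) (K : Matrix Unit Unit F) (X Y : Matrix l Unit F) :
    torM t * elemM K X Y = elemM ((t * t) • K) (t • X) (t • Y) * torM t := by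
  rw [torM, elemM, elemM, fromBlocks_multiply, fromBlocks_multiply]
  simp only [fromBlocks_multiply, Matrix.mul_zero, Matrix.zero_mul, add_zero, zero_add,
    Matrix.mul_one, Matrix.one_mul, fromBlocks_add, transpose_smul, Matrix.smul_mul,
    Matrix.mul_smul, smul_smul]
  have h1 : t⁻¹ * (t * t) = t := by
    rw [← mul_assoc, inv_mul_cancel₀ ht, one_mul]
  rw [h1, inv_mul_cancel₀ ht, one_smul, one_smul, smul_zero]

end elems

end Cfsg.Agent.Lib.Helper46
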