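import Cfsg.Agent.Lib.Helper46.SpE1

set_option autoImplicit false
set_option linter.unusedSectionVars false
set_option linter.unusedSimpArgs false

namespace Cfsg.Agent.Lib.Helper46

open Matrix

section siegel

variable {F : Type*} [Field F] [CharP F 2] {κ : Type*} [Fintype κ] [DecidableEq κ]

/-- Siegel unipotent element. -/
def uS (S : Matrix κ κ F) : Matrix (κ ⊕ κ) (κ ⊕ κ) F := fromBlocks 1 S 0 1

theorem uS_mem {S : Matrix κ κ F} (hS : Sᵀ = S) : uS S ∈ Matrix.symplecticGroup κ F := by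
  rw [uS, SymplecticGroup.fromBlocks_mem_iff]
  simp [hS]

theorem uS_add (S S' : Matrix κ κ F) : uS (S + S') = uS S * uS S' := by
  rw [uS, uS, uS, fromBlocks_multiply]
  simp [add_comm]

theorem uS_zero : uS (0 : Matrix κ κ F) = 1 := by
  rw [uS, fromBlocks_one]

/-- Levi element. -/
def lAT (A A' : Matrix κ κ F) : Matrix (κ ⊕ κ) (κ ⊕ κ) F := fromBlocks A 0 0 A'ᵀ

theorem lA_mem {A A' : Matrix κ κ F} (h : A' * A = 1) : lAT A A' ∈ Matrix.symplecticGroup κ F := by
  rw [lAT, SymplecticGroup.fromBlocks_mem_iff]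
  refine ⟨by simp, by simp, ?_⟩
  rw [transpose_zero, Matrix.zero_mul, sub_zero, ← transpose_mul, h, transpose_one]

theorem lA_mul_uS {A A' : Matrix κ κ F} (h : A' * A = 1) (S : Matrix κ κ F) :
    lAT A A' * uS S = uS (A * S * Aᵀ) * lAT A A' := by
  rw [lAT, uS, uS, fromBlocks_multiply, fromBlocks_multiply]
  have h1 : Aᵀ * A'ᵀ = 1 := by rw [← transpose_mul, h, transpose_one]
  simp [Matrix.mul_assoc, h1]

end siegel

section swap

variable {F : Type*} [Field F] [CharP F 2] {l : Type*} [Fintype l] [DecidableEq l]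

/-- An involution of `Unit ⊕ l` exchanging the first basis vector with `(0, V)`. -/
def swapA (V R : Matrix l Unit F) : Matrix (Unit ⊕ l) (Unit ⊕ l) F :=
  fromBlocks 0 Rᵀ V (1 + V * Rᵀ)

theorem swapA_mul_self {V R : Matrix l Unit F} (h : Rᵀ * V = 1) :
    swapA V R * swapA V R = 1 := by
  rw [swapA, fromBlocks_multiply]
  have h2 : V * Rᵀ * (V * Rᵀ) = V * Rᵀ := by
    rw [Matrix.mul_assoc, ← Matrix.mul_assoc Rᵀ, h, Matrix.one_mul]
  have e1 : (0 : Matrix Unit Unit F) * 0 + Rᵀ * V = 1 := by simp [h]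
  have e2 : (0 : Matrix Unit Unit F) * Rᵀ + Rᵀ * (1 + V * Rᵀ) = 0 := by
    rw [Matrix.zero_mul, zero_add, Matrix.mul_add, Matrix.mul_one, ← Matrix.mul_assoc, h,
      Matrix.one_mul, mat_add_self]
  have e3 : V * (0 : Matrix Unit Unit F) + (1 + V * Rᵀ) * V = 0 := by
    rw [Matrix.mul_zero, zero_add, Matrix.add_mul, Matrix.one_mul, Matrix.mul_assoc, h,
      Matrix.mul_one, mat_add_self]
  have e4 : V * Rᵀ + (1 + V * Rᵀ) * (1 + V * Rᵀ) = 1 := by
    rw [Matrix.add_mul, Matrix.mul_add, Matrix.mul_add, Matrix.one_mul, Matrix.mul_one,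
      Matrix.one_mul, h2]
    have : V * Rᵀ + (1 + V * Rᵀ + (V * Rᵀ + V * Rᵀ)) = 1 + (V * Rᵀ + V * Rᵀ) + (V * Rᵀ + V * Rᵀ) := by
      abel
    rw [this, mat_add_self, add_zero, add_zero]
  rw [e1, e2, e3, e4, fromBlocks_one]

theorem swapA_conj_corner {V R : Matrix l Unit F} (K : Matrix Unit Unit F) :
    swapA V R * fromBlocks K 0 0 0 * (swapA V R)ᵀ = fromBlocks 0 0 0 (V * K * Vᵀ) := by
  rw [swapA, fromBlocks_transpose, fromBlocks_multiply, fromBlocks_multiply]
  simp

theorem swapA_conj_rank_one {V R : Matrix l Unit F} (h : Rᵀ * V = 1) (a : F) :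
    swapA V R * fromBlocks 0 0 0 (a • (V * Vᵀ)) * (swapA V R)ᵀ
      = fromBlocks (a • (1 : Matrix Unit Unit F)) 0 0 0 := by
  have h' : Vᵀ * R = 1 := by
    have := congrArg transpose h
    rwa [transpose_mul, transpose_transpose, transpose_one] at this
  rw [swapA, fromBlocks_transpose, fromBlocks_multiply, fromBlocks_multiply]
  simp only [Matrix.mul_zero, Matrix.zero_mul, add_zero, zero_add, transpose_zero, transpose_add,
    transpose_one, transpose_mul, transpose_transpose, Matrix.mul_smul, Matrix.smul_mul]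
  have e1 : Rᵀ * (V * Vᵀ) = Vᵀ := by rw [← Matrix.mul_assoc, h, Matrix.one_mul]
  have e2 : (1 + V * Rᵀ) * (V * Vᵀ) = 0 := by
    rw [Matrix.add_mul, Matrix.one_mul, Matrix.mul_assoc, e1, mat_add_self]
  rw [e1, e2]
  simp only [smul_zero, Matrix.zero_mul, Matrix.mul_add, Matrix.mul_one]
  have e3 : Vᵀ * (R * Vᵀ) = Vᵀ := by rw [← Matrix.mul_assoc, h', Matrix.one_mul]
  rw [h', e3, mat_add_self, smul_zero]
  simp

end swap

end Cfsg.Agent.Lib.Helper46
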