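import Cfsg.Agent.Lib.Helper46.SpE2

set_option autoImplicit false
set_option linter.unusedSectionVars false
set_option linter.unusedSimpArgs false

namespace Cfsg.Agent.Lib.Helper46

open Matrix

section vec

variable {F : Type*} [Field F] [CharP F 2] {l : Type*} [Fintype l] [DecidableEq l]

/-- A vector as a column matrix. -/
abbrev colV (x : l → F) : Matrix l Unit F := replicateCol Unit x

theorem colV_T_mul_colV (x y : l → F) :
    (colV x)ᵀ * colV y = (x ⬝ᵥ y) • (1 : Matrix Unit Unit F) := by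
  ext i j
  simp [Matrix.mul_apply, dotProduct]

theorem colV_mul_colV_T (x y : l → F) : colV x * (colV y)ᵀ = vecMulVec x y := by
  ext i j
  simp [Matrix.mul_apply, vecMulVec_apply]

theorem mul_colV (M : Matrix l l F) (x : l → F) : M * colV x = colV (M *ᵥ x) := by
  rw [colV, colV, replicateCol_mulVec]

theorem colV_add (x y : l → F) : colV (x + y) = colV x + colV y := replicateCol_add x y

theorem colV_smul (c : F) (x : l → F) : colV (c • x) = c • colV x := replicateCol_smul c x

theorem colV_zero : colV (0 : l → F) = 0 := replicateCol_zero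

/-- First half of a vector. -/
def uI (u : l ⊕ l → F) : l → F := fun i => u (Sum.inl i)
/-- Second half of a vector. -/
def uR (u : l ⊕ l → F) : l → F := fun i => u (Sum.inr i)

theorem uI_add (u v : l ⊕ l → F) : uI (u + v) = uI u + uI v := rfl
theorem uR_add (u v : l ⊕ l → F) : uR (u + v) = uR u + uR v := rfl
theorem uI_smul (c : F) (u : l ⊕ l → F) : uI (c • u) = c • uI u := rfl
theorem uR_smul (c : F) (u : l ⊕ l → F) : uR (c • u) = c • uR u := rfl
theorem uI_zero : uI (0 : l ⊕ l → F) = 0 := rfl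
theorem uR_zero : uR (0 : l ⊕ l → F) = 0 := rfl
theorem elim_uI_uR (u : l ⊕ l → F) : Sum.elim (uI u) (uR u) = u := by
  ext (i | i) <;> rfl
theorem uI_elim (x y : l → F) : uI (Sum.elim x y) = x := rfl
theorem uR_elim (x y : l → F) : uR (Sum.elim x y) = y := rfl

/-- The standard quadratic form polarising to the symplectic form. -/
def Q0 (u : l ⊕ l → F) : F := uI u ⬝ᵥ uR u

/-- The symplectic form (characteristic two). -/
def om (u v : l ⊕ l → F) : F := uI u ⬝ᵥ uR v + uR u ⬝ᵥ uI v

theorem Q0_zero : Q0 (0 : l ⊕ l → F) = 0 := by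
  simp [Q0, uI_zero]

theorem Q0_add (u v : l ⊕ l → F) : Q0 (u + v) = Q0 u + Q0 v + om u v := by
  rw [Q0, Q0, Q0, om, uI_add, uR_add, add_dotProduct, dotProduct_add, dotProduct_add,
    dotProduct_comm (uI v) (uR u)]
  ring

theorem Q0_smul (c : F) (u : l ⊕ l → F) : Q0 (c • u) = c * c * Q0 u := by
  rw [Q0, Q0, uI_smul, uR_smul, smul_dotProduct, dotProduct_smul, smul_eq_mul, smul_eq_mul]
  ring

theorem om_comm (u v : l ⊕ l → F) : om u v = om v u := by
  rw [om, om, dotProduct_comm (uI u), dotProduct_comm (uR u), add_comm]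

theorem om_self (u : l ⊕ l → F) : om u u = 0 := by
  rw [om, dotProduct_comm (uR u)]
  exact CharTwo.add_self_eq_zero _

theorem om_add_left (u u' v : l ⊕ l → F) : om (u + u') v = om u v + om u' v := by
  rw [om, om, om, uI_add, uR_add, add_dotProduct, add_dotProduct]
  ring

theorem om_smul_left (c : F) (u v : l ⊕ l → F) : om (c • u) v = c * om u v := by
  rw [om, om, uI_smul, uR_smul, smul_dotProduct, smul_dotProduct, smul_eq_mul, smul_eq_mul]
  ring

theorem om_add_right (u v v' : l ⊕ l → F) : om u (v + v') = om u v + om u v' := by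
  rw [om_comm, om_add_left, om_comm v, om_comm v']

theorem om_smul_right (c : F) (u v : l ⊕ l → F) : om u (c • v) = c * om u v := by
  rw [om_comm, om_smul_left, om_comm]

/-- `om` as a dot product with the swapped vector. -/
theorem om_eq_dot (u v : l ⊕ l → F) : om u v = u ⬝ᵥ Sum.elim (uR v) (uI v) := by
  simp only [om, dotProduct, Fintype.sum_sum_type, Sum.elim_inl, Sum.elim_inr]
  rfl

end vec

section grp

variable {F : Type*} [Field F] [CharP F 2] {l : Type*} [Fintype l] [DecidableEq l]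

/-- Elements of the unipotent radical `Q₁`, additively parametrised. -/
def el (c : F) (u : l ⊕ l → F) : Matrix.symplecticGroup (Unit ⊕ l) F :=
  ⟨elemM ((c + Q0 u) • (1 : Matrix Unit Unit F)) (colV (uI u)) (colV (uR u)), elemM_mem _ _ _⟩

theorem el_mul_el (c c' : F) (u u' : l ⊕ l → F) :
    el c u * el c' u' = el (c + c') (u + u') := by
  apply Subtype.ext
  change elemM _ _ _ * elemM _ _ _ = elemM _ _ _
  rw [elemM_mul, colV_T_mul_colV, colV_T_mul_colV, uI_add, uR_add, colV_add, colV_add, Q0_add, om,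
    ← add_smul, ← add_smul, ← add_smul, dotProduct_comm (uR u) (uI u')]
  congr 2
  ring

theorem el_zero : el (0 : F) (0 : l ⊕ l → F) = 1 := by
  apply Subtype.ext
  change elemM _ _ _ = 1
  rw [Q0_zero, add_zero, zero_smul, uI_zero, uR_zero, colV_zero, elemM_zero]

theorem el_injective {c c' : F} {u u' : l ⊕ l → F} (h : el c u = el c' u') : c = c' ∧ u = u' := by
  have h1 := congrArg Subtype.val h
  change elemM _ _ _ = elemM _ _ _ at h1
  obtain ⟨h2, h3, h4⟩ := elemM_injective h1
  have hI : uI u = uI u' := replicateCol_injective h3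
  have hR : uR u = uR u' := replicateCol_injective h4
  have hu : u = u' := by rw [← elim_uI_uR u, ← elim_uI_uR u', hI, hR]
  refine ⟨?_, hu⟩
  have h5 := congrFun (congrFun h2 ()) ()
  simp only [Matrix.smul_apply, one_apply_eq, smul_eq_mul, mul_one] at h5
  rw [hu] at h5
  exact add_right_cancel h5

theorem mul_toBlocks (M N : Matrix (l ⊕ l) (l ⊕ l) F) :
    M * N = fromBlocks (M.toBlocks₁₁ * N.toBlocks₁₁ + M.toBlocks₁₂ * N.toBlocks₂₁)
      (M.toBlocks₁₁ * N.toBlocks₁₂ + M.toBlocks₁₂ * N.toBlocks₂₂)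
      (M.toBlocks₂₁ * N.toBlocks₁₁ + M.toBlocks₂₂ * N.toBlocks₂₁)
      (M.toBlocks₂₁ * N.toBlocks₁₂ + M.toBlocks₂₂ * N.toBlocks₂₂) := by
  rw [← fromBlocks_multiply, fromBlocks_toBlocks, fromBlocks_toBlocks]

/-- The embedding of matrices fixing the first hyperbolic pair. -/
def iotaM (M : Matrix (l ⊕ l) (l ⊕ l) F) :
    Matrix ((Unit ⊕ l) ⊕ (Unit ⊕ l)) ((Unit ⊕ l) ⊕ (Unit ⊕ l)) F :=
  iotaB M.toBlocks₁₁ M.toBlocks₁₂ M.toBlocks₂₁ M.toBlocks₂₂

theorem iotaM_fromBlocks (p q r s : Matrix l l F) : iotaM (fromBlocks p q r s) = iotaB p q r s := by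
  rw [iotaM, toBlocks_fromBlocks₁₁, toBlocks_fromBlocks₁₂, toBlocks_fromBlocks₂₁,
    toBlocks_fromBlocks₂₂]

theorem iotaM_mul (M N : Matrix (l ⊕ l) (l ⊕ l) F) : iotaM (M * N) = iotaM M * iotaM N := by
  rw [mul_toBlocks M N, iotaM_fromBlocks, iotaM, iotaM, iotaB_mul]

theorem iotaM_one : iotaM (1 : Matrix (l ⊕ l) (l ⊕ l) F) = 1 := by
  rw [← fromBlocks_one, iotaM_fromBlocks, iotaB_one]

theorem iotaM_mem {M : Matrix (l ⊕ l) (l ⊕ l) F} (h : M ∈ Matrix.symplecticGroup l F) :
    iotaM M ∈ Matrix.symplecticGroup (Unit ⊕ l) F := by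
  apply iotaB_mem
  rw [fromBlocks_toBlocks]
  exact h

/-- The embedding `Sp(l) → Sp(Unit ⊕ l)`. -/
def iota : Matrix.symplecticGroup l F →* Matrix.symplecticGroup (Unit ⊕ l) F where
  toFun g := ⟨iotaM g.1, iotaM_mem g.2⟩
  map_one' := by
    apply Subtype.ext
    exact iotaM_one
  map_mul' g h := by
    apply Subtype.ext
    exact iotaM_mul g.1 h.1

theorem iota_val (g : Matrix.symplecticGroup l F) :
    ((iota g : Matrix.symplecticGroup (Unit ⊕ l) F) : Matrix _ _ F) = iotaM g.1 := rfl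

theorem mulVec_uI (M : Matrix (l ⊕ l) (l ⊕ l) F) (u : l ⊕ l → F) :
    uI (M *ᵥ u) = M.toBlocks₁₁ *ᵥ uI u + M.toBlocks₁₂ *ᵥ uR u := by
  conv_lhs => rw [← fromBlocks_toBlocks M, ← elim_uI_uR u, fromBlocks_mulVec]
  rfl

theorem mulVec_uR (M : Matrix (l ⊕ l) (l ⊕ l) F) (u : l ⊕ l → F) :
    uR (M *ᵥ u) = M.toBlocks₂₁ *ᵥ uI u + M.toBlocks₂₂ *ᵥ uR u := by
  conv_lhs => rw [← fromBlocks_toBlocks M, ← elim_uI_uR u, fromBlocks_mulVec]
  rfl

theorem iota_mul_el (g : Matrix.symplecticGroup l F) (c : F) (u : l ⊕ l → F) :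
    iota g * el c u = el (c + Q0 u + Q0 (g.1 *ᵥ u)) (g.1 *ᵥ u) * iota g := by
  apply Subtype.ext
  change iotaM g.1 * elemM _ _ _ = elemM _ _ _ * iotaM g.1
  have hg : fromBlocks g.1.toBlocks₁₁ g.1.toBlocks₁₂ g.1.toBlocks₂₁ g.1.toBlocks₂₂
      ∈ Matrix.symplecticGroup l F := by
    rw [fromBlocks_toBlocks]
    exact g.2
  rw [iotaM, iotaB_mul_elemM hg, mulVec_uI, mulVec_uR, colV_add, colV_add, mul_colV, mul_colV,
    mul_colV, mul_colV]
  congr 3
  rw [add_assoc, add_assoc, CharTwo.add_self_eq_zero, add_zero]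

/-- Torus element. -/
def tor (t : F) (ht : t ≠ 0) : Matrix.symplecticGroup (Unit ⊕ l) F := ⟨torM t, torM_mem ht⟩

theorem tor_mul_el (t : F) (ht : t ≠ 0) (c : F) (u : l ⊕ l → F) :
    tor t ht * el c u = el (t * t * c) (t • u) * tor t ht := by
  apply Subtype.ext
  change torM t * elemM _ _ _ = elemM _ _ _ * torM t
  rw [torM_mul_elemM ht, Q0_smul, uI_smul, uR_smul, colV_smul, colV_smul, smul_smul, mul_add]

/-- Symplectic transvection in block form (characteristic two). -/
def tvM (v : l ⊕ l → F) (a : F) : Matrix (l ⊕ l) (l ⊕ l) F :=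
  fromBlocks (1 + a • vecMulVec (uI v) (uR v)) (a • vecMulVec (uI v) (uI v))
    (a • vecMulVec (uR v) (uR v)) (1 + a • vecMulVec (uR v) (uI v))

theorem tvM_mem (v : l ⊕ l → F) (a : F) : tvM v a ∈ Matrix.symplecticGroup l F := by
  rw [tvM, SymplecticGroup.fromBlocks_mem_iff]
  simp only [transpose_add, transpose_one, transpose_smul, transpose_vecMulVec, Matrix.add_mul,
    Matrix.mul_add, Matrix.one_mul, Matrix.mul_one, Matrix.smul_mul, Matrix.mul_smul, smul_smul,
    vecMulVec_mul_vecMulVec, vecMulVec_smul, smul_vecMulVec]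
  refine ⟨?_, ?_, ?_⟩
  · rw [dotProduct_comm (uI v) (uR v), smul_add, smul_smul]
  · rw [dotProduct_comm (uI v) (uR v), smul_add, smul_smul]
  · rw [dotProduct_comm (uI v) (uR v), mat_sub_eq_add, smul_add, smul_smul]
    have : ∀ (A B : Matrix l l F), 1 + A + (A + B) + B = 1 + (A + A) + (B + B) := by
      intro A B
      abel
    rw [this, mat_add_self, mat_add_self, add_zero, add_zero]

/-- Symplectic transvection as a group element. -/
def tv (v : l ⊕ l → F) (a : F) : Matrix.symplecticGroup l F := ⟨tvM v a, tvM_mem v a⟩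

theorem tv_mulVec (v : l ⊕ l → F) (a : F) (u : l ⊕ l → F) :
    (tv v a).1 *ᵥ u = u + (a * om u v) • v := by
  change tvM v a *ᵥ u = _
  rw [← elim_uI_uR (tvM v a *ᵥ u), mulVec_uI, mulVec_uR, tvM, toBlocks_fromBlocks₁₁,
    toBlocks_fromBlocks₁₂, toBlocks_fromBlocks₂₁, toBlocks_fromBlocks₂₂]
  simp only [add_mulVec, one_mulVec, smul_mulVec, vecMulVec_mulVec, op_smul_eq_smul]
  ext (i | i)
  · simp only [Sum.elim_inl, Pi.add_apply, Pi.smul_apply, smul_eq_mul, om]
    rw [dotProduct_comm (uR v) (uI u), dotProduct_comm (uI v) (uR u)]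
    change uI u i + _ * (_ * uI v i) + _ * (_ * uI v i) = uI u i + _ * uI v i
    ring
  · simp only [Sum.elim_inr, Pi.add_apply, Pi.smul_apply, smul_eq_mul, om]
    rw [dotProduct_comm (uR v) (uI u), dotProduct_comm (uI v) (uR u)]
    change _ * (_ * uR v i) + (uR u i + _ * (_ * uR v i)) = uR u i + _ * uR v i
    ring

/-- Root elements for vectors in the first half. -/
def rootU (v : l → F) (a : F) : Matrix.symplecticGroup l F := tv (Sum.elim v 0) a

theorem rootU_val (v : l → F) (a : F) :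
    (rootU v a).1 = uS (a • vecMulVec v v) := by
  change tvM (Sum.elim v 0) a = _
  rw [tvM, uI_elim, uR_elim, uS]
  simp [vecMulVec_zero, zero_vecMulVec]

theorem rootU_mul (v : l → F) (a b : F) : rootU v a * rootU v b = rootU v (a + b) := by
  apply Subtype.ext
  change (rootU v a).1 * (rootU v b).1 = (rootU v (a + b)).1
  rw [rootU_val, rootU_val, rootU_val, ← uS_add, add_smul]

theorem rootU_zero (v : l → F) : rootU v 0 = 1 := by
  apply Subtype.ext
  change (rootU v 0).1 = 1
  rw [rootU_val, zero_smul, uS_zero]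

theorem rootU_mulVec (v : l → F) (a : F) (u : l ⊕ l → F) :
    (rootU v a).1 *ᵥ u = u + (a * (v ⬝ᵥ uR u)) • Sum.elim v 0 := by
  rw [rootU, tv_mulVec, om, uI_elim, uR_elim, dotProduct_zero, zero_add, dotProduct_comm]

theorem iota_rootU_val (v : l → F) (a : F) :
    (iota (rootU v a)).1 = uS (fromBlocks 0 0 0 (a • vecMulVec v v)) := by
  rw [iota_val, rootU_val, uS, iotaM_fromBlocks, iotaB, uS]
  simp [fromBlocks_one]

theorem el_zero_right_val (c : F) :
    (el c (0 : l ⊕ l → F)).1 = uS (fromBlocks (c • (1 : Matrix Unit Unit F)) 0 0 0) := by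
  change elemM _ _ _ = _
  rw [Q0_zero, add_zero, uI_zero, uR_zero, colV_zero, elemM, uS]
  simp [fromBlocks_one]

/-- An involution exchanging the first root group with the root group of `(0, v)`. -/
def swp (v r : l → F) (h : r ⬝ᵥ v = 1) : Matrix.symplecticGroup (Unit ⊕ l) F :=
  ⟨lAT (swapA (colV v) (colV r)) (swapA (colV v) (colV r)),
    lA_mem (swapA_mul_self (by rw [colV_T_mul_colV, h, one_smul]))⟩

theorem swp_mul_el (v r : l → F) (h : r ⬝ᵥ v = 1) (c : F) :
    swp v r h * el c 0 = iota (rootU v c) * swp v r h := by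
  apply Subtype.ext
  change lAT _ _ * (el c 0).1 = (iota (rootU v c)).1 * lAT _ _
  have h1 : swapA (colV v) (colV r) * swapA (colV v) (colV r) = 1 :=
    swapA_mul_self (by rw [colV_T_mul_colV, h, one_smul])
  rw [el_zero_right_val, iota_rootU_val, lA_mul_uS h1, swapA_conj_corner, Matrix.mul_smul,
    Matrix.smul_mul, Matrix.mul_one, colV_mul_colV_T]

theorem swp_mul_iota_rootU (v r : l → F) (h : r ⬝ᵥ v = 1) (a : F) :
    swp v r h * iota (rootU v a) = el a 0 * swp v r h := by
  apply Subtype.ext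
  change lAT _ _ * (iota (rootU v a)).1 = (el a 0).1 * lAT _ _
  have h0 : (colV r)ᵀ * colV v = 1 := by rw [colV_T_mul_colV, h, one_smul]
  have h1 : swapA (colV v) (colV r) * swapA (colV v) (colV r) = 1 := swapA_mul_self h0
  rw [el_zero_right_val, iota_rootU_val, lA_mul_uS h1, ← colV_mul_colV_T, swapA_conj_rank_one h0]

theorem swp_mul_swp (v r : l → F) (h : r ⬝ᵥ v = 1) : swp v r h * swp v r h = 1 := by
  apply Subtype.ext
  change lAT _ _ * lAT _ _ = 1
  have h1 : swapA (colV v) (colV r) * swapA (colV v) (colV r) = 1 :=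
    swapA_mul_self (by rw [colV_T_mul_colV, h, one_smul])
  rw [lAT, fromBlocks_multiply]
  simp only [Matrix.mul_zero, Matrix.zero_mul, add_zero, zero_add, ← transpose_mul, h1,
    transpose_one, fromBlocks_one]

end grp

end Cfsg.Agent.Lib.Helper46
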