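import Cfsg.Agent.Lib.Helper46.SpE3
import Cfsg.Agent.Lib.Helper46.Weights

set_option autoImplicit false
set_option linter.unusedSectionVars false
set_option linter.unusedSimpArgs false

namespace Cfsg.Agent.Lib.Helper46

open Matrix

section refl

variable {F : Type*} [Field F] [CharP F 2] {κ : Type*} [Fintype κ] [DecidableEq κ]

/-- The involution `x ↦ x + (q ⬝ x) p` when `q ⬝ p = 0` (characteristic two). -/
def rfM (p q : κ → F) : Matrix κ κ F := 1 + vecMulVec p q

theorem rfM_mul_self {p q : κ → F} (h : q ⬝ᵥ p = 0) : rfM p q * rfM p q = 1 := by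
  rw [rfM, Matrix.add_mul, Matrix.mul_add, Matrix.mul_add, Matrix.one_mul, Matrix.mul_one,
    Matrix.one_mul, vecMulVec_mul_vecMulVec, h, zero_smul, vecMulVec_zero]
  have : (1 : Matrix κ κ F) + vecMulVec p q + (vecMulVec p q + 0) = 1 + (vecMulVec p q + vecMulVec p q) := by
    abel
  rw [this, mat_add_self, add_zero]

theorem rfM_mulVec (p q x : κ → F) : rfM p q *ᵥ x = x + (q ⬝ᵥ x) • p := by
  rw [rfM, add_mulVec, one_mulVec, vecMulVec_mulVec, op_smul_eq_smul]

theorem conj_vecMulVec (M : Matrix κ κ F) (x y : κ → F) :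
    M * vecMulVec x y * Mᵀ = vecMulVec (M *ᵥ x) (M *ᵥ y) := by
  rw [mul_vecMulVec, vecMulVec_mul, vecMul_transpose]

/-- The Levi element attached to the involution. -/
def rfG (p q : κ → F) (h : q ⬝ᵥ p = 0) : Matrix.symplecticGroup κ F :=
  ⟨lAT (rfM p q) (rfM p q), lA_mem (rfM_mul_self h)⟩

theorem rfG_mul_rootU (p q : κ → F) (h : q ⬝ᵥ p = 0) (v : κ → F) (a : F) :
    rfG p q h * rootU v a = rootU (rfM p q *ᵥ v) a * rfG p q h := by
  apply Subtype.ext
  change lAT _ _ * (rootU v a).1 = (rootU _ a).1 * lAT _ _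
  rw [rootU_val, rootU_val, lA_mul_uS (rfM_mul_self h), Matrix.mul_smul, Matrix.smul_mul,
    conj_vecMulVec]

theorem rootU_smul (v : κ → F) (α a : F) : rootU (α • v) a = rootU v (a * (α * α)) := by
  apply Subtype.ext
  rw [rootU_val, rootU_val, smul_vecMulVec, vecMulVec_smul, smul_smul, smul_smul, mul_assoc]

theorem rootU_zero_left (a : F) : rootU (0 : κ → F) a = 1 := by
  apply Subtype.ext
  change (rootU (0 : κ → F) a).1 = 1
  rw [rootU_val, zero_vecMulVec, smul_zero, uS_zero]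

/-- If some root element acts non-trivially then so does one attached to a given coordinate
vector. -/
theorem exists_root_single {M : Type*} [Monoid M] (R : Matrix.symplecticGroup κ F →* M) (i₀ : κ)
    (v₀ : κ → F) (a : F) (h : R (rootU v₀ a) ≠ 1) :
    ∃ a', R (rootU (Pi.single i₀ 1) a') ≠ 1 := by
  classical
  by_cases hex : ∃ j, j ≠ i₀ ∧ v₀ j ≠ 0
  · obtain ⟨j, hji, hj⟩ := hex
    set q : κ → F := Pi.single i₀ 1 + Pi.single j ((1 + v₀ i₀) / v₀ j) with hq
    set p : κ → F := Pi.single i₀ 1 + v₀ with hp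
    have hqe : q ⬝ᵥ Pi.single i₀ 1 = 1 := by
      rw [hq, add_dotProduct, single_dotProduct, single_dotProduct, Pi.single_eq_same,
        Pi.single_eq_of_ne hji, mul_zero, add_zero, one_mul]
    have hqv : q ⬝ᵥ v₀ = 1 := by
      rw [hq, add_dotProduct, single_dotProduct, single_dotProduct, one_mul,
        div_mul_cancel₀ _ hj, add_comm 1 (v₀ i₀), ← add_assoc, CharTwo.add_self_eq_zero, zero_add]
    have hqp : q ⬝ᵥ p = 0 := by
      rw [hp, dotProduct_add, hqe, hqv, CharTwo.add_self_eq_zero]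
    have hT : rfM p q *ᵥ Pi.single i₀ 1 = v₀ := by
      rw [rfM_mulVec, hqe, one_smul, hp]
      ext k
      simp only [Pi.add_apply]
      rw [← add_assoc, CharTwo.add_self_eq_zero, zero_add]
    refine ⟨a, ?_⟩
    intro h1
    apply h
    have h2 := rfG_mul_rootU p q hqp (Pi.single i₀ 1) a
    rw [hT] at h2
    have h3 : rootU v₀ a = rfG p q hqp * rootU (Pi.single i₀ 1) a * (rfG p q hqp)⁻¹ := by
      rw [h2, mul_inv_cancel_right]
    rw [h3, map_mul, map_mul, h1, mul_one, ← map_mul, mul_inv_cancel, map_one]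
  · push Not at hex
    have hv : v₀ = v₀ i₀ • Pi.single i₀ 1 := by
      ext j
      by_cases hj : j = i₀
      · subst hj
        simp
      · rw [hex j hj]
        simp [hj]
    refine ⟨a * (v₀ i₀ * v₀ i₀), ?_⟩
    rw [← rootU_smul, ← hv]
    exact h

end refl

section adj

variable {F : Type*} [Field F] [Fintype F] {K : Type*} [Field K]
variable {ι : Type*} [Fintype ι] [DecidableEq ι] {d : ℕ}
variable {ψ : AddChar F K} {T : (ι → F) → Matrix (Fin d) (Fin d) K}

/-- Conjugation moves the weight projectors (version with a character-level adjoint). -/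
theorem conj_weightProj_char (g g' : Matrix (Fin d) (Fin d) K) (φ : (ι → F) → (ι → F))
    (hφ : Function.Bijective φ) (w w' : ι → F)
    (hw : ∀ a, ψ (φ a ⬝ᵥ w') = ψ (a ⬝ᵥ w))
    (hg : ∀ a, g * T a * g' = T (φ a)) :
    g * weightProj ψ T w * g' = weightProj ψ T w' := by
  classical
  unfold weightProj
  rw [Matrix.mul_smul, Matrix.smul_mul, Finset.mul_sum, Finset.sum_mul]
  congr 1
  have h1 : ∀ a : ι → F, g * (ψ (-(a ⬝ᵥ w)) • T a) * g'
      = ψ (-(φ a ⬝ᵥ w')) • T (φ a) := by
    intro a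
    rw [Matrix.mul_smul, Matrix.smul_mul, hg, AddChar.map_neg_eq_inv, AddChar.map_neg_eq_inv, hw]
  simp_rw [h1]
  exact hφ.sum_comp (fun b => ψ (-(b ⬝ᵥ w')) • T b)

theorem weightProj_ne_zero_of_conj_char (g g' : Matrix (Fin d) (Fin d) K) (hgg' : g' * g = 1)
    (φ : (ι → F) → (ι → F)) (hφ : Function.Bijective φ) (w w' : ι → F)
    (hw : ∀ a, ψ (φ a ⬝ᵥ w') = ψ (a ⬝ᵥ w))
    (hg : ∀ a, g * T a * g' = T (φ a)) (hP : weightProj ψ T w ≠ 0) :
    weightProj ψ T w' ≠ 0 := by
  intro h
  apply hP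
  have h1 := conj_weightProj_char (ψ := ψ) g g' φ hφ w w' hw hg
  rw [h] at h1
  have h2 : g' * (g * weightProj ψ T w * g') * g = weightProj ψ T w := by
    calc g' * (g * weightProj ψ T w * g') * g
        = (g' * g) * weightProj ψ T w * (g' * g) := by simp only [Matrix.mul_assoc]
      _ = weightProj ψ T w := by rw [hgg', Matrix.one_mul, Matrix.mul_one]
  rw [← h2, h1, Matrix.mul_zero, Matrix.zero_mul]

end adj

end Cfsg.Agent.Lib.Helper46
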