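import Cfsg.Agent.Lib.Helper46.SpEvenStep
import Cfsg.Agent.Lib.Helper46.Char2Field

set_option autoImplicit false
set_option linter.unusedSectionVars false
set_option linter.unusedSimpArgs false

namespace Cfsg.Agent.Lib.Helper46

open Matrix

/-- The lower bound sequence for the degrees of `Sp_{2n}(q)`, `q` even. -/
def Nb (q : ℕ) : ℕ → ℕ
  | 0 => 0
  | (m + 1) => Nb q m + (q - 1) * ((q ^ (2 * m) - q ^ m) / 2)

theorem Nb_zero (q : ℕ) : Nb q 0 = 0 := rfl

theorem Nb_succ (q m : ℕ) :
    Nb q (m + 1) = Nb q m + (q - 1) * ((q ^ (2 * m) - q ^ m) / 2) := rfl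

theorem Nb_one (q : ℕ) : Nb q 1 = 0 := by
  rw [Nb_succ, Nb_zero]
  simp

/-- Closed form, subtraction free. -/
theorem Nb_closed (q : ℕ) (hq : 1 ≤ q) (n : ℕ) (hn : 1 ≤ n) :
    2 * (q + 1) * Nb q n + (q + 1) * q ^ n = q ^ (2 * n) + q := by
  induction n, hn using Nat.le_induction with
  | base =>
    rw [Nb_one]
    ring
  | succ n hn ih =>
    obtain ⟨p, rfl⟩ : ∃ p, q = p + 1 := ⟨q - 1, by omega⟩
    rw [Nb_succ, Nat.add_sub_cancel]
    set x := (p + 1) ^ n with hx
    have hx1 : 1 ≤ x := Nat.one_le_pow _ _ (by omega)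
    have hX : (p + 1) ^ (2 * n) = x * x := by rw [hx, ← pow_add]; congr 1; omega
    have hxx : x ≤ x * x := Nat.le_mul_self x
    have hev : Even (x * x - x) := by
      rw [Nat.even_sub hxx, Nat.even_mul, or_self]
    have hD : 2 * ((x * x - x) / 2) + x = x * x := by
      rw [Nat.two_mul_div_two_of_even hev]
      omega
    rw [hX] at ih ⊢
    set D := (x * x - x) / 2 with hDdef
    have e1 : (p + 1) ^ (n + 1) = (p + 1) * x := by rw [hx, pow_succ]; ring
    have e2 : (p + 1) ^ (2 * (n + 1)) = ((p + 1) * x) * ((p + 1) * x) := by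
      rw [hx, ← pow_succ', ← pow_add]; congr 1; omega
    rw [e1, e2]
    have ihz : (2 * ((p : ℤ) + 1 + 1) * (Nb (p + 1) n : ℤ) + (p + 1 + 1) * x : ℤ) = x * x + (p + 1) := by
      exact_mod_cast ih
    have hDz : (2 * (D : ℤ) + x : ℤ) = x * x := by exact_mod_cast hD
    have goalz : (2 * ((p : ℤ) + 1 + 1) * ((Nb (p + 1) n : ℤ) + p * D) + (p + 1 + 1) * ((p + 1) * x) : ℤ)
        = ((p + 1) * x) * ((p + 1) * x) + (p + 1) := by
      linear_combination ihz + ((p : ℤ) + 2) * p * hDz
    exact_mod_cast goalz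

/-- Closed form of the bound. -/
theorem Nb_eq_div (q : ℕ) (hq : 1 ≤ q) (n : ℕ) (hn : 1 ≤ n) :
    (q ^ n - 1) * (q ^ n - q) / (2 * (q + 1)) = Nb q n := by
  have h := Nb_closed q hq n hn
  have hx1 : 1 ≤ q ^ n := Nat.one_le_pow _ _ (by omega)
  have hxq : q ≤ q ^ n := by
    calc q = q ^ 1 := (pow_one q).symm
      _ ≤ q ^ n := Nat.pow_le_pow_right (by omega) hn
  apply Nat.div_eq_of_eq_mul_right (by omega)
  have hX : q ^ (2 * n) = q ^ n * q ^ n := by rw [← pow_add]; congr 1; omega
  rw [hX] at h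
  set x := q ^ n with hx
  zify [hx1, hxq]
  have hz : (2 * ((q : ℤ) + 1) * (Nb q n : ℤ) + (q + 1) * x : ℤ) = x * x + q := by exact_mod_cast h
  linear_combination -hz

section ind

variable (F : Type*) [Field F] [Fintype F] [DecidableEq F] [CharP F 2]

/-- The inductive statement: a matrix representation of `Sp(l)` non-trivial on some root element
has degree at least `Nb q (card l)`. -/
def PSp (l : Type*) [Fintype l] [DecidableEq l] : Prop :=
  ∀ (d : ℕ) (R : Matrix.symplecticGroup l F →* Matrix (Fin d) (Fin d) ℂ),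
    (∃ (v : l → F) (a : F), R (rootU v a) ≠ 1) → Nb (Fintype.card F) (Fintype.card l) ≤ d

variable {F}

theorem rootU_single_inl {l : Type*} [Fintype l] [DecidableEq l] (a : F) :
    rootU (Pi.single (Sum.inl ()) 1 : Unit ⊕ l → F) a = el a (0 : l ⊕ l → F) := by
  apply Subtype.ext
  rw [rootU_val, el_zero_right_val]
  congr 1
  ext (i | i) (j | j) <;> simp [vecMulVec_apply, Matrix.one_apply]

variable (F)

theorem PSp_step_aux (l : Type*) [Fintype l] [DecidableEq l] (h : PSp F l) {d : ℕ}
    (R : Matrix.symplecticGroup (Unit ⊕ l) F →* Matrix (Fin d) (Fin d) ℂ)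
    {ψ : AddChar F ℂ} (hψ : ψ.IsPrimitive) (hψas : ∀ y : F, ψ (y * y + y) = 1)
    (hex : ∃ w : Unit ⊕ (l ⊕ l) → F, weightProj ψ (TT R) w ≠ 0 ∧ bc w ≠ 0)
    (i₁ i₂ : l) (hne : i₁ ≠ i₂) (r : ℕ)
    (B : Matrix (Fin d) (Fin r) ℂ) (C : Matrix (Fin r) (Fin d) ℂ)
    (hBC : B * C = EZ R) (hCB : C * B = 1) :
    Nb (Fintype.card F) (Fintype.card l) ≤ r := by
  classical
  have hCE : C * EZ R = C := by rw [← hBC, ← Matrix.mul_assoc, hCB, Matrix.one_mul]
  let R' : Matrix.symplecticGroup l F →* Matrix (Fin r) (Fin r) ℂ :=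
    { toFun := fun g => C * R (iota g) * B
      map_one' := by rw [map_one, map_one, Matrix.mul_one, hCB]
      map_mul' := by
        intro g g'
        rw [map_mul, map_mul]
        calc C * (R (iota g) * R (iota g')) * B
            = C * EZ R * (R (iota g) * R (iota g')) * B := by rw [hCE]
          _ = C * (R (iota g) * EZ R) * R (iota g') * B := by
              rw [EZ_comm_iota]; simp only [Matrix.mul_assoc]
          _ = C * R (iota g) * B * (C * R (iota g') * B) := by
              rw [← hBC]; simp only [Matrix.mul_assoc] }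
  apply h _ R'
  by_contra hcon
  push Not at hcon
  apply no_trivial_action R hψ hψas i₁ i₂ hne _ hex
  intro v a
  have h2 : C * R (iota (rootU v a)) * B = 1 := hcon v a
  have h3 : B * (C * R (iota (rootU v a)) * B) * C = EZ R := by
    rw [h2, Matrix.mul_one, hBC]
  have h4 : B * (C * R (iota (rootU v a)) * B) * C
      = EZ R * R (iota (rootU v a)) * EZ R := by
    rw [← hBC]; simp only [Matrix.mul_assoc]
  rw [h4, ← EZ_comm_iota, Matrix.mul_assoc, EZ_idem] at h3
  exact h3

theorem PSp_step (l : Type*) [Fintype l] [DecidableEq l] (h : PSp F l) : PSp F (Unit ⊕ l) := by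
  classical
  intro d R ⟨v, a, hva⟩
  obtain ⟨a', ha'⟩ := exists_root_single R (Sum.inl ()) v a hva
  rw [rootU_single_inl] at ha'
  obtain ⟨ψ, hψ, hψas⟩ := exists_as_char (F := F)
  have hex : ∃ w : Unit ⊕ (l ⊕ l) → F, weightProj ψ (TT R) w ≠ 0 ∧ bc w ≠ 0 := by
    by_contra hcon
    push Not at hcon
    apply ha'
    have := all_bc_zero_imp R hψ hcon a'
    rwa [TT, bc_mkB, bu_mkB] at this
  have hcount := count_nonzero R hψ hψas hex
  have hsplit := dim_split R hψ
  have hcard : Fintype.card (Unit ⊕ l) = Fintype.card l + 1 := by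
    rw [Fintype.card_sum, Fintype.card_unit, add_comm]
  rw [hcard, Nb_succ]
  have hrank : Nb (Fintype.card F) (Fintype.card l)
      ≤ Module.finrank ℂ (LinearMap.range (Matrix.toLin' (EZ R))) := by
    by_cases h1 : Fintype.card l ≤ 1
    · have : Nb (Fintype.card F) (Fintype.card l) = 0 := by
        have h2 : Fintype.card l = 0 ∨ Fintype.card l = 1 := by omega
        rcases h2 with h2 | h2
        · rw [h2, Nb_zero]
        · rw [h2, Nb_one]
      rw [this]
      exact Nat.zero_le _
    · push Not at h1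
      obtain ⟨i₁, i₂, hne⟩ := Fintype.exists_pair_of_one_lt_card h1
      obtain ⟨B, C, hBC, hCB⟩ := exists_idem_factor (EZ R) (EZ_idem R)
      exact PSp_step_aux F l h R hψ hψas hex i₁ i₂ hne _ B C hBC hCB
  exact le_trans (Nat.add_le_add hrank hcount) hsplit

end ind

section transport

variable (F : Type*) [Field F] [Fintype F] [DecidableEq F] [CharP F 2]
variable {l l' : Type*} [Fintype l] [DecidableEq l] [Fintype l'] [DecidableEq l']

omit [Fintype F] [DecidableEq F] [CharP F 2] in
theorem J_reindex (e : l ≃ l') :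
    Matrix.reindex (e.sumCongr e) (e.sumCongr e) (J l F) = J l' F := by
  ext (i | i) (j | j) <;> simp [J, Matrix.one_apply, Matrix.neg_apply]

/-- Reindexing the symplectic group along an equivalence of index types. -/
def spReindex (e : l ≃ l') : Matrix.symplecticGroup l F →* Matrix.symplecticGroup l' F where
  toFun g := ⟨Matrix.reindex (e.sumCongr e) (e.sumCongr e) g.1, by
    rw [SymplecticGroup.mem_iff, ← J_reindex F e, Matrix.transpose_reindex]
    simp only [Matrix.reindex_apply, Matrix.submatrix_mul_equiv]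
    congr 1
    exact SymplecticGroup.mem_iff.1 g.2⟩
  map_one' := by
    apply Subtype.ext
    change Matrix.reindex _ _ (1 : Matrix (l ⊕ l) (l ⊕ l) F) = 1
    simp
  map_mul' g g' := by
    apply Subtype.ext
    change Matrix.reindex _ _ (g.1 * g'.1) = Matrix.reindex _ _ g.1 * Matrix.reindex _ _ g'.1
    simp only [Matrix.reindex_apply, Matrix.submatrix_mul_equiv]

theorem spReindex_rootU (e : l ≃ l') (v : l → F) (a : F) :
    spReindex F e (rootU v a) = rootU (v ∘ e.symm) a := by
  apply Subtype.ext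
  change Matrix.reindex _ _ (rootU v a).1 = (rootU (v ∘ e.symm) a).1
  rw [rootU_val, rootU_val, uS, uS]
  ext (i | i) (j | j) <;> simp [vecMulVec_apply, Matrix.one_apply]

theorem PSp_transport (e : l ≃ l') (h : PSp F l) : PSp F l' := by
  intro d R ⟨v, a, hva⟩
  have h1 := h d (R.comp (spReindex F e)) ⟨v ∘ e, a, ?_⟩
  · rwa [Fintype.card_congr e] at h1
  · rw [MonoidHom.comp_apply, spReindex_rootU]
    have : (v ∘ e) ∘ e.symm = v := by
      ext i
      simp
    rwa [this]

theorem PSp_fin (n : ℕ) : PSp F (Fin n) := by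
  induction n with
  | zero =>
    intro d R _
    rw [Fintype.card_fin, Nb_zero]
    exact Nat.zero_le _
  | succ m ih =>
    have e : Unit ⊕ Fin m ≃ Fin (m + 1) :=
      Fintype.equivOfCardEq (by simp [add_comm])
    exact PSp_transport F e (PSp_step F (Fin m) ih)

end transport

end Cfsg.Agent.Lib.Helper46
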