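import Cfsg.Agent.Lib.Helper46.SpE4
import Cfsg.Agent.Lib.Helper46.GaussCount
import Cfsg.Agent.Lib.Helper46.IdemFactor
import Cfsg.Agent.Lib.Helper46.RepMat
import Cfsg.Agent.Lib.Helper46.Corner

set_option autoImplicit false
set_option linter.unusedSectionVars false
set_option linter.unusedSimpArgs false

namespace Cfsg.Agent.Lib.Helper46

open Matrix

section params

variable {F : Type*} [Field F] {l : Type*} [Fintype l] [DecidableEq l]

/-- First coordinate of a parameter. -/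
def bc (b : Unit ⊕ (l ⊕ l) → F) : F := b (Sum.inl ())
/-- Vector part of a parameter. -/
def bu (b : Unit ⊕ (l ⊕ l) → F) : l ⊕ l → F := fun j => b (Sum.inr j)
/-- Assemble a parameter. -/
def mkB (c : F) (u : l ⊕ l → F) : Unit ⊕ (l ⊕ l) → F := Sum.elim (fun _ => c) u

theorem bc_mkB (c : F) (u : l ⊕ l → F) : bc (mkB c u) = c := rfl
theorem bu_mkB (c : F) (u : l ⊕ l → F) : bu (mkB c u) = u := rfl
theorem mkB_bc_bu (b : Unit ⊕ (l ⊕ l) → F) : mkB (bc b) (bu b) = b := by
  ext (i | i) <;> rfl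
theorem bc_add (a b : Unit ⊕ (l ⊕ l) → F) : bc (a + b) = bc a + bc b := rfl
theorem bu_add (a b : Unit ⊕ (l ⊕ l) → F) : bu (a + b) = bu a + bu b := rfl
theorem bc_zero : bc (0 : Unit ⊕ (l ⊕ l) → F) = 0 := rfl
theorem bu_zero : bu (0 : Unit ⊕ (l ⊕ l) → F) = 0 := rfl
theorem mkB_add (c c' : F) (u u' : l ⊕ l → F) : mkB c u + mkB c' u' = mkB (c + c') (u + u') := by
  ext (i | i) <;> rfl
theorem mkB_inj {c c' : F} {u u' : l ⊕ l → F} (h : mkB c u = mkB c' u') : c = c' ∧ u = u' := by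
  constructor
  · have := congrArg bc h
    exact this
  · have := congrArg bu h
    exact this

theorem dot_eq (a w : Unit ⊕ (l ⊕ l) → F) : a ⬝ᵥ w = bc a * bc w + bu a ⬝ᵥ bu w := by
  rw [dotProduct, Fintype.sum_sum_type]
  simp only [Finset.univ_unique, Finset.sum_singleton]
  rfl

end params

section step

variable {F : Type*} [Field F] [Fintype F] [DecidableEq F] [CharP F 2]
  {l : Type*} [Fintype l] [DecidableEq l] {d : ℕ}
  (R : Matrix.symplecticGroup (Unit ⊕ l) F →* Matrix (Fin d) (Fin d) ℂ)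

/-- The representation restricted to `Q₁`, additively parametrised. -/
def TT (b : Unit ⊕ (l ⊕ l) → F) : Matrix (Fin d) (Fin d) ℂ := R (el (bc b) (bu b))

theorem TT_zero : TT R (0 : Unit ⊕ (l ⊕ l) → F) = 1 := by
  rw [TT, bc_zero, bu_zero, el_zero, map_one]

theorem TT_add (a b : Unit ⊕ (l ⊕ l) → F) : TT R (a + b) = TT R a * TT R b := by
  rw [TT, TT, TT, ← map_mul, el_mul_el, bc_add, bu_add]

theorem R_mul_inv (g : Matrix.symplecticGroup (Unit ⊕ l) F) : R g * R g⁻¹ = 1 := by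
  rw [← map_mul, mul_inv_cancel, map_one]

theorem R_inv_mul (g : Matrix.symplecticGroup (Unit ⊕ l) F) : R g⁻¹ * R g = 1 := by
  rw [← map_mul, inv_mul_cancel, map_one]

/-- Conjugation by a group element normalising `Q₁`. -/
theorem conj_TT (g : Matrix.symplecticGroup (Unit ⊕ l) F)
    (φ : (Unit ⊕ (l ⊕ l) → F) → (Unit ⊕ (l ⊕ l) → F))
    (h : ∀ b, g * el (bc b) (bu b) = el (bc (φ b)) (bu (φ b)) * g) (b : Unit ⊕ (l ⊕ l) → F) :
    R g * TT R b * R g⁻¹ = TT R (φ b) := by
  rw [TT, TT, ← map_mul, h, map_mul, Matrix.mul_assoc, R_mul_inv, Matrix.mul_one]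

theorem phi_bijective (g : Matrix.symplecticGroup (Unit ⊕ l) F)
    (φ : (Unit ⊕ (l ⊕ l) → F) → (Unit ⊕ (l ⊕ l) → F))
    (h : ∀ b, g * el (bc b) (bu b) = el (bc (φ b)) (bu (φ b)) * g) : Function.Bijective φ := by
  apply Finite.injective_iff_bijective.1
  intro b b' hbb
  have h1 := h b
  have h2 := h b'
  rw [hbb] at h1
  have h3 : g * el (bc b) (bu b) = g * el (bc b') (bu b') := by rw [h1, h2]
  have h4 := mul_left_cancel h3
  obtain ⟨h5, h6⟩ := el_injective h4
  rw [← mkB_bc_bu b, ← mkB_bc_bu b', h5, h6]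

variable {ψ : AddChar F ℂ}

/-- Moving weights by a group element normalising `Q₁`. -/
theorem weight_move (g : Matrix.symplecticGroup (Unit ⊕ l) F)
    (φ : (Unit ⊕ (l ⊕ l) → F) → (Unit ⊕ (l ⊕ l) → F))
    (h : ∀ b, g * el (bc b) (bu b) = el (bc (φ b)) (bu (φ b)) * g)
    (w w' : Unit ⊕ (l ⊕ l) → F) (hw : ∀ a, ψ (φ a ⬝ᵥ w') = ψ (a ⬝ᵥ w)) :
    R g * weightProj ψ (TT R) w * R g⁻¹ = weightProj ψ (TT R) w' :=
  conj_weightProj_char (R g) (R g⁻¹) φ (phi_bijective g φ h) w w' hw (conj_TT R g φ h)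

theorem weight_move_ne_zero (g : Matrix.symplecticGroup (Unit ⊕ l) F)
    (φ : (Unit ⊕ (l ⊕ l) → F) → (Unit ⊕ (l ⊕ l) → F))
    (h : ∀ b, g * el (bc b) (bu b) = el (bc (φ b)) (bu (φ b)) * g)
    (w w' : Unit ⊕ (l ⊕ l) → F) (hw : ∀ a, ψ (φ a ⬝ᵥ w') = ψ (a ⬝ᵥ w))
    (hP : weightProj ψ (TT R) w ≠ 0) : weightProj ψ (TT R) w' ≠ 0 :=
  weightProj_ne_zero_of_conj_char (R g) (R g⁻¹) (R_inv_mul R g) φ (phi_bijective g φ h) w w' hw
    (conj_TT R g φ h) hP

/-- Torus elements scale the weights. -/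
theorem torus_move (t : F) (ht : t ≠ 0) (w : Unit ⊕ (l ⊕ l) → F)
    (hP : weightProj ψ (TT R) w ≠ 0) :
    weightProj ψ (TT R) (mkB (bc w / (t * t)) (t⁻¹ • bu w)) ≠ 0 := by
  refine weight_move_ne_zero R (tor t ht) (fun b => mkB (t * t * bc b) (t • bu b))
    (fun b => tor_mul_el t ht (bc b) (bu b)) w _ ?_ hP
  intro a
  congr 1
  rw [dot_eq, dot_eq, bc_mkB, bu_mkB, bc_mkB, bu_mkB, smul_dotProduct, dotProduct_smul, smul_eq_mul,
    smul_eq_mul]
  field_simp

/-- The swapped vector, representing the symplectic pairing as a dot product. -/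
def vhat (v : l ⊕ l → F) : l ⊕ l → F := Sum.elim (uR v) (uI v)

theorem dot_vhat (u v : l ⊕ l → F) : u ⬝ᵥ vhat v = om u v := (om_eq_dot u v).symm

theorem vhat_injective : Function.Injective (vhat (F := F) (l := l)) := by
  intro v v' h
  ext (i | i)
  · have := congrFun h (Sum.inr i)
    exact this
  · have := congrFun h (Sum.inl i)
    exact this

theorem vhat_smul (c : F) (v : l ⊕ l → F) : vhat (c • v) = c • vhat v := by
  ext (i | i) <;> rfl

/-- Transvections of the smaller symplectic group translate the weights. -/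
theorem tv_move (hψas : ∀ y : F, ψ (y * y + y) = 1) (v : l ⊕ l → F) (a β : F)
    (w : Unit ⊕ (l ⊕ l) → F) (hbc : bc w = 1)
    (hcond : a * a * Q0 v + a = (β + a * (v ⬝ᵥ bu w)) * (β + a * (v ⬝ᵥ bu w))) :
    R (iota (tv v a)) * weightProj ψ (TT R) w * R (iota (tv v a))⁻¹
      = weightProj ψ (TT R) (w + mkB 0 (β • vhat v)) := by
  refine weight_move R (iota (tv v a))
    (fun b => mkB (bc b + Q0 (bu b) + Q0 ((tv v a).1 *ᵥ bu b)) ((tv v a).1 *ᵥ bu b))
    (fun b => iota_mul_el (tv v a) (bc b) (bu b)) w _ ?_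
  intro b
  have h2 : (2 : F) = 0 := CharTwo.two_eq_zero
  set u := bu b with hu
  set t := om u v with ht
  set lam := v ⬝ᵥ bu w with hlam
  have hgu : (tv v a).1 *ᵥ u = u + (a * t) • v := tv_mulVec v a u
  have hQ : Q0 (u + (a * t) • v) = Q0 u + (a * t) * (a * t) * Q0 v + (a * t) * t := by
    rw [Q0_add, Q0_smul, om_smul_right]
  have hdot : (u + (a * t) • v) ⬝ᵥ (bu w + β • vhat v)
      = u ⬝ᵥ bu w + β * t + (a * t) * lam := by
    rw [add_dotProduct, dotProduct_add, dotProduct_add, smul_dotProduct, smul_dotProduct,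
      dotProduct_smul, dotProduct_smul, dot_vhat, dot_vhat, om_self, smul_eq_mul, smul_eq_mul,
      smul_eq_mul, smul_eq_mul]
    ring
  have key : mkB (bc b + Q0 u + Q0 ((tv v a).1 *ᵥ u)) ((tv v a).1 *ᵥ u) ⬝ᵥ (w + mkB 0 (β • vhat v))
      = b ⬝ᵥ w + (((β + a * lam) * t) * ((β + a * lam) * t) + (β + a * lam) * t) := by
    rw [dot_eq, dot_eq b w, bc_mkB, bu_mkB, bc_add, bu_add, bc_mkB, bu_mkB, hgu, hQ, hdot, hbc]
    linear_combination (Q0 u) * h2 + (t * t) * hcond
  rw [key, AddChar.map_add_eq_mul, hψas, mul_one]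

theorem ne_zero_of_conj_eq {G G' P P' : Matrix (Fin d) (Fin d) ℂ} (h : G * P * G' = P')
    (hGG : G' * G = 1) (hP : P ≠ 0) : P' ≠ 0 := by
  intro h0
  apply hP
  have : G' * (G * P * G') * G = P := by
    calc G' * (G * P * G') * G = (G' * G) * P * (G' * G) := by simp only [Matrix.mul_assoc]
      _ = P := by rw [hGG, Matrix.one_mul, Matrix.mul_one]
  rw [← this, h, h0, Matrix.mul_zero, Matrix.zero_mul]

/-- The reach lemma: the weights of a given weight's orbit under transvections. -/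
theorem reach (hψ1 : ψ ≠ 1) (hψas : ∀ y : F, ψ (y * y + y) = 1)
    (w : Unit ⊕ (l ⊕ l) → F) (hbc : bc w = 1) (v : l ⊕ l → F) (hv : ψ (gf (bu w) v) = 1)
    (hP : weightProj ψ (TT R) w ≠ 0) :
    weightProj ψ (TT R) (w + mkB 0 (vhat v)) ≠ 0 := by
  have h2 : (2 : F) = 0 := CharTwo.two_eq_zero
  set lam := v ⬝ᵥ bu w with hlam
  have hv' : ψ (Q0 v + lam * lam) = 1 := by
    rw [gf, dotProduct_comm, AddChar.map_add_eq_mul] at hv
    rw [AddChar.map_add_eq_mul, char_sq ψ hψas]
    exact hv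
  obtain ⟨b₀, hb₀⟩ := exists_as_of_char_eq_one ψ hψ1 hψas _ hv'
  obtain ⟨a, ha⟩ : ∃ a : F, a * a * Q0 v + a = (1 + a * lam) * (1 + a * lam) := by
    by_cases hQ : Q0 v + lam * lam = 0
    · refine ⟨1, ?_⟩
      linear_combination hQ - (lam * lam + lam) * h2
    · refine ⟨b₀ / (Q0 v + lam * lam), ?_⟩
      have h3 : b₀ / (Q0 v + lam * lam) * (Q0 v + lam * lam) = b₀ := div_mul_cancel₀ _ hQ
      set a := b₀ / (Q0 v + lam * lam) with ha
      have h4 : a * a * (Q0 v + lam * lam) + a = 1 := by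
        have : a * a * (Q0 v + lam * lam) + a = (b₀ * b₀ + b₀) / (Q0 v + lam * lam) := by
          rw [ha]
          field_simp
        rw [this, hb₀, div_self hQ]
      linear_combination h4 - (a * a * lam * lam + a * lam) * h2
  have hmove := tv_move R hψas v a 1 w hbc ha
  rw [one_smul] at hmove
  exact ne_zero_of_conj_eq hmove (R_inv_mul R _) hP

/-- Root elements of the smaller group translate suitable weights. -/
theorem root_move (hψas : ∀ y : F, ψ (y * y + y) = 1) (v' : l → F) (β : F)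
    (w : Unit ⊕ (l ⊕ l) → F) (hbc : bc w = 1) (hlam : v' ⬝ᵥ uI (bu w) = 0) :
    R (iota (rootU v' (β * β))) * weightProj ψ (TT R) w * R (iota (rootU v' (β * β)))⁻¹
      = weightProj ψ (TT R) (w + mkB 0 (β • Sum.elim (0 : l → F) v')) := by
  have h1 : (Sum.elim v' (0 : l → F)) ⬝ᵥ bu w = 0 := by
    rw [dotProduct, Fintype.sum_sum_type]
    simp only [Sum.elim_inl, Sum.elim_inr, Pi.zero_apply, zero_mul, Finset.sum_const_zero, add_zero]
    exact hlam
  have h2 : Q0 (Sum.elim v' (0 : l → F)) = 0 := by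
    rw [Q0, uR_elim, dotProduct_zero]
  have h3 : vhat (Sum.elim v' (0 : l → F)) = Sum.elim (0 : l → F) v' := by
    rw [vhat, uR_elim, uI_elim]
  have := tv_move R hψas (Sum.elim v' (0 : l → F)) (β * β) β w hbc (by rw [h1, h2]; ring)
  rw [h3] at this
  exact this

/-- The averaging idempotent of the long root group `Z`. -/
noncomputable def EZ : Matrix (Fin d) (Fin d) ℂ :=
  ((Fintype.card F : ℂ))⁻¹ • ∑ c : F, TT R (mkB c (0 : l ⊕ l → F))

theorem hcardF : ((Fintype.card F : ℂ)) ≠ 0 := Nat.cast_ne_zero.2 Fintype.card_ne_zero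

theorem hcardN : ((Fintype.card (Unit ⊕ (l ⊕ l) → F) : ℕ) : ℂ) ≠ 0 :=
  Nat.cast_ne_zero.2 Fintype.card_ne_zero

theorem TTc_mul_EZ (c : F) : TT R (mkB c (0 : l ⊕ l → F)) * EZ R = EZ R := by
  rw [EZ, Matrix.mul_smul, Finset.mul_sum]
  congr 1
  simp_rw [← TT_add, mkB_add, add_zero]
  exact Fintype.sum_bijective (fun c' => c + c') (AddGroup.addLeft_bijective c) _ _ (fun _ => rfl)

theorem EZ_idem : EZ R * EZ R = EZ R := by
  nth_rw 1 [EZ]
  rw [Matrix.smul_mul, Finset.sum_mul]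
  simp_rw [TTc_mul_EZ]
  rw [Finset.sum_const, Finset.card_univ, ← Nat.cast_smul_eq_nsmul ℂ, smul_smul,
    inv_mul_cancel₀ hcardF, one_smul]

theorem EZ_mul_weightProj (hψ : ψ.IsPrimitive) (w : Unit ⊕ (l ⊕ l) → F) :
    EZ R * weightProj ψ (TT R) w = if bc w = 0 then weightProj ψ (TT R) w else 0 := by
  rw [EZ, Matrix.smul_mul, Finset.sum_mul]
  simp_rw [T_mul_weightProj (ψ := ψ) (TT_add R), dot_eq, bc_mkB, bu_mkB, zero_dotProduct, add_zero]
  rw [← Finset.sum_smul, AddChar.sum_mulShift _ hψ]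
  split_ifs with h
  · rw [smul_smul, inv_mul_cancel₀ hcardF, one_smul]
  · rw [Nat.cast_zero, zero_smul, smul_zero]

theorem EZ_eq_sum (hψ : ψ.IsPrimitive) :
    EZ R = ∑ w : Unit ⊕ (l ⊕ l) → F, if bc w = 0 then weightProj ψ (TT R) w else 0 := by
  have h1 : EZ R = EZ R * ∑ w : Unit ⊕ (l ⊕ l) → F, weightProj ψ (TT R) w := by
    rw [sum_weightProj hψ (TT_zero R) hcardN, Matrix.mul_one]
  rw [h1, Finset.mul_sum]
  apply Finset.sum_congr rfl
  intro w _
  exact EZ_mul_weightProj R hψ w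

theorem EZ_comm_iota (g : Matrix.symplecticGroup l F) : R (iota g) * EZ R = EZ R * R (iota g) := by
  rw [EZ, Matrix.mul_smul, Matrix.smul_mul, Finset.mul_sum, Finset.sum_mul]
  congr 1
  apply Finset.sum_congr rfl
  intro c _
  rw [TT, bc_mkB, bu_mkB, ← map_mul, ← map_mul, iota_mul_el, mulVec_zero, Q0_zero, add_zero,
    add_zero]

theorem all_bc_zero_imp (hψ : ψ.IsPrimitive)
    (h : ∀ w : Unit ⊕ (l ⊕ l) → F, weightProj ψ (TT R) w ≠ 0 → bc w = 0) (c : F) :
    TT R (mkB c (0 : l ⊕ l → F)) = 1 := by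
  have h1 : EZ R = 1 := by
    rw [EZ_eq_sum R hψ, ← sum_weightProj hψ (TT_zero R) hcardN (T := TT R)]
    apply Finset.sum_congr rfl
    intro w _
    by_cases hw : weightProj ψ (TT R) w = 0
    · rw [hw, ite_self]
    · rw [if_pos (h w hw)]
  have h2 := TTc_mul_EZ R c
  rw [h1, Matrix.mul_one] at h2
  exact h2

theorem ne_one_of_primitive (hψ : ψ.IsPrimitive) : ψ ≠ 1 := by
  have := hψ (one_ne_zero (α := F))
  rwa [AddChar.mulShift_one] at this

/-- There is a weight with first coordinate one. -/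
theorem exists_weight_one (hex : ∃ w : Unit ⊕ (l ⊕ l) → F, weightProj ψ (TT R) w ≠ 0 ∧ bc w ≠ 0) :
    ∃ w : Unit ⊕ (l ⊕ l) → F, weightProj ψ (TT R) w ≠ 0 ∧ bc w = 1 := by
  obtain ⟨w, hw, hs⟩ := hex
  obtain ⟨t, ht⟩ := exists_sqrt (bc w)
  have ht0 : t ≠ 0 := by
    intro h
    rw [h, mul_zero] at ht
    exact hs ht.symm
  refine ⟨_, torus_move R t ht0 w hw, ?_⟩
  rw [bc_mkB, ht, div_self hs]

/-- The number of weights non-trivial on the long root group. -/
theorem count_nonzero (hψ : ψ.IsPrimitive) (hψas : ∀ y : F, ψ (y * y + y) = 1)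
    (hex : ∃ w : Unit ⊕ (l ⊕ l) → F, weightProj ψ (TT R) w ≠ 0 ∧ bc w ≠ 0) :
    (Fintype.card F - 1) * ((Fintype.card F ^ (2 * Fintype.card l)
        - Fintype.card F ^ Fintype.card l) / 2)
      ≤ (Finset.univ.filter (fun w : Unit ⊕ (l ⊕ l) → F =>
          bc w ≠ 0 ∧ weightProj ψ (TT R) w ≠ 0)).card := by
  classical
  obtain ⟨w₁, hw₁, hw₁c⟩ := exists_weight_one R hex
  set Ω1 := Finset.univ.filter (fun w : Unit ⊕ (l ⊕ l) → F =>
    bc w = 1 ∧ weightProj ψ (TT R) w ≠ 0) with hΩ1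
  set D := Finset.univ.filter (fun v : l ⊕ l → F => ψ (gf (bu w₁) v) = 1) with hD
  have hDΩ : D.card ≤ Ω1.card := by
    apply Finset.card_le_card_of_injOn (fun v => w₁ + mkB 0 (vhat v))
    · intro v hv
      rw [Finset.mem_coe, hD, Finset.mem_filter] at hv
      rw [Finset.mem_coe, hΩ1, Finset.mem_filter]
      refine ⟨Finset.mem_univ _, ?_, reach R (ne_one_of_primitive hψ) hψas w₁ hw₁c v hv.2 hw₁⟩
      rw [bc_add, bc_mkB, add_zero, hw₁c]
    · intro v _ v' _ hvv
      simp only at hvv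
      have h1 := add_left_cancel hvv
      exact vhat_injective (mkB_inj h1).2
  have hgc := gauss_count hψ (bu w₁) (l := l)
  rw [← hD] at hgc
  have hK : (Fintype.card F ^ (2 * Fintype.card l) - Fintype.card F ^ Fintype.card l) / 2
      ≤ Ω1.card := by
    apply le_trans _ hDΩ
    apply Nat.div_le_of_le_mul
    omega
  set Fs := Finset.univ.filter (fun t : F => t ≠ 0) with hFs
  have hFs_card : Fs.card = Fintype.card F - 1 := by
    rw [hFs, Finset.filter_ne', Finset.card_erase_of_mem (Finset.mem_univ _), Finset.card_univ]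
  have hinj : (Fs ×ˢ Ω1).card ≤ (Finset.univ.filter (fun w : Unit ⊕ (l ⊕ l) → F =>
      bc w ≠ 0 ∧ weightProj ψ (TT R) w ≠ 0)).card := by
    apply Finset.card_le_card_of_injOn
      (fun x : F × (Unit ⊕ (l ⊕ l) → F) => mkB (bc x.2 / (x.1 * x.1)) (x.1⁻¹ • bu x.2))
    · intro x hx
      rw [Finset.mem_coe, Finset.mem_product, hFs, hΩ1, Finset.mem_filter, Finset.mem_filter] at hx
      obtain ⟨⟨_, ht⟩, _, hxc, hxP⟩ := hx
      rw [Finset.mem_coe, Finset.mem_filter]
      refine ⟨Finset.mem_univ _, ?_, torus_move R x.1 ht x.2 hxP⟩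
      rw [bc_mkB, hxc]
      exact div_ne_zero one_ne_zero (mul_ne_zero ht ht)
    · intro x hx y hy hxy
      rw [Finset.mem_coe, Finset.mem_product, hFs, hΩ1, Finset.mem_filter, Finset.mem_filter]
        at hx hy
      obtain ⟨⟨_, hxt⟩, _, hxc, _⟩ := hx
      obtain ⟨⟨_, hyt⟩, _, hyc, _⟩ := hy
      simp only at hxy
      obtain ⟨h1, h2⟩ := mkB_inj hxy
      rw [hxc, hyc] at h1
      have h3 : x.1 * x.1 = y.1 * y.1 := by
        have := congrArg (fun z => z⁻¹) h1
        simpa using this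
      have h4 : x.1 = y.1 := sq_injective h3
      rw [h4] at h2
      have h5 : bu x.2 = bu y.2 := by
        have := congrArg (fun z => y.1 • z) h2
        simpa [smul_smul, mul_inv_cancel₀ hyt] using this
      have h6 : x.2 = y.2 := by
        rw [← mkB_bc_bu x.2, ← mkB_bc_bu y.2, hxc, hyc, h5]
      exact Prod.ext h4 h6
  rw [Finset.card_product, hFs_card] at hinj
  exact le_trans (Nat.mul_le_mul_left _ hK) hinj

/-- The degree is at least the rank of the averaging idempotent plus the number of weights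
non-trivial on the long root group. -/
theorem dim_split (hψ : ψ.IsPrimitive) :
    Module.finrank ℂ (LinearMap.range (Matrix.toLin' (EZ R)))
      + (Finset.univ.filter (fun w : Unit ⊕ (l ⊕ l) → F =>
          bc w ≠ 0 ∧ weightProj ψ (TT R) w ≠ 0)).card ≤ d := by
  classical
  set r : (Unit ⊕ (l ⊕ l) → F) → ℕ := fun w =>
    Module.finrank ℂ (LinearMap.range (Matrix.toLin' (weightProj ψ (TT R) w))) with hr
  have hrt : ∀ w, ((r w : ℕ) : ℂ) = (weightProj ψ (TT R) w).trace := by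
    intro w
    rw [hr]
    exact (trace_eq_finrank_of_idem _ (weightProj_idem' hψ (TT_add R) hcardN w)).symm
  have hrpos : ∀ w, weightProj ψ (TT R) w ≠ 0 → 1 ≤ r w := by
    intro w hw
    exact finrank_range_pos_of_ne_zero _ hw
  have hd : d = ∑ w : Unit ⊕ (l ⊕ l) → F, r w := by
    have h1 := congrArg Matrix.trace (sum_weightProj hψ (TT_zero R) hcardN (T := TT R))
    rw [Matrix.trace_sum, Matrix.trace_one, Fintype.card_fin] at h1
    have h2 : ((∑ w : Unit ⊕ (l ⊕ l) → F, r w : ℕ) : ℂ) = (d : ℂ) := by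
      rw [← h1, Nat.cast_sum]
      exact Finset.sum_congr rfl (fun w _ => hrt w)
    exact_mod_cast h2.symm
  have hd' : Module.finrank ℂ (LinearMap.range (Matrix.toLin' (EZ R)))
      = ∑ w : Unit ⊕ (l ⊕ l) → F, if bc w = 0 then r w else 0 := by
    have h1 := trace_eq_finrank_of_idem _ (EZ_idem R)
    have h2 : (EZ R).trace = ((∑ w : Unit ⊕ (l ⊕ l) → F, if bc w = 0 then r w else 0 : ℕ) : ℂ) := by
      conv_lhs => rw [EZ_eq_sum R hψ]
      rw [Matrix.trace_sum, Nat.cast_sum]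
      apply Finset.sum_congr rfl
      intro w _
      split_ifs
      · exact (hrt w).symm
      · rw [Matrix.trace_zero, Nat.cast_zero]
    rw [h2] at h1
    exact_mod_cast h1.symm
  rw [hd']
  refine le_trans ?_ (le_of_eq hd.symm)
  rw [Finset.card_filter, ← Finset.sum_add_distrib]
  apply Finset.sum_le_sum
  intro w _
  by_cases h0 : bc w = 0
  · rw [if_pos h0, if_neg (fun h => h.1 h0), add_zero]
  · rw [if_neg h0, zero_add]
    by_cases hP : weightProj ψ (TT R) w = 0
    · rw [if_neg (fun h => h.2 hP)]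
      exact Nat.zero_le _
    · rw [if_pos ⟨h0, hP⟩]
      exact hrpos w hP

/-- If all root groups of the smaller symplectic group act trivially on the fixed space of the
long root group `Z`, then `Z` acts trivially. -/
theorem no_trivial_action (hψ : ψ.IsPrimitive) (hψas : ∀ y : F, ψ (y * y + y) = 1)
    (i₁ i₂ : l) (hne : i₁ ≠ i₂)
    (hA : ∀ (v : l → F) (a : F), R (iota (rootU v a)) * EZ R = EZ R)
    (hex : ∃ w : Unit ⊕ (l ⊕ l) → F, weightProj ψ (TT R) w ≠ 0 ∧ bc w ≠ 0) : False := by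
  classical
  obtain ⟨w, hwP, hwc⟩ := exists_weight_one R hex
  set y₁ := uI (bu w) i₁ with hy₁
  set y₂ := uI (bu w) i₂ with hy₂
  -- a non-zero vector orthogonal to the first half of the weight
  obtain ⟨v, hv0, hlam⟩ : ∃ v : l → F, v ≠ 0 ∧ v ⬝ᵥ uI (bu w) = 0 := by
    by_cases h0 : y₁ = 0 ∧ y₂ = 0
    · refine ⟨Pi.single i₁ 1, ?_, ?_⟩
      · intro h
        have := congrFun h i₁
        simp at this
      · rw [single_dotProduct, one_mul]
        exact h0.1
    · refine ⟨Pi.single i₁ y₂ + Pi.single i₂ y₁, ?_, ?_⟩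
      · intro h
        apply h0
        have h1 := congrFun h i₁
        have h2 := congrFun h i₂
        simp only [Pi.add_apply, Pi.single_eq_same, Pi.single_eq_of_ne hne,
          Pi.single_eq_of_ne hne.symm, add_zero, zero_add, Pi.zero_apply] at h1 h2
        exact ⟨h2, h1⟩
      · rw [add_dotProduct, single_dotProduct, single_dotProduct, ← hy₁, ← hy₂, mul_comm y₁ y₂]
        exact CharTwo.add_self_eq_zero _
  obtain ⟨i, hi⟩ : ∃ i, v i ≠ 0 := by
    by_contra hcon
    push Not at hcon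
    exact hv0 (funext hcon)
  have hr : Pi.single i (v i)⁻¹ ⬝ᵥ v = 1 := by
    rw [single_dotProduct, inv_mul_cancel₀ hi]
  set s := swp v (Pi.single i (v i)⁻¹) hr with hs
  set G := R s with hG
  have hGG : G * G = 1 := by
    rw [hG, ← map_mul, swp_mul_swp, map_one]
  have hG1 : ∀ c : F, G * TT R (mkB c (0 : l ⊕ l → F)) = R (iota (rootU v c)) * G := by
    intro c
    rw [hG, TT, bc_mkB, bu_mkB, ← map_mul, ← map_mul, swp_mul_el]
  have hG2 : ∀ a : F, G * R (iota (rootU v a)) = TT R (mkB a (0 : l ⊕ l → F)) * G := by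
    intro a
    rw [hG, TT, bc_mkB, bu_mkB, ← map_mul, ← map_mul, swp_mul_iota_rootU]
  set Sv : Matrix (Fin d) (Fin d) ℂ := ∑ a : F, R (iota (rootU v a)) with hSv
  have hGE : G * EZ R = ((Fintype.card F : ℂ))⁻¹ • (Sv * G) := by
    rw [EZ, Matrix.mul_smul, Finset.mul_sum, hSv, Finset.sum_mul]
    simp_rw [hG1]
  have hclaimA : ∀ a : F, TT R (mkB a (0 : l ⊕ l → F)) * Sv = Sv := by
    intro a
    have h1 : G * (R (iota (rootU v a)) * EZ R) = G * EZ R := by rw [hA v a]
    rw [← Matrix.mul_assoc, hG2, Matrix.mul_assoc, hGE, Matrix.mul_smul] at h1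
    have h2 := smul_right_injective _ (inv_ne_zero (hcardF (F := F))) h1
    have h3 : TT R (mkB a (0 : l ⊕ l → F)) * (Sv * G) * G = Sv * G * G := by rw [h2]
    have h4 : TT R (mkB a (0 : l ⊕ l → F)) * Sv * (G * G) = Sv * (G * G) := by
      rw [← Matrix.mul_assoc, ← Matrix.mul_assoc, Matrix.mul_assoc (TT R (mkB a (0 : l ⊕ l → F)))]
      exact h3
    rw [hGG, Matrix.mul_one, Matrix.mul_one] at h4
    exact h4
  have hclaimB : EZ R * Sv = Sv := by
    rw [EZ, Matrix.smul_mul, Finset.sum_mul]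
    simp_rw [hclaimA]
    rw [Finset.sum_const, Finset.card_univ, ← Nat.cast_smul_eq_nsmul ℂ, smul_smul,
      inv_mul_cancel₀ hcardF, one_smul]
  set P := weightProj ψ (TT R) w with hP
  set Y : Matrix (Fin d) (Fin d) ℂ := ∑ β : F, R (iota (rootU v (β * β))) * P with hY
  have hYS : Y = Sv * P := by
    rw [hY, hSv, Finset.sum_mul]
    exact sq_bijective.sum_comp (fun a => R (iota (rootU v a)) * P)
  have hmove : ∀ β : F, R (iota (rootU v (β * β))) * P
      = weightProj ψ (TT R) (w + mkB 0 (β • Sum.elim (0 : l → F) v)) * R (iota (rootU v (β * β))) := by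
    intro β
    have h1 := root_move R hψas v β w hwc hlam
    rw [← h1, Matrix.mul_assoc, R_inv_mul, Matrix.mul_one]
  have hEY0 : EZ R * Y = 0 := by
    rw [hY, Finset.mul_sum]
    apply Finset.sum_eq_zero
    intro β _
    rw [hmove, ← Matrix.mul_assoc, EZ_mul_weightProj R hψ, if_neg, Matrix.zero_mul]
    rw [bc_add, bc_mkB, add_zero, hwc]
    exact one_ne_zero
  have hEY : EZ R * Y = Y := by
    rw [hYS, ← Matrix.mul_assoc, hclaimB]
  have hY0 : Y = 0 := by rw [← hEY, hEY0]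
  have hPY : P * Y = P := by
    rw [hY, Finset.mul_sum, Finset.sum_eq_single 0]
    · rw [mul_zero, rootU_zero, map_one, map_one, Matrix.one_mul, hP,
        weightProj_idem' hψ (TT_add R) hcardN]
    · intro β _ hβ
      rw [hmove, ← Matrix.mul_assoc, hP, weightProj_mul_weightProj hψ (TT_add R) hcardN, if_neg,
        Matrix.zero_mul]
      intro h
      have h1 : mkB (0 : F) (β • Sum.elim (0 : l → F) v) = 0 := by
        have : w + mkB 0 (β • Sum.elim (0 : l → F) v) = w + 0 := by rw [h, add_zero]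
        exact add_left_cancel this
      have h2 : β • Sum.elim (0 : l → F) v = 0 := by
        have := congrArg bu h1
        exact this
      have h3 := congrFun h2 (Sum.inr i)
      simp only [Pi.smul_apply, Sum.elim_inr, smul_eq_mul, Pi.zero_apply] at h3
      rcases mul_eq_zero.1 h3 with h4 | h4
      · exact hβ h4
      · exact hi h4
    · intro h
      exact absurd (Finset.mem_univ _) h
  apply hwP
  rw [← hPY, hY0, Matrix.mul_zero]

end step

end Cfsg.Agent.Lib.Helper46
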