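import Cfsg.Agent.Lib.Helper46.MatEmb
import Cfsg.Agent.Lib.Helper07.SpCenter

set_option autoImplicit false

namespace Cfsg.Agent.Lib.Helper46

open Matrix

section symRow

variable {F : Type*} [Field F] {k : ℕ}

/-- The symmetric matrix `e₀ bᵀ + b e₀ᵀ`. -/
def symRow (b : Fin (k + 1) → F) : Matrix (Fin (k + 1)) (Fin (k + 1)) F :=
  vecMulVec (Pi.single 0 1) b + vecMulVec b (Pi.single 0 1)

theorem symRow_transpose (b : Fin (k + 1) → F) : (symRow b)ᵀ = symRow b := by
  rw [symRow, transpose_add, transpose_vecMulVec, transpose_vecMulVec]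
  exact add_comm _ _

theorem symRow_zero : symRow (0 : Fin (k + 1) → F) = 0 := by
  simp [symRow]

theorem symRow_add (b b' : Fin (k + 1) → F) : symRow (b + b') = symRow b + symRow b' := by
  rw [symRow, symRow, symRow, vecMulVec_add, add_vecMulVec]
  abel

theorem symRow_apply_zero_zero (b : Fin (k + 1) → F) : symRow b 0 0 = 2 * b 0 := by
  simp [symRow, vecMulVec_apply]
  ring

/-- Congruence by `g` with `g e₀ = c e₀`. -/
theorem conj_symRow (g : Matrix (Fin (k + 1)) (Fin (k + 1)) F) (c : F)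
    (hg : g *ᵥ Pi.single 0 1 = c • Pi.single 0 1) (b : Fin (k + 1) → F) :
    g * symRow b * gᵀ = symRow (c • g *ᵥ b) := by
  rw [symRow, Matrix.mul_add, Matrix.add_mul, mul_vecMulVec, mul_vecMulVec, vecMulVec_mul,
    vecMulVec_mul, vecMul_transpose, vecMul_transpose, hg, symRow, smul_vecMulVec,
    vecMulVec_smul, vecMulVec_smul, smul_vecMulVec]

/-- The unipotent symplectic matrix attached to `b`. -/
def upU (b : Fin (k + 1) → F) :
    Matrix (Fin (k + 1) ⊕ Fin (k + 1)) (Fin (k + 1) ⊕ Fin (k + 1)) F :=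
  fromBlocks 1 (symRow b) 0 1

theorem upU_mem (b : Fin (k + 1) → F) : upU b ∈ Matrix.symplecticGroup (Fin (k + 1)) F :=
  Cfsg.Agent.Lib.Helper07.upperBlock_mem (symRow_transpose b)

theorem upU_zero : upU (0 : Fin (k + 1) → F) = 1 := by
  rw [upU, symRow_zero, fromBlocks_one]

theorem upU_add (b b' : Fin (k + 1) → F) : upU (b + b') = upU b * upU b' := by
  rw [upU, upU, upU, fromBlocks_multiply, symRow_add]
  simp [add_comm]

theorem hypHom_conj_upU (g : Matrix.GeneralLinearGroup (Fin (k + 1)) F) (c : F)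
    (hg : (g : Matrix (Fin (k + 1)) (Fin (k + 1)) F) *ᵥ Pi.single 0 1 = c • Pi.single 0 1)
    (b : Fin (k + 1) → F) :
    hypHom g * upU b * hypHom g⁻¹
      = upU (c • (g : Matrix (Fin (k + 1)) (Fin (k + 1)) F) *ᵥ b) := by
  rw [hypHom_apply, hypHom_apply, upU, upU, fromBlocks_multiply, fromBlocks_multiply, inv_inv,
    ← conj_symRow _ c hg b]
  have h1 : (g : Matrix (Fin (k + 1)) (Fin (k + 1)) F)
      * ((g⁻¹ : Matrix.GeneralLinearGroup (Fin (k + 1)) F) : Matrix (Fin (k + 1)) (Fin (k + 1)) F)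
      = 1 := by
    rw [← Units.val_mul, mul_inv_cancel, Units.val_one]
  have h2 : ((g⁻¹ : Matrix.GeneralLinearGroup (Fin (k + 1)) F) :
      Matrix (Fin (k + 1)) (Fin (k + 1)) F)ᵀ * (g : Matrix (Fin (k + 1)) (Fin (k + 1)) F)ᵀ
      = 1 := by
    rw [← transpose_mul, h1, transpose_one]
  rw [Matrix.coe_units_inv] at h1 h2
  simp [h1, h2]

end symRow

end Cfsg.Agent.Lib.Helper46
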