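import Mathlib
import Cfsg.Agent.Lib.Helper46.SpecA

set_option autoImplicit false

/-!
# A semisimple isometry commuting with a non-trivial unipotent isometry of a 3-dimensional
non-degenerate quadratic space is `±1`
-/

namespace Cfsg.Agent.Lib.Helper46.Spec

open Module Polynomial

section J

variable {F : Type*} [Field F] {C : Type*} [AddCommGroup C] [Module F C]

/-- the basic identity for `N = U - 1`, `U` an isometry -/
theorem polar_nil_identity (Q : QuadraticForm F C) (U : Module.End F C) (hU : ∀ v, Q (U v) = Q v)
    (x y : C) :
    QuadraticMap.polar Q ((U - 1) x) y + QuadraticMap.polar Q x ((U - 1) y) +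
      QuadraticMap.polar Q ((U - 1) x) ((U - 1) y) = 0 := by
  have h := polar_map_map Q U hU x y
  have hx : U x = x + (U - 1) x := by simp
  have hy : U y = y + (U - 1) y := by simp
  rw [hx, hy, QuadraticMap.polar_add_left, QuadraticMap.polar_add_right,
    QuadraticMap.polar_add_right] at h
  linear_combination h

theorem polar_symm' (Q : QuadraticForm F C) (x y : C) :
    QuadraticMap.polar Q x y = QuadraticMap.polar Q y x := QuadraticMap.polar_comm Q x y

/-- the square of `N = U - 1` is non-zero for a non-trivial isometry `U` of a 3-dimensional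
non-degenerate space -/
theorem nil_sq_ne_zero [FiniteDimensional F C] (h2 : (2 : F) ≠ 0) (hC : finrank F C = 3)
    (Q : QuadraticForm F C) (hnd : ∀ x : C, (∀ y, QuadraticMap.polar Q x y = 0) → x = 0)
    (U : Module.End F C) (hU : ∀ v, Q (U v) = Q v) (hU1 : U ≠ 1) : (U - 1) ^ 2 ≠ 0 := by
  intro hsq
  set N : Module.End F C := U - 1 with hN
  have hNN : ∀ x, N (N x) = 0 := by
    intro x
    have := LinearMap.congr_fun hsq x
    rw [pow_two, Module.End.mul_apply] at this
    simpa using this
  have hid := polar_nil_identity Q U hU
  rw [← hN] at hid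
  have hiso : ∀ x y, QuadraticMap.polar Q (N x) (N y) = 0 := by
    intro x y
    have := hid x (N y)
    rw [hNN y] at this
    simpa using this
  have hskew : ∀ x y, QuadraticMap.polar Q (N x) y = - QuadraticMap.polar Q x (N y) := by
    intro x y
    have := hid x y
    rw [hiso x y] at this
    linear_combination this
  have halt : ∀ x, QuadraticMap.polar Q (N x) x = 0 := by
    intro x
    have h1 := hskew x x
    rw [polar_symm' Q x (N x)] at h1
    have : (2 : F) * QuadraticMap.polar Q (N x) x = 0 := by linear_combination h1
    rcases mul_eq_zero.mp this with h | h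
    · exact absurd h h2
    · exact h
  have hN0 : N ≠ 0 := by
    intro h
    apply hU1
    rw [hN, sub_eq_zero] at h
    exact h
  obtain ⟨x₀, hx₀⟩ : ∃ x₀, N x₀ ≠ 0 := by
    by_contra hcon
    push Not at hcon
    apply hN0
    ext x
    simpa using hcon x
  obtain ⟨y₀, hy₀⟩ : ∃ y₀, QuadraticMap.polar Q (N x₀) y₀ ≠ 0 := by
    by_contra hcon
    push Not at hcon
    exact hx₀ (hnd _ hcon)
  have hxw' : QuadraticMap.polar Q x₀ (N y₀) ≠ 0 := by
    intro h
    apply hy₀
    rw [hskew, h, neg_zero]
  have hxw : QuadraticMap.polar Q x₀ (N x₀) = 0 := by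
    rw [polar_symm']; exact halt x₀
  -- four independent vectors
  have hli : LinearIndependent F ![x₀, y₀, N x₀, N y₀] := by
    rw [Fintype.linearIndependent_iff]
    intro g hg
    rw [Fin.sum_univ_four] at hg
    have hg' : g 0 • x₀ + g 1 • y₀ + g 2 • N x₀ + g 3 • N y₀ = 0 := hg
    have e1 : g 0 • N x₀ + g 1 • N y₀ = 0 := by
      have := congrArg N hg'
      simp only [map_add, map_smul, hNN, smul_zero, add_zero, map_zero] at this
      exact this
    have e2 : g 1 = 0 := by
      have := congrArg (fun z => QuadraticMap.polar Q x₀ z) e1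
      simp only [QuadraticMap.polar_add_right, QuadraticMap.polar_smul_right, hxw,
        smul_eq_mul, mul_zero, zero_add] at this
      have h0 : QuadraticMap.polar Q x₀ 0 = 0 := by simp
      rw [h0] at this
      rcases mul_eq_zero.mp this with h | h
      · exact h
      · exact absurd h hxw'
    have e3 : g 0 = 0 := by
      rw [e2, zero_smul, add_zero] at e1
      rcases smul_eq_zero.mp e1 with h | h
      · exact h
      · exact absurd h hx₀
    have e4 : g 2 • N x₀ + g 3 • N y₀ = 0 := by
      rw [e2, e3, zero_smul, zero_smul, zero_add, zero_add] at hg'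
      exact hg'
    have e5 : g 3 = 0 := by
      have := congrArg (fun z => QuadraticMap.polar Q x₀ z) e4
      simp only [QuadraticMap.polar_add_right, QuadraticMap.polar_smul_right, hxw,
        smul_eq_mul, mul_zero, zero_add] at this
      have h0 : QuadraticMap.polar Q x₀ 0 = 0 := by simp
      rw [h0] at this
      rcases mul_eq_zero.mp this with h | h
      · exact h
      · exact absurd h hxw'
    have e6 : g 2 = 0 := by
      rw [e5, zero_smul, add_zero] at e4
      rcases smul_eq_zero.mp e4 with h | h
      · exact h
      · exact absurd h hx₀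
    intro i
    fin_cases i
    · exact e3
    · exact e2
    · exact e6
    · exact e5
  have := hli.fintype_card_le_finrank
  rw [hC, Fintype.card_fin] at this
  omega

/-- **Key lemma.**  In a 3-dimensional non-degenerate quadratic space over a field of odd
characteristic `p`, an isometry `T` of order prime to `p` commuting with a non-trivial isometry
`U` of order `p` is `1` or `-1`; moreover the space contains a non-zero singular vector. -/
theorem scalar_of_commute_unipotent [FiniteDimensional F C] (p : ℕ) [hp : Fact p.Prime]
    [CharP F p] (hp2 : p ≠ 2) (hC : finrank F C = 3) (Q : QuadraticForm F C)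
    (hnd : ∀ x : C, (∀ y, QuadraticMap.polar Q x y = 0) → x = 0)
    (U T : Module.End F C) (hU : ∀ v, Q (U v) = Q v) (hT : ∀ v, Q (T v) = Q v)
    (hUT : Commute U T) (hU1 : U ≠ 1) (hUp : U ^ p = 1) (m : ℕ) (hm : (m : F) ≠ 0)
    (hTm : T ^ m = 1) :
    (T = 1 ∨ T = -1) ∧ ∃ v : C, v ≠ 0 ∧ Q v = 0 := by
  have h2 : (2 : F) ≠ 0 := by
    intro h
    have h' : ((2 : ℕ) : F) = 0 := by exact_mod_cast h
    have hd := (CharP.cast_eq_zero_iff F p 2).mp h'
    have := (Nat.prime_dvd_prime_iff_eq hp.out Nat.prime_two).mp hd
    exact hp2 this
  have : Nontrivial C := Module.finrank_pos_iff.mp (by rw [hC]; norm_num)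
  have : CharP (Module.End F C) p := charP_of_injective_algebraMap' F p
  set N : Module.End F C := U - 1 with hN
  have hNp : N ^ p = 0 := by
    rw [hN, sub_pow_char_of_commute p (Commute.one_right U), hUp, one_pow, sub_self]
  have hN3 : N ^ 3 = 0 := by
    have h := Module.End.ker_pow_le_ker_pow_finrank N p
    rw [hC, hNp] at h
    have htop : LinearMap.ker (0 : Module.End F C) = ⊤ := LinearMap.ker_zero
    rw [htop, top_le_iff] at h
    exact LinearMap.ker_eq_top.mp h
  have hN2 : N ^ 2 ≠ 0 := nil_sq_ne_zero h2 hC Q hnd U hU hU1
  obtain ⟨v, hv⟩ : ∃ v, (N ^ 2) v ≠ 0 := by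
    by_contra hcon
    push Not at hcon
    apply hN2
    ext x
    simpa using hcon x
  have hNNN : ∀ x, N (N (N x)) = 0 := by
    intro x
    have := LinearMap.congr_fun hN3 x
    simpa [pow_succ, Module.End.mul_apply] using this
  have hv2 : (N ^ 2) v = N (N v) := by
    rw [pow_two, Module.End.mul_apply]
  rw [hv2] at hv
  have hid := polar_nil_identity Q U hU
  rw [← hN] at hid
  -- the singular vector
  have hsing : Q (N (N v)) = 0 := by
    have h1 := hid (N v) (N (N v))
    rw [hNNN v] at h1
    simp only [QuadraticMap.polar_zero_right, add_zero] at h1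
    have h3 : QuadraticMap.polar Q (N (N v)) (N (N v)) = 2 * Q (N (N v)) := by
      rw [QuadraticMap.polar_self Q, two_smul, two_mul]
    rw [h3] at h1
    rcases mul_eq_zero.mp h1 with h | h
    · exact absurd h h2
    · exact h
  refine ⟨?_, N (N v), hv, hsing⟩
  -- cyclic basis
  have hli : LinearIndependent F ![v, N v, N (N v)] := by
    rw [Fintype.linearIndependent_iff]
    intro g hg
    rw [Fin.sum_univ_three] at hg
    have hg' : g 0 • v + g 1 • N v + g 2 • N (N v) = 0 := hg
    have e0 : g 0 = 0 := by
      have := congrArg (fun z => N (N z)) hg'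
      simp only [map_add, map_smul, hNNN, smul_zero, add_zero, map_zero] at this
      rcases smul_eq_zero.mp this with h | h
      · exact h
      · exact absurd h hv
    have e1 : g 1 = 0 := by
      have := congrArg (fun z => N z) hg'
      simp only [map_add, map_smul, hNNN, smul_zero, add_zero, map_zero, e0, zero_smul,
        zero_add] at this
      rcases smul_eq_zero.mp this with h | h
      · exact h
      · exact absurd h hv
    have e2 : g 2 = 0 := by
      rw [e0, e1, zero_smul, zero_smul, zero_add, zero_add] at hg'
      rcases smul_eq_zero.mp hg' with h | h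
      · exact h
      · exact absurd h hv
    intro i
    fin_cases i
    · exact e0
    · exact e1
    · exact e2
  have hspan : Submodule.span F (Set.range ![v, N v, N (N v)]) = ⊤ :=
    hli.span_eq_top_of_card_eq_finrank' (by rw [hC, Fintype.card_fin])
  have hTN : Commute T N := by
    rw [hN]
    exact (hUT.symm).sub_right (Commute.one_right T)
  have hTNx : ∀ x, T (N x) = N (T x) := by
    intro x
    have := LinearMap.congr_fun hTN.eq x
    simpa [Module.End.mul_apply] using this
  have hTv : T v ∈ Submodule.span F (Set.range ![v, N v, N (N v)]) := by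
    rw [hspan]; exact Submodule.mem_top
  obtain ⟨g, hg⟩ := (Submodule.mem_span_range_iff_exists_fun F).mp hTv
  rw [Fin.sum_univ_three] at hg
  have hg' : g 0 • v + g 1 • N v + g 2 • N (N v) = T v := hg
  set P : Module.End F C := g 0 • 1 + g 1 • N + g 2 • (N * N) with hP
  have hPv : ∀ x, P x = g 0 • x + g 1 • N x + g 2 • N (N x) := by
    intro x
    simp [hP, Module.End.mul_apply]
  have hTP : T = P := by
    apply LinearMap.ext_on_range hspan
    intro i
    fin_cases i
    · show T v = P v
      rw [hPv, hg']
    · show T (N v) = P (N v)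
      rw [hPv, hTNx, ← hg']
      simp only [map_add, map_smul]
    · show T (N (N v)) = P (N (N v))
      rw [hPv, hTNx, hTNx, ← hg']
      simp only [map_add, map_smul]
  -- `T - g 0` is nilpotent and semisimple
  set M : Module.End F C := T - algebraMap F (Module.End F C) (g 0) with hM
  have hMx : ∀ x, M x = g 1 • N x + g 2 • N (N x) := by
    intro x
    rw [hM, LinearMap.sub_apply, hTP, hPv, Module.algebraMap_end_apply]
    abel
  have hMnil : IsNilpotent M := by
    refine ⟨3, ?_⟩
    have hNM : ∀ x, N (M x) = g 1 • N (N x) := by
      intro x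
      rw [hMx, map_add, map_smul, map_smul, hNNN, smul_zero, add_zero]
    have hNNM : ∀ x, N (N (M x)) = 0 := by
      intro x
      rw [hNM, map_smul, hNNN, smul_zero]
    have hMM : ∀ x, M (M x) = g 1 • g 1 • N (N x) := by
      intro x
      rw [hMx (M x), hNM, map_smul, hNNN, smul_zero, smul_zero, add_zero]
    ext x
    rw [pow_succ, pow_succ, pow_one, Module.End.mul_apply, Module.End.mul_apply, hMM,
      hNNM, smul_zero, smul_zero, LinearMap.zero_apply]
  have hTss : T.IsSemisimple := by
    apply Module.End.isSemisimple_of_squarefree_aeval_eq_zero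
      (p := (X ^ m - 1 : F[X])) (Polynomial.X_pow_sub_one_separable_iff.mpr hm).squarefree
    simp [hTm]
  have hMss : M.IsSemisimple := by
    rw [hM, Module.End.isSemisimple_sub_algebraMap_iff]
    exact hTss
  have hM0 : M = 0 := Module.End.eq_zero_of_isNilpotent_isSemisimple hMnil hMss
  have hTa : ∀ x, T x = g 0 • x := by
    intro x
    have := LinearMap.congr_fun hM0 x
    rw [hM, LinearMap.sub_apply, Module.algebraMap_end_apply, LinearMap.zero_apply,
      sub_eq_zero] at this
    exact this
  -- `g 0 ^ 2 = 1`
  obtain ⟨x, hx⟩ : ∃ x, Q x ≠ 0 := by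
    by_contra hcon
    push Not at hcon
    obtain ⟨z, hz⟩ := exists_ne (0 : C)
    apply hz
    apply hnd
    intro y
    unfold QuadraticMap.polar
    rw [hcon, hcon, hcon]
    ring
  have hsq : g 0 * g 0 = 1 := by
    have h := hT x
    rw [hTa, QuadraticMap.map_smul] at h
    have : (g 0 * g 0 - 1) * Q x = 0 := by
      rw [smul_eq_mul] at h
      linear_combination h
    rcases mul_eq_zero.mp this with h' | h'
    · linear_combination h'
    · exact absurd h' hx
  have hpm : g 0 = 1 ∨ g 0 = -1 := by
    have : (g 0 - 1) * (g 0 + 1) = 0 := by linear_combination hsq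
    rcases mul_eq_zero.mp this with h | h
    · left; linear_combination h
    · right; linear_combination h
  rcases hpm with h | h
  · left
    ext x
    rw [hTa, h, one_smul, Module.End.one_apply]
  · right
    ext x
    rw [hTa, h, LinearMap.neg_apply, Module.End.one_apply, neg_smul, one_smul]

end J

end Cfsg.Agent.Lib.Helper46.Spec
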