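import Mathlib
import Cfsg.Agent.Lib.Helper46.SpecA
import Cfsg.Agent.Lib.Helper46.SpecJ
import Cfsg.Agent.Lib.Helper46.SpecSign
import Cfsg.Agent.Lib.Helper46.SpecCount

set_option autoImplicit false

/-!
# The sign of the sphere permutation of a `p'`-part of an isometry of order `p (q^(n-1) + 1)`
-/

namespace Cfsg.Agent.Lib.Helper46.Spec

open Module

theorem arith_key46 (q a N s : ℕ) (hq : Odd q) (hq2 : 2 ≤ q) (ha : q ^ 2 ≤ a) (haodd : Odd a)
    (hs : s = 0 ∨ s = 2)
    (h : N * (a + 1) + (q * s + (q - 1) * q) = q ^ 2 * a ^ 2 + q * a) : Odd N := by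
  have hq1 : 1 ≤ q := by omega
  have ha1 : 1 ≤ a := by nlinarith
  have hz : (N : ℤ) * (a + 1) + (q * s + (q - 1) * q) = (q : ℤ) ^ 2 * a ^ 2 + q * a := by
    have := congrArg (fun x : ℕ => (x : ℤ)) h
    push_cast [Nat.cast_sub hq1] at this
    linarith
  rcases hs with hs | hs
  · subst hs
    have h1 : ((N : ℤ) - (q ^ 2 * (a - 1) + q)) * (a + 1) = 0 := by
      push_cast at hz
      linear_combination hz
    have h2 : (N : ℤ) = q ^ 2 * (a - 1) + q := by
      rcases mul_eq_zero.mp h1 with h' | h'
      · linarith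
      · exfalso; have : (0 : ℤ) ≤ a := Int.natCast_nonneg a; linarith
    have h3 : N = q ^ 2 * (a - 1) + q := by
      have : (N : ℤ) = ((q ^ 2 * (a - 1) + q : ℕ) : ℤ) := by
        push_cast [Nat.cast_sub ha1]
        exact h2
      exact_mod_cast this
    rw [h3]
    have hev : Even (a - 1) := by
      obtain ⟨k, hk⟩ := haodd
      exact ⟨k, by omega⟩
    exact Even.add_odd (Even.mul_left hev _) hq
  · subst hs
    exfalso
    have h1 : (2 : ℤ) * q = (a + 1) * (q ^ 2 * (a - 1) + q - N) := by
      push_cast at hz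
      linear_combination hz
    have h2 : ((a + 1 : ℕ) : ℤ) ∣ ((2 * q : ℕ) : ℤ) := by
      push_cast
      exact ⟨_, h1⟩
    have h3 : a + 1 ∣ 2 * q := Int.natCast_dvd_natCast.mp h2
    have h4 := Nat.le_of_dvd (by omega) h3
    nlinarith

section main

variable {F : Type*} [Field F] [Fintype F] {V : Type*} [AddCommGroup V] [Module F V] [Finite V]

theorem polar_comp_subtype (Q : QuadraticForm F V) (C : Submodule F V) (x y : C) :
    QuadraticMap.polar (Q.comp C.subtype) x y = QuadraticMap.polar Q (x : V) (y : V) := by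
  unfold QuadraticMap.polar
  simp [QuadraticMap.comp_apply]

theorem restrict_pow_apply (U : Module.End F V) (C : Submodule F V) (hUC : ∀ x ∈ C, U x ∈ C)
    (k : ℕ) (x : C) : (((U.restrict hUC) ^ k) x : V) = (U ^ k) (x : V) := by
  induction k with
  | zero => simp
  | succ k ih =>
    rw [pow_succ', pow_succ', Module.End.mul_apply, Module.End.mul_apply,
      LinearMap.coe_restrict_apply, ih]

/-- **Main abstract theorem.**  Let `A` be an isometry of order `p (q^(n-1) + 1)` of a
non-degenerate quadratic space of dimension `2n+1 ≥ 7` over `F_q` of odd characteristic `p`,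
whose `p'`-part `A^p` fixes a non-zero vector, and assume the unit sphere has `q^(2n) + q^n`
points.  Then `A^p` induces an odd permutation of the unit sphere. -/
theorem sign_sphere_eq_neg_one (p : ℕ) [hp : Fact p.Prime] [CharP F p] (hp2 : p ≠ 2)
    {q : ℕ} (hq : Fintype.card F = q)
    (Q : QuadraticForm F V) (hnd : ∀ x : V, (∀ y, QuadraticMap.polar Q x y = 0) → x = 0)
    (n : ℕ) (hn : 3 ≤ n) (hV : finrank F V = 2 * n + 1)
    (hcount : Nat.card {v : V // Q v = 1} = q ^ (2 * n) + q ^ n)
    (A : Module.End F V) (hA : ∀ v, Q (A v) = Q v)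
    (hAord : A ^ (p * (q ^ (n - 1) + 1)) = 1)
    (hAmin : ∀ k : ℕ, A ^ k = 1 → p * (q ^ (n - 1) + 1) ∣ k)
    (r : ℕ) [hr : Fact r.Prime] (hrm : r ∣ q ^ (n - 1) + 1)
    (hord : orderOf ((q : ℕ) : ZMod r) = 2 * n - 2)
    (hfix : ∃ v : V, v ≠ 0 ∧ (A ^ p) v = v)
    [Fintype {v : V // Q v = 1}] [DecidableEq {v : V // Q v = 1}]
    (σ : Equiv.Perm {v : V // Q v = 1})
    (hσ : ∀ v, ((σ v : {v : V // Q v = 1}) : V) = (A ^ p) (v : V)) :
    Equiv.Perm.sign σ = -1 := by
  classical
  set m := q ^ (n - 1) + 1 with hm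
  have hq2 : 2 ≤ q := by rw [← hq]; exact Fintype.one_lt_card
  have ha : q ^ 2 ≤ q ^ (n - 1) := Nat.pow_le_pow_right (by omega) (by omega)
  have hm5 : 5 ≤ m := by nlinarith
  have hp0 : 0 < p := hp.out.pos
  have hpq : p ∣ q := by
    have := FiniteField.cast_card_eq_zero F
    rw [hq] at this
    exact (CharP.cast_eq_zero_iff F p q).mp this
  have hqF : (q : F) = 0 := by
    have := FiniteField.cast_card_eq_zero F
    rw [hq] at this
    exact this
  have hqodd : Odd q := by
    obtain ⟨k, -, hk⟩ := FiniteField.card F p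
    rw [hq] at hk
    rw [hk]
    exact (hp.out.eq_two_or_odd'.resolve_left hp2).pow
  set T : Module.End F V := A ^ p with hT
  set U : Module.End F V := A ^ m with hU
  obtain ⟨t, ht⟩ := hrm
  have ht0 : 0 < t := by
    rcases Nat.eq_zero_or_pos t with h | h
    · rw [h, mul_zero] at ht; omega
    · exact h
  set S : Module.End F V := T ^ t with hS
  -- orders
  have hTm : T ^ m = 1 := by rw [hT, ← pow_mul]; exact hAord
  have hTmin : ∀ k, T ^ k = 1 → m ∣ k := by
    intro k hk
    rw [hT, ← pow_mul] at hk
    exact (Nat.mul_dvd_mul_iff_left hp0).mp (hAmin _ hk)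
  have hUp : U ^ p = 1 := by rw [hU, ← pow_mul, mul_comm]; exact hAord
  have hU1 : U ≠ 1 := by
    intro h
    have h1 := Nat.le_of_dvd (by omega) (hAmin m h)
    have h2 : 2 * m ≤ p * m := Nat.mul_le_mul_right m hp.out.two_le
    omega
  have hSr : S ^ r = 1 := by rw [hS, ← pow_mul, mul_comm, ← ht]; exact hTm
  have hS1 : S ≠ 1 := by
    intro h
    have h1 := Nat.le_of_dvd ht0 (hTmin t h)
    have h2 : 2 * t ≤ r * t := Nat.mul_le_mul_right t hr.out.two_le
    omega
  -- commutation
  have hTS : Commute T S := (Commute.refl T).pow_right t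
  have hUT : Commute U T := (Commute.refl A).pow_pow m p
  have hUS : Commute U S := hUT.pow_right t
  -- isometries
  have hTQ : ∀ v, Q (T v) = Q v := pow_isometry Q A hA p
  have hUQ : ∀ v, Q (U v) = Q v := pow_isometry Q A hA m
  have hSQ : ∀ v, Q (S v) = Q v := pow_isometry Q T hTQ t
  -- characteristic
  have hrF : (r : F) ≠ 0 := by
    intro h
    have h1 := (CharP.cast_eq_zero_iff F p r).mp h
    have h2 : p = r := (Nat.prime_dvd_prime_iff_eq hp.out hr.out).mp h1
    have h3 : r ∣ q ^ (n - 1) := dvd_pow (h2 ▸ hpq) (by omega)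
    have h4 : r ∣ m := ⟨t, ht⟩
    have h5 : r ∣ 1 := by
      have := Nat.dvd_sub h4 h3
      rwa [hm, Nat.add_sub_cancel_left] at this
    have := hr.out.two_le
    have := Nat.le_of_dvd one_pos h5
    omega
  have hmF : (m : F) ≠ 0 := by
    rw [hm, Nat.cast_add, Nat.cast_pow, hqF, zero_pow (by omega), zero_add, Nat.cast_one]
    exact one_ne_zero
  -- decomposition
  set e : Module.End F V := avgE S r with he
  have hcompl := isCompl_avgE S r hSr hrF
  rw [← he] at hcompl
  have hdvd := order_dvd_finrank_ker hq S r hSr hrF (2 * n - 2) hord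
  rw [← he] at hdvd
  have hWle : finrank F (LinearMap.ker e) ≤ 2 * n + 1 := by
    rw [← hV]; exact Submodule.finrank_le _
  have hW0 : finrank F (LinearMap.ker e) ≠ 0 := by
    intro h0
    have hbot : LinearMap.ker e = ⊥ := Submodule.finrank_eq_zero.mp h0
    apply hS1
    ext v
    have h1 : v - e v ∈ LinearMap.ker e := by
      rw [LinearMap.mem_ker]; exact avgE_sub S r hSr hrF v
    rw [hbot, Submodule.mem_bot, sub_eq_zero] at h1
    rw [Module.End.one_apply, h1]
    exact apply_avgE S r hSr v
  have hWd : finrank F (LinearMap.ker e) = 2 * n - 2 := by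
    obtain ⟨b, hb⟩ := hdvd
    have hb0 : b ≠ 0 := by
      intro h; rw [h, mul_zero] at hb; exact hW0 hb
    have hb2 : b < 2 := by
      by_contra hcon
      push Not at hcon
      have : (2 * n - 2) * 2 ≤ (2 * n - 2) * b := Nat.mul_le_mul_left _ hcon
      omega
    have hb1 : b = 1 := by omega
    rw [hb, hb1, mul_one]
  have hW2 : finrank F (LinearMap.ker e) < 2 * (2 * n - 2) := by rw [hWd]; omega
  have hCW := Submodule.finrank_add_eq_of_isCompl hcompl
  have hC3 : finrank F (LinearMap.range e) = 3 := by omega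
  have hmemC : ∀ x, x ∈ LinearMap.range e ↔ S x = x := mem_range_avgE_iff S r hSr hrF
  have hmemC' : ∀ x, x ∈ LinearMap.range e ↔ e x = x := by
    intro x
    constructor
    · intro hx; exact avgE_apply_fixed S r hrF x ((hmemC x).mp hx)
    · intro hx; exact ⟨x, hx⟩
  -- `U` fixes `W`
  have hWne : LinearMap.ker e ≠ ⊥ := by
    intro h
    rw [h, finrank_bot] at hW0
    exact hW0 rfl
  have hWU : ∀ w ∈ LinearMap.ker e, U w ∈ LinearMap.ker e := by
    intro w hw
    rw [LinearMap.mem_ker] at hw ⊢
    exact map_mem_ker_avgE S U r hUS w hw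
  obtain ⟨w₀, hw₀W, hw₀, hUw₀⟩ := exists_fixed_ne_zero p U hUp (LinearMap.ker e) hWU hWne
  have hUW : ∀ w, e w = 0 → U w = w :=
    fix_all_of_fix_one hq S r hSr hrF _ hord hW2 U hUS w₀ (LinearMap.mem_ker.mp hw₀W) hw₀ hUw₀
  -- restriction to `C`
  have hUC : ∀ x ∈ LinearMap.range e, U x ∈ LinearMap.range e := by
    intro x hx
    rw [hmemC] at hx ⊢
    exact map_fixed S U hUS x hx
  have hTC : ∀ x ∈ LinearMap.range e, T x ∈ LinearMap.range e := by
    intro x hx
    rw [hmemC] at hx ⊢
    exact map_fixed S T hTS x hx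
  set QC : QuadraticForm F (LinearMap.range e) := Q.comp (LinearMap.range e).subtype with hQC
  have hQCx : ∀ x : LinearMap.range e, QC x = Q (x : V) := fun x => rfl
  have hndC : ∀ x : LinearMap.range e, (∀ y, QuadraticMap.polar QC x y = 0) → x = 0 := by
    intro x hx
    apply Subtype.ext
    apply hnd
    intro v
    have hv : v = e v + (v - e v) := by abel
    rw [hv, QuadraticMap.polar_add_right]
    have h1 : QuadraticMap.polar Q (x : V) (e v) = 0 := by
      have := hx ⟨e v, ⟨v, rfl⟩⟩
      rw [polar_comp_subtype] at this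
      exact this
    have h2 : QuadraticMap.polar Q (x : V) (v - e v) = 0 :=
      polar_fixed_ker Q S hSQ r hrF x (v - e v) ((hmemC _).mp x.2) (avgE_sub S r hSr hrF v)
    rw [h1, h2, add_zero]
  have hUC1 : U.restrict hUC ≠ 1 := by
    intro h
    apply hU1
    ext v
    have hv : v = e v + (v - e v) := by abel
    rw [Module.End.one_apply]
    conv_lhs => rw [hv]
    rw [map_add, hUW _ (avgE_sub S r hSr hrF v)]
    have := congrArg (fun f : Module.End F (LinearMap.range e) =>
      ((f ⟨e v, ⟨v, rfl⟩⟩ : LinearMap.range e) : V)) h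
    simp only [LinearMap.coe_restrict_apply, Module.End.one_apply] at this
    rw [this]
    abel
  have hJ := scalar_of_commute_unipotent p hp2 hC3 QC hndC (U.restrict hUC) (T.restrict hTC)
    (fun x => by rw [hQCx, hQCx, LinearMap.coe_restrict_apply]; exact hUQ _)
    (fun x => by rw [hQCx, hQCx, LinearMap.coe_restrict_apply]; exact hTQ _)
    (by
      apply LinearMap.ext
      intro x
      apply Subtype.ext
      rw [Module.End.mul_apply, Module.End.mul_apply, LinearMap.coe_restrict_apply,
        LinearMap.coe_restrict_apply, LinearMap.coe_restrict_apply, LinearMap.coe_restrict_apply]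
      have := LinearMap.congr_fun hUT.eq (x : V)
      rw [Module.End.mul_apply, Module.End.mul_apply] at this
      exact this)
    hUC1
    (by
      apply LinearMap.ext
      intro x
      apply Subtype.ext
      rw [restrict_pow_apply, hUp]
      rfl)
    m hmF
    (by
      apply LinearMap.ext
      intro x
      apply Subtype.ext
      rw [restrict_pow_apply, hTm]
      rfl)
  obtain ⟨hTpm, e₁, he₁, hQe₁⟩ := hJ
  -- `T` commutes with `e`
  have hTe : ∀ (k : ℕ) (v : V), (T ^ k) (e v) = e ((T ^ k) v) := by
    intro k v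
    have := LinearMap.congr_fun (commute_avgE S (T ^ k) r (hTS.pow_left k)).eq v
    rw [Module.End.mul_apply, Module.End.mul_apply] at this
    exact this
  -- `T` is trivial on `C`
  have hTCfix : ∀ c, e c = c → T c = c := by
    rcases hTpm with h1 | h1
    · intro c hc
      have := congrArg (fun f : Module.End F (LinearMap.range e) =>
        ((f ⟨c, ⟨c, hc⟩⟩ : LinearMap.range e) : V)) h1
      simpa [LinearMap.coe_restrict_apply] using this
    · exfalso
      have hneg : ∀ c, e c = c → T c = -c := by
        intro c hc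
        have := congrArg (fun f : Module.End F (LinearMap.range e) =>
          ((f ⟨c, ⟨c, hc⟩⟩ : LinearMap.range e) : V)) h1
        simpa [LinearMap.coe_restrict_apply] using this
      obtain ⟨v, hv0, hTv⟩ := hfix
      have h2F : (2 : F) ≠ 0 := by
        intro h
        have h' : ((2 : ℕ) : F) = 0 := by exact_mod_cast h
        have hd := (CharP.cast_eq_zero_iff F p 2).mp h'
        exact hp2 ((Nat.prime_dvd_prime_iff_eq hp.out Nat.prime_two).mp hd)
      have hee : e (e v) = e v := by
        have := LinearMap.congr_fun (avgE_idem S r hSr hrF).eq v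
        rw [Module.End.mul_apply] at this
        exact this
      have hev0 : e v = 0 := by
        have h3 := hneg (e v) hee
        have h4 := hTe 1 v
        rw [pow_one, hTv, h3] at h4
        have : (2 : F) • e v = 0 := by
          rw [two_smul]
          nth_rewrite 1 [← h4]
          exact neg_add_cancel _
        rcases smul_eq_zero.mp this with h | h
        · exact absurd h h2F
        · exact h
      have hTW : ∀ w, e w = 0 → T w = w :=
        fix_all_of_fix_one hq S r hSr hrF _ hord hW2 T hTS v hev0 hv0 hTv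
      have hT2 : T ^ 2 = 1 := by
        ext x
        have hx : x = e x + (x - e x) := by abel
        have hex : e (e x) = e x := by
          have := LinearMap.congr_fun (avgE_idem S r hSr hrF).eq x
          rw [Module.End.mul_apply] at this
          exact this
        rw [pow_two, Module.End.mul_apply, Module.End.one_apply]
        conv_lhs => rw [hx]
        rw [map_add, hneg _ hex, hTW _ (avgE_sub S r hSr hrF x), map_add, map_neg, hneg _ hex,
          hTW _ (avgE_sub S r hSr hrF x)]
        abel
      have := Nat.le_of_dvd (by norm_num) (hTmin 2 hT2)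
      omega
  -- periods
  have hper : ∀ (k : ℕ) (v : V), e v ≠ v → (T ^ k) v = v → m ∣ k := by
    intro k v hv hk
    apply hTmin
    have hw0 : v - e v ≠ 0 := by
      intro h
      apply hv
      rw [sub_eq_zero] at h
      exact h.symm
    have hkw : (T ^ k) (v - e v) = v - e v := by
      rw [map_sub, hTe, hk]
    have hW' : ∀ w, e w = 0 → (T ^ k) w = w :=
      fix_all_of_fix_one hq S r hSr hrF _ hord hW2 (T ^ k) (hTS.pow_left k) (v - e v)
        (avgE_sub S r hSr hrF v) hw0 hkw
    ext x
    have hx : x = e x + (x - e x) := by abel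
    have hex : e (e x) = e x := by
      have := LinearMap.congr_fun (avgE_idem S r hSr hrF).eq x
      rw [Module.End.mul_apply] at this
      exact this
    rw [Module.End.one_apply]
    conv_lhs => rw [hx]
    rw [map_add, pow_apply_fixed T _ (hTCfix _ hex) k, hW' _ (avgE_sub S r hSr hrF x)]
    abel
  -- the permutation
  have hσk : ∀ (k : ℕ) (x : {v : V // Q v = 1}), (((σ ^ k) x : {v : V // Q v = 1}) : V) =
      (T ^ k) (x : V) := by
    intro k
    induction k with
    | zero => intro x; simp
    | succ k ih =>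
      intro x
      rw [pow_succ', pow_succ', Equiv.Perm.mul_apply, hσ, ih, Module.End.mul_apply]
  have hfixiff : ∀ x : {v : V // Q v = 1}, σ x = x ↔ e (x : V) = x := by
    intro x
    constructor
    · intro h
      by_contra hne
      have h1 : (T ^ 1) (x : V) = x := by
        rw [pow_one, ← hσ, h]
      have := Nat.le_of_dvd one_pos (hper 1 _ hne h1)
      omega
    · intro h
      apply Subtype.ext
      rw [hσ]
      exact hTCfix _ h
  obtain ⟨N, hN1, hN2⟩ := sign_of_semiregular σ m
    (by
      intro x _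
      apply Subtype.ext
      rw [hσk, hTm, Module.End.one_apply])
    (by
      intro x k hx hk
      apply hper k (x : V)
      · intro h
        exact hx ((hfixiff x).mpr h)
      · rw [← hσk, hk])
  -- the fixed points
  have hfixcard : (Finset.univ.filter (fun x : {v : V // Q v = 1} => σ x = x)).card =
      Nat.card {c : LinearMap.range e // QC c = 1} := by
    rw [← Fintype.card_subtype, ← Nat.card_eq_fintype_card]
    apply Nat.card_congr
    exact
      { toFun := fun x => ⟨⟨x.1.1, (hmemC' _).mpr ((hfixiff x.1).mp x.2)⟩, x.1.2⟩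
        invFun := fun c => ⟨⟨c.1.1, c.2⟩, (hfixiff _).mpr ((hmemC' _).mp c.1.2)⟩
        left_inv := fun x => rfl
        right_inv := fun c => rfl }
  obtain ⟨d, hd⟩ := card_sphere_three hC3 QC hndC e₁ he₁ hQe₁
  have hd1 := hd 1
  have h2F : (2 : F) ≠ 0 := by
    intro h
    have h' : ((2 : ℕ) : F) = 0 := by exact_mod_cast h
    have hd := (CharP.cast_eq_zero_iff F p 2).mp h'
    exact hp2 ((Nat.prime_dvd_prime_iff_eq hp.out Nat.prime_two).mp hd)
  have hs := card_sq_roots h2F d 1 one_ne_zero
  set s := Nat.card {γ : F // d * γ ^ 2 - 1 = 0} with hsdef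
  rw [hq] at hd1
  have hXcard : Fintype.card {v : V // Q v = 1} = q ^ (2 * n) + q ^ n := by
    rw [← Nat.card_eq_fintype_card]; exact hcount
  rw [hfixcard, hd1, hXcard] at hN1
  have hqn : q ^ n = q * q ^ (n - 1) := by
    rw [← pow_succ']; congr 1; omega
  have hq2n : q ^ (2 * n) = q ^ 2 * (q ^ (n - 1)) ^ 2 := by
    rw [← pow_mul, ← pow_add]; congr 1; omega
  have hNodd : Odd N := by
    apply arith_key46 q (q ^ (n - 1)) N s hqodd hq2 ha (hqodd.pow) hs
    rw [← hq2n, ← hqn]
    exact hN1
  rw [hN2]
  apply Odd.neg_one_pow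
  apply hNodd.mul
  rw [hm]
  have : Odd (q ^ (n - 1)) := hqodd.pow
  obtain ⟨k, hk⟩ := this
  exact ⟨k + 1, by omega⟩

end main

end Cfsg.Agent.Lib.Helper46.Spec
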