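import Mathlib
import Cfsg.Agent.Lib.Helper46.SpecA

set_option autoImplicit false

/-!
# A rotation of an odd-dimensional non-degenerate quadratic space fixes a non-zero vector
-/

namespace Cfsg.Agent.Lib.Helper46.Spec

open Matrix

variable {F : Type*} [Field F] {ι : Type*} [Fintype ι] [DecidableEq ι]

theorem exists_fixed_of_det_one (h2 : (2 : F) ≠ 0) (Q : QuadraticForm F (ι → F))
    (hQ : (QuadraticMap.polarBilin Q).Nondegenerate) (hodd : Odd (Fintype.card ι))
    (M : Matrix ι ι F) (hM : ∀ v, Q (M *ᵥ v) = Q v) (hdet : M.det = 1) :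
    ∃ v : ι → F, v ≠ 0 ∧ M *ᵥ v = v := by
  by_contra hcon
  push Not at hcon
  have hd1 : (M - 1).det ≠ 0 := by
    intro h
    obtain ⟨v, hv0, hv⟩ := Matrix.exists_mulVec_eq_zero_iff.mpr h
    apply hcon v hv0
    rw [Matrix.sub_mulVec, Matrix.one_mulVec, sub_eq_zero] at hv
    exact hv
  set G : Matrix ι ι F := LinearMap.BilinForm.toMatrix' (QuadraticMap.polarBilin Q) with hG
  have hGdet : G.det ≠ 0 := by
    rw [← Matrix.nondegenerate_iff_det_ne_zero, hG,
      LinearMap.BilinForm.nondegenerate_toMatrix'_iff]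
    exact hQ
  have hMG : Mᵀ * G * M = G := by
    have h1 := LinearMap.BilinForm.toMatrix'_comp (QuadraticMap.polarBilin Q)
      (Matrix.toLin' M) (Matrix.toLin' M)
    rw [LinearMap.toMatrix'_toLin'] at h1
    rw [hG, ← h1]
    congr 1
    refine LinearMap.ext₂ (fun x y => ?_)
    show QuadraticMap.polar Q (Matrix.toLin' M x) (Matrix.toLin' M y) = QuadraticMap.polar Q x y
    exact polar_map_map Q (Matrix.toLin' M) (fun v => by rw [Matrix.toLin'_apply]; exact hM v) x y
  have hid : (M - 1)ᵀ * G * M = -(G * (M - 1)) := by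
    rw [Matrix.transpose_sub, Matrix.transpose_one, sub_mul, sub_mul, one_mul, hMG, mul_sub,
      mul_one, neg_sub]
  have hdet2 := congrArg Matrix.det hid
  rw [Matrix.det_mul, Matrix.det_mul, Matrix.det_transpose, hdet, mul_one, Matrix.det_neg,
    Matrix.det_mul, hodd.neg_one_pow] at hdet2
  have : (2 : F) * (G.det * (M - 1).det) = 0 := by linear_combination hdet2
  rcases mul_eq_zero.mp this with h | h
  · exact h2 h
  · rcases mul_eq_zero.mp h with h' | h'
    · exact hGdet h'
    · exact hd1 h'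

end Cfsg.Agent.Lib.Helper46.Spec
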