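import Mathlib
import Cfsg.Agent.Lib.Helper46.SpecAbs
import Cfsg.Agent.Lib.Helper46.SpecFix
import Cfsg.Agent.Lib.Helper08.OmegaStd
import Cfsg.Agent.Lib.Helper43.Dickson
import Cfsg.Agent.Lib.Helper50.SpinorCrit
import Cfsg.Agent.Lib.Helper51.Singer3

set_option autoImplicit false

/-!
# `Ω_{2n+1}(q)`, `q` odd, `n ≥ 3`, has no element of order `p (q^(n-1) + 1)`
-/

namespace Cfsg.Agent.Lib.Helper46.Spec

open Module Matrix

section omega

variable {F : Type*} [Field F] [Fintype F]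

/-- a primitive prime divisor of `q^(2n-2) - 1` divides `q^(n-1) + 1` -/
theorem ppd_dvd_add_one (q n r : ℕ) (hq : 1 ≤ q) (hn : 2 ≤ n) (hr : r.Prime)
    (hdvd : r ∣ q ^ (2 * n - 2) - 1) (hord : orderOf ((q : ℕ) : ZMod r) = 2 * n - 2) :
    r ∣ q ^ (n - 1) + 1 := by
  have ha1 : 1 ≤ q ^ (n - 1) := Nat.one_le_pow _ _ hq
  have h1 : q ^ (2 * n - 2) - 1 = (q ^ (n - 1) + 1) * (q ^ (n - 1) - 1) := by
    have : q ^ (2 * n - 2) = (q ^ (n - 1)) ^ 2 := by
      rw [← pow_mul]; congr 1; omega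
    rw [this]
    have := Nat.sq_sub_sq (q ^ (n - 1)) 1
    rw [one_pow] at this
    exact this
  rw [h1] at hdvd
  rcases (Nat.Prime.dvd_mul hr).mp hdvd with h | h
  · exact h
  · exfalso
    have h2 : (((q ^ (n - 1) - 1 : ℕ)) : ZMod r) = 0 := (ZMod.natCast_eq_zero_iff _ _).mpr h
    rw [Nat.cast_sub ha1, Nat.cast_pow, Nat.cast_one, sub_eq_zero] at h2
    have h3 := orderOf_dvd_of_pow_eq_one h2
    rw [hord] at h3
    have := Nat.le_of_dvd (by omega) h3
    omega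

/-- **No element of order `p (q^(n-1) + 1)` in `Ω_{2n+1}(q)`.** -/
theorem no_order_Omega_odd (p : ℕ) [hp : Fact p.Prime] [CharP F p] (hp2 : p ≠ 2) (n : ℕ)
    (hn : 3 ≤ n) (g : ↥(Cfsg.isometryGroup F (Cfsg.quadFormOdd n F)))
    (hg : g ∈ commutator ↥(Cfsg.isometryGroup F (Cfsg.quadFormOdd n F)))
    (hord : orderOf g = p * (Fintype.card F ^ (n - 1) + 1)) : False := by
  classical
  have h2 : (2 : F) ≠ 0 := by
    intro h
    have h' : ((2 : ℕ) : F) = 0 := by exact_mod_cast h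
    have hd := (CharP.cast_eq_zero_iff F p 2).mp h'
    exact hp2 ((Nat.prime_dvd_prime_iff_eq hp.out Nat.prime_two).mp hd)
  set d := Cfsg.Agent.Lib.Helper08.qdataOdd (F := F) n h2 with hd
  set Q : QuadraticForm F (Unit ⊕ (Fin n ⊕ Fin n) → F) := d.qf with hQ
  have hQcoe : ∀ v, Q v = Cfsg.quadFormOdd n F v := fun v => rfl
  set q := Fintype.card F with hq
  have hq1 : 1 ≤ q := Fintype.card_pos
  let g' : ↥(Cfsg.isometryGroup F ⇑Q) := g
  set A : Module.End F (Unit ⊕ (Fin n ⊕ Fin n) → F) := Cfsg.Agent.Lib.Helper43.linOf Q g' with hA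
  have hApow : ∀ k : ℕ, A ^ k = Cfsg.Agent.Lib.Helper43.linOf Q (g' ^ k) := by
    intro k
    induction k with
    | zero =>
      rw [pow_zero, pow_zero, Cfsg.Agent.Lib.Helper43.linOf_one]
      rfl
    | succ k ih =>
      rw [pow_succ, pow_succ, Cfsg.Agent.Lib.Helper43.linOf_mul, ih]
      rfl
  have hone : Cfsg.Agent.Lib.Helper43.linOf Q (1 : ↥(Cfsg.isometryGroup F ⇑Q)) = 1 := by
    rw [Cfsg.Agent.Lib.Helper43.linOf_one]; rfl
  have hAord : A ^ (p * (q ^ (n - 1) + 1)) = 1 := by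
    rw [hApow, ← hord]
    have : g' ^ orderOf g = 1 := pow_orderOf_eq_one g
    rw [this, hone]
  have hAmin : ∀ k : ℕ, A ^ k = 1 → p * (q ^ (n - 1) + 1) ∣ k := by
    intro k hk
    rw [hApow, ← hone] at hk
    have := Cfsg.Agent.Lib.Helper43.linOf_injective Q hk
    rw [← hord]
    exact orderOf_dvd_of_pow_eq_one this
  -- primitive prime divisor
  obtain ⟨r, hrp, hrdvd, hrord⟩ := Cfsg.Agent.Lib.Helper51.exists_ppd_field (F := F) (2 * n - 2)
    (by omega)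
    (by
      rintro ⟨-, h⟩
      apply h2
      have := FiniteField.cast_card_eq_zero F
      rw [h] at this
      exact_mod_cast this)
    (by rintro ⟨h, -⟩; omega)
  haveI : Fact r.Prime := ⟨hrp⟩
  have hrm : r ∣ q ^ (n - 1) + 1 := ppd_dvd_add_one q n r hq1 (by omega) hrp hrdvd hrord
  -- dimensions and counts
  have hV : finrank F (Unit ⊕ (Fin n ⊕ Fin n) → F) = 2 * n + 1 := by
    rw [Module.finrank_fintype_fun_eq_card, Fintype.card_sum, Fintype.card_sum, Fintype.card_fin,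
      Fintype.card_unit]
    omega
  have hcount : Nat.card {v : Unit ⊕ (Fin n ⊕ Fin n) → F // Q v = 1} = q ^ (2 * n) + q ^ n :=
    card_sphere_odd_one h2 n (by omega)
  have hnd : ∀ x : Unit ⊕ (Fin n ⊕ Fin n) → F, (∀ y, QuadraticMap.polar Q x y = 0) → x = 0 := by
    intro x hx
    exact d.qf_nondeg.1 x hx
  -- the fixed vector
  have hgp : g' ^ p ∈ commutator ↥(Cfsg.isometryGroup F ⇑Q) := Subgroup.pow_mem _ hg p
  set M : Matrix (Unit ⊕ (Fin n ⊕ Fin n)) (Unit ⊕ (Fin n ⊕ Fin n)) F :=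
    (((g' ^ p : ↥(Cfsg.isometryGroup F ⇑Q)) : GL (Unit ⊕ (Fin n ⊕ Fin n)) F) :
      Matrix (Unit ⊕ (Fin n ⊕ Fin n)) (Unit ⊕ (Fin n ⊕ Fin n)) F) with hM
  have hMdet : M.det = 1 := by
    have h1 : Cfsg.Agent.Lib.Helper50.detHom (⇑Q) (g' ^ p) = 1 :=
      Abelianization.commutator_subset_ker _ hgp
    have h3 := Cfsg.Agent.Lib.Helper50.detHom_val (⇑Q) (g' ^ p)
    rw [h1] at h3
    rw [hM, ← h3]
    rfl
  have hApv : ∀ v, (A ^ p) v = M *ᵥ v := by
    intro v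
    rw [hApow, Cfsg.Agent.Lib.Helper43.linOf_apply]
  have hodd : Odd (Fintype.card (Unit ⊕ (Fin n ⊕ Fin n))) := by
    rw [Fintype.card_sum, Fintype.card_sum, Fintype.card_fin, Fintype.card_unit]
    exact ⟨n, by omega⟩
  obtain ⟨v₀, hv₀, hMv₀⟩ := exists_fixed_of_det_one h2 Q d.qf_nondeg hodd M
    (fun v => by rw [← hApv]; exact pow_isometry Q A (Cfsg.Agent.Lib.Helper43.linOf_isometry Q g') p v)
    hMdet
  -- the sign
  have key : ∀ [inst1 : Fintype {v : Unit ⊕ (Fin n ⊕ Fin n) → F // Q v = 1}]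
      [inst2 : DecidableEq {v : Unit ⊕ (Fin n ⊕ Fin n) → F // Q v = 1}],
      @Equiv.Perm.sign _ inst2 inst1 (Cfsg.Agent.Lib.Helper50.spherePerm (⇑Q) 1 (g' ^ p)) = -1 := by
    intro inst1 inst2
    exact sign_sphere_eq_neg_one p hp2 hq.symm Q hnd n hn hV hcount A
      (Cfsg.Agent.Lib.Helper43.linOf_isometry Q g') hAord hAmin r hrm hrord
      ⟨v₀, hv₀, by rw [hApv]; exact hMv₀⟩ _
      (fun v => by rw [hApv]; rfl)
  have h1 : Cfsg.Agent.Lib.Helper50.theta (⇑Q) 1 (g' ^ p) = 1 :=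
    Abelianization.commutator_subset_ker _ hgp
  have h3 : Cfsg.Agent.Lib.Helper50.theta (⇑Q) 1 (g' ^ p) = -1 := key
  rw [h1] at h3
  exact absurd h3 (by decide)

end omega

end Cfsg.Agent.Lib.Helper46.Spec
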