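import Mathlib
import Cfsg.Agent.Lib.Helper53.StOmDefs
import Cfsg.Agent.Lib.Helper90.StOmR0a
import Cfsg.Agent.Lib.Helper45.StOmR0c

/-!
# K-StOm pack (S2549, architect helper53), leaf F3Z (keystone 254910): `rank_one_flip`

`sFlip k * xZ k s t = xZ k s' t' * h * yZ k s' t'` with `s' = -s/φ`, `t' = -t/φ`, `φ = phi a b s t ≠ 0`,
and `h` block diagonal: `e_k ↦ -φ⁻¹ e_k`, `f_k ↦ -φ f_k`, `z_j ↦ z_j - (β_j/φ) (s z_0 + t z_1)`.
-/

set_option autoImplicit false
set_option linter.unusedSectionVars false
set_option linter.unusedVariables false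

namespace Cfsg.Agent.Lib.Helper46.StOm

open Cfsg Cfsg.Agent.Lib.Helper53.StOm Matrix

variable {m : ℕ} {F : Type*} [Field F] {a b : F}

theorem xZMat_mulVec (k : Fin m) (s t : F) (u : MI m → F) :
    xZMat m F a b k s t *ᵥ u = fun x => u x + (if x = zI 0 then s * u (fI k) else 0)
        + (if x = zI 1 then t * u (fI k) else 0)
        - (if x = eI k then phi a b s t * u (fI k) + (2 * s + a * t) * u (zI 0)
            + (a * s + 2 * b * t) * u (zI 1) else 0) := by
  funext x
  unfold xZMat
  simp only [Matrix.add_mulVec, Matrix.sub_mulVec, Matrix.one_mulVec, Matrix.single_mulVec,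
    Pi.add_apply, Pi.sub_apply, Function.update_apply, Pi.zero_apply]
  rcases x with (i | i) | j
  · by_cases h : i = k
    · subst h; simp; ring
    · simp [h]
  · simp
  · fin_cases j <;> simp

theorem yZMat_mulVec (k : Fin m) (s t : F) (u : MI m → F) :
    yZMat m F a b k s t *ᵥ u = fun x => u x + (if x = zI 0 then s * u (eI k) else 0)
        + (if x = zI 1 then t * u (eI k) else 0)
        - (if x = fI k then phi a b s t * u (eI k) + (2 * s + a * t) * u (zI 0)
            + (a * s + 2 * b * t) * u (zI 1) else 0) := by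
  funext x
  unfold yZMat
  simp only [Matrix.add_mulVec, Matrix.sub_mulVec, Matrix.one_mulVec, Matrix.single_mulVec,
    Pi.add_apply, Pi.sub_apply, Function.update_apply, Pi.zero_apply]
  rcases x with (i | i) | j
  · simp
  · by_cases h : i = k
    · subst h; simp; ring
    · simp [h]
  · fin_cases j <;> simp

theorem phi_neg (s t : F) : phi a b (-s) (-t) = phi a b s t := by
  unfold phi; ring

theorem xZMat_mul_neg (k : Fin m) (s t : F) :
    xZMat m F a b k s t * xZMat m F a b k (-s) (-t) = 1 := by
  rw [Matrix.ext_iff_mulVec]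
  intro u
  rw [← Matrix.mulVec_mulVec, Matrix.one_mulVec, xZMat_mulVec, xZMat_mulVec]
  funext x
  rcases x with (i | i) | j
  · by_cases h : i = k
    · subst h; simp [phi]; ring
    · simp [h]
  · simp
  · fin_cases j <;> simp

theorem yZMat_mul_neg (k : Fin m) (s t : F) :
    yZMat m F a b k s t * yZMat m F a b k (-s) (-t) = 1 := by
  rw [Matrix.ext_iff_mulVec]
  intro u
  rw [← Matrix.mulVec_mulVec, Matrix.one_mulVec, yZMat_mulVec, yZMat_mulVec]
  funext x
  rcases x with (i | i) | j
  · simp
  · by_cases h : i = k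
    · subst h; simp [phi]; ring
    · simp [h]
  · fin_cases j <;> simp

theorem xZMat_inv (k : Fin m) (s t : F) :
    (xZMat m F a b k s t)⁻¹ = xZMat m F a b k (-s) (-t) :=
  Matrix.inv_eq_right_inv (xZMat_mul_neg k s t)

theorem yZMat_inv (k : Fin m) (s t : F) :
    (yZMat m F a b k s t)⁻¹ = yZMat m F a b k (-s) (-t) :=
  Matrix.inv_eq_right_inv (yZMat_mul_neg k s t)

variable (a b) in
/-- the matrix of the torus element of leaf F3Z -/
def hMat (k : Fin m) (s t : F) : Matrix (MI m) (MI m) F :=
  1 + Matrix.single (eI k) (eI k) (-(phi a b s t)⁻¹ - 1)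
    + Matrix.single (fI k) (fI k) (-(phi a b s t) - 1)
    + Matrix.single (zI 0) (zI 0) (-((2 * s + a * t) * s / phi a b s t))
    + Matrix.single (zI 1) (zI 0) (-((2 * s + a * t) * t / phi a b s t))
    + Matrix.single (zI 0) (zI 1) (-((a * s + 2 * b * t) * s / phi a b s t))
    + Matrix.single (zI 1) (zI 1) (-((a * s + 2 * b * t) * t / phi a b s t))

theorem hMat_mulVec (k : Fin m) (s t : F) (u : MI m → F) :
    hMat a b k s t *ᵥ u = fun x => u x
      + (if x = eI k then (-(phi a b s t)⁻¹ - 1) * u (eI k) else 0)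
      + (if x = fI k then (-(phi a b s t) - 1) * u (fI k) else 0)
      + (if x = zI 0 then -((2 * s + a * t) * s / phi a b s t) * u (zI 0)
          - ((a * s + 2 * b * t) * s / phi a b s t) * u (zI 1) else 0)
      + (if x = zI 1 then -((2 * s + a * t) * t / phi a b s t) * u (zI 0)
          - ((a * s + 2 * b * t) * t / phi a b s t) * u (zI 1) else 0) := by
  funext x
  unfold hMat
  simp only [Matrix.add_mulVec, Matrix.sub_mulVec, Matrix.one_mulVec, Matrix.single_mulVec,
    Pi.add_apply, Pi.sub_apply, Function.update_apply, Pi.zero_apply]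
  rcases x with (i | i) | j
  · by_cases h : i = k
    · subst h; simp
    · simp [h]
  · by_cases h : i = k
    · subst h; simp
    · simp [h]
  · fin_cases j <;> simp <;> ring

theorem hMat_apply_eq_zero (k : Fin m) (s t : F) (x y : MI m) (hxy : pos m x ≠ pos m y) :
    hMat a b k s t x y = 0 := by
  have hne : x ≠ y := fun h => hxy (by rw [h])
  unfold hMat
  simp only [Matrix.add_apply, Matrix.one_apply_ne hne, Matrix.single_apply, zero_add]
  rcases x with (i | i) | j <;> rcases y with (i' | i') | j' <;> simp_all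

/-- the key matrix identity -/
theorem key_identity (k : Fin m) (s t : F) (hst : phi a b s t ≠ 0) :
    xZMat m F a b k (s / phi a b s t) (t / phi a b s t) * sFlipMat m F k * xZMat m F a b k s t *
      yZMat m F a b k (s / phi a b s t) (t / phi a b s t) = hMat a b k s t := by
  rw [Matrix.ext_iff_mulVec]
  intro u
  simp only [← Matrix.mulVec_mulVec]
  rw [hMat_mulVec, yZMat_mulVec, xZMat_mulVec, sFlipMat, Matrix.permMatrix_mulVec, xZMat_mulVec]
  have hphi : phi a b (s / phi a b s t) (t / phi a b s t) = (phi a b s t)⁻¹ := by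
    unfold phi at hst ⊢
    field_simp
  have hz : ∀ j : Fin 2, Equiv.swap (eI k) (fI k) (zI j : MI m) = zI j :=
    fun j => Equiv.swap_apply_of_ne_of_ne (by simp) (by simp)
  have he : Equiv.swap (eI k) (fI k) (eI k : MI m) = fI k := Equiv.swap_apply_left _ _
  have hf : Equiv.swap (eI k) (fI k) (fI k : MI m) = eI k := Equiv.swap_apply_right _ _
  funext x
  simp only [Function.comp_apply, flipE]
  rcases x with (i | i) | j
  · by_cases h : i = k
    · subst h
      have h1 : Equiv.swap (eI i) (fI i) (Sum.inl (Sum.inl i) : MI m) = fI i :=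
        Equiv.swap_apply_left _ _
      rw [h1]
      simp [hphi, hz, he, hf]
      field_simp
      unfold phi
      ring
    · have h1 : Equiv.swap (eI k) (fI k) (Sum.inl (Sum.inl i) : MI m) = Sum.inl (Sum.inl i) :=
        Equiv.swap_apply_of_ne_of_ne (by simp [h]) (by simp)
      rw [h1]
      simp [h, hz, he, hf]
  · by_cases h : i = k
    · subst h
      have h1 : Equiv.swap (eI i) (fI i) (Sum.inl (Sum.inr i) : MI m) = eI i :=
        Equiv.swap_apply_right _ _
      rw [h1]
      simp [hphi, hz, he, hf]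
      field_simp
      unfold phi
      ring
    · have h1 : Equiv.swap (eI k) (fI k) (Sum.inl (Sum.inr i) : MI m) = Sum.inl (Sum.inr i) :=
        Equiv.swap_apply_of_ne_of_ne (by simp) (by simp [h])
      rw [h1]
      simp [h, hz, he, hf]
  · have h1 : Equiv.swap (eI k) (fI k) (Sum.inr j : MI m) = Sum.inr j :=
      Equiv.swap_apply_of_ne_of_ne (by simp) (by simp)
    rw [h1]
    fin_cases j
    · simp [hphi, hz, he, hf]
      field_simp
      unfold phi
      ring
    · simp [hphi, hz, he, hf]
      field_simp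
      unfold phi
      ring

/-- leaf F3Z with the matrices of `sFlip`, `xZ`, `yZ` (leaves R0a, R0c) as hypotheses -/
theorem rank_one_flip_of
    (hflip : ∀ k : Fin m, mat (sFlip m F a b k) = sFlipMat m F k)
    (hx : ∀ (k : Fin m) (s t : F), mat (xZ m F a b k s t) = xZMat m F a b k s t)
    (hy : ∀ (k : Fin m) (s t : F), mat (yZ m F a b k s t) = yZMat m F a b k s t)
    (k : Fin m) (s t : F) (hst : phi a b s t ≠ 0) :
    ∃ s' t' s'' t'' : F, ∃ h ∈ Tsub m F a b,
      sFlip m F a b k * xZ m F a b k s t = xZ m F a b k s' t' * h * yZ m F a b k s'' t'' := by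
  refine ⟨-(s / phi a b s t), -(t / phi a b s t), -(s / phi a b s t), -(t / phi a b s t),
    (xZ m F a b k (-(s / phi a b s t)) (-(t / phi a b s t)))⁻¹ * sFlip m F a b k * xZ m F a b k s t *
      (yZ m F a b k (-(s / phi a b s t)) (-(t / phi a b s t)))⁻¹, ?_, by group⟩
  rw [mem_Tsub_iff]
  intro x y hxy
  have hmat : mat ((xZ m F a b k (-(s / phi a b s t)) (-(t / phi a b s t)))⁻¹ * sFlip m F a b k *
      xZ m F a b k s t * (yZ m F a b k (-(s / phi a b s t)) (-(t / phi a b s t)))⁻¹)
      = hMat a b k s t := by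
    simp only [mat_mul, mat_inv, hflip, hx, hy, xZMat_inv, yZMat_inv, neg_neg]
    exact key_identity k s t hst
  rw [hmat]
  exact hMat_apply_eq_zero k s t x y hxy

/-- **K-StOm-F3Z** (254910): the rank one identity for `ε_k`, two parameters. -/
theorem rank_one_flip (k : Fin m) (s t : F) (hst : phi a b s t ≠ 0) :
    ∃ s' t' s'' t'' : F, ∃ h ∈ Tsub m F a b,
      sFlip m F a b k * xZ m F a b k s t = xZ m F a b k s' t' * h * yZ m F a b k s'' t'' :=
  rank_one_flip_of (fun k => Cfsg.Agent.Lib.Helper90.StOm.mat_sFlip k)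
    (fun k s t => Cfsg.Agent.Lib.Helper45.StOm.mat_xZ k s t)
    (fun k s t => Cfsg.Agent.Lib.Helper45.StOm.mat_yZ k s t) k s t hst

end Cfsg.Agent.Lib.Helper46.StOm
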