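import Mathlib
import Cfsg.Agent.Lib.Helper53.StOmDefs
import Cfsg.Agent.Lib.Helper90.StOmR0a
import Cfsg.Agent.Lib.Helper45.StOmR0c
import Cfsg.Agent.Lib.Helper46.StOmF3Z

/-!
# K-StOm pack (S2549, architect helper53), leaf F1Z (keystone 254906): `decomp_last`

`g ∈ B ⇒ g = g' * x_{ε_{m-1}}(s,t)` with `g' ∈ B` and `s g' s⁻¹ ∈ B`, `s` the reflection
`e_{m-1} ↔ f_{m-1}` (port of `Lib/Helper85/StOF1Z.lean` to the two-dimensional anisotropic block).
-/

set_option autoImplicit false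
set_option linter.unusedSectionVars false
set_option linter.unusedSimpArgs false
set_option linter.unusedVariables false

namespace Cfsg.Agent.Lib.Helper46.StOm

open Matrix Cfsg Cfsg.Agent.Lib.Helper53.StOm

variable {m : ℕ} {F : Type*} [Field F] {a b : F}

theorem f1z_mulVec4 (M : Matrix (MI m) (MI m) F) (x y z w : MI m) (α β γ δ : F) (c : MI m) :
    (M *ᵥ (Pi.single x α + Pi.single y β + Pi.single z γ + Pi.single w δ)) c =
      M c x * α + M c y * β + M c z * γ + M c w * δ := by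
  simp only [Matrix.mulVec_add, Matrix.mulVec_single, Pi.add_apply, Pi.smul_apply,
    MulOpposite.smul_eq_mul_unop, MulOpposite.unop_op, Matrix.col_apply]

theorem f1z_pos_e (hm : 0 < m) : pos m (eI (lastF hm)) = m - 1 := rfl
theorem f1z_pos_z (j : Fin 2) : pos m (zI j : MI m) = m := rfl
theorem f1z_pos_f (hm : 0 < m) : pos m (fI (lastF hm)) = m + 1 := by
  show 2 * m - (m - 1) = m + 1
  omega

theorem f1z_eq_zI_of_pos (x : MI m) (h : pos m x = m) : ∃ j : Fin 2, x = zI j := by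
  rcases x with (i | i) | j
  · exfalso; have := i.2; simp only [pos] at h; omega
  · exfalso; have := i.2; simp only [pos] at h; omega
  · exact ⟨j, rfl⟩

/-- the fundamental relation for `g ∈ B` on the span of `e_k, z_0, z_1, f_k` (`k` the last index) -/
theorem f1z_rel (hm : 0 < m) (g : OG m F a b) (hg : g ∈ Bsub m F a b) (α β0 β1 γ : F) :
    phi a b
        (mat g (zI 0) (zI 0) * β0 + mat g (zI 0) (zI 1) * β1 + mat g (zI 0) (fI (lastF hm)) * γ)
        (mat g (zI 1) (zI 0) * β0 + mat g (zI 1) (zI 1) * β1 + mat g (zI 1) (fI (lastF hm)) * γ) +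
      (mat g (eI (lastF hm)) (eI (lastF hm)) * α + mat g (eI (lastF hm)) (zI 0) * β0 +
        mat g (eI (lastF hm)) (zI 1) * β1 + mat g (eI (lastF hm)) (fI (lastF hm)) * γ) *
          (mat g (fI (lastF hm)) (fI (lastF hm)) * γ)
      = phi a b β0 β1 + α * γ := by
  have hB := (mem_Bsub_iff g).1 hg
  have h := quad_mulVec g
    (Pi.single (eI (lastF hm)) α + Pi.single (zI 0) β0 + Pi.single (zI 1) β1 +
      Pi.single (fI (lastF hm)) γ)
  unfold Cfsg.quadFormMinus at h
  simp only [f1z_mulVec4] at h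
  have hze : ∀ j : Fin 2, mat g (zI j) (eI (lastF hm)) = 0 := by
    intro j; apply hB; rw [f1z_pos_e, f1z_pos_z]; omega
  have hfe : mat g (fI (lastF hm)) (eI (lastF hm)) = 0 := by
    apply hB; rw [f1z_pos_e, f1z_pos_f]; omega
  have hfz : ∀ j : Fin 2, mat g (fI (lastF hm)) (zI j) = 0 := by
    intro j; apply hB; rw [f1z_pos_z, f1z_pos_f]; omega
  -- the left sum
  have hL : (∑ i : Fin m,
      (mat g (Sum.inl (Sum.inl i)) (eI (lastF hm)) * α + mat g (Sum.inl (Sum.inl i)) (zI 0) * β0 +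
        mat g (Sum.inl (Sum.inl i)) (zI 1) * β1 + mat g (Sum.inl (Sum.inl i)) (fI (lastF hm)) * γ) *
      (mat g (Sum.inl (Sum.inr i)) (eI (lastF hm)) * α + mat g (Sum.inl (Sum.inr i)) (zI 0) * β0 +
        mat g (Sum.inl (Sum.inr i)) (zI 1) * β1 + mat g (Sum.inl (Sum.inr i)) (fI (lastF hm)) * γ))
      = (mat g (eI (lastF hm)) (eI (lastF hm)) * α + mat g (eI (lastF hm)) (zI 0) * β0 +
        mat g (eI (lastF hm)) (zI 1) * β1 + mat g (eI (lastF hm)) (fI (lastF hm)) * γ) *
          (mat g (fI (lastF hm)) (fI (lastF hm)) * γ) := by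
    rw [Finset.sum_eq_single (lastF hm)]
    · show _ * (mat g (fI (lastF hm)) (eI (lastF hm)) * α + mat g (fI (lastF hm)) (zI 0) * β0 +
        mat g (fI (lastF hm)) (zI 1) * β1 + mat g (fI (lastF hm)) (fI (lastF hm)) * γ) = _
      rw [hfe, hfz 0, hfz 1]
      ring
    · intro i _ hi
      have hiv : i.val < m - 1 := by
        have h1 : i.val ≠ m - 1 := fun e => hi (Fin.ext e)
        have := i.2; omega
      have hpf : pos m (fI i) = 2 * m - i.val := rfl
      have h1 : mat g (fI i) (eI (lastF hm)) = 0 := by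
        apply hB; rw [f1z_pos_e, hpf]; omega
      have h2 : ∀ j : Fin 2, mat g (fI i) (zI j) = 0 := by
        intro j; apply hB; rw [f1z_pos_z, hpf]; omega
      have h3 : mat g (fI i) (fI (lastF hm)) = 0 := by
        apply hB; rw [f1z_pos_f, hpf]; omega
      show _ * (mat g (fI i) (eI (lastF hm)) * α + mat g (fI i) (zI 0) * β0 +
        mat g (fI i) (zI 1) * β1 + mat g (fI i) (fI (lastF hm)) * γ) = 0
      rw [h1, h2 0, h2 1, h3]; ring
    · intro h'; exact absurd (Finset.mem_univ _) h'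
  -- the right sum
  have hve : ∀ i : Fin m, (Pi.single (eI (lastF hm)) α + Pi.single (zI 0) β0 + Pi.single (zI 1) β1 +
      Pi.single (fI (lastF hm)) γ : MI m → F) (Sum.inl (Sum.inl i)) = if i = lastF hm then α else 0 := by
    intro i
    simp only [Pi.add_apply, Pi.single_apply]
    by_cases hi : i = lastF hm
    · subst hi; simp
    · simp [hi]
  have hvf : ∀ i : Fin m, (Pi.single (eI (lastF hm)) α + Pi.single (zI 0) β0 + Pi.single (zI 1) β1 +
      Pi.single (fI (lastF hm)) γ : MI m → F) (Sum.inl (Sum.inr i)) = if i = lastF hm then γ else 0 := by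
    intro i
    simp only [Pi.add_apply, Pi.single_apply]
    by_cases hi : i = lastF hm
    · subst hi; simp
    · simp [hi]
  have hv0 : (Pi.single (eI (lastF hm)) α + Pi.single (zI 0) β0 + Pi.single (zI 1) β1 +
      Pi.single (fI (lastF hm)) γ : MI m → F) (Sum.inr 0) = β0 := by
    simp [Pi.single_apply]
  have hv1 : (Pi.single (eI (lastF hm)) α + Pi.single (zI 0) β0 + Pi.single (zI 1) β1 +
      Pi.single (fI (lastF hm)) γ : MI m → F) (Sum.inr 1) = β1 := by
    simp [Pi.single_apply]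
  have hR : (∑ i : Fin m, (if i = lastF hm then α else 0) * (if i = lastF hm then γ else 0))
      = α * γ := by
    rw [Finset.sum_eq_single (lastF hm)]
    · simp
    · intro i _ hi; simp [hi]
    · intro h'; exact absurd (Finset.mem_univ _) h'
  simp only [hve, hvf, hv0, hv1] at h
  rw [hL, hR] at h
  have hz0 : mat g (Sum.inr 0) (eI (lastF hm)) = 0 := hze 0
  have hz1 : mat g (Sum.inr 1) (eI (lastF hm)) = 0 := hze 1
  rw [hz0, hz1] at h
  unfold phi
  linear_combination h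

/-- the root elements `x_{ε_k}(s,t)` lie in `B` -/
theorem f1z_xZ_mem (k : Fin m) (s t : F) : xZ m F a b k s t ∈ Bsub m F a b := by
  rw [mem_Bsub_iff]
  intro x y hxy
  rw [Cfsg.Agent.Lib.Helper45.StOm.mat_xZ]
  unfold xZMat
  have hk := k.2
  have h1 : x ≠ y := by intro h; rw [h] at hxy; exact lt_irrefl _ hxy
  have hpe : pos m (eI k) = k.val := rfl
  have hpf : pos m (fI k) = 2 * m - k.val := rfl
  have h2 : ∀ j : Fin 2, ¬ ((zI j : MI m) = x ∧ fI k = y) := by
    rintro j ⟨rfl, rfl⟩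
    rw [hpf, f1z_pos_z] at hxy; omega
  have h3 : ∀ j : Fin 2, ¬ (eI k = x ∧ (zI j : MI m) = y) := by
    rintro j ⟨rfl, rfl⟩
    rw [hpe, f1z_pos_z] at hxy; omega
  have h4 : ¬ (eI k = x ∧ fI k = y) := by
    rintro ⟨rfl, rfl⟩
    rw [hpe, hpf] at hxy; omega
  simp only [Matrix.sub_apply, Matrix.add_apply, Matrix.one_apply_ne h1,
    Matrix.single_apply_of_ne _ _ _ _ _ (h2 0), Matrix.single_apply_of_ne _ _ _ _ _ (h2 1),
    Matrix.single_apply_of_ne _ _ _ _ _ (h3 0), Matrix.single_apply_of_ne _ _ _ _ _ (h3 1),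
    Matrix.single_apply_of_ne _ _ _ _ _ h4]
  ring

theorem f1z_xZ_inv (k : Fin m) (s t : F) : xZ m F a b k (-s) (-t) * xZ m F a b k s t = 1 := by
  apply mat_injective
  rw [mat_mul, Cfsg.Agent.Lib.Helper45.StOm.mat_xZ, Cfsg.Agent.Lib.Helper45.StOm.mat_xZ, mat_one]
  have h := xZMat_mul_neg (a := a) (b := b) k (-s) (-t)
  rwa [neg_neg, neg_neg] at h

theorem f1z_sFlip_mul_self (k : Fin m) : sFlip m F a b k * sFlip m F a b k = 1 := by
  apply mat_injective
  rw [mat_mul, Cfsg.Agent.Lib.Helper90.StOm.mat_sFlip, mat_one]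
  unfold sFlipMat flipE
  rw [← Matrix.permMatrix_mul, Equiv.swap_mul_self, Matrix.permMatrix_one]

theorem f1z_sFlip_inv (k : Fin m) : (sFlip m F a b k)⁻¹ = sFlip m F a b k :=
  inv_eq_of_mul_eq_one_right (f1z_sFlip_mul_self k)

theorem f1z_conj_apply (k : Fin m) (g : OG m F a b) (x y : MI m) :
    mat (sFlip m F a b k * g * sFlip m F a b k) x y =
      mat g (Equiv.swap (eI k) (fI k) x) (Equiv.swap (eI k) (fI k) y) := by
  rw [mat_mul, mat_mul, Cfsg.Agent.Lib.Helper90.StOm.mat_sFlip]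
  unfold sFlipMat flipE Equiv.Perm.permMatrix
  rw [PEquiv.toMatrix_toPEquiv_mul, PEquiv.mul_toMatrix_toPEquiv, Equiv.symm_swap]
  rfl

theorem f1z_swap_cases (k : Fin m) (x : MI m) :
    (Equiv.swap (eI k) (fI k) x = x ∧ x ≠ eI k ∧ x ≠ fI k) ∨
      (x = eI k ∧ Equiv.swap (eI k) (fI k) x = fI k) ∨
      (x = fI k ∧ Equiv.swap (eI k) (fI k) x = eI k) := by
  by_cases h1 : x = eI k
  · right; left; subst h1; exact ⟨rfl, Equiv.swap_apply_left _ _⟩
  · by_cases h2 : x = fI k
    · right; right; subst h2; exact ⟨rfl, Equiv.swap_apply_right _ _⟩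
    · left
      exact ⟨Equiv.swap_apply_of_ne_of_ne h1 h2, h1, h2⟩

/-- the entry `(x, f_k)` of `g * xZ k (-s) (-t)` for `x` with `g x e_k = 0` -/
theorem f1z_mul_xZ_apply_f (k : Fin m) (g : OG m F a b) (s t : F) (x : MI m)
    (hx : mat g x (eI k) = 0) :
    mat (g * xZ m F a b k (-s) (-t)) x (fI k) =
      mat g x (fI k) - mat g x (zI 0) * s - mat g x (zI 1) * t := by
  rw [mat_mul, Cfsg.Agent.Lib.Helper45.StOm.mat_xZ, Matrix.mul_apply]
  have hcol : ∀ y : MI m, xZMat m F a b k (-s) (-t) y (fI k) =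
      (if y = fI k then 1 else 0) + (if y = zI 0 then -s else 0) + (if y = zI 1 then -t else 0)
        - (if y = eI k then phi a b (-s) (-t) else 0) := by
    intro y
    unfold xZMat
    simp only [Matrix.sub_apply, Matrix.add_apply, Matrix.one_apply, Matrix.single_apply]
    rcases y with (i | i) | j
    · by_cases h : i = k
      · subst h; simp
      · simp [h, Ne.symm h]
    · by_cases h : i = k
      · subst h; simp
      · simp [h, Ne.symm h]
    · fin_cases j <;> simp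
  simp only [hcol, mul_sub, mul_add, mul_ite, mul_one, mul_zero, mul_neg, Finset.sum_sub_distrib,
    Finset.sum_add_distrib, Finset.sum_ite_eq', Finset.mem_univ, if_true]
  rw [hx]
  ring

/-- **K-StOm-F1Z** (254906) -/
theorem decomp_last (hab : ∀ z₁ z₂ : F, z₁ ^ 2 + a * z₁ * z₂ + b * z₂ ^ 2 = 0 → z₁ = 0 ∧ z₂ = 0)
    (hm : 0 < m) (g : OG m F a b) (hg : g ∈ Bsub m F a b) :
    ∃ g' ∈ Bsub m F a b, ∃ s t : F, g = g' * xZ m F a b (lastF hm) s t ∧
      sFlip m F a b (lastF hm) * g' * (sFlip m F a b (lastF hm))⁻¹ ∈ Bsub m F a b := by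
  have hBg := (mem_Bsub_iff g).1 hg
  -- the `z`-block of `g` is injective
  have hinj : ∀ β0 β1 : F, mat g (zI 0) (zI 0) * β0 + mat g (zI 0) (zI 1) * β1 = 0 →
      mat g (zI 1) (zI 0) * β0 + mat g (zI 1) (zI 1) * β1 = 0 → β0 = 0 ∧ β1 = 0 := by
    intro β0 β1 h0 h1
    have h := f1z_rel hm g hg 0 β0 β1 0
    simp only [mul_zero, add_zero, zero_mul] at h
    rw [h0, h1] at h
    apply hab
    unfold phi at h
    linear_combination -h
  -- hence its determinant does not vanish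
  have hdet : mat g (zI 0) (zI 0) * mat g (zI 1) (zI 1) - mat g (zI 0) (zI 1) * mat g (zI 1) (zI 0) ≠ 0 := by
    intro hd
    obtain ⟨hq0, hp0⟩ := hinj (mat g (zI 0) (zI 1)) (-mat g (zI 0) (zI 0)) (by ring)
      (by linear_combination -hd)
    obtain ⟨hw0, hr0⟩ := hinj (mat g (zI 1) (zI 1)) (-mat g (zI 1) (zI 0))
      (by linear_combination hd) (by ring)
    have hp0' : mat g (zI 0) (zI 0) = 0 := by simpa using hp0
    have hr0' : mat g (zI 1) (zI 0) = 0 := by simpa using hr0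
    have h1 := hinj 1 0 (by rw [hp0', hq0]; ring) (by rw [hr0', hw0]; ring)
    exact one_ne_zero h1.1
  obtain ⟨s, hs⟩ : ∃ s : F, s = (mat g (zI 0) (fI (lastF hm)) * mat g (zI 1) (zI 1)
      - mat g (zI 0) (zI 1) * mat g (zI 1) (fI (lastF hm))) /
      (mat g (zI 0) (zI 0) * mat g (zI 1) (zI 1) - mat g (zI 0) (zI 1) * mat g (zI 1) (zI 0)) :=
    ⟨_, rfl⟩
  obtain ⟨t, ht⟩ : ∃ t : F, t = (mat g (zI 0) (zI 0) * mat g (zI 1) (fI (lastF hm))
      - mat g (zI 1) (zI 0) * mat g (zI 0) (fI (lastF hm))) /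
      (mat g (zI 0) (zI 0) * mat g (zI 1) (zI 1) - mat g (zI 0) (zI 1) * mat g (zI 1) (zI 0)) :=
    ⟨_, rfl⟩
  have e1 : s * (mat g (zI 0) (zI 0) * mat g (zI 1) (zI 1) - mat g (zI 0) (zI 1) * mat g (zI 1) (zI 0))
      = mat g (zI 0) (fI (lastF hm)) * mat g (zI 1) (zI 1)
        - mat g (zI 0) (zI 1) * mat g (zI 1) (fI (lastF hm)) := by
    rw [hs, div_mul_cancel₀ _ hdet]
  have e2 : t * (mat g (zI 0) (zI 0) * mat g (zI 1) (zI 1) - mat g (zI 0) (zI 1) * mat g (zI 1) (zI 0))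
      = mat g (zI 0) (zI 0) * mat g (zI 1) (fI (lastF hm))
        - mat g (zI 1) (zI 0) * mat g (zI 0) (fI (lastF hm)) := by
    rw [ht, div_mul_cancel₀ _ hdet]
  have hs0 : mat g (zI 0) (zI 0) * s + mat g (zI 0) (zI 1) * t = mat g (zI 0) (fI (lastF hm)) := by
    have h0 : (mat g (zI 0) (zI 0) * s + mat g (zI 0) (zI 1) * t - mat g (zI 0) (fI (lastF hm))) *
        (mat g (zI 0) (zI 0) * mat g (zI 1) (zI 1) - mat g (zI 0) (zI 1) * mat g (zI 1) (zI 0)) = 0 := by
      linear_combination mat g (zI 0) (zI 0) * e1 + mat g (zI 0) (zI 1) * e2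
    rcases mul_eq_zero.1 h0 with h | h
    · exact sub_eq_zero.1 h
    · exact absurd h hdet
  have hs1 : mat g (zI 1) (zI 0) * s + mat g (zI 1) (zI 1) * t = mat g (zI 1) (fI (lastF hm)) := by
    have h0 : (mat g (zI 1) (zI 0) * s + mat g (zI 1) (zI 1) * t - mat g (zI 1) (fI (lastF hm))) *
        (mat g (zI 0) (zI 0) * mat g (zI 1) (zI 1) - mat g (zI 0) (zI 1) * mat g (zI 1) (zI 0)) = 0 := by
      linear_combination mat g (zI 1) (zI 0) * e1 + mat g (zI 1) (zI 1) * e2
    rcases mul_eq_zero.1 h0 with h | h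
    · exact sub_eq_zero.1 h
    · exact absurd h hdet
  have hg'B : g * xZ m F a b (lastF hm) (-s) (-t) ∈ Bsub m F a b :=
    (Bsub m F a b).mul_mem hg (f1z_xZ_mem _ _ _)
  obtain ⟨g', hg'def⟩ : ∃ g' : OG m F a b, g' = g * xZ m F a b (lastF hm) (-s) (-t) := ⟨_, rfl⟩
  rw [← hg'def] at hg'B
  have hB := (mem_Bsub_iff g').1 hg'B
  have hze : ∀ j : Fin 2, mat g (zI j) (eI (lastF hm)) = 0 := by
    intro j; apply hBg; rw [f1z_pos_e, f1z_pos_z]; omega
  -- the entries `(z_j, f_k)` of `g'` vanish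
  have hzf0 : mat g' (zI 0) (fI (lastF hm)) = 0 := by
    rw [hg'def, f1z_mul_xZ_apply_f _ _ _ _ _ (hze 0)]
    linear_combination -hs0
  have hzf1 : mat g' (zI 1) (fI (lastF hm)) = 0 := by
    rw [hg'def, f1z_mul_xZ_apply_f _ _ _ _ _ (hze 1)]
    linear_combination -hs1
  -- relations for `g'`
  have r1 := f1z_rel hm g' hg'B 0 0 0 1
  have r2 := f1z_rel hm g' hg'B 1 0 0 1
  have r3 := f1z_rel hm g' hg'B 0 1 0 0
  have r4 := f1z_rel hm g' hg'B 0 1 0 1
  have r5 := f1z_rel hm g' hg'B 0 0 1 0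
  have r6 := f1z_rel hm g' hg'B 0 0 1 1
  rw [hzf0, hzf1] at r1 r2 r4 r6
  simp only [mul_zero, mul_one, zero_mul, add_zero, zero_add] at r1 r2 r3 r4 r5 r6
  have hphi0 : phi a b 0 0 = 0 := by unfold phi; ring
  rw [hphi0] at r1 r2
  simp only [zero_add] at r1 r2
  -- `g'(f_k,f_k) ≠ 0`
  have hff : mat g' (fI (lastF hm)) (fI (lastF hm)) ≠ 0 := by
    intro h0
    rw [h0, mul_zero] at r2
    exact zero_ne_one r2
  have hef : mat g' (eI (lastF hm)) (fI (lastF hm)) = 0 := by
    rcases mul_eq_zero.1 r1 with h | h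
    · exact h
    · exact absurd h hff
  have hez0 : mat g' (eI (lastF hm)) (zI 0) = 0 := by
    rw [hef, add_zero, r3] at r4
    have h5 : mat g' (eI (lastF hm)) (zI 0) * mat g' (fI (lastF hm)) (fI (lastF hm)) = 0 := by
      linear_combination r4
    rcases mul_eq_zero.1 h5 with h | h
    · exact h
    · exact absurd h hff
  have hez1 : mat g' (eI (lastF hm)) (zI 1) = 0 := by
    rw [hef, add_zero, r5] at r6
    have h5 : mat g' (eI (lastF hm)) (zI 1) * mat g' (fI (lastF hm)) (fI (lastF hm)) = 0 := by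
      linear_combination r6
    rcases mul_eq_zero.1 h5 with h | h
    · exact h
    · exact absurd h hff
  have hzf : ∀ j : Fin 2, mat g' (zI j) (fI (lastF hm)) = 0 := by
    intro j; fin_cases j
    · exact hzf0
    · exact hzf1
  have hez : ∀ j : Fin 2, mat g' (eI (lastF hm)) (zI j) = 0 := by
    intro j; fin_cases j
    · exact hez0
    · exact hez1
  refine ⟨g', hg'B, s, t, ?_, ?_⟩
  · rw [hg'def, mul_assoc, f1z_xZ_inv, mul_one]
  · rw [f1z_sFlip_inv, mem_Bsub_iff]
    intro x y hxy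
    rw [f1z_conj_apply]
    by_cases hlt : pos m (Equiv.swap (eI (lastF hm)) (fI (lastF hm)) y) <
        pos m (Equiv.swap (eI (lastF hm)) (fI (lastF hm)) x)
    · exact hB _ _ hlt
    · have pe := f1z_pos_e (m := m) hm
      have pf := f1z_pos_f (m := m) hm
      rcases f1z_swap_cases (lastF hm) x with ⟨hx1, hx2, hx3⟩ | ⟨hx1, hx2⟩ | ⟨hx1, hx2⟩ <;>
        rcases f1z_swap_cases (lastF hm) y with ⟨hy1, hy2, hy3⟩ | ⟨hy1, hy2⟩ | ⟨hy1, hy2⟩
      · rw [hx1, hy1] at hlt; exact absurd hxy hlt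
      · -- `y = e_k`, `x` fixed: `x` is a `z`
        rw [hx1, hy2, pf] at hlt
        rw [hy1, pe] at hxy
        have hpx : pos m x ≠ m + 1 := by
          intro e
          rcases pos_eq_imp m x (fI (lastF hm)) (e.trans pf.symm) with h | ⟨_, h⟩
          · exact hx3 h
          · rw [pf] at h; omega
        obtain ⟨j, hj⟩ := f1z_eq_zI_of_pos x (by omega)
        rw [hx1, hy2, hj]; exact hzf j
      · -- `y = f_k`, `x` fixed: impossible
        rw [hx1, hy2, pe] at hlt
        rw [hy1, pf] at hxy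
        omega
      · -- `x = e_k`, `y` fixed: impossible
        rw [hx2, hy1, pf] at hlt
        rw [hx1, pe] at hxy
        omega
      · rw [hx1, hy1] at hxy; exact absurd hxy (lt_irrefl _)
      · -- `x = e_k`, `y = f_k`: impossible
        rw [hx1, hy1, pe, pf] at hxy; omega
      · -- `x = f_k`, `y` fixed: `y` is a `z`
        rw [hx2, hy1, pe] at hlt
        rw [hx1, pf] at hxy
        have hpy : pos m y ≠ m - 1 := by
          intro e
          rcases pos_eq_imp m y (eI (lastF hm)) (e.trans pe.symm) with h | ⟨_, h⟩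
          · exact hy2 h
          · rw [pe] at h; omega
        obtain ⟨j, hj⟩ := f1z_eq_zI_of_pos y (by omega)
        rw [hx2, hy1, hj]; exact hez j
      · -- `x = f_k`, `y = e_k`
        rw [hx2, hy2]; exact hef
      · rw [hx1, hy1] at hxy; exact absurd hxy (lt_irrefl _)

end Cfsg.Agent.Lib.Helper46.StOm
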