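import Cfsg.Agent.Lib.Helper46.MatEmb
import Cfsg.Agent.Lib.Helper46.SylowGLNum

set_option autoImplicit false

namespace Cfsg.Agent.Lib.Helper46

open Matrix

section

variable {F : Type*} [Field F] [Fintype F]

/-- The block diagonal embedding of a power of `GL_d` into `GL_{d × k}`. -/
def blockDiagGL (d k : ℕ) :
    (Fin k → Matrix.GeneralLinearGroup (Fin d) F) →* Matrix.GeneralLinearGroup (Fin d × Fin k) F :=
  (Units.map (Matrix.blockDiagonalRingHom (Fin d) (Fin k) F).toMonoidHom).comp
    (MulEquiv.piUnits (M := fun _ : Fin k => Matrix (Fin d) (Fin d) F)).symm.toMonoidHom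

theorem blockDiagGL_injective (d k : ℕ) : Function.Injective (blockDiagGL (F := F) d k) := by
  intro x y hxy
  have h1 : (MulEquiv.piUnits (M := fun _ : Fin k => Matrix (Fin d) (Fin d) F)).symm x
      = (MulEquiv.piUnits (M := fun _ : Fin k => Matrix (Fin d) (Fin d) F)).symm y := by
    apply Units.ext
    have h2 := congrArg Units.val hxy
    exact Matrix.blockDiagonal_injective h2
  exact (MulEquiv.piUnits (M := fun _ : Fin k => Matrix (Fin d) (Fin d) F)).symm.injective h1

/-- A homocyclic subgroup of `GL_n(q)` coming from the multiplicative group of the extension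
of degree `d`. -/
theorem exists_homocyclic_subgroup_GL (n d a r : ℕ) (hd : 0 < d) (hr : 0 < r)
    (hra : r ^ a ∣ Fintype.card F ^ d - 1) :
    ∃ H : Subgroup (Matrix.GeneralLinearGroup (Fin n) F),
      Nonempty (↥H ≃* (Fin (n / d) → Multiplicative (ZMod (r ^ a)))) := by
  obtain ⟨p, hp⟩ := CharP.exists F
  have hpp : p.Prime := CharP.char_is_prime F p
  haveI : Fact p.Prime := ⟨hpp⟩
  haveI : NeZero d := ⟨hd.ne'⟩
  let K := FiniteField.Extension F p d
  have hcardK : Nat.card K = Fintype.card F ^ d := by
    rw [FiniteField.natCard_extension, Nat.card_eq_fintype_card]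
  have hcardU : Nat.card Kˣ = Fintype.card F ^ d - 1 := by
    rw [Nat.card_units, hcardK]
  -- the cyclic subgroup of order r^a
  let C : Subgroup Kˣ := (powMonoidHom (r ^ a) : Kˣ →* Kˣ).ker
  have hcardC : Nat.card C = r ^ a := by
    rw [IsCyclic.card_powMonoidHom_ker, hcardU]
    exact Nat.gcd_eq_right hra
  have hrapos : 0 < r ^ a := pow_pos hr a
  haveI : NeZero (r ^ a) := ⟨hrapos.ne'⟩
  have hcardZ : Nat.card (Multiplicative (ZMod (r ^ a))) = r ^ a := by
    rw [Nat.card_congr Multiplicative.toAdd, Nat.card_zmod]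
  let eC : C ≃* Multiplicative (ZMod (r ^ a)) := mulEquivOfCyclicCardEq (hcardC.trans hcardZ.symm)
  -- the regular representation
  let b : Module.Basis (Fin d) F K :=
    Module.finBasisOfFinrankEq F K (FiniteField.finrank_extension F p d)
  let lam : K →* Matrix (Fin d) (Fin d) F := (Algebra.leftMulMatrix b : K →ₐ[F] _).toMonoidHom
  have hlam : Function.Injective lam := Algebra.leftMulMatrix_injective b
  let φ₁ : Kˣ →* Matrix.GeneralLinearGroup (Fin d) F := Units.map lam
  have hφ₁ : Function.Injective φ₁ := Units.map_injective hlam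
  let φ₀ : C →* Matrix.GeneralLinearGroup (Fin d) F := φ₁.comp C.subtype
  have hφ₀ : Function.Injective φ₀ := hφ₁.comp Subtype.val_injective
  let k := n / d
  have hle : d * k ≤ n := Nat.mul_div_le n d
  let e : (Fin d × Fin k) ⊕ Fin (n - d * k) ≃ Fin n :=
    (Equiv.sumCongr finProdFinEquiv (Equiv.refl _)).trans
      (finSumFinEquiv.trans (finCongr (by omega)))
  let Φ : (Fin k → C) →* Matrix.GeneralLinearGroup (Fin n) F :=
    (blockGL e).comp ((blockDiagGL d k).comp (φ₀.compLeft (Fin k)))
  have hΦ : Function.Injective Φ := by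
    intro x y hxy
    have h1 := blockDiagGL_injective d k (blockGL_injective e hxy)
    funext i
    exact hφ₀ (congrFun h1 i)
  refine ⟨Φ.range, ⟨?_⟩⟩
  exact (MonoidHom.ofInjective hΦ).symm.trans (MulEquiv.piCongrRight fun _ => eC)

end

end Cfsg.Agent.Lib.Helper46
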