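import Cfsg.Agent.Lib.Helper46.SylowGLTorus
import Cfsg.Agent.Lib.Helper07.SLCard

set_option autoImplicit false

namespace Cfsg.Agent.Lib.Helper46

open Matrix

section

variable {F : Type*} [Field F]

/-- The diagonal vector `(c₁, …, c_m, (c₁ ⋯ c_m)⁻¹)`. -/
def diagVec (m : ℕ) (c : Fin m → Fˣ) : Fin (m + 1) → F :=
  Fin.snoc (α := fun _ => F) (fun i => ((c i : Fˣ) : F)) ((∏ i, ((c i : Fˣ) : F))⁻¹)

theorem diagVec_castSucc (m : ℕ) (c : Fin m → Fˣ) (i : Fin m) :
    diagVec m c (Fin.castSucc i) = ((c i : Fˣ) : F) := by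
  simp [diagVec]

theorem diagVec_last (m : ℕ) (c : Fin m → Fˣ) :
    diagVec m c (Fin.last m) = (∏ i, ((c i : Fˣ) : F))⁻¹ := by
  simp [diagVec]

theorem diagVec_mul (m : ℕ) (c c' : Fin m → Fˣ) :
    diagVec m (c * c') = diagVec m c * diagVec m c' := by
  funext j
  refine Fin.lastCases ?_ (fun i => ?_) j
  · rw [Pi.mul_apply, diagVec_last, diagVec_last, diagVec_last]
    simp [Finset.prod_mul_distrib, mul_comm]
  · rw [Pi.mul_apply, diagVec_castSucc, diagVec_castSucc, diagVec_castSucc]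
    simp

theorem prod_diagVec (m : ℕ) (c : Fin m → Fˣ) : ∏ j, diagVec m c j = 1 := by
  rw [Fin.prod_univ_castSucc]
  simp only [diagVec_castSucc, diagVec_last]
  apply mul_inv_cancel₀
  exact Finset.prod_ne_zero_iff.2 (fun i _ => (c i).ne_zero)

/-- The diagonal torus of `SL_{m+1}`, as a function. -/
def diagSLFun (m : ℕ) (c : Fin m → Fˣ) : Matrix.SpecialLinearGroup (Fin (m + 1)) F :=
  ⟨Matrix.diagonal (diagVec m c), by rw [Matrix.det_diagonal, prod_diagVec]⟩

theorem diagSLFun_val (m : ℕ) (c : Fin m → Fˣ) :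
    ((diagSLFun m c : Matrix.SpecialLinearGroup (Fin (m + 1)) F) :
      Matrix (Fin (m + 1)) (Fin (m + 1)) F) = Matrix.diagonal (diagVec m c) := rfl

/-- The diagonal torus of `SL_{m+1}`. -/
def diagSL (m : ℕ) : (Fin m → Fˣ) →* Matrix.SpecialLinearGroup (Fin (m + 1)) F :=
  MonoidHom.mk' (diagSLFun m) (by
    intro c c'
    apply Subtype.ext
    rw [Matrix.SpecialLinearGroup.coe_mul, diagSLFun_val, diagSLFun_val, diagSLFun_val,
      Matrix.diagonal_mul_diagonal, diagVec_mul]
    rfl)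

theorem diagSL_injective (m : ℕ) : Function.Injective (diagSL (F := F) m) := by
  intro c c' h
  have h1 : ((diagSLFun m c : Matrix.SpecialLinearGroup (Fin (m + 1)) F) :
      Matrix (Fin (m + 1)) (Fin (m + 1)) F) = (diagSLFun m c' :
      Matrix.SpecialLinearGroup (Fin (m + 1)) F) := congrArg Subtype.val h
  rw [diagSLFun_val, diagSLFun_val] at h1
  have h2 := Matrix.diagonal_injective h1
  funext i
  apply Units.ext
  have h3 := congrFun h2 (Fin.castSucc i)
  rwa [diagVec_castSucc, diagVec_castSucc] at h3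

end

section

variable {F : Type*} [Field F] [Fintype F]

/-- The diagonal homocyclic subgroup of `SL_{m+1}(q)` when `r^a ∣ q - 1`. -/
theorem exists_homocyclic_subgroup_SL_diag (m a r : ℕ) (hr : 0 < r)
    (hra : r ^ a ∣ Fintype.card F - 1) :
    ∃ H : Subgroup (Matrix.SpecialLinearGroup (Fin (m + 1)) F),
      Nonempty (↥H ≃* (Fin m → Multiplicative (ZMod (r ^ a)))) := by
  have hcardU : Nat.card Fˣ = Fintype.card F - 1 := by
    rw [Nat.card_units, Nat.card_eq_fintype_card]
  let C : Subgroup Fˣ := (powMonoidHom (r ^ a) : Fˣ →* Fˣ).ker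
  have hcardC : Nat.card C = r ^ a := by
    rw [IsCyclic.card_powMonoidHom_ker, hcardU]
    exact Nat.gcd_eq_right hra
  have hrapos : 0 < r ^ a := pow_pos hr a
  haveI : NeZero (r ^ a) := ⟨hrapos.ne'⟩
  have hcardZ : Nat.card (Multiplicative (ZMod (r ^ a))) = r ^ a := by
    rw [Nat.card_congr Multiplicative.toAdd, Nat.card_zmod]
  let eC : C ≃* Multiplicative (ZMod (r ^ a)) := mulEquivOfCyclicCardEq (hcardC.trans hcardZ.symm)
  let Φ : (Fin m → C) →* Matrix.SpecialLinearGroup (Fin (m + 1)) F :=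
    (diagSL m).comp (C.subtype.compLeft (Fin m))
  have hΦ : Function.Injective Φ := by
    intro x y hxy
    have h1 := diagSL_injective m hxy
    funext i
    exact Subtype.val_injective (congrFun h1 i)
  refine ⟨Φ.range, ⟨?_⟩⟩
  exact (MonoidHom.ofInjective hΦ).symm.trans (MulEquiv.piCongrRight fun _ => eC)

/-- The homocyclic subgroup of `GL_n(q)` lies in `SL_n(q)` when `r ∤ q - 1`. -/
theorem exists_homocyclic_subgroup_SL_of_coprime (n d a r : ℕ) (hd : 0 < d) (hrp : r.Prime)
    (hra : r ^ a ∣ Fintype.card F ^ d - 1) (hr1 : ¬ r ∣ Fintype.card F - 1) :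
    ∃ H : Subgroup (Matrix.SpecialLinearGroup (Fin n) F),
      Nonempty (↥H ≃* (Fin (n / d) → Multiplicative (ZMod (r ^ a)))) := by
  obtain ⟨H, ⟨eH⟩⟩ := exists_homocyclic_subgroup_GL (F := F) n d a r hd hrp.pos hra
  have hrapos : 0 < r ^ a := pow_pos hrp.pos a
  haveI : NeZero (r ^ a) := ⟨hrapos.ne'⟩
  have hcardH : Nat.card H = r ^ (a * (n / d)) := by
    rw [Nat.card_congr eH.toEquiv, Nat.card_fun, Nat.card_congr Multiplicative.toAdd,
      Nat.card_zmod, Nat.card_eq_fintype_card, Fintype.card_fin, ← pow_mul]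
  have hcardU : Nat.card Fˣ = Fintype.card F - 1 := by
    rw [Nat.card_units, Nat.card_eq_fintype_card]
  have hdet : ∀ h ∈ H, Matrix.GeneralLinearGroup.det h = 1 := by
    intro h hh
    have h0 : (⟨h, hh⟩ : H) ^ (r ^ (a * (n / d))) = 1 := by
      rw [← hcardH]; exact pow_card_eq_one'
    have h0' : h ^ (r ^ (a * (n / d))) = 1 := by
      have := congrArg Subtype.val h0
      simpa using this
    have h1 : (Matrix.GeneralLinearGroup.det h) ^ (r ^ (a * (n / d))) = 1 := by
      rw [← map_pow, h0', map_one]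
    have h2 : (Matrix.GeneralLinearGroup.det h) ^ (Fintype.card F - 1) = 1 := by
      rw [← hcardU]; exact pow_card_eq_one'
    have hcop : Nat.Coprime (r ^ (a * (n / d))) (Fintype.card F - 1) :=
      Nat.Coprime.pow_left _ ((Nat.Prime.coprime_iff_not_dvd hrp).2 hr1)
    have h3 := pow_gcd_eq_one.2 ⟨h1, h2⟩
    rw [Nat.Coprime.gcd_eq_one hcop, pow_one] at h3
    exact h3
  have hle : H ≤ (Matrix.SpecialLinearGroup.toGL :
      Matrix.SpecialLinearGroup (Fin n) F →* Matrix.GeneralLinearGroup (Fin n) F).range := by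
    rw [Cfsg.Agent.Lib.Helper07.range_toGL_eq_ker_det]
    intro h hh
    exact MonoidHom.mem_ker.2 (hdet h hh)
  have hmap : (H.comap (Matrix.SpecialLinearGroup.toGL :
      Matrix.SpecialLinearGroup (Fin n) F →* Matrix.GeneralLinearGroup (Fin n) F)).map
      Matrix.SpecialLinearGroup.toGL = H := by
    rw [Subgroup.map_comap_eq]
    exact inf_eq_right.2 hle
  refine ⟨H.comap Matrix.SpecialLinearGroup.toGL, ⟨?_⟩⟩
  exact ((Subgroup.equivMapOfInjective _ _ Matrix.SpecialLinearGroup.toGL_injective).trans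
    (MulEquiv.subgroupCongr hmap)).trans eH

/-- Counting multiples of `d` in `[2, n]`. -/
theorem card_filter_dvd_Icc_two (n d : ℕ) (hd : 0 < d) :
    ((Finset.Icc 2 n).filter (fun i => d ∣ i)).card = if d = 1 then n - 1 else n / d := by
  split_ifs with h
  · subst h
    simp
  · rw [← Nat.Ioc_filter_dvd_card_eq_div]
    congr 1
    ext i
    simp only [Finset.mem_filter, Finset.mem_Icc, Finset.mem_Ioc]
    constructor
    · rintro ⟨⟨h1, h2⟩, h3⟩
      exact ⟨⟨by omega, h2⟩, h3⟩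
    · rintro ⟨⟨h1, h2⟩, h3⟩
      have := Nat.le_of_dvd h1 h3
      exact ⟨⟨by omega, h2⟩, h3⟩

end

end Cfsg.Agent.Lib.Helper46
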