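import Cfsg.Agent.Lib.Helper46.SympTorus
import Cfsg.Agent.Lib.Helper46.SylowGLTorus
import Cfsg.Agent.Lib.Helper46.ClassicalEmb

set_option autoImplicit false

namespace Cfsg.Agent.Lib.Helper46

open Finset

section num

variable {q r : ℕ} [Fact r.Prime]

/-- `d ∣ 2i` iff the order of `q²` divides `i`. -/
theorem orderOf_dvd_two_mul_iff (hq : 0 < q) (i : ℕ) :
    orderOf (q : ZMod r) ∣ 2 * i ↔ orderOf ((q ^ 2 : ℕ) : ZMod r) ∣ i := by
  rw [← dvd_pow_sub_one_iff hq, ← dvd_pow_sub_one_iff (pow_pos hq 2), pow_mul]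

theorem orderOf_sq_dvd (hq : 0 < q) :
    orderOf ((q ^ 2 : ℕ) : ZMod r) ∣ orderOf (q : ZMod r) := by
  rw [← orderOf_dvd_two_mul_iff hq]
  exact Dvd.intro_left 2 rfl

theorem orderOf_dvd_two_mul_sq (hq : 0 < q) :
    orderOf (q : ZMod r) ∣ 2 * orderOf ((q ^ 2 : ℕ) : ZMod r) := by
  rw [orderOf_dvd_two_mul_iff hq]

/-- Either `D = d`, or `d = 2D`. -/
theorem orderOf_sq_cases (hq : 0 < q) (hrq : ¬ r ∣ q) :
    orderOf ((q ^ 2 : ℕ) : ZMod r) = orderOf (q : ZMod r) ∨
      orderOf (q : ZMod r) = 2 * orderOf ((q ^ 2 : ℕ) : ZMod r) := by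
  have hdpos := orderOf_zmod_pos (r := r) hrq
  obtain ⟨s, hs⟩ := orderOf_sq_dvd (r := r) hq
  obtain ⟨t, ht⟩ := orderOf_dvd_two_mul_sq (r := r) hq
  set d := orderOf (q : ZMod r)
  set D := orderOf ((q ^ 2 : ℕ) : ZMod r)
  have hDpos : 0 < D := by
    rcases Nat.eq_zero_or_pos D with h | h
    · rw [h, zero_mul] at hs; omega
    · exact h
  -- d = D * s, 2 * D = d * t
  have h1 : 2 * D = D * (s * t) := by rw [ht, hs]; ring
  have h2 : s * t = 2 := by
    have := Nat.eq_of_mul_eq_mul_left hDpos (by rw [← h1]; ring : D * (s * t) = D * 2)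
    exact this
  have hs2 : s ∣ 2 := Dvd.intro _ h2
  have hs' : s = 1 ∨ s = 2 := by
    have := Nat.le_of_dvd (by norm_num) hs2
    interval_cases s
    · simp at h2
    · left; rfl
    · right; rfl
  rcases hs' with h | h
  · left; rw [hs, h, mul_one]
  · right; rw [hs, h, mul_comm]

theorem count_dvd_two_mul (hq : 0 < q) (n : ℕ) :
    ((Finset.Icc 1 n).filter (fun i => orderOf (q : ZMod r) ∣ 2 * i)).card
      = n / orderOf ((q ^ 2 : ℕ) : ZMod r) := by
  rw [← Nat.Ioc_filter_dvd_card_eq_div]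
  congr 1
  ext i
  simp only [Finset.mem_filter, Finset.mem_Icc, Finset.mem_Ioc, orderOf_dvd_two_mul_iff hq]
  constructor
  · rintro ⟨⟨h1, h2⟩, h3⟩
    exact ⟨⟨by omega, h2⟩, h3⟩
  · rintro ⟨⟨h1, h2⟩, h3⟩
    exact ⟨⟨by omega, h2⟩, h3⟩

theorem padicVal_sq_pow_sub_one (hr2 : r ≠ 2) (hq2 : 2 ≤ q) (hrq : ¬ r ∣ q) :
    padicValNat r ((q ^ 2) ^ orderOf ((q ^ 2 : ℕ) : ZMod r) - 1)
      = padicValNat r (q ^ orderOf (q : ZMod r) - 1) := by
  have hr : r.Prime := Fact.out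
  have hr3 : 2 < r := lt_of_le_of_ne hr.two_le (Ne.symm hr2)
  have hdpos := orderOf_zmod_pos (r := r) hrq
  have hdvd : r ∣ q ^ orderOf (q : ZMod r) - 1 := (dvd_pow_sub_one_iff (by omega) _).2 dvd_rfl
  rcases orderOf_sq_cases (r := r) (by omega : 0 < q) hrq with h | h
  · rw [h, ← pow_mul, mul_comm, pow_mul]
    exact padicVal_pow_sub_one (q ^ orderOf (q : ZMod r)) 2
      (le_trans hq2 (Nat.le_self_pow hdpos.ne' q)) hdvd (by norm_num) hr3
  · rw [← pow_mul, ← h]

theorem padicVal_card_sp (hr2 : r ≠ 2) (hq2 : 2 ≤ q) (hrq : ¬ r ∣ q) (n : ℕ) (hn : n < r) :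
    padicValNat r (q ^ (n ^ 2) * ∏ i ∈ Finset.range n, (q ^ (2 * (i + 1)) - 1))
      = padicValNat r (q ^ orderOf (q : ZMod r) - 1) * (n / orderOf ((q ^ 2 : ℕ) : ZMod r)) := by
  have hr : r.Prime := Fact.out
  have hq0 : 0 < q := by omega
  have hne : ∀ j, q ^ (2 * (j + 1)) - 1 ≠ 0 := by
    intro j
    have : 2 ≤ q ^ (2 * (j + 1)) := le_trans hq2 (Nat.le_self_pow (by omega) q)
    omega
  have hprodne : ∏ i ∈ Finset.range n, (q ^ (2 * (i + 1)) - 1) ≠ 0 :=
    Finset.prod_ne_zero_iff.2 (fun j _ => hne j)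
  have hrq2 : ¬ r ∣ q ^ 2 := fun h => hrq (hr.dvd_of_dvd_pow h)
  have hq22 : 2 ≤ q ^ 2 := le_trans hq2 (Nat.le_self_pow (by norm_num) q)
  have hrqn : ¬ r ∣ q ^ (n ^ 2) := fun h => hrq (hr.dvd_of_dvd_pow h)
  rw [padicValNat.mul (pow_pos hq0 _).ne' hprodne,
    padicValNat.eq_zero_of_not_dvd hrqn, zero_add]
  have h1 : ∏ i ∈ Finset.range n, (q ^ (2 * (i + 1)) - 1)
      = ∏ i ∈ Finset.range n, ((q ^ 2) ^ (i + 1) - 1) := by
    apply Finset.prod_congr rfl
    intro i _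
    rw [pow_mul]
  rw [h1, padicVal_prod_pow_sub_one hq22 hrq2 n hn, padicVal_sq_pow_sub_one hr2 hq2 hrq]

end num

section grp

variable {F : Type*} [Field F] [Fintype F]

/-- A homocyclic subgroup of `Sp_{2n}(q)` of the order of a Sylow `r`-subgroup. -/
theorem exists_homocyclic_subgroup_Sp (n r : ℕ) [Fact r.Prime]
    (hrq : ¬ r ∣ Fintype.card F) :
    ∃ H : Subgroup ↥(Matrix.symplecticGroup (Fin n) F),
      Nonempty (↥H ≃* (Fin (n / orderOf ((Fintype.card F ^ 2 : ℕ) : ZMod r)) →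
        Multiplicative (ZMod (r ^ padicValNat r
          (Fintype.card F ^ orderOf ((Fintype.card F : ℕ) : ZMod r) - 1))))) := by
  have hr : r.Prime := Fact.out
  have hq2 : 2 ≤ Fintype.card F := Fintype.one_lt_card
  have hq0 : 0 < Fintype.card F := by omega
  have hdpos := orderOf_zmod_pos (r := r) hrq
  set d := orderOf ((Fintype.card F : ℕ) : ZMod r) with hd
  set D := orderOf ((Fintype.card F ^ 2 : ℕ) : ZMod r) with hD
  set a := padicValNat r (Fintype.card F ^ d - 1) with ha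
  have hra : r ^ a ∣ Fintype.card F ^ d - 1 := pow_padicValNat_dvd
  have hrapos : 0 < r ^ a := pow_pos hr.pos a
  haveI : NeZero (r ^ a) := ⟨hrapos.ne'⟩
  rcases orderOf_sq_cases (r := r) hq0 hrq with h | h
  · -- `D = d`: use the general linear group
    rw [← hD, ← hd] at h
    rw [h]
    obtain ⟨H₀, ⟨eH₀⟩⟩ := exists_homocyclic_subgroup_GL (F := F) n d a r hdpos hr.pos hra
    obtain ⟨Ψ, hΨ⟩ := exists_hom_Sp (F := F) (m := n) H₀.subtype Subtype.val_injective
    exact ⟨Ψ.range, ⟨(MonoidHom.ofInjective hΨ).symm.trans eH₀⟩⟩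
  · -- `d = 2D`: use the unitary torus
    rw [← hD, ← hd] at h
    have hDpos : 0 < D := by omega
    obtain ⟨p, hp⟩ := CharP.exists F
    have hpp : p.Prime := CharP.char_is_prime F p
    haveI : Fact p.Prime := ⟨hpp⟩
    haveI : NeZero (2 * D) := ⟨by omega⟩
    let K := FiniteField.Extension F p (2 * D)
    letI : Fintype K := Fintype.ofFinite K
    have hfin : Module.finrank F K = 2 * D := FiniteField.finrank_extension F p (2 * D)
    have hcardK : Nat.card K = Fintype.card F ^ (2 * D) := by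
      rw [FiniteField.natCard_extension, Nat.card_eq_fintype_card]
    have hcardU : Nat.card Kˣ = Fintype.card F ^ d - 1 := by
      rw [Nat.card_units, hcardK, h]
    -- `r^a ∣ q^D + 1`
    have h1le : 1 ≤ Fintype.card F ^ D := Nat.one_le_pow _ _ hq0
    have hfac : Fintype.card F ^ d - 1 = (Fintype.card F ^ D - 1) * (Fintype.card F ^ D + 1) := by
      rw [h, two_mul, pow_add]
      obtain ⟨y, hy⟩ := Nat.exists_eq_add_of_le h1le
      rw [hy]
      have : (1 + y) * (1 + y) = y * (1 + y + 1) + 1 := by ring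
      rw [this]
      simp
    have hnd : ¬ r ∣ Fintype.card F ^ D - 1 := by
      rw [dvd_pow_sub_one_iff hq0]
      intro hdvd
      have := Nat.le_of_dvd hDpos hdvd
      omega
    have hra' : r ^ a ∣ Fintype.card F ^ D + 1 := by
      have hcop : Nat.Coprime (r ^ a) (Fintype.card F ^ D - 1) :=
        Nat.Coprime.pow_left _ ((Nat.Prime.coprime_iff_not_dvd hr).2 hnd)
      rw [hfac] at hra
      exact hcop.dvd_of_dvd_mul_left hra
    let C : Subgroup Kˣ := (powMonoidHom (r ^ a) : Kˣ →* Kˣ).ker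
    have hcardC : Nat.card C = r ^ a := by
      rw [IsCyclic.card_powMonoidHom_ker, hcardU]
      exact Nat.gcd_eq_right hra
    have hcardZ : Nat.card (Multiplicative (ZMod (r ^ a))) = r ^ a := by
      rw [Nat.card_congr Multiplicative.toAdd, Nat.card_zmod]
    let eC : C ≃* Multiplicative (ZMod (r ^ a)) :=
      mulEquivOfCyclicCardEq (hcardC.trans hcardZ.symm)
    have hC : ∀ u ∈ C, ((u : Kˣ) : K) ^ (Fintype.card F ^ D + 1) = 1 := by
      intro u hu
      have h2 : u ^ (r ^ a) = 1 := hu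
      obtain ⟨s, hs⟩ := hra'
      rw [← Units.val_pow_eq_pow_val, hs, pow_mul, h2, one_pow, Units.val_one]
    obtain ⟨φ, hφ⟩ := exists_hom_Sp_of_torus (F := F) (K := K) D hDpos hfin n (n / D)
      (Nat.mul_div_le n D) C hC
    exact ⟨φ.range, ⟨(MonoidHom.ofInjective hφ).symm.trans (MulEquiv.piCongrRight fun _ => eC)⟩⟩

end grp

end Cfsg.Agent.Lib.Helper46
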