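import Mathlib

set_option autoImplicit false

namespace Cfsg.Agent.Lib.Helper46

open Polynomial

section traceChar

variable {F : Type*} [Field F] [Fintype F]

/-- The absolute trace of a finite field of characteristic two, as an additive map. -/
noncomputable def trTwo (n : ℕ) [CharP F 2] : F →+ F where
  toFun x := ∑ i ∈ Finset.range n, x ^ (2 ^ i)
  map_zero' := by
    apply Finset.sum_eq_zero
    intro i _
    exact zero_pow (by positivity)
  map_add' x y := by
    rw [← Finset.sum_add_distrib]
    apply Finset.sum_congr rfl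
    intro i _
    exact add_pow_char_pow x y 2 i

omit [Fintype F] in
theorem trTwo_apply (n : ℕ) [CharP F 2] (x : F) :
    trTwo n x = ∑ i ∈ Finset.range n, x ^ (2 ^ i) := rfl

theorem trTwo_sq (n : ℕ) [CharP F 2] (hF : Fintype.card F = 2 ^ n) (x : F) :
    trTwo n (x ^ 2) = trTwo n x := by
  rw [trTwo_apply, trTwo_apply]
  have h1 : ∀ i, (x ^ 2) ^ (2 ^ i) = x ^ (2 ^ (i + 1)) := by
    intro i
    rw [← pow_mul, pow_succ, mul_comm]
  simp_rw [h1]
  have key := (Finset.sum_range_succ' (fun i => x ^ (2 ^ i)) n).symm.trans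
    (Finset.sum_range_succ (fun i => x ^ (2 ^ i)) n)
  have hn : x ^ (2 ^ n) = x := by rw [← hF, FiniteField.pow_card]
  simp only [pow_zero, pow_one, hn] at key
  exact add_right_cancel key

theorem trTwo_mul_self (n : ℕ) [CharP F 2] (hF : Fintype.card F = 2 ^ n) (x : F) :
    trTwo n x * trTwo n x = trTwo n x := by
  have h1 : trTwo n x * trTwo n x = trTwo n (x ^ 2) := by
    rw [← pow_two, ← frobenius_def (R := F) 2, trTwo_apply, trTwo_apply, map_sum]
    apply Finset.sum_congr rfl
    intro i _
    rw [frobenius_def, ← pow_mul, ← pow_mul, mul_comm]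
  rw [h1, trTwo_sq n hF]

/-- The trace is not identically zero. -/
theorem exists_trTwo_eq_one (n : ℕ) (hn : 1 ≤ n) [CharP F 2] (hF : Fintype.card F = 2 ^ n) :
    ∃ x : F, trTwo n x = 1 := by
  classical
  let P : F[X] := ∑ i ∈ Finset.range n, (X : F[X]) ^ (2 ^ i)
  have hdeg : P.natDegree ≤ 2 ^ (n - 1) := by
    apply Polynomial.natDegree_sum_le_of_forall_le
    intro i hi
    rw [Polynomial.natDegree_X_pow]
    apply Nat.pow_le_pow_right (by norm_num)
    have := Finset.mem_range.1 hi
    omega
  have hP0 : P ≠ 0 := by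
    intro h
    have hc : P.coeff 1 = 1 := by
      simp only [P, Polynomial.finsetSum_coeff, Polynomial.coeff_X_pow]
      rw [Finset.sum_eq_single 0]
      · simp
      · intro i _ hi
        have : 1 < 2 ^ i := Nat.one_lt_two_pow hi
        rw [if_neg (by omega)]
      · intro h0
        exact absurd (Finset.mem_range.2 (by omega)) h0
    rw [h, Polynomial.coeff_zero] at hc
    exact zero_ne_one hc
  have hlt : P.natDegree < Fintype.card F := by
    rw [hF]
    have : 2 ^ (n - 1) < 2 ^ n := Nat.pow_lt_pow_right (by norm_num) (by omega)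
    omega
  obtain ⟨t, ht⟩ := Polynomial.exists_eval_ne_zero_of_natDegree_lt_card P hP0 (by
    rw [Cardinal.mk_fintype]
    exact_mod_cast hlt)
  refine ⟨t, ?_⟩
  have hev : P.eval t = trTwo n t := by
    simp only [P, Polynomial.eval_finsetSum, Polynomial.eval_pow, Polynomial.eval_X, trTwo_apply]
  rw [hev] at ht
  have hid := trTwo_mul_self n hF t
  have : trTwo n t * (trTwo n t - 1) = 0 := by linear_combination hid
  rcases mul_eq_zero.1 this with h | h
  · exact absurd h ht
  · exact sub_eq_zero.1 h

/-- A primitive additive character of a finite field of characteristic two invariant under the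
Frobenius map. -/
theorem exists_frobenius_invariant_char (n : ℕ) (hn : 1 ≤ n) [CharP F 2]
    (hF : Fintype.card F = 2 ^ n) :
    ∃ ψ : AddChar F ℂ, ψ.IsPrimitive ∧ ∀ x : F, ψ (x ^ 2) = ψ x := by
  obtain ⟨ψ₁, hψ₁⟩ := (AddChar.exists_apply_ne_zero (α := F) (a := 1)).2 one_ne_zero
  refine ⟨ψ₁.compAddMonoidHom (trTwo n), ?_, ?_⟩
  · apply AddChar.IsPrimitive.of_ne_one
    intro h
    obtain ⟨x, hx⟩ := exists_trTwo_eq_one n hn hF
    have := DFunLike.congr_fun h x
    rw [AddChar.compAddMonoidHom_apply, hx, AddChar.one_apply] at this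
    exact hψ₁ this
  · intro x
    rw [AddChar.compAddMonoidHom_apply, AddChar.compAddMonoidHom_apply, trTwo_sq n hF]

omit [Fintype F] in
theorem char_pow_two_pow {ψ : AddChar F ℂ} (hψ : ∀ x : F, ψ (x ^ 2) = ψ x) (j : ℕ) (x : F) :
    ψ (x ^ (2 ^ j)) = ψ x := by
  induction j with
  | zero => simp
  | succ j ih => rw [pow_succ, pow_mul, hψ, ih]

end traceChar

end Cfsg.Agent.Lib.Helper46
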