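/-
K-UTi pack (S5953), leaf A1 (595311): arithmetic of `i = ord_r(q)`, `b = ord_r(q^2)`,
`c = ord_r(-q)`.
-/
import Mathlib

set_option autoImplicit false
set_option linter.unusedSectionVars false
set_option linter.unusedVariables false

namespace Cfsg.Agent.Lib.Helper46.UTi

section arith

variable (r : ℕ) [Fact r.Prime]

theorem zmod_neg_one_ne_one (hr2 : r ≠ 2) : (-1 : ZMod r) ≠ 1 := by
  have hr : r.Prime := Fact.out
  intro h
  have h2 : ((2 : ℕ) : ZMod r) = 0 := by
    have h1 : (1 : ZMod r) + 1 = 0 := by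
      nth_rewrite 1 [← h]
      ring
    rw [Nat.cast_ofNat, ← one_add_one_eq_two]
    exact h1
  have := (ZMod.natCast_eq_zero_iff 2 r).mp h2
  exact hr2 ((Nat.prime_dvd_prime_iff_eq hr Nat.prime_two).mp this)

theorem zmod_sq_eq_one {x : ZMod r} (h : x ^ 2 = 1) : x = 1 ∨ x = -1 := by
  have h1 : (x - 1) * (x + 1) = 0 := by
    have : (x - 1) * (x + 1) = x ^ 2 - 1 := by ring
    rw [this, h, sub_self]
  rcases mul_eq_zero.mp h1 with h2 | h2
  · left
    exact sub_eq_zero.mp h2
  · right
    exact eq_neg_of_add_eq_zero_left h2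

theorem orderOf_natCast_pos (q : ℕ) (hrq : ¬ r ∣ q) : 1 ≤ orderOf (q : ZMod r) := by
  have hr : r.Prime := Fact.out
  apply orderOf_pos_iff.mpr
  apply isOfFinOrder_iff_pow_eq_one.mpr
  refine ⟨r - 1, by have := hr.two_le; omega, ?_⟩
  apply ZMod.pow_card_sub_one_eq_one
  intro h0
  exact hrq ((ZMod.natCast_eq_zero_iff q r).mp h0)

/-- the key equivalence: `(-q)^k = 1` in `ZMod r` iff `c ∣ k` -/
theorem neg_pow_eq_one_iff (hr2 : r ≠ 2) (q : ℕ) (hrq : ¬ r ∣ q) (i c : ℕ)
    (hi : i = orderOf (q : ZMod r))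
    (hc : c = if i % 4 = 0 then i else if i % 4 = 2 then i / 2 else 2 * i) (k : ℕ) :
    (-(q : ZMod r)) ^ k = 1 ↔ c ∣ k := by
  have hr : r.Prime := Fact.out
  set x : ZMod r := (q : ZMod r) with hx
  have hneg := zmod_neg_one_ne_one r hr2
  have hxi : ∀ k, x ^ k = 1 ↔ i ∣ k := fun k => by
    rw [hi]
    exact orderOf_dvd_iff_pow_eq_one.symm
  have hi1 : 1 ≤ i := by
    rw [hi]
    exact orderOf_natCast_pos r q hrq
  -- `(-x)^k = 1` implies `i ∣ 2k`
  have h2k : (-x) ^ k = 1 → i ∣ 2 * k := by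
    intro h
    rw [← hxi, mul_comm, pow_mul]
    have : x ^ k = (-1) ^ k * (-x) ^ k := by
      rw [← mul_pow]
      simp
    rw [this, h, mul_one, ← pow_mul, mul_comm, pow_mul]
    simp
  have hcop : ∀ a : ℕ, Odd a → ∀ t : ℕ, a ∣ 2 * t → a ∣ t := fun a ha t h =>
    (Nat.Coprime.dvd_mul_left (Nat.coprime_two_left.mpr ha).symm).mp h
  rcases Nat.even_or_odd k with hk | hk
  · -- `k` even: `(-x)^k = x^k`
    have hpow : (-x) ^ k = x ^ k := hk.neg_pow x
    rw [hpow, hxi]
    obtain ⟨k', rfl⟩ := hk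
    rw [← two_mul]
    split_ifs at hc with h0 h2
    · rw [hc]
    · rw [hc]
      set h := i / 2 with hh
      have hi2 : i = 2 * h := by omega
      have hodd : Odd h := by
        rw [Nat.odd_iff]
        omega
      constructor
      · intro hd
        exact dvd_trans ⟨2, by rw [hi2]; ring⟩ hd
      · intro hd
        obtain ⟨e', he'⟩ := hcop h hodd k' hd
        exact ⟨e', by rw [hi2, he']; ring⟩
    · rw [hc]
      have hiodd : Odd i := by
        rw [Nat.odd_iff]
        omega
      constructor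
      · intro hd
        obtain ⟨e', he'⟩ := hcop i hiodd k' hd
        exact ⟨e', by rw [he']; ring⟩
      · intro hd
        exact dvd_trans (dvd_mul_left i 2) hd
  · -- `k` odd: `(-x)^k = -x^k`
    have hpow : (-x) ^ k = -x ^ k := hk.neg_pow x
    obtain ⟨k', rfl⟩ := hk
    split_ifs at hc with h0 h2
    · -- `4 ∣ i`: impossible on both sides
      rw [hc]
      obtain ⟨j, hj⟩ : ∃ j, i = 4 * j := ⟨i / 4, by omega⟩
      constructor
      · intro hd
        obtain ⟨e, he⟩ := h2k hd
        have h5 : i * e = 4 * (j * e) := by rw [hj]; ring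
        omega
      · intro hd
        obtain ⟨e, he⟩ := hd
        have h5 : i * e = 4 * (j * e) := by rw [hj]; ring
        omega
    · -- `i = 2 h`, `h` odd, `x^h = -1`
      rw [hc]
      set h := i / 2 with hh
      have hi2 : i = 2 * h := by omega
      have hodd : Odd h := by
        rw [Nat.odd_iff]
        omega
      have hxh : x ^ h = -1 := by
        have h3 : (x ^ h) ^ 2 = 1 := by
          rw [← pow_mul, mul_comm, ← hi2, hxi]
        rcases zmod_sq_eq_one r h3 with h4 | h4
        · rw [hxi] at h4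
          have := Nat.le_of_dvd (by omega) h4
          omega
        · exact h4
      constructor
      · intro hd
        obtain ⟨e, he⟩ := h2k hd
        apply hcop h hodd
        exact ⟨2 * e, by rw [he, hi2]; ring⟩
      · intro hd
        obtain ⟨e, he⟩ := hd
        have heodd : Odd e := by
          by_contra hne
          rw [Nat.not_odd_iff_even] at hne
          obtain ⟨e', rfl⟩ := hne
          have h5 : h * (e' + e') = 2 * (h * e') := by ring
          omega
        rw [hpow, he, pow_mul, hxh, heodd.neg_one_pow, neg_neg]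
    · -- `i` odd
      rw [hc]
      have hiodd : Odd i := by
        rw [Nat.odd_iff]
        omega
      constructor
      · intro hd
        exfalso
        have h3 : i ∣ 2 * k' + 1 := hcop i hiodd _ (h2k hd)
        rw [hpow, (hxi _).mpr h3] at hd
        exact hneg hd
      · intro hd
        obtain ⟨e, he⟩ := hd
        have h5 : 2 * i * e = 2 * (i * e) := by ring
        omega

/-- **K-UTi-A1 (595311)** -/
theorem dvd_iff_c_dvd (hr2 : r ≠ 2) (q : ℕ) (hrq : ¬ r ∣ q) (i c : ℕ)
    (hi : i = orderOf (q : ZMod r))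
    (hc : c = if i % 4 = 0 then i else if i % 4 = 2 then i / 2 else 2 * i) (e : ℕ) :
    (r : ℤ) ∣ (q : ℤ) ^ e - (-1) ^ e ↔ c ∣ e := by
  rw [← neg_pow_eq_one_iff r hr2 q hrq i c hi hc e, ← ZMod.intCast_zmod_eq_zero_iff_dvd]
  push_cast
  rw [neg_pow (q : ZMod r) e, sub_eq_zero]
  constructor
  · intro h
    rw [h, ← mul_pow]
    simp
  · intro h
    have : (q : ZMod r) ^ e = (-1) ^ e * ((-1) ^ e * (q : ZMod r) ^ e) := by
      rw [← mul_assoc, ← mul_pow]
      simp
    rw [this, h, mul_one]

theorem b_eq_orderOf (q : ℕ) (hrq : ¬ r ∣ q) (i b : ℕ)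
    (hi : i = orderOf (q : ZMod r)) (hb : b = if Even i then i / 2 else i) :
    b = orderOf ((q ^ 2 : ℕ) : ZMod r) := by
  have hi1 := orderOf_natCast_pos r q hrq
  rw [Nat.cast_pow, orderOf_pow' _ (by norm_num : (2 : ℕ) ≠ 0), ← hi, hb]
  split_ifs with he
  · have : Nat.gcd i 2 = 2 := by
      obtain ⟨j, rfl⟩ := he
      rw [← two_mul]
      exact Nat.gcd_mul_right_left j 2
    rw [this]
  · have : Nat.gcd i 2 = 1 := by
      rw [Nat.not_even_iff_odd] at he
      exact Nat.Coprime.symm (Nat.coprime_two_left.mpr he)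
    rw [this, Nat.div_one]

theorem c_eq (hr2 : r ≠ 2) (q : ℕ) (hrq : ¬ r ∣ q) (i b c : ℕ)
    (hi : i = orderOf (q : ZMod r)) (hb : b = if Even i then i / 2 else i)
    (hc : c = if i % 4 = 0 then i else if i % 4 = 2 then i / 2 else 2 * i) :
    1 ≤ b ∧ b ∣ r - 1 ∧ (i % 4 = 2 → c = b ∧ Odd b) ∧ (i % 4 ≠ 2 → c = 2 * b) ∧
      (i = 2 ↔ r ∣ q + 1) := by
  have hr : r.Prime := Fact.out
  have hi1 : 1 ≤ i := by
    rw [hi]
    exact orderOf_natCast_pos r q hrq
  have hx0 : (q : ZMod r) ≠ 0 := fun h0 => hrq ((ZMod.natCast_eq_zero_iff q r).mp h0)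
  have hir : i ∣ r - 1 := by
    rw [hi]
    exact ZMod.orderOf_dvd_card_sub_one hx0
  have hbi : b ∣ i := by
    rw [hb]
    split_ifs with he
    · exact Nat.div_dvd_of_dvd (even_iff_two_dvd.mp he)
    · exact dvd_rfl
  have hb1 : 1 ≤ b := by
    rw [hb]
    split_ifs with he
    · obtain ⟨j, hj⟩ := he
      omega
    · exact hi1
  refine ⟨hb1, dvd_trans hbi hir, ?_, ?_, ?_⟩
  · intro h4
    have he : Even i := by
      rw [Nat.even_iff]
      omega
    rw [hc, hb, if_neg (by omega), if_pos h4, if_pos he]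
    refine ⟨rfl, ?_⟩
    rw [Nat.odd_iff]
    omega
  · intro h4
    rw [hc, hb]
    by_cases h0 : i % 4 = 0
    · have he : Even i := by
        rw [Nat.even_iff]
        omega
      rw [if_pos h0, if_pos he]
      omega
    · have he : ¬ Even i := by
        rw [Nat.even_iff]
        omega
      rw [if_neg h0, if_neg h4, if_neg he]
  · have hneg := zmod_neg_one_ne_one r hr2
    have hq1 : r ∣ q + 1 ↔ (q : ZMod r) = -1 := by
      rw [← ZMod.natCast_eq_zero_iff, Nat.cast_add, Nat.cast_one]
      exact ⟨fun h => eq_neg_of_add_eq_zero_left h, fun h => by rw [h]; ring⟩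
    rw [hq1]
    constructor
    · intro h2
      have h3 : (q : ZMod r) ^ 2 = 1 := by
        rw [← h2, hi]
        exact pow_orderOf_eq_one _
      rcases zmod_sq_eq_one r h3 with h4 | h4
      · have : orderOf (q : ZMod r) = 1 := by
          rw [h4]
          exact orderOf_one
        omega
      · exact h4
    · intro h
      rw [hi, h]
      exact orderOf_eq_prime (by simp) hneg

end arith

end Cfsg.Agent.Lib.Helper46.UTi
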