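/-
K-UTi pack (S5953): hub, layer 1 (base toolkit B1-B6 + arithmetic A2), re-exported under the
single namespace `Cfsg.Agent.Lib.Helper46.UTiH` with the names of the spec.
-/
import Cfsg.Agent.Lib.Helper46.UTiB1
import Cfsg.Agent.Lib.Helper52.UTiB2
import Cfsg.Agent.Lib.Helper63.UTiB3
import Cfsg.Agent.Lib.Helper14.UTiB4
import Cfsg.Agent.Lib.Helper03.UTiB6
import Cfsg.Agent.Lib.Helper90.UTiA2

set_option autoImplicit false

namespace Cfsg.Agent.Lib.Helper46.UTiH

alias finrank_orth_inf := Cfsg.Agent.Lib.Helper46.UTi.finrank_orth_inf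
alias isCompl_orth := Cfsg.Agent.Lib.Helper46.UTi.isCompl_orth
alias compl_props := Cfsg.Agent.Lib.Helper52.UTi.compl_props
alias nonDeg_sup := Cfsg.Agent.Lib.Helper52.UTi.nonDeg_sup
alias finrank_sup_of_ort := Cfsg.Agent.Lib.Helper52.UTi.finrank_sup_of_ort
alias inv_orth := Cfsg.Agent.Lib.Helper52.UTi.inv_orth
alias ort_V0_V1 := Cfsg.Agent.Lib.Helper52.UTi.ort_V0_V1
alias nonDeg_inf_parts := Cfsg.Agent.Lib.Helper52.UTi.nonDeg_inf_parts
alias ort_sup_self := Cfsg.Agent.Lib.Helper52.UTi.ort_sup_self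
alias exists_isotropic := Cfsg.Agent.Lib.Helper63.UTi.exists_isotropic
alias two_mul_finrank_le := Cfsg.Agent.Lib.Helper63.UTi.two_mul_finrank_le
alias exists_ti := Cfsg.Agent.Lib.Helper63.UTi.exists_ti
alias exists_compl_of_ti := Cfsg.Agent.Lib.Helper14.UTi.exists_compl_of_ti
alias exists_common_isotropic := Cfsg.Agent.Lib.Helper03.UTi.exists_common_isotropic
alias exists_normOne_root := Cfsg.Agent.Lib.Helper90.UTi.exists_normOne_root
alias exists_normOne_root' := Cfsg.Agent.Lib.Helper90.UTi.exists_normOne_root'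

end Cfsg.Agent.Lib.Helper46.UTiH
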