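/-
K-UTi pack (S5953), leaf S1 (595321): invariant subspaces of `V1 r y`: the dimensions are the
multiples of `b = ord_r(q^2)` (from helper98's `Elus.dvd_finrank_of_le_V1`, `Elus.inv_decomp`,
`Elus.exists_inv_compl`).
-/
import Cfsg.Agent.Lib.Helper46.UTiDefs
import Cfsg.Agent.Lib.Helper98.Elus15

set_option autoImplicit false
set_option linter.unusedSectionVars false
set_option linter.unusedVariables false
set_option linter.style.haveILetI false

namespace Cfsg.Agent.Lib.Helper46.UTi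

open Module Cfsg.Agent.Lib.Helper98.Elus

universe u
variable {F : Type u} [Field F] [Fintype F] {V : Type u} [AddCommGroup V] [Module F V]
  [FiniteDimensional F V] {q : ℕ}

/-- **K-UTi-S1 (595321)**, first half -/
theorem dvd_finrank_of_le_V1 (hF : Fintype.card F = q ^ 2) (r : ℕ) [Fact r.Prime]
    (hrF : (r : F) ≠ 0) (y : V →ₗ[F] V) (hy : y ^ r = 1) (L : Submodule F V)
    (hL : L ≤ V1 r y) (hLinv : Inv y L) : orderOf ((q ^ 2 : ℕ) : ZMod r) ∣ finrank F L := by
  have h := Cfsg.Agent.Lib.Helper98.Elus.dvd_finrank_of_le_V1 r hrF y hy L hLinv hL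
  rw [hF] at h
  exact h

/-- auxiliary induction -/
theorem exists_inv_sub_aux (hF : Fintype.card F = q ^ 2) (r : ℕ) [Fact r.Prime]
    (hrF : (r : F) ≠ 0) (y : V →ₗ[F] V) (hy : y ^ r = 1) (a : ℕ) :
    ∀ (t : ℕ) (L : Submodule F V), L ≤ V1 r y → Inv y L →
      finrank F L = t * orderOf ((q ^ 2 : ℕ) : ZMod r) → a ≤ t →
      ∃ L' : Submodule F V, L' ≤ L ∧ Inv y L' ∧
        finrank F L' = a * orderOf ((q ^ 2 : ℕ) : ZMod r) := by
  classical
  have hr : r.Prime := Fact.out
  obtain ⟨p, hchar⟩ := CharP.exists F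
  haveI := hchar
  have hp : p.Prime := CharP.char_is_prime F p
  haveI : Fact p.Prime := ⟨hp⟩
  obtain ⟨f, _, hFc⟩ := FiniteField.card F p
  have hpr : p ≠ r := by
    rintro rfl
    exact hrF (CharP.cast_eq_zero F p)
  have hc1 : 1 ≤ orderOf ((Fintype.card F : ℕ) : ZMod r) := orderOf_card_pos p f hFc r hpr
  set c := orderOf ((q ^ 2 : ℕ) : ZMod r) with hc
  have hcc : orderOf ((Fintype.card F : ℕ) : ZMod r) = c := by rw [hF]
  rw [hcc] at hc1
  intro t
  induction t with
  | zero =>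
    intro L _ hLinv hd ha
    have : a = 0 := by omega
    subst this
    exact ⟨L, le_rfl, hLinv, by rw [hd]⟩
  | succ s ih =>
    intro L hLV hLinv hd ha
    rcases Nat.eq_or_lt_of_le ha with h | h
    · exact ⟨L, le_rfl, hLinv, by rw [hd, h]⟩
    · have hcond : finrank F ↥(L ⊓ V1 r y) ≤ (s + 1) * (orderOf ((Fintype.card F : ℕ) : ZMod r) *
          (c / orderOf ((Fintype.card F : ℕ) : ZMod r))) := by
        rw [hcc, Nat.div_self (by omega), mul_one, ← hd]
        exact Submodule.finrank_mono inf_le_left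
      obtain ⟨D, hDinv, hDd, -, hDsup⟩ := inv_decomp p f hFc r hpr hrF y hy c (s + 1) L hLinv hd
        hcond
      have hD0L : D 0 ≤ L := by
        rw [← hDsup]
        exact le_iSup D 0
      obtain ⟨C, hCinv, hC⟩ := exists_inv_compl r hrF 1 one_ne_zero y (by rw [hy, one_smul])
        (D 0) (hDinv 0)
      have hL1inv : Inv y (C ⊓ L) := fun v hv =>
        Submodule.mem_inf.mpr ⟨hCinv v (Submodule.mem_inf.mp hv).1,
          hLinv v (Submodule.mem_inf.mp hv).2⟩
      have hinf : D 0 ⊓ (C ⊓ L) = ⊥ := by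
        rw [eq_bot_iff, ← hC.inf_eq_bot]
        exact inf_le_inf le_rfl inf_le_left
      have hsup : D 0 ⊔ (C ⊓ L) = L := by
        rw [← sup_inf_assoc_of_le C hD0L, hC.sup_eq_top, top_inf_eq]
      have hdim := Submodule.finrank_sup_add_finrank_inf_eq (D 0) (C ⊓ L)
      rw [hinf, hsup, finrank_bot, hDd 0, hd] at hdim
      have hd1 : finrank F ↥(C ⊓ L) = s * c := by
        have : (s + 1) * c = s * c + c := by ring
        omega
      obtain ⟨L', hL'le, hL'inv, hL'd⟩ := ih (C ⊓ L) (le_trans inf_le_right hLV) hL1inv hd1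
        (by omega)
      exact ⟨L', le_trans hL'le inf_le_right, hL'inv, hL'd⟩

/-- **K-UTi-S1 (595321)**, second half -/
theorem exists_inv_sub_of_le_V1 (hF : Fintype.card F = q ^ 2) (r : ℕ) [Fact r.Prime]
    (hrF : (r : F) ≠ 0) (y : V →ₗ[F] V) (hy : y ^ r = 1) (L : Submodule F V)
    (hL : L ≤ V1 r y) (hLinv : Inv y L) (a : ℕ)
    (ha : a * orderOf ((q ^ 2 : ℕ) : ZMod r) ≤ finrank F L) :
    ∃ L' : Submodule F V, L' ≤ L ∧ Inv y L' ∧
      finrank F L' = a * orderOf ((q ^ 2 : ℕ) : ZMod r) := by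
  obtain ⟨t, ht⟩ := dvd_finrank_of_le_V1 hF r hrF y hy L hL hLinv
  rcases Nat.eq_zero_or_pos (orderOf ((q ^ 2 : ℕ) : ZMod r)) with h0 | h0
  · refine ⟨⊥, bot_le, fun v hv => ?_, by rw [finrank_bot, h0, mul_zero]⟩
    rw [(Submodule.mem_bot F).mp hv, map_zero]
    exact Submodule.zero_mem _
  · have hat : a ≤ t := by
      rw [ht, mul_comm] at ha
      exact Nat.le_of_mul_le_mul_left ha h0
    exact exists_inv_sub_aux hF r hrF y hy a t L hL hLinv (by rw [ht, mul_comm]) hat

end Cfsg.Agent.Lib.Helper46.UTi
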