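/-
K-UTi pack (S5953), leaf N0 (595329): the bound used with the block model.
-/
import Cfsg.Agent.Lib.Helper46.UTiHub1
import Cfsg.Agent.Lib.Helper46.UTiS1

set_option autoImplicit false
set_option linter.unusedSectionVars false
set_option linter.unusedVariables false

namespace Cfsg.Agent.Lib.Helper46.UTi

open Module Cfsg.Agent.Lib.Helper98.Elus Cfsg.Agent.Lib.Helper46.UTiH

universe u
variable {F : Type u} [Field F] [Fintype F] {V : Type u} [AddCommGroup V] [Module F V]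
  [FiniteDimensional F V] {q : ℕ} {H : V → V → F}

/-- **K-UTi-N0 (595329)** -/
theorem ti_bound_V0 (hF : Fintype.card F = q ^ 2) (hH : IsHerm q H) (hV : NonDeg H ⊤) (r : ℕ)
    [Fact r.Prime] (hrF : (r : F) ≠ 0) (y : V →ₗ[F] V) (hy : y ^ r = 1) (hiso : Iso H y)
    (W : Submodule F V) (hWinv : Inv y W) (hW : Ort H W W) :
    2 * (finrank F W % orderOf ((q ^ 2 : ℕ) : ZMod r)) ≤ finrank F ↥(V0 y) := by
  classical
  obtain ⟨hnd0, -⟩ := nonDeg_inf_parts hF hH r hrF y hy hiso ⊤ hV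
    (fun _ _ => Submodule.mem_top)
  rw [top_inf_eq] at hnd0
  have hsum := finrank_inf_V0_add_inf_V1 r hrF y hy W hWinv
  have hinv1 : Inv y (W ⊓ V1 r y) := fun v hv =>
    Submodule.mem_inf.mpr ⟨hWinv v (Submodule.mem_inf.mp hv).1,
      inv_V1 r y v (Submodule.mem_inf.mp hv).2⟩
  have hdvd := dvd_finrank_of_le_V1 hF r hrF y hy (W ⊓ V1 r y) inf_le_right hinv1
  have h0 := two_mul_finrank_le hF hH (V0 y) (W ⊓ V0 y) hnd0 inf_le_right
    (fun u hu v hv => hW u (Submodule.mem_inf.mp hu).1 v (Submodule.mem_inf.mp hv).1)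
  obtain ⟨e, he⟩ := hdvd
  have h1 : finrank F W % orderOf ((q ^ 2 : ℕ) : ZMod r) =
      finrank F ↥(W ⊓ V0 y) % orderOf ((q ^ 2 : ℕ) : ZMod r) := by
    rw [← hsum, he, Nat.add_mul_mod_self_left]
  have h2 := Nat.mod_le (finrank F ↥(W ⊓ V0 y)) (orderOf ((q ^ 2 : ℕ) : ZMod r))
  omega

end Cfsg.Agent.Lib.Helper46.UTi
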