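/-
K-UTi pack (S5953): hub, layer 2 (layer 1 + A1, B5, C, S1-S4, E2, N0, T1, T2), re-exported under
the single namespace `Cfsg.Agent.Lib.Helper46.UTiH` with the names of the spec.
-/
import Cfsg.Agent.Lib.Helper46.UTiHub1
import Cfsg.Agent.Lib.Helper46.UTiA1
import Cfsg.Agent.Lib.Helper46.UTiS1
import Cfsg.Agent.Lib.Helper46.UTiN0
import Cfsg.Agent.Lib.Helper51.UTiB5
import Cfsg.Agent.Lib.Helper18.UTiC
import Cfsg.Agent.Lib.Helper10.UTiS2
import Cfsg.Agent.Lib.Helper98.UTiS3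
import Cfsg.Agent.Lib.Helper98.UTiS4
import Cfsg.Agent.Lib.Helper98.UTiE2
import Cfsg.Agent.Lib.Helper83.UTiT1
import Cfsg.Agent.Lib.Helper82.UTiT2

set_option autoImplicit false

namespace Cfsg.Agent.Lib.Helper46.UTiH

alias dvd_iff_c_dvd := Cfsg.Agent.Lib.Helper46.UTi.dvd_iff_c_dvd
alias b_eq_orderOf := Cfsg.Agent.Lib.Helper46.UTi.b_eq_orderOf
alias c_eq := Cfsg.Agent.Lib.Helper46.UTi.c_eq
alias dvd_finrank_of_le_V1 := Cfsg.Agent.Lib.Helper46.UTi.dvd_finrank_of_le_V1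
alias exists_inv_sub_of_le_V1 := Cfsg.Agent.Lib.Helper46.UTi.exists_inv_sub_of_le_V1
alias ti_bound_V0 := Cfsg.Agent.Lib.Helper46.UTi.ti_bound_V0
alias exists_onb := Cfsg.Agent.Lib.Helper51.UTi.exists_onb
alias transport_model := Cfsg.Agent.Lib.Helper51.UTi.transport_model
alias det_pow_eq_one := Cfsg.Agent.Lib.Helper51.UTi.det_pow_eq_one
alias not_char_dvd_card_ti := Cfsg.Agent.Lib.Helper18.UTi.not_char_dvd_card_ti
alias exists_of_dvd_card_ti := Cfsg.Agent.Lib.Helper18.UTi.exists_of_dvd_card_ti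
alias exists_max_ti := Cfsg.Agent.Lib.Helper10.UTi.exists_max_ti
alias exists_ti_cyclic := Cfsg.Agent.Lib.Helper98.UTi.exists_ti_cyclic
alias finrank_aniso_le := Cfsg.Agent.Lib.Helper98.UTi.finrank_aniso_le
alias exists_fixed_ti_irred := Cfsg.Agent.Lib.Helper98.UTi.exists_fixed_ti_irred
alias not_allFix_two := Cfsg.Agent.Lib.Helper83.UTi.not_allFix_two
alias fixesTI_two := Cfsg.Agent.Lib.Helper82.UTi.fixesTI_two

end Cfsg.Agent.Lib.Helper46.UTiH
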