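/-
K-UTi pack (S5953), leaf S5 (595325): a nondegenerate invariant subspace of `V1` of dimension
`b` forces `i ≡ 2 (mod 4)` (an element of order `r` in `GU_b(q)`, whose order is known).
-/
import Cfsg.Agent.Lib.Helper46.UTiHub2
import Cfsg.Agent.Lib.Helper49.UPairIndex

set_option autoImplicit false
set_option linter.unusedSectionVars false
set_option linter.unusedVariables false

namespace Cfsg.Agent.Lib.Helper46.UTi

open Module Cfsg.Agent.Lib.Helper98.Elus Cfsg.Agent.Lib.Helper46.UTiH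

universe u
variable {F : Type u} [Field F] [Fintype F] {V : Type u} [AddCommGroup V] [Module F V]
  [FiniteDimensional F V] {q : ℕ} {H : V → V → F}

/-- a matrix of order `r` preserving the standard hermitian form: `r` divides the order formula -/
theorem dvd_GUf_of_matrix (hF : Fintype.card F = q ^ 2) (b r : ℕ) [Fact r.Prime]
    (M : Matrix (Fin b) (Fin b) F)
    (hM : ∀ u v, Cfsg.hermForm b F q (M.mulVec u) (M.mulVec v) = Cfsg.hermForm b F q u v)
    (hMr : M ^ r = 1) (hM1 : M ≠ 1) : r ∣ Cfsg.Agent.Lib.Helper51.UPar.GUf q b := by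
  classical
  have hr : r.Prime := Fact.out
  have hunit : IsUnit M := by
    refine ⟨⟨M, M ^ (r - 1), ?_, ?_⟩, rfl⟩
    · rw [← pow_succ', Nat.sub_add_cancel hr.pos, hMr]
    · rw [← pow_succ, Nat.sub_add_cancel hr.pos, hMr]
  obtain ⟨g, hg⟩ := hunit
  have hgU : g ∈ Cfsg.GU b F q := by
    intro u v
    show Cfsg.hermForm b F q ((g : Matrix (Fin b) (Fin b) F).mulVec u)
      ((g : Matrix (Fin b) (Fin b) F).mulVec v) = _
    rw [hg]
    exact hM u v
  set g' : Cfsg.GU b F q := ⟨g, hgU⟩ with hg'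
  have hgr : g' ^ r = 1 := by
    apply Subtype.ext
    apply Units.ext
    show ((g ^ r : Matrix.GeneralLinearGroup (Fin b) F) : Matrix (Fin b) (Fin b) F) = 1
    rw [Units.val_pow_eq_pow_val, hg, hMr]
  have hg1 : g' ≠ 1 := by
    intro h
    apply hM1
    have := congrArg (fun x : Cfsg.GU b F q => ((x : Matrix.GeneralLinearGroup (Fin b) F) :
      Matrix (Fin b) (Fin b) F)) h
    simp only [hg'] at this
    rw [← hg]
    exact this
  have hord : orderOf g' = r := orderOf_eq_prime hgr hg1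
  rw [← Cfsg.Agent.Lib.Helper49.card_GU_eq hF b, ← hord]
  exact orderOf_dvd_natCard g'

/-- **K-UTi-S5 (595325)** -/
theorem mod_four_of_nonDeg_irred (hF : Fintype.card F = q ^ 2) (hH : IsHerm q H) (p : ℕ)
    [Fact p.Prime] [CharP F p] (r : ℕ) [Fact r.Prime] (hrp : r ≠ p) (hr2 : r ≠ 2)
    (y : V →ₗ[F] V) (hy : y ^ r = 1) (hiso : Iso H y) (S : Submodule F V) (hS1 : S ≤ V1 r y)
    (hSinv : Inv y S) (hSnd : NonDeg H S) (hSne : S ≠ ⊥)
    (hSd : finrank F S = orderOf ((q ^ 2 : ℕ) : ZMod r)) :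
    orderOf (q : ZMod r) % 4 = 2 := by
  classical
  have hr : r.Prime := Fact.out
  have hp : p.Prime := Fact.out
  have hrF : (r : F) ≠ 0 := by
    intro h
    rw [CharP.cast_eq_zero_iff F p] at h
    exact hrp ((Nat.prime_dvd_prime_iff_eq hp hr).mp h).symm
  have hrq : ¬ r ∣ q := by
    intro hdvd
    obtain ⟨f, _, hFc⟩ := FiniteField.card F p
    have h1 : r ∣ p ^ (f : ℕ) := by
      rw [← hFc, hF]
      exact dvd_pow hdvd (by norm_num)
    exact hrp ((Nat.prime_dvd_prime_iff_eq hr hp).mp (hr.dvd_of_dvd_pow h1))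
  -- the restricted data
  set b := orderOf ((q ^ 2 : ℕ) : ZMod r) with hb
  let HS : S → S → F := fun u v => H (u : V) (v : V)
  have hHS : IsHerm q HS :=
    ⟨fun x x' y' => hH.add_left _ _ _, fun c x y' => hH.smul_left _ _ _, fun x y' => hH.conj _ _⟩
  have hVS : NonDeg HS ⊤ := by
    intro u _ hu
    apply Subtype.ext
    apply hSnd (u : V) u.2
    intro v hv
    exact hu ⟨v, hv⟩ Submodule.mem_top
  let yS : S →ₗ[F] S := y.restrict hSinv
  have hisoS : Iso HS yS := fun u v => hiso _ _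
  have hySr : yS ^ r = 1 := by
    apply LinearMap.ext
    intro u
    apply Subtype.ext
    have h1 : ∀ k : ℕ, (((yS ^ k) u : S) : V) = (y ^ k) (u : V) := by
      intro k
      induction k with
      | zero => simp
      | succ k ih =>
        rw [pow_succ', Module.End.mul_apply, pow_succ', Module.End.mul_apply, ← ih]
        rfl
    rw [h1, hy]
    rfl
  have hyS1 : yS ≠ 1 := by
    intro h1
    apply hSne
    rw [eq_bot_iff]
    intro u hu
    have h2 : y u = u := by
      have := congrArg (fun g : S →ₗ[F] S => ((g ⟨u, hu⟩ : S) : V)) h1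
      exact this
    have h3 : u ∈ V0 y ⊓ V1 r y := Submodule.mem_inf.mpr ⟨(mem_V0 y u).mpr h2, hS1 hu⟩
    rw [V0_inf_V1 r hrF y] at h3
    exact h3
  obtain ⟨e, he⟩ := exists_onb hF hHS hVS b hSd
  set M := LinearMap.toMatrix e e yS with hM
  have hMpres := Cfsg.Agent.Lib.Helper51.UTi.toMatrix_preserves hHS e he yS hisoS
  have hMr : M ^ r = 1 := by
    have : M = LinearMap.toMatrixAlgEquiv e yS := rfl
    rw [this, ← map_pow, hySr, map_one]
  have hM1 : M ≠ 1 := by
    intro h
    apply hyS1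
    apply (LinearMap.toMatrixAlgEquiv e).injective
    rw [map_one]
    exact h
  have hdvd := dvd_GUf_of_matrix hF b r M hMpres hMr hM1
  -- a factor divisible by `r`
  unfold Cfsg.Agent.Lib.Helper51.UPar.GUf at hdvd
  have hdvd2 : r ∣ ∏ j ∈ Finset.range b, (if Even j then q ^ (j + 1) + 1 else q ^ (j + 1) - 1) := by
    rcases (Nat.Prime.dvd_mul hr).mp hdvd with h | h
    · exact absurd (hr.dvd_of_dvd_pow h) hrq
    · exact h
  obtain ⟨j, hj, hjd⟩ := (Prime.dvd_finsetProd_iff hr.prime _).mp hdvd2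
  rw [Finset.mem_range] at hj
  have hq1 : 1 ≤ q ^ (j + 1) := Nat.one_le_pow _ _ (Cfsg.Agent.Lib.Helper19.q_pos hF)
  have hint : (r : ℤ) ∣ (q : ℤ) ^ (j + 1) - (-1) ^ (j + 1) := by
    by_cases hev : Even j
    · rw [if_pos hev] at hjd
      have : Odd (j + 1) := hev.add_one
      rw [this.neg_one_pow, sub_neg_eq_add]
      exact_mod_cast Int.natCast_dvd_natCast.mpr hjd
    · rw [if_neg hev] at hjd
      have : Even (j + 1) := by
        rw [Nat.not_even_iff_odd] at hev
        exact hev.add_one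
      rw [this.neg_one_pow]
      have h1 := Int.natCast_dvd_natCast.mpr hjd
      rw [Nat.cast_sub hq1] at h1
      exact_mod_cast h1
  by_contra hi4
  obtain ⟨hb1, -, -, hc2b, -⟩ := c_eq r hr2 q hrq (orderOf (q : ZMod r))
    (if Even (orderOf (q : ZMod r)) then orderOf (q : ZMod r) / 2 else orderOf (q : ZMod r))
    (if orderOf (q : ZMod r) % 4 = 0 then orderOf (q : ZMod r)
      else if orderOf (q : ZMod r) % 4 = 2 then orderOf (q : ZMod r) / 2
      else 2 * orderOf (q : ZMod r)) rfl rfl rfl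
  have hbeq := b_eq_orderOf r q hrq (orderOf (q : ZMod r))
    (if Even (orderOf (q : ZMod r)) then orderOf (q : ZMod r) / 2 else orderOf (q : ZMod r))
    rfl rfl
  have hcd := (dvd_iff_c_dvd r hr2 q hrq (orderOf (q : ZMod r)) _ rfl rfl (j + 1)).mp hint
  rw [hc2b hi4, hbeq, ← hb] at hcd
  have := Nat.le_of_dvd (by omega) hcd
  rw [hbeq, ← hb] at hb1
  omega

end Cfsg.Agent.Lib.Helper46.UTi
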