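/-
K-UTi pack (S5953), leaf S6 (595326): the maximal invariant totally isotropic subspace of `V1`
(glue of S1, S2, S4, S5, B2).
-/
import Cfsg.Agent.Lib.Helper46.UTiHub2
import Cfsg.Agent.Lib.Helper46.UTiS5

set_option autoImplicit false
set_option linter.unusedSectionVars false
set_option linter.unusedVariables false

namespace Cfsg.Agent.Lib.Helper46.UTi

open Module Cfsg.Agent.Lib.Helper98.Elus Cfsg.Agent.Lib.Helper46.UTiH

universe u
variable {F : Type u} [Field F] [Fintype F] {V : Type u} [AddCommGroup V] [Module F V]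
  [FiniteDimensional F V] {q : ℕ} {H : V → V → F}

/-- **K-UTi-S6 (595326)** -/
theorem exists_ti_V1 (hF : Fintype.card F = q ^ 2) (hH : IsHerm q H) (hV : NonDeg H ⊤) (p : ℕ)
    [Fact p.Prime] [CharP F p] (r : ℕ) [Fact r.Prime] (hrp : r ≠ p) (hr2 : r ≠ 2)
    (y : V →ₗ[F] V) (hy : y ^ r = 1) (hiso : Iso H y) (i b : ℕ)
    (hi : i = orderOf (q : ZMod r)) (hb : b = if Even i then i / 2 else i) :
    ∃ L : Submodule F V, L ≤ V1 r y ∧ Inv y L ∧ Ort H L L ∧
      (i % 4 ≠ 2 → 2 * finrank F L = finrank F ↥(V1 r y)) ∧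
      (i % 4 = 2 → finrank F ↥(V1 r y) ≤ 2 * finrank F L + b * ((r - 1) / b)) := by
  classical
  have hr : r.Prime := Fact.out
  have hp : p.Prime := Fact.out
  have hrF : (r : F) ≠ 0 := by
    intro h
    rw [CharP.cast_eq_zero_iff F p] at h
    exact hrp ((Nat.prime_dvd_prime_iff_eq hp hr).mp h).symm
  have hrq : ¬ r ∣ q := by
    intro hdvd
    obtain ⟨f, _, hFc⟩ := FiniteField.card F p
    have h1 : r ∣ p ^ (f : ℕ) := by
      rw [← hFc, hF]
      exact dvd_pow hdvd (by norm_num)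
    exact hrp ((Nat.prime_dvd_prime_iff_eq hr hp).mp (hr.dvd_of_dvd_pow h1))
  have hbord : b = orderOf ((q ^ 2 : ℕ) : ZMod r) := b_eq_orderOf r q hrq i b hi hb
  have hb1 : 1 ≤ b := by
    rw [hbord]
    apply orderOf_pos_iff.mpr
    apply isOfFinOrder_iff_pow_eq_one.mpr
    refine ⟨r - 1, by have := hr.two_le; omega, ?_⟩
    apply ZMod.pow_card_sub_one_eq_one
    rw [Nat.cast_pow]
    apply pow_ne_zero
    intro h0
    exact hrq ((ZMod.natCast_eq_zero_iff q r).mp h0)
  obtain ⟨-, hnd1⟩ := nonDeg_inf_parts hF hH r hrF y hy hiso ⊤ hV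
    (fun _ _ => Submodule.mem_top)
  rw [top_inf_eq] at hnd1
  obtain ⟨L, M, hLU, hLinv, hLti, hMU, hMinv, hMnd, hdim, hMan⟩ :=
    exists_max_ti hF hH r hrF y hy hiso (V1 r y) hnd1 (inv_V1 r y)
  refine ⟨L, hLU, hLinv, hLti, ?_, ?_⟩
  · intro hi4
    -- `M = ⊥`
    suffices hM : M = ⊥ by
      rw [hM, finrank_bot] at hdim
      omega
    by_contra hMne
    -- a nonzero invariant subspace of `M` of minimal dimension
    have hex : ∃ k : ℕ, ∃ S : Submodule F V, S ≤ M ∧ Inv y S ∧ S ≠ ⊥ ∧ finrank F S = k :=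
      ⟨_, M, le_rfl, hMinv, hMne, rfl⟩
    obtain ⟨S, hSM, hSinv, hSne, hSk⟩ := Nat.find_spec hex
    have hSmin : ∀ T : Submodule F V, T ≤ M → Inv y T → T ≠ ⊥ → Nat.find hex ≤ finrank F T :=
      fun T h1 h2 h3 => Nat.find_min' hex ⟨T, h1, h2, h3, rfl⟩
    have hSV1 : S ≤ V1 r y := le_trans hSM hMU
    -- `S` is nondegenerate
    have hSnd : NonDeg H S := by
      rw [nonDeg_iff_disjoint hH, disjoint_iff]
      have hT : Ort H (S ⊓ orth hH S) (S ⊓ orth hH S) :=
        fun u hu v hv => (Submodule.mem_inf.mp hu).2 v (Submodule.mem_inf.mp hv).1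
      have hinvT : Inv y (S ⊓ orth hH S) := fun v hv =>
        Submodule.mem_inf.mpr ⟨hSinv v (Submodule.mem_inf.mp hv).1,
          inv_orth hF hH r hr.pos y hy hiso S hSinv v (Submodule.mem_inf.mp hv).2⟩
      exact hMan _ (le_trans inf_le_left hSM) hinvT hT
    -- `dim S = b`
    have hSd : finrank F S = orderOf ((q ^ 2 : ℕ) : ZMod r) := by
      have hdvd := dvd_finrank_of_le_V1 hF r hrF y hy S hSV1 hSinv
      have hSpos : 0 < finrank F S := by
        rw [Module.finrank_pos_iff_of_free, Submodule.nontrivial_iff_ne_bot]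
        exact hSne
      have hle : orderOf ((q ^ 2 : ℕ) : ZMod r) ≤ finrank F S := Nat.le_of_dvd hSpos hdvd
      obtain ⟨S', hS'S, hS'inv, hS'd⟩ := exists_inv_sub_of_le_V1 hF r hrF y hy S hSV1 hSinv 1
        (by rw [one_mul]; exact hle)
      rw [one_mul] at hS'd
      have hS'ne : S' ≠ ⊥ := by
        intro h0
        rw [h0, finrank_bot, ← hbord] at hS'd
        omega
      have h1 := hSmin S' (le_trans hS'S hSM) hS'inv hS'ne
      rw [hSk] at hle
      have h2 := Submodule.finrank_mono hS'S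
      omega
    have hfin := mod_four_of_nonDeg_irred hF hH p r hrp hr2 y hy hiso S hSV1 hSinv hSnd hSne hSd
    rw [← hi] at hfin
    exact hi4 hfin
  · intro _
    have h1 := finrank_aniso_le hF hH p r hrp y hy hiso M hMU hMinv hMan b hbord
    omega

end Cfsg.Agent.Lib.Helper46.UTi
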