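/-
K-UTi pack (S5953), leaf E1 (595327): existence of a fixed totally isotropic `m`-space for an
isometry of odd prime order `r` of a hermitian space (glue of S6, S1, B3, B2 + arithmetic).
-/
import Cfsg.Agent.Lib.Helper46.UTiHub2
import Cfsg.Agent.Lib.Helper46.UTiS6

set_option autoImplicit false
set_option linter.unusedSectionVars false
set_option linter.unusedVariables false

namespace Cfsg.Agent.Lib.Helper46.UTi

open Module Cfsg.Agent.Lib.Helper98.Elus Cfsg.Agent.Lib.Helper46.UTiH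

universe u
variable {F : Type u} [Field F] [Fintype F] {V : Type u} [AddCommGroup V] [Module F V]
  [FiniteDimensional F V] {q : ℕ} {H : V → V → F}

/-- subspaces of the fixed space are invariant -/
theorem inv_of_le_V0 (y : V →ₗ[F] V) (Z : Submodule F V) (hZ : Z ≤ V0 y) : Inv y Z := by
  intro v hv
  rw [(mem_V0 y v).mp (hZ hv)]
  exact hv

/-- **K-UTi-E1 (595327)** -/
theorem exists_fixed_ti (hF : Fintype.card F = q ^ 2) (hH : IsHerm q H) (hV : NonDeg H ⊤)
    (p : ℕ) [Fact p.Prime] [CharP F p] (r : ℕ) [Fact r.Prime] (hrp : r ≠ p) (hr2 : r ≠ 2)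
    (y : V →ₗ[F] V) (hy : y ^ r = 1) (hiso : Iso H y) (n m : ℕ) (hn : finrank F V = n)
    (hmn : 2 * m ≤ n) (i b c : ℕ) (hi : i = orderOf (q : ZMod r))
    (hb : b = if Even i then i / 2 else i)
    (hc : c = if i % 4 = 0 then i else if i % 4 = 2 then i / 2 else 2 * i)
    (hk : 2 * (m % b) ≤ n % c) (hcase : i % 4 ≠ 2 ∨ (r - 1) / b + 2 * (m / b) ≤ n / b) :
    ∃ W : Submodule F V, Inv y W ∧ Ort H W W ∧ finrank F W = m := by
  classical
  have hr : r.Prime := Fact.out
  have hp : p.Prime := Fact.out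
  have hrF : (r : F) ≠ 0 := by
    intro h
    rw [CharP.cast_eq_zero_iff F p] at h
    exact hrp ((Nat.prime_dvd_prime_iff_eq hp hr).mp h).symm
  have hrq : ¬ r ∣ q := by
    intro hdvd
    obtain ⟨f, _, hFc⟩ := FiniteField.card F p
    have h1 : r ∣ p ^ (f : ℕ) := by
      rw [← hFc, hF]
      exact dvd_pow hdvd (by norm_num)
    exact hrp ((Nat.prime_dvd_prime_iff_eq hr hp).mp (hr.dvd_of_dvd_pow h1))
  obtain ⟨hb1, -, hcb, hc2b, -⟩ := c_eq r hr2 q hrq i b c hi hb hc
  have hbord : b = orderOf ((q ^ 2 : ℕ) : ZMod r) := b_eq_orderOf r q hrq i b hi hb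
  obtain ⟨hnd0, hnd1⟩ := nonDeg_inf_parts hF hH r hrF y hy hiso ⊤ hV
    (fun _ _ => Submodule.mem_top)
  rw [top_inf_eq] at hnd0 hnd1
  obtain ⟨L, hLV1, hLinv, hLti, hLa, hLb⟩ :=
    exists_ti_V1 hF hH hV p r hrp hr2 y hy hiso i b hi hb
  have hsum := finrank_V0_add_V1 r hrF y hy
  rw [hn] at hsum
  have hbl : b ∣ finrank F L := by
    rw [hbord]
    exact dvd_finrank_of_le_V1 hF r hrF y hy L hLV1 hLinv
  have hbn1 : b ∣ finrank F ↥(V1 r y) := by
    rw [hbord]
    exact dvd_finrank_of_le_V1 hF r hrF y hy (V1 r y) le_rfl (inv_V1 r y)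
  set n0 := finrank F ↥(V0 y) with hn0
  set n1 := finrank F ↥(V1 r y) with hn1
  set l := finrank F L with hl
  -- reduce to the numerical choice of `a`
  suffices hmain : ∃ a : ℕ, a * b ≤ l ∧ a * b ≤ m ∧ 2 * (m - a * b) ≤ n0 by
    obtain ⟨a, ha1, ha2, ha3⟩ := hmain
    obtain ⟨L', hL'L, hL'inv, hL'd⟩ := exists_inv_sub_of_le_V1 hF r hrF y hy L hLV1 hLinv a
      (by rw [← hbord]; exact ha1)
    rw [← hbord] at hL'd
    obtain ⟨Z0, hZ0V, hZ0, hZ0d⟩ := exists_ti hF hH (m - a * b) (V0 y) hnd0 ha3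
    refine ⟨Z0 ⊔ L', (inv_of_le_V0 y Z0 hZ0V).sup hL'inv,
      ort_sup_self hF hH Z0 L' hZ0 (fun u hu v hv => hLti u (hL'L hu) v (hL'L hv))
        (fun u hu v hv => ort_V0_V1 hF hH r hrF y hy hiso u (hZ0V hu) v (hLV1 (hL'L hv))), ?_⟩
    have hinf : Z0 ⊓ L' = ⊥ := by
      rw [eq_bot_iff, ← V0_inf_V1 r hrF y]
      exact inf_le_inf hZ0V (le_trans hL'L hLV1)
    have h := Submodule.finrank_sup_add_finrank_inf_eq Z0 L'
    rw [hinf, finrank_bot, hZ0d, hL'd, add_zero] at h
    omega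
  -- arithmetic
  obtain ⟨A, hA⟩ := hbl
  obtain ⟨N1, hN1⟩ := hbn1
  have hm := Nat.div_add_mod m b
  have hℓ : m % b < b := Nat.mod_lt _ (by omega)
  set m' := m / b with hm'
  set ℓ := m % b with hℓ'
  rcases le_or_gt m' A with hle | hgt
  · -- `a = m'`
    refine ⟨m', ?_, ?_, ?_⟩
    · rw [hA, mul_comm]
      exact Nat.mul_le_mul_left b hle
    · rw [mul_comm]
      omega
    · have h1 : m - m' * b = ℓ := by
        rw [mul_comm]
        omega
      rw [h1]
      -- `n % c = n0 % c ≤ n0`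
      have hcn1 : c ∣ n1 := by
        by_cases hi4 : i % 4 = 2
        · rw [(hcb hi4).1, hN1]
          exact dvd_mul_right b N1
        · rw [hc2b hi4]
          have h2 := hLa hi4
          rw [← h2, hA]
          exact ⟨A, by ring⟩
      obtain ⟨e, he⟩ := hcn1
      have h3 : n % c = n0 % c := by
        rw [← hsum, he, Nat.add_mul_mod_self_left]
      have h4 : n0 % c ≤ n0 := Nat.mod_le _ _
      omega
  · -- `a = A`
    refine ⟨A, ?_, ?_, ?_⟩
    · rw [hA, mul_comm]
    · have h1 : A * b ≤ m' * b := Nat.mul_le_mul_right b (le_of_lt hgt)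
      rw [mul_comm m' b] at h1
      omega
    · by_cases hi4 : i % 4 = 2
      · obtain ⟨hcb', -⟩ := hcb hi4
        have hL2 := hLb hi4
        have hcond : (r - 1) / b + 2 * m' ≤ n / b := by
          rcases hcase with h | h
          · exact absurd hi4 h
          · exact h
        have h5 : b * ((r - 1) / b + 2 * m') ≤ b * (n / b) := Nat.mul_le_mul_left b hcond
        have h6 := Nat.div_add_mod n b
        have h7 : b * ((r - 1) / b + 2 * m') = b * ((r - 1) / b) + 2 * (b * m') := by ring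
        rw [hcb'] at hk
        have h8 : A * b = b * A := mul_comm _ _
        omega
      · have hL2 := hLa hi4
        have h8 : A * b = b * A := mul_comm _ _
        omega

end Cfsg.Agent.Lib.Helper46.UTi
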