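/-
K-UTi-N2a (keystone 595332, pack S5953, architect helper46; parallel duplicate by helper46):
multiplicity-free diagonal model for `r ∣ q + 1`.
-/
import Cfsg.Agent.Lib.Helper46.UTiB1
import Cfsg.Agent.Lib.Helper63.UTiB3

set_option autoImplicit false
set_option linter.unusedSectionVars false
set_option linter.unusedVariables false

namespace Cfsg.Agent.Lib.Helper46.UTi

open Module Cfsg.Agent.Lib.Helper98.Elus

universe u

variable {F : Type u} [Field F] [Fintype F] {p : ℕ} [Fact p.Prime] [CharP F p] {q : ℕ}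

/-- an element of order `r` in `Fˣ` when `r ∣ q + 1` -/
theorem exists_unit_orderOf_of_dvd (hq : Fintype.card F = q ^ 2) (r : ℕ) [Fact r.Prime]
    (hrq : r ∣ q + 1) : ∃ ζ : Fˣ, orderOf ζ = r := by
  classical
  apply exists_prime_orderOf_dvd_card r
  rw [Fintype.card_units, hq]
  have hq0 : 0 < q := Cfsg.Agent.Lib.Helper19.q_pos hq
  obtain ⟨q', rfl⟩ : ∃ q', q = q' + 1 := ⟨q - 1, by omega⟩
  have h : (q' + 1) ^ 2 - 1 = (q' + 1 + 1) * q' := by
    have : (q' + 1) ^ 2 = (q' + 1 + 1) * q' + 1 := by ring
    omega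
  rw [h]
  exact Dvd.dvd.mul_right hrq _

/-- the exponent shift: `r ∣ n * a + S` is solvable when `r ∤ n` or `r ∣ S` -/
theorem exists_shift (r : ℕ) [Fact r.Prime] (n S : ℕ) (h : ¬ r ∣ n ∨ r ∣ S) :
    ∃ a : ℕ, r ∣ n * a + S := by
  have hr : r.Prime := Fact.out
  rcases h with h | h
  · have hn0 : (n : ZMod r) ≠ 0 := by
      rwa [Ne, ZMod.natCast_eq_zero_iff]
    refine ⟨((-(S : ZMod r)) * (n : ZMod r)⁻¹).val, ?_⟩
    rw [← ZMod.natCast_eq_zero_iff]
    push_cast
    rw [ZMod.natCast_zmod_val]
    field_simp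
    ring
  · exact ⟨0, by simpa using h⟩

/-- the sum of the exponents `0, 1, …, t, 0, …, 0` -/
theorem sum_exponents (n t : ℕ) (ht : t + 1 ≤ n) :
    (∑ k : Fin n, (if (k : ℕ) ≤ t then (k : ℕ) else 0)) * 2 = (t + 1) * t := by
  rw [Fin.sum_univ_eq_sum_range (fun k => if k ≤ t then k else 0) n, ← Finset.sum_filter]
  have : (Finset.range n).filter (fun k => k ≤ t) = Finset.range (t + 1) := by
    ext k
    simp only [Finset.mem_filter, Finset.mem_range]
    omega
  rw [this, Finset.sum_range_id_mul_two]
  simp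

/-- **K-UTi-N2a (595332)** -/
theorem bound_multfree_two (hq : Fintype.card F = q ^ 2) (n m : ℕ) (hn : 3 ≤ n) (hm : 1 ≤ m)
    (hmn : 2 * m ≤ n) (r : ℕ) [Fact r.Prime] (hrp : r ≠ p) (hr2 : r ≠ 2) (hrq : r ∣ q + 1)
    (hL : AllFix F n m q r) : r - 1 + 2 * m ≤ n := by
  classical
  by_contra hcon
  have hr : r.Prime := Fact.out
  have hr3 : 3 ≤ r := by
    have := hr.two_le
    omega
  have hq0 : 0 < q := Cfsg.Agent.Lib.Helper19.q_pos hq
  have hH := isHerm_hermForm (F := F) hq n
  have hV := nonDeg_hermForm (F := F) hq n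
  obtain ⟨ζ, hζ⟩ := exists_unit_orderOf_of_dvd hq r hrq
  have hζr : ζ ^ r = 1 := by rw [← hζ]; exact pow_orderOf_eq_one ζ
  have hζq : ζ ^ (q + 1) = 1 := by
    rw [← orderOf_dvd_iff_pow_eq_one, hζ]; exact hrq
  -- the exponents
  set t : ℕ := min (n - 1) (r - 1) with ht
  have ht2 : 2 ≤ t := by omega
  have htn : t + 1 ≤ n := by omega
  have htr : t < r := by omega
  set f : ℕ → ℕ := fun k => if k ≤ t then k else 0 with hf
  have hft : ∀ k, f k < r := by
    intro k
    simp only [hf]
    split_ifs <;> omega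
  set S : ℕ := ∑ k : Fin n, f k with hS
  have hS2 : S * 2 = (t + 1) * t := sum_exponents n t htn
  obtain ⟨a, ha⟩ : ∃ a : ℕ, r ∣ n * a + S := by
    apply exists_shift
    by_cases hrn : r ∣ n
    · right
      have hnr : r ≤ n := Nat.le_of_dvd (by omega) hrn
      have ht' : t = r - 1 := by omega
      have h2 : r ∣ S * 2 := by
        rw [hS2, ht']
        have : r - 1 + 1 = r := by omega
        rw [this]
        exact Dvd.intro _ rfl
      have hcop : Nat.Coprime r 2 := by
        rw [Nat.coprime_comm]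
        exact (Nat.coprime_primes Nat.prime_two hr).mpr (Ne.symm hr2)
      exact hcop.dvd_of_dvd_mul_right h2
    · left; exact hrn
  -- the diagonal matrix
  set du : Fin n → Fˣ := fun k => ζ ^ (a + f k) with hdu
  set d : Fin n → F := fun k => ((du k : Fˣ) : F) with hd
  have hd0 : ∀ k, d k ≠ 0 := fun k => (du k).ne_zero
  have hdq : ∀ k, d k ^ (q + 1) = 1 := by
    intro k
    simp only [hd, hdu]
    rw [← Units.val_pow_eq_pow_val, ← pow_mul, mul_comm, pow_mul, hζq, one_pow, Units.val_one]
  have hdr : ∀ k, d k ^ r = 1 := by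
    intro k
    simp only [hd, hdu]
    rw [← Units.val_pow_eq_pow_val, ← pow_mul, mul_comm, pow_mul, hζr, one_pow, Units.val_one]
  have hdinj : ∀ k l : Fin n, d k = d l → f k ≡ f l [MOD r] := by
    intro k l hkl
    have h1 : du k = du l := Units.ext hkl
    simp only [hdu] at h1
    rw [pow_eq_pow_iff_modEq, hζ] at h1
    exact Nat.ModEq.add_left_cancel' a h1
  set D : Matrix (Fin n) (Fin n) F := Matrix.diagonal d with hD
  have hdet : D.det = 1 := by
    rw [hD, Matrix.det_diagonal]
    have h1 : ∏ k, d k = ((∏ k, du k : Fˣ) : F) := by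
      simp only [hd]
      rw [Units.coe_prod]
    rw [h1]
    simp only [hdu]
    rw [Finset.prod_pow_eq_pow_sum, Finset.sum_add_distrib, Finset.sum_const, Finset.card_univ,
      Fintype.card_fin, smul_eq_mul, ← hS]
    obtain ⟨c, hc⟩ := ha
    rw [hc, pow_mul, hζr, one_pow, Units.val_one]
  set x : Matrix.SpecialLinearGroup (Fin n) F := ⟨D, hdet⟩ with hx
  have hxD : (x : Matrix (Fin n) (Fin n) F) = D := rfl
  have hmulVec : ∀ u : Fin n → F, D.mulVec u = fun i => d i * u i := by
    intro u
    funext i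
    rw [hD, Matrix.mulVec_diagonal]
  have hxSU : x ∈ Cfsg.SU n F q := by
    intro u v
    show Cfsg.hermForm n F q (D.mulVec u) (D.mulVec v) = Cfsg.hermForm n F q u v
    rw [hmulVec, hmulVec]
    unfold Cfsg.hermForm
    apply Finset.sum_congr rfl
    intro i _
    have := hdq i
    calc d i * u i * (d i * v i) ^ q = d i ^ (q + 1) * (u i * v i ^ q) := by ring
      _ = u i * v i ^ q := by rw [this, one_mul]
  have hxr : ∃ z : F, ((x ^ r : Matrix.SpecialLinearGroup (Fin n) F) :
      Matrix (Fin n) (Fin n) F) = z • (1 : Matrix (Fin n) (Fin n) F) := by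
    refine ⟨1, ?_⟩
    rw [Matrix.SpecialLinearGroup.coe_pow, hxD, hD, Matrix.diagonal_pow, one_smul]
    have : d ^ r = fun _ => (1 : F) := by
      funext k
      rw [Pi.pow_apply, hdr]
    rw [this]
    exact Matrix.diagonal_one
  -- indices 0 and 1
  have h0n : 0 < n := by omega
  have h1n : 1 < n := by omega
  have hns : ∀ z : F, (x : Matrix (Fin n) (Fin n) F) ≠
      z • (1 : Matrix (Fin n) (Fin n) F) := by
    intro z hz
    rw [hxD] at hz
    have h0 := congrFun (congrFun hz ⟨0, h0n⟩) ⟨0, h0n⟩
    have h1 := congrFun (congrFun hz ⟨1, h1n⟩) ⟨1, h1n⟩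
    simp only [hD, Matrix.diagonal_apply_eq, Matrix.smul_apply, Matrix.one_apply_eq, smul_eq_mul,
      mul_one] at h0 h1
    have h01 := hdinj ⟨0, h0n⟩ ⟨1, h1n⟩ (by rw [h0, h1])
    have hf0 : f 0 = 0 := by simp [hf]
    have hf1 : f 1 = 1 := by
      simp only [hf]
      rw [if_pos (by omega)]
    simp only [hf0, hf1] at h01
    have := Nat.ModEq.eq_of_lt_of_lt h01 (by omega) (by omega)
    omega
  obtain ⟨W, hWm, hWti, hWinv⟩ := hL x hxSU hxr hns
  rw [hxD] at hWinv
  -- the standard basis vectors are anisotropic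
  have hee : ∀ k : Fin n, Cfsg.hermForm n F q (Pi.single k 1) (Pi.single k 1) = 1 := by
    intro k
    unfold Cfsg.hermForm
    rw [Finset.sum_eq_single k]
    · simp
    · intro j _ hj
      simp [Pi.single_eq_of_ne hj]
    · intro h
      exact absurd (Finset.mem_univ _) h
  have heW : ∀ k : Fin n, (Pi.single k 1 : Fin n → F) ∉ W := by
    intro k h
    have := hWti _ h _ h
    rw [hee k] at this
    exact one_ne_zero this
  -- polynomial images of vectors of `W`
  have hpoly : ∀ u ∈ W, ∀ T : Finset F, (fun k => (∏ μ ∈ T, (d k - μ)) * u k) ∈ W := by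
    intro u hu T
    induction T using Finset.induction_on with
    | empty => simpa using hu
    | insert μ T hμ ih =>
      have hDv : D.mulVec (fun k => (∏ μ ∈ T, (d k - μ)) * u k) ∈ W := by
        apply hWinv
        exact ⟨_, ih, by rw [Matrix.toLin'_apply]⟩
      have hsub := W.sub_mem hDv (W.smul_mem μ ih)
      have heq : (fun k => (∏ ν ∈ insert μ T, (d k - ν)) * u k) =
          D.mulVec (fun k => (∏ μ ∈ T, (d k - μ)) * u k) -
            μ • (fun k => (∏ μ ∈ T, (d k - μ)) * u k) := by
        funext k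
        rw [hmulVec, Finset.prod_insert hμ]
        simp only [Pi.sub_apply, Pi.smul_apply, smul_eq_mul]
        ring
      rw [heq]
      exact hsub
  -- vectors of `W` vanish at the coordinates `1, …, t`
  have hvanish : ∀ u ∈ W, ∀ k : Fin n, 1 ≤ (k : ℕ) → (k : ℕ) ≤ t → u k = 0 := by
    intro u hu k0 hk1 hkt
    by_contra hu0
    have hfk0 : f k0 = k0 := by
      simp only [hf]
      rw [if_pos hkt]
    have hdist : ∀ k : Fin n, d k = d k0 → k = k0 := by
      intro k hk
      have h1 := hdinj k k0 hk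
      have h2 := Nat.ModEq.eq_of_lt_of_lt h1 (hft _) (hft _)
      rw [hfk0] at h2
      apply Fin.ext
      simp only [hf] at h2
      split_ifs at h2 with h3
      · exact h2
      · omega
    set T : Finset F := (Finset.univ.image d).erase (d k0) with hT
    have hmem := hpoly u hu T
    set c : F := (∏ μ ∈ T, (d k0 - μ)) * u k0 with hc
    have hc0 : c ≠ 0 := by
      apply mul_ne_zero _ hu0
      rw [Finset.prod_ne_zero_iff]
      intro μ hμ
      rw [hT, Finset.mem_erase] at hμ
      exact sub_ne_zero.mpr (Ne.symm hμ.1)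
    have heq : (fun k => (∏ μ ∈ T, (d k - μ)) * u k) = c • (Pi.single k0 1 : Fin n → F) := by
      funext k
      by_cases hk : k = k0
      · subst hk
        simp [hc]
      · have hdk : d k ≠ d k0 := fun h => hk (hdist k h)
        have hin : d k ∈ T := by
          rw [hT, Finset.mem_erase]
          exact ⟨hdk, Finset.mem_image_of_mem d (Finset.mem_univ k)⟩
        rw [Finset.prod_eq_zero hin (sub_self _)]
        simp [Pi.single_eq_of_ne hk]
    rw [heq] at hmem
    have := W.smul_mem c⁻¹ hmem
    rw [smul_smul, inv_mul_cancel₀ hc0, one_smul] at this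
    exact heW k0 this
  -- the span `E` of `e_1, …, e_t`
  set ι : Fin t → Fin n := fun j => ⟨(j : ℕ) + 1, by omega⟩ with hι
  have hιinj : Function.Injective ι := by
    intro j j' h
    have := congrArg Fin.val h
    simp only [hι] at this
    exact Fin.ext (by omega)
  set E : Submodule F (Fin n → F) :=
    Submodule.span F (Set.range (fun j : Fin t => (Pi.single (ι j) 1 : Fin n → F))) with hE
  have hEfin : finrank F E = t := by
    have hli : LinearIndependent F (fun j : Fin t => (Pi.single (ι j) 1 : Fin n → F)) := by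
      have := (Pi.basisFun F (Fin n)).linearIndependent.comp ι hιinj
      convert this using 1
      funext j
      simp [Pi.basisFun_apply]
    rw [hE, finrank_span_eq_card hli, Fintype.card_fin]
  -- vectors of `E` vanish outside the range of `ι`
  have hEvan : ∀ w ∈ E, ∀ k : Fin n, (∀ j, ι j ≠ k) → w k = 0 := by
    intro w hw k hk
    have hle : E ≤ LinearMap.ker (LinearMap.proj (R := F) (φ := fun _ : Fin n => F) k) := by
      rw [hE, Submodule.span_le]
      rintro _ ⟨j, rfl⟩
      simp only [SetLike.mem_coe, LinearMap.mem_ker, LinearMap.proj_apply]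
      exact Pi.single_eq_of_ne (Ne.symm (hk j)) 1
    have := hle hw
    simpa using this
  -- membership in the orthogonal complement
  have hmemorth : ∀ u : Fin n → F, (∀ j, u (ι j) = 0) → u ∈ orth hH E ⊓ ⊤ := by
    intro u hu
    refine Submodule.mem_inf.mpr ⟨?_, Submodule.mem_top⟩
    intro w hw
    unfold Cfsg.hermForm
    apply Finset.sum_eq_zero
    intro k _
    by_cases hk : ∃ j, ι j = k
    · obtain ⟨j, rfl⟩ := hk
      rw [hu j, zero_mul]
    · simp only [not_exists] at hk
      rw [hEvan w hw k hk, zero_pow hq0.ne', mul_zero]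
  have hND : NonDeg (Cfsg.hermForm n F q) (orth hH E ⊓ ⊤) := by
    intro u hu huv
    have hu1 : ∀ j, u (ι j) = 0 := by
      intro j
      have h1 : (Pi.single (ι j) 1 : Fin n → F) ∈ E :=
        Submodule.subset_span ⟨j, rfl⟩
      have h2 := (Submodule.mem_inf.mp hu).1 _ h1
      unfold Cfsg.hermForm at h2
      rw [Finset.sum_eq_single (ι j)] at h2
      · simpa using h2
      · intro l _ hl
        simp [Pi.single_eq_of_ne hl, hq0.ne']
      · intro h
        exact absurd (Finset.mem_univ _) h
    funext k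
    by_cases hk : ∃ j, ι j = k
    · obtain ⟨j, rfl⟩ := hk
      exact hu1 j
    · simp only [not_exists] at hk
      have h1 : (Pi.single k 1 : Fin n → F) ∈ orth hH E ⊓ ⊤ := by
        apply hmemorth
        intro j
        exact Pi.single_eq_of_ne (hk j) 1
      have h2 := huv _ h1
      unfold Cfsg.hermForm at h2
      rw [Finset.sum_eq_single k] at h2
      · simpa using h2
      · intro l _ hl
        simp [Pi.single_eq_of_ne hl, hq0.ne']
      · intro h
        exact absurd (Finset.mem_univ _) h
  have hWle : W ≤ orth hH E ⊓ ⊤ := by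
    intro u hu
    apply hmemorth
    intro j
    exact hvanish u hu (ι j) (by simp [hι]) (by simp only [hι]; omega)
  have h1 := Cfsg.Agent.Lib.Helper63.UTi.two_mul_finrank_le hq hH (orth hH E ⊓ ⊤) W hND hWle
    (fun u hu v hv => hWti u hu v hv)
  have h2 := finrank_orth_inf hq hH E ⊤ le_top hV
  rw [finrank_top, Module.finrank_pi, Fintype.card_fin, hEfin] at h2
  rw [hWm] at h1
  omega

end Cfsg.Agent.Lib.Helper46.UTi
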