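import Mathlib

set_option autoImplicit false

namespace Cfsg.Agent.Lib.Helper46

section pivot

variable {F : Type*} [Field F] {ι : Type*} [Fintype ι] [DecidableEq ι]

/-- With a non-zero pivot coordinate `j`, a set closed under changing one other coordinate
contains every vector with the same `j`-th coordinate. -/
theorem reach_of_pivot (S : Set (ι → F)) (j : ι)
    (hstep : ∀ w ∈ S, w j ≠ 0 → ∀ i : ι, i ≠ j → ∀ c : F, Function.update w i c ∈ S)
    (u : ι → F) (hu : u ∈ S) (huj : u j ≠ 0) (v : ι → F) (hvj : v j = u j) : v ∈ S := by
  classical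
  have reach : ∀ (n : ℕ) (u : ι → F), u ∈ S → u j ≠ 0 → ∀ v : ι → F, v j = u j →
      (Finset.univ.filter (fun i => u i ≠ v i)).card = n → v ∈ S := by
    intro n
    induction n with
    | zero =>
      intro u hu _ v _ hcard
      have : u = v := by
        funext i
        by_contra hi
        have : i ∈ Finset.univ.filter (fun i => u i ≠ v i) := by simp [hi]
        rw [Finset.card_eq_zero.1 hcard] at this
        simp at this
      rwa [← this]
    | succ n ih =>
      intro u hu huj v hvj hcard
      have hne : (Finset.univ.filter (fun i => u i ≠ v i)).Nonempty := by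
        rw [← Finset.card_pos, hcard]; omega
      obtain ⟨i, hi⟩ := hne
      have hi' : u i ≠ v i := (Finset.mem_filter.1 hi).2
      have hij : i ≠ j := by
        intro h; subst h; exact hi' hvj.symm
      have hu' := hstep u hu huj i hij (v i)
      apply ih (Function.update u i (v i)) hu' (by rwa [Function.update_of_ne (Ne.symm hij)]) v
        (by rw [Function.update_of_ne (Ne.symm hij)]; exact hvj)
      have hset : Finset.univ.filter (fun k => Function.update u i (v i) k ≠ v k)
          = (Finset.univ.filter (fun k => u k ≠ v k)).erase i := by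
        ext k
        by_cases hk : k = i
        · subst hk; simp
        · simp [hk]
      rw [hset, Finset.card_erase_of_mem hi, hcard]
      rfl
  exact reach _ u hu huj v hvj rfl

end pivot

section squares

variable {F : Type*} [Field F] [Fintype F] [DecidableEq F]

/-- There are at least `(q - 1) / 2` elements of the form `μ² β`, `μ ≠ 0`. -/
theorem card_sq_mul_ge (β : F) (hβ : β ≠ 0) :
    Fintype.card F - 1 ≤
      2 * (Finset.univ.filter (fun x : F => ∃ μ : F, μ ≠ 0 ∧ x = μ ^ 2 * β)).card := by
  classical
  have h1 : (Finset.univ.filter (fun μ : F => μ ≠ 0)).card = Fintype.card F - 1 := by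
    rw [Finset.filter_ne' Finset.univ (0 : F), Finset.card_erase_of_mem (Finset.mem_univ _),
      Finset.card_univ]
  rw [← h1]
  apply Finset.card_le_mul_card_image_of_maps_to (f := fun μ : F => μ ^ 2 * β)
  · intro μ hμ
    rw [Finset.mem_filter] at hμ ⊢
    exact ⟨Finset.mem_univ _, μ, hμ.2, rfl⟩
  · intro x _
    by_cases hex : ∃ μ₁ : F, μ₁ ≠ 0 ∧ μ₁ ^ 2 * β = x
    · obtain ⟨μ₁, _, h1⟩ := hex
      have hsub : (Finset.univ.filter (fun μ : F => μ ≠ 0)).filter (fun μ => μ ^ 2 * β = x)
          ⊆ {μ₁, -μ₁} := by
        intro μ hμ
        rw [Finset.mem_filter] at hμ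
        have h2 : μ ^ 2 = μ₁ ^ 2 := by
          have := hμ.2.trans h1.symm
          exact mul_right_cancel₀ hβ this
        rcases sq_eq_sq_iff_eq_or_eq_neg.1 h2 with h | h
        · simp [h]
        · simp [h]
      exact le_trans (Finset.card_le_card hsub) Finset.card_le_two
    · have hempty : (Finset.univ.filter (fun μ : F => μ ≠ 0)).filter (fun μ => μ ^ 2 * β = x)
          = ∅ := by
        rw [Finset.filter_eq_empty_iff]
        intro μ hμ hx
        exact hex ⟨μ, (Finset.mem_filter.1 hμ).2, hx⟩
      rw [hempty]
      simp

end squares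

end Cfsg.Agent.Lib.Helper46
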