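import Mathlib
import Cfsg.Agent.Lib.Helper46.Weights

set_option autoImplicit false
set_option linter.unusedSectionVars false
set_option linter.unusedSimpArgs false

namespace Cfsg.Agent.Lib.Helper46.Weil

open Matrix

section heis

variable {F : Type*} [Field F] [Fintype F] [DecidableEq F]
variable {κ : Type*} [Fintype κ] [DecidableEq κ]

/-- first component of a vector of `F^{2n}` -/
def vI (v : κ ⊕ κ → F) : κ → F := fun i => v (Sum.inl i)

/-- second component of a vector of `F^{2n}` -/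
def vR (v : κ ⊕ κ → F) : κ → F := fun i => v (Sum.inr i)

@[simp] theorem vI_add (v w : κ ⊕ κ → F) : vI (v + w) = vI v + vI w := rfl
@[simp] theorem vR_add (v w : κ ⊕ κ → F) : vR (v + w) = vR v + vR w := rfl
@[simp] theorem vI_zero : vI (0 : κ ⊕ κ → F) = 0 := rfl
@[simp] theorem vR_zero : vR (0 : κ ⊕ κ → F) = 0 := rfl
@[simp] theorem vI_neg (v : κ ⊕ κ → F) : vI (-v) = -vI v := rfl
@[simp] theorem vR_neg (v : κ ⊕ κ → F) : vR (-v) = -vR v := rfl
@[simp] theorem vI_elim (b a : κ → F) : vI (Sum.elim b a : κ ⊕ κ → F) = b := rfl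
@[simp] theorem vR_elim (b a : κ → F) : vR (Sum.elim b a : κ ⊕ κ → F) = a := rfl

theorem elim_vI_vR (v : κ ⊕ κ → F) : Sum.elim (vI v) (vR v) = v := by
  funext i
  cases i <;> rfl

theorem dot_sum (v w : κ ⊕ κ → F) : v ⬝ᵥ w = vI v ⬝ᵥ vI w + vR v ⬝ᵥ vR w := by
  simp [dotProduct, Fintype.sum_sum_type, vI, vR]

/-- the symplectic form -/
def sfo (v w : κ ⊕ κ → F) : F := vR v ⬝ᵥ vI w - vI v ⬝ᵥ vR w

theorem sfo_eq (v w : κ ⊕ κ → F) : sfo v w = v ⬝ᵥ (J κ F *ᵥ w) := by
  rw [dot_sum, J, fromBlocks_mulVec]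
  simp only [vI_elim, vR_elim, sfo]
  have h1 : (w ∘ Sum.inl) = vI w := rfl
  have h2 : (w ∘ Sum.inr) = vR w := rfl
  rw [h1, h2]
  simp [Matrix.neg_mulVec]
  ring

theorem sfo_self (v : κ ⊕ κ → F) : sfo v v = 0 := by
  rw [sfo, dotProduct_comm]
  ring

theorem sfo_neg_right (v w : κ ⊕ κ → F) : sfo v (-w) = -sfo v w := by
  simp [sfo]
  ring

theorem mulVec_dot (A : Matrix (κ ⊕ κ) (κ ⊕ κ) F) (v u : κ ⊕ κ → F) :
    (A *ᵥ v) ⬝ᵥ u = v ⬝ᵥ (Aᵀ *ᵥ u) := by
  rw [← vecMul_transpose, ← dotProduct_mulVec]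

theorem sfo_mulVec (g : Matrix.symplecticGroup κ F) (v w : κ ⊕ κ → F) :
    sfo (g.1 *ᵥ v) (g.1 *ᵥ w) = sfo v w := by
  rw [sfo_eq, sfo_eq, mulVec_dot, mulVec_mulVec, mulVec_mulVec]
  have h := SymplecticGroup.mem_iff'.1 g.2
  rw [h]

variable (ψ : AddChar F ℂ)

/-- The Heisenberg operators on functions on `F^n`. -/
noncomputable def heis (v : κ ⊕ κ → F) : Module.End ℂ ((κ → F) → ℂ) where
  toFun f := fun x => ψ (vI v ⬝ᵥ x + 2⁻¹ * (vI v ⬝ᵥ vR v)) * f (x + vR v)
  map_add' f g := by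
    funext x
    simp [mul_add]
  map_smul' c f := by
    funext x
    simp [mul_left_comm]

theorem heis_apply (v : κ ⊕ κ → F) (f : (κ → F) → ℂ) (x : κ → F) :
    heis ψ v f x = ψ (vI v ⬝ᵥ x + 2⁻¹ * (vI v ⬝ᵥ vR v)) * f (x + vR v) := rfl

theorem heis_zero : heis ψ (0 : κ ⊕ κ → F) = 1 := by
  apply LinearMap.ext
  intro f
  funext x
  simp [heis_apply]

theorem heis_mul (h2 : (2 : F) ≠ 0) (v w : κ ⊕ κ → F) :
    heis ψ v * heis ψ w = ψ (2⁻¹ * sfo v w) • heis ψ (v + w) := by
  apply LinearMap.ext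
  intro f
  funext x
  rw [Module.End.mul_apply, heis_apply, heis_apply, LinearMap.smul_apply, Pi.smul_apply,
    heis_apply, smul_eq_mul, ← mul_assoc, ← mul_assoc, ← AddChar.map_add_eq_mul,
    ← AddChar.map_add_eq_mul, vR_add, vI_add, add_assoc x]
  congr 2
  simp only [sfo, dotProduct_add, add_dotProduct]
  rw [dotProduct_comm (vR v) (vI w)]
  field_simp
  ring

theorem heis_mul_neg (h2 : (2 : F) ≠ 0) (v : κ ⊕ κ → F) : heis ψ v * heis ψ (-v) = 1 := by
  rw [heis_mul ψ h2, sfo_neg_right, sfo_self, add_neg_cancel, heis_zero]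
  simp

theorem heis_neg_mul (h2 : (2 : F) ≠ 0) (v : κ ⊕ κ → F) : heis ψ (-v) * heis ψ v = 1 := by
  have := heis_mul_neg ψ h2 (-v)
  rwa [neg_neg] at this

/-- The Heisenberg operators as units. -/
noncomputable def heisU (h2 : (2 : F) ≠ 0) (v : κ ⊕ κ → F) :
    (Module.End ℂ ((κ → F) → ℂ))ˣ :=
  ⟨heis ψ v, heis ψ (-v), heis_mul_neg ψ h2 v, heis_neg_mul ψ h2 v⟩

/-- elementary operators -/
noncomputable def elemOp (x y : κ → F) : Module.End ℂ ((κ → F) → ℂ) where
  toFun f := fun z => if z = x then f y else 0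
  map_add' f g := by
    funext z
    by_cases h : z = x <;> simp [h]
  map_smul' c f := by
    funext z
    by_cases h : z = x <;> simp [h]

theorem elemOp_apply (x y : κ → F) (f : (κ → F) → ℂ) (z : κ → F) :
    elemOp x y f z = if z = x then f y else 0 := rfl

variable {ψ}

theorem sum_heis_eq (hψ : ψ.IsPrimitive) (x a : κ → F) :
    ∑ b : κ → F, ψ (-(b ⬝ᵥ x + 2⁻¹ * (b ⬝ᵥ a))) • heis ψ (Sum.elim b a : κ ⊕ κ → F)
      = (Fintype.card (κ → F) : ℂ) • elemOp x (x + a) := by
  apply LinearMap.ext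
  intro f
  funext z
  rw [LinearMap.sum_apply, Finset.sum_apply, LinearMap.smul_apply, Pi.smul_apply, elemOp_apply]
  have h1 : ∀ b : κ → F, (ψ (-(b ⬝ᵥ x + 2⁻¹ * (b ⬝ᵥ a))) •
      heis ψ (Sum.elim b a : κ ⊕ κ → F)) f z = ψ (b ⬝ᵥ (z - x)) * f (z + a) := by
    intro b
    rw [LinearMap.smul_apply, Pi.smul_apply, heis_apply, smul_eq_mul, ← mul_assoc,
      ← AddChar.map_add_eq_mul, vI_elim, vR_elim]
    congr 2
    rw [dotProduct_sub]
    ring
  rw [Finset.sum_congr rfl (fun b _ => h1 b), ← Finset.sum_mul, sum_char_dot hψ]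
  by_cases hz : z = x
  · subst hz
    simp
  · have : z - x ≠ 0 := sub_ne_zero.2 hz
    simp [hz, this]

theorem card_fun_ne_zero : (Fintype.card (κ → F) : ℂ) ≠ 0 := by
  exact_mod_cast Fintype.card_ne_zero

theorem elemOp_mem_span (hψ : ψ.IsPrimitive) (x y : κ → F) :
    elemOp x y ∈ Submodule.span ℂ (Set.range (heis (κ := κ) ψ)) := by
  have h := sum_heis_eq hψ x (y - x)
  rw [add_sub_cancel] at h
  have h' : elemOp x y = (Fintype.card (κ → F) : ℂ)⁻¹ •
      ∑ b : κ → F, ψ (-(b ⬝ᵥ x + 2⁻¹ * (b ⬝ᵥ (y - x)))) •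
        heis ψ (Sum.elim b (y - x) : κ ⊕ κ → F) := by
    rw [h, smul_smul, inv_mul_cancel₀ card_fun_ne_zero, one_smul]
  rw [h']
  apply Submodule.smul_mem
  apply Submodule.sum_mem
  intro b _
  apply Submodule.smul_mem
  exact Submodule.subset_span ⟨_, rfl⟩

theorem eq_sum_elemOp (A : Module.End ℂ ((κ → F) → ℂ)) :
    A = ∑ x : κ → F, ∑ y : κ → F, (A (fun j => if y = j then 1 else 0) x) • elemOp x y := by
  apply LinearMap.ext
  intro f
  funext z
  have hL : A f z = ∑ y, f y * A (fun j => if y = j then 1 else 0) z := by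
    rw [LinearMap.pi_apply_eq_sum_univ A f, Finset.sum_apply]
    simp [Pi.smul_apply]
  have hR : (∑ x : κ → F, ∑ y : κ → F,
      (A (fun j => if y = j then 1 else 0) x) • elemOp x y) f z
      = ∑ y, f y * A (fun j => if y = j then 1 else 0) z := by
    rw [LinearMap.sum_apply, Finset.sum_apply, Finset.sum_eq_single z]
    · rw [LinearMap.sum_apply, Finset.sum_apply]
      apply Finset.sum_congr rfl
      intro y _
      rw [LinearMap.smul_apply, Pi.smul_apply, elemOp_apply, if_pos rfl,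
        smul_eq_mul, mul_comm]
    · intro x _ hx
      rw [LinearMap.sum_apply, Finset.sum_apply]
      apply Finset.sum_eq_zero
      intro y _
      rw [LinearMap.smul_apply, Pi.smul_apply, elemOp_apply, if_neg (Ne.symm hx), smul_zero]
    · intro h
      exact absurd (Finset.mem_univ z) h
  rw [hL, hR]

theorem span_heis (hψ : ψ.IsPrimitive) :
    Submodule.span ℂ (Set.range (heis (κ := κ) ψ)) = ⊤ := by
  rw [eq_top_iff]
  intro A _
  rw [eq_sum_elemOp A]
  apply Submodule.sum_mem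
  intro x _
  apply Submodule.sum_mem
  intro y _
  apply Submodule.smul_mem
  exact elemOp_mem_span hψ x y

theorem card_V_eq_finrank :
    Fintype.card (κ ⊕ κ → F) = Module.finrank ℂ (Module.End ℂ ((κ → F) → ℂ)) := by
  rw [Module.finrank_linearMap, Module.finrank_fintype_fun_eq_card, Fintype.card_fun,
    Fintype.card_fun, Fintype.card_sum, pow_add]

theorem linearIndependent_heis (hψ : ψ.IsPrimitive) :
    LinearIndependent ℂ (heis (κ := κ) ψ) :=
  linearIndependent_of_top_le_span_of_card_eq_finrank (span_heis hψ).ge card_V_eq_finrank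

/-- The Heisenberg operators form a basis of the endomorphism algebra. -/
noncomputable def heisBasis (hψ : ψ.IsPrimitive) :
    Module.Basis (κ ⊕ κ → F) ℂ (Module.End ℂ ((κ → F) → ℂ)) :=
  Module.Basis.mk (linearIndependent_heis hψ) (span_heis hψ).ge

theorem heisBasis_apply (hψ : ψ.IsPrimitive) (v : κ ⊕ κ → F) :
    heisBasis (κ := κ) hψ v = heis ψ v := by
  rw [heisBasis, Module.Basis.mk_apply]

/-- the permutation of `F^{2n}` given by a symplectic matrix -/
def heisPerm (g : Matrix.symplecticGroup κ F) : (κ ⊕ κ → F) ≃ (κ ⊕ κ → F) where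
  toFun v := g.1 *ᵥ v
  invFun v := (g⁻¹).1 *ᵥ v
  left_inv v := by
    change (g⁻¹).1 *ᵥ (g.1 *ᵥ v) = v
    rw [mulVec_mulVec, ← Submonoid.coe_mul, inv_mul_cancel]
    simp
  right_inv v := by
    change g.1 *ᵥ ((g⁻¹).1 *ᵥ v) = v
    rw [mulVec_mulVec, ← Submonoid.coe_mul, mul_inv_cancel]
    simp

/-- an operator commuting with all Heisenberg operators commutes with everything -/
theorem commute_of_commute_heis (hψ : ψ.IsPrimitive) (T : Module.End ℂ ((κ → F) → ℂ))
    (hT : ∀ v : κ ⊕ κ → F, T * heis ψ v = heis ψ v * T) (A : Module.End ℂ ((κ → F) → ℂ)) :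
    T * A = A * T := by
  have hA : A ∈ Submodule.span ℂ (Set.range (heis (κ := κ) ψ)) := by
    rw [span_heis hψ]
    trivial
  induction hA using Submodule.span_induction with
  | mem x hx =>
    obtain ⟨v, rfl⟩ := hx
    exact hT v
  | zero => simp
  | add x y _ _ hx hy => rw [mul_add, add_mul, hx, hy]
  | smul c x _ hx => rw [mul_smul_comm, smul_mul_assoc, hx]

/-- an operator commuting with all Heisenberg operators is a scalar -/
theorem scalar_of_commute_heis (hψ : ψ.IsPrimitive) (T : Module.End ℂ ((κ → F) → ℂ))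
    (hT : ∀ v : κ ⊕ κ → F, T * heis ψ v = heis ψ v * T) :
    ∃ c : ℂ, T = algebraMap ℂ (Module.End ℂ ((κ → F) → ℂ)) c := by
  have h1 : T ∈ Subalgebra.center ℂ (Module.End ℂ ((κ → F) → ℂ)) := by
    rw [Subalgebra.mem_center_iff]
    intro A
    exact (commute_of_commute_heis hψ T hT A).symm
  rw [Algebra.IsCentral.center_eq_bot, Algebra.mem_bot] at h1
  obtain ⟨c, hc⟩ := h1
  exact ⟨c, hc.symm⟩

/-- Every symplectic transformation lifts to an operator normalising the Heisenberg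
operators (Skolem--Noether). -/
theorem exists_lift (h2 : (2 : F) ≠ 0) (hψ : ψ.IsPrimitive) (g : Matrix.symplecticGroup κ F) :
    ∃ T : (Module.End ℂ ((κ → F) → ℂ))ˣ,
      ∀ v : κ ⊕ κ → F, (T : Module.End ℂ ((κ → F) → ℂ)) * heis ψ v
        = heis ψ (g.1 *ᵥ v) * (T : Module.End ℂ ((κ → F) → ℂ)) := by
  set l : Module.End ℂ ((κ → F) → ℂ) ≃ₗ[ℂ] Module.End ℂ ((κ → F) → ℂ) :=
    (heisBasis (κ := κ) hψ).equiv (heisBasis hψ) (heisPerm g) with hl
  have hlv : ∀ v : κ ⊕ κ → F, l (heis ψ v) = heis ψ (g.1 *ᵥ v) := by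
    intro v
    rw [← heisBasis_apply hψ, hl, Module.Basis.equiv_apply, heisBasis_apply]
    rfl
  have hone : l 1 = 1 := by
    rw [← heis_zero ψ, hlv, mulVec_zero]
  have hmul : ∀ A B, l (A * B) = l A * l B := by
    intro A B
    have hA : A ∈ Submodule.span ℂ (Set.range (heis (κ := κ) ψ)) := by
      rw [span_heis hψ]
      trivial
    have hB : B ∈ Submodule.span ℂ (Set.range (heis (κ := κ) ψ)) := by
      rw [span_heis hψ]
      trivial
    induction hA using Submodule.span_induction with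
    | mem x hx =>
      obtain ⟨v, rfl⟩ := hx
      induction hB using Submodule.span_induction with
      | mem y hy =>
        obtain ⟨w, rfl⟩ := hy
        rw [heis_mul ψ h2, map_smul, hlv, hlv, hlv, heis_mul ψ h2, sfo_mulVec, mulVec_add]
      | zero => simp
      | add x y _ _ hx hy => rw [mul_add, map_add, hx, hy, map_add, mul_add]
      | smul c x _ hx => rw [mul_smul_comm, map_smul, hx, map_smul, mul_smul_comm]
    | zero => simp
    | add x y _ _ hx hy => rw [add_mul, map_add, hx, hy, map_add, add_mul]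
    | smul c x _ hx => rw [smul_mul_assoc, map_smul, hx, map_smul, smul_mul_assoc]
  obtain ⟨T, hT⟩ := (AlgEquiv.ofLinearEquiv l hone hmul).eq_linearEquivConjAlgEquiv
  refine ⟨LinearMap.GeneralLinearGroup.ofLinearEquiv T, ?_⟩
  intro v
  have h3 := congrArg (fun α => α (heis ψ v)) hT
  simp only [AlgEquiv.ofLinearEquiv_apply, LinearEquiv.conjAlgEquiv_apply] at h3
  rw [hlv] at h3
  rw [h3]
  apply LinearMap.ext
  intro f
  simp [LinearMap.GeneralLinearGroup.ofLinearEquiv]

end heis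

end Cfsg.Agent.Lib.Helper46.Weil
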