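import Mathlib
import Cfsg.Agent.Lib.Helper46.WeilHeis
import Cfsg.Agent.Lib.Helper46.SpOddA

set_option autoImplicit false
set_option linter.unusedSectionVars false
set_option linter.unusedSimpArgs false

namespace Cfsg.Agent.Lib.Helper46.Weil

open Matrix

section blocks

variable {F : Type*} [Field F] {κ : Type*} [Fintype κ] [DecidableEq κ]

theorem toBlocks₁₁_mul (A B : Matrix (κ ⊕ κ) (κ ⊕ κ) F) :
    (A * B).toBlocks₁₁ = A.toBlocks₁₁ * B.toBlocks₁₁ + A.toBlocks₁₂ * B.toBlocks₂₁ := by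
  conv_lhs => rw [← fromBlocks_toBlocks A, ← fromBlocks_toBlocks B, fromBlocks_multiply]
  rw [toBlocks_fromBlocks₁₁]

theorem toBlocks₁₂_mul (A B : Matrix (κ ⊕ κ) (κ ⊕ κ) F) :
    (A * B).toBlocks₁₂ = A.toBlocks₁₁ * B.toBlocks₁₂ + A.toBlocks₁₂ * B.toBlocks₂₂ := by
  conv_lhs => rw [← fromBlocks_toBlocks A, ← fromBlocks_toBlocks B, fromBlocks_multiply]
  rw [toBlocks_fromBlocks₁₂]

theorem toBlocks₂₁_mul (A B : Matrix (κ ⊕ κ) (κ ⊕ κ) F) :
    (A * B).toBlocks₂₁ = A.toBlocks₂₁ * B.toBlocks₁₁ + A.toBlocks₂₂ * B.toBlocks₂₁ := by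
  conv_lhs => rw [← fromBlocks_toBlocks A, ← fromBlocks_toBlocks B, fromBlocks_multiply]
  rw [toBlocks_fromBlocks₂₁]

theorem toBlocks₂₂_mul (A B : Matrix (κ ⊕ κ) (κ ⊕ κ) F) :
    (A * B).toBlocks₂₂ = A.toBlocks₂₁ * B.toBlocks₁₂ + A.toBlocks₂₂ * B.toBlocks₂₂ := by
  conv_lhs => rw [← fromBlocks_toBlocks A, ← fromBlocks_toBlocks B, fromBlocks_multiply]
  rw [toBlocks_fromBlocks₂₂]

theorem sp_cond (g : Matrix.symplecticGroup κ F) :
    g.1.toBlocks₁₁ᵀ * g.1.toBlocks₂₁ = g.1.toBlocks₂₁ᵀ * g.1.toBlocks₁₁ ∧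
    g.1.toBlocks₁₂ᵀ * g.1.toBlocks₂₂ = g.1.toBlocks₂₂ᵀ * g.1.toBlocks₁₂ ∧
    g.1.toBlocks₁₁ᵀ * g.1.toBlocks₂₂ - g.1.toBlocks₂₁ᵀ * g.1.toBlocks₁₂ = 1 := by
  have h := g.2
  rw [← fromBlocks_toBlocks g.1, SymplecticGroup.fromBlocks_mem_iff] at h
  exact h

theorem sp_inv_blocks (g : Matrix.symplecticGroup κ F) :
    (g⁻¹).1 = fromBlocks g.1.toBlocks₂₂ᵀ (-g.1.toBlocks₁₂ᵀ) (-g.1.toBlocks₂₁ᵀ) g.1.toBlocks₁₁ᵀ := by
  rw [SymplecticGroup.coe_inv]
  conv_lhs => rw [← fromBlocks_toBlocks g.1]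
  simp [J, fromBlocks_transpose, fromBlocks_multiply, fromBlocks_neg]

/-- The Siegel parabolic subgroup. -/
def sgB : Subgroup (Matrix.symplecticGroup κ F) where
  carrier := {g | g.1.toBlocks₂₁ = 0}
  mul_mem' := by
    intro g g' hg hg'
    change (g.1 * g'.1).toBlocks₂₁ = 0
    rw [toBlocks₂₁_mul, show g.1.toBlocks₂₁ = 0 from hg, show g'.1.toBlocks₂₁ = 0 from hg']
    simp
  one_mem' := by
    change (1 : Matrix (κ ⊕ κ) (κ ⊕ κ) F).toBlocks₂₁ = 0
    rw [← fromBlocks_one, toBlocks_fromBlocks₂₁]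
  inv_mem' := by
    intro g hg
    change (g⁻¹).1.toBlocks₂₁ = 0
    rw [sp_inv_blocks, toBlocks_fromBlocks₂₁, show g.1.toBlocks₂₁ = 0 from hg]
    simp

theorem mem_sgB (g : Matrix.symplecticGroup κ F) : g ∈ sgB ↔ g.1.toBlocks₂₁ = 0 := Iff.rfl

theorem sgB_eq {g : Matrix.symplecticGroup κ F} (hg : g ∈ sgB) :
    g.1 = fromBlocks g.1.toBlocks₁₁ g.1.toBlocks₁₂ 0 g.1.toBlocks₂₂ := by
  conv_lhs => rw [← fromBlocks_toBlocks g.1]
  rw [(mem_sgB g).1 hg]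

theorem sgB_cond {g : Matrix.symplecticGroup κ F} (hg : g ∈ sgB) :
    g.1.toBlocks₁₁ᵀ * g.1.toBlocks₂₂ = 1 ∧ g.1.toBlocks₂₂ * g.1.toBlocks₁₁ᵀ = 1 ∧
    g.1.toBlocks₁₂ᵀ * g.1.toBlocks₂₂ = g.1.toBlocks₂₂ᵀ * g.1.toBlocks₁₂ := by
  obtain ⟨_, h2, h3⟩ := sp_cond g
  rw [(mem_sgB g).1 hg] at h3
  have h4 : g.1.toBlocks₁₁ᵀ * g.1.toBlocks₂₂ = 1 := by simpa using h3
  exact ⟨h4, mul_eq_one_comm.1 h4, h2⟩

theorem sgU_mem_sgB (M : Matrix κ κ F) : sgU M ∈ sgB := by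
  rw [mem_sgB]
  change (sgUM (M + Mᵀ)).toBlocks₂₁ = 0
  rw [sgUM, toBlocks_fromBlocks₂₁]

theorem sgL_mem_sgB (A A' : Matrix κ κ F) (h : A' * A = 1) : sgL A A' h ∈ sgB := by
  rw [mem_sgB]
  change (sgLM A A').toBlocks₂₁ = 0
  rw [sgLM, toBlocks_fromBlocks₂₁]

/-- if all conjugates of Siegel unipotent elements by `g` lie in the Siegel parabolic then so
does `g`. -/
theorem mem_sgB_of_conj (h2 : (2 : F) ≠ 0) (g : Matrix.symplecticGroup κ F)
    (h : ∀ M : Matrix κ κ F, g⁻¹ * sgU M * g ∈ sgB) : g ∈ sgB := by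
  rw [mem_sgB]
  obtain ⟨h1, _, _⟩ := sp_cond g
  ext i j
  have hM := h (Matrix.single i i 1)
  rw [mem_sgB] at hM
  change ((g⁻¹).1 * sgUM (Matrix.single i i 1 + (Matrix.single i i 1)ᵀ) * g.1).toBlocks₂₁ = 0 at hM
  rw [Matrix.mul_assoc, toBlocks₂₁_mul, toBlocks₁₁_mul, toBlocks₂₁_mul, sp_inv_blocks] at hM
  simp only [toBlocks_fromBlocks₂₁, toBlocks_fromBlocks₂₂, sgUM, toBlocks_fromBlocks₁₁,
    toBlocks_fromBlocks₁₂] at hM
  have hS : (Matrix.single i i (1 : F))ᵀ = Matrix.single i i 1 := by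
    rw [Matrix.transpose_single]
  rw [hS] at hM
  have h5 : g.1.toBlocks₂₁ᵀ * (Matrix.single i i (1 : F) + Matrix.single i i 1) * g.1.toBlocks₂₁
      = 0 := by
    have : -g.1.toBlocks₂₁ᵀ * (1 * g.1.toBlocks₁₁ +
        (Matrix.single i i 1 + Matrix.single i i 1) * g.1.toBlocks₂₁) +
        g.1.toBlocks₁₁ᵀ * (0 * g.1.toBlocks₁₁ + 1 * g.1.toBlocks₂₁) = 0 := hM
    rw [Matrix.one_mul, Matrix.zero_mul, zero_add, Matrix.one_mul, h1, Matrix.mul_add,
      Matrix.neg_mul, Matrix.neg_mul] at this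
    have h' : -(g.1.toBlocks₂₁ᵀ * ((Matrix.single i i (1 : F) + Matrix.single i i 1) *
        g.1.toBlocks₂₁)) = 0 := by
      rw [← this]
      abel
    rw [Matrix.mul_assoc]
    exact neg_eq_zero.1 h'
  have h6 := congrFun (congrFun h5 j) j
  rw [Matrix.mul_add, Matrix.add_mul] at h6
  have h7 : (g.1.toBlocks₂₁ᵀ * Matrix.single i i (1 : F) * g.1.toBlocks₂₁) j j
      = g.1.toBlocks₂₁ i j * g.1.toBlocks₂₁ i j := by
    simp [Matrix.mul_apply, Matrix.single_apply, ite_and, Finset.sum_ite_eq]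
  rw [Matrix.add_apply, h7, Matrix.zero_apply, ← two_mul] at h6
  have h8 : g.1.toBlocks₂₁ i j * g.1.toBlocks₂₁ i j = 0 := by
    rcases mul_eq_zero.1 h6 with h | h
    · exact absurd h h2
    · exact h
  simpa using h8

end blocks

section index

variable {F : Type*} [Field F] [Fintype F] [DecidableEq F]
variable {κ : Type*} [Fintype κ] [DecidableEq κ]

/-- the Siegel unipotent radical as the image of a homomorphism -/
def sgUhom : Multiplicative (Matrix κ κ F) →* Matrix.symplecticGroup κ F where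
  toFun M := sgU (Multiplicative.toAdd M)
  map_one' := sgU_eq_one 0 (by simp)
  map_mul' M M' := sgU_add _ _

theorem sgB_index_modEq (h2 : (2 : F) ≠ 0) (p : ℕ) [Fact p.Prime] [CharP F p] :
    (sgB (F := F) (κ := κ)).index ≡ 1 [MOD p] := by
  let U : Subgroup (Matrix.symplecticGroup κ F) := (sgUhom (F := F) (κ := κ)).range
  have hU : IsPGroup p U := by
    rintro ⟨g, M, rfl⟩
    refine ⟨1, ?_⟩
    apply Subtype.ext
    rw [pow_one, Subgroup.coe_pow, ← map_pow]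
    have : M ^ p = 1 := by
      apply Multiplicative.toAdd.injective
      rw [toAdd_pow, toAdd_one]
      ext i j
      rw [Matrix.smul_apply, nsmul_eq_mul, CharP.cast_eq_zero F p, zero_mul, Matrix.zero_apply]
    rw [this, map_one]
    rfl
  have h1 := hU.card_modEq_card_fixedPoints (Matrix.symplecticGroup κ F ⧸ (sgB (F := F) (κ := κ)))
  rw [← Subgroup.index_eq_card] at h1
  have key : ∀ q : Matrix.symplecticGroup κ F ⧸ (sgB (F := F) (κ := κ)),
      q ∈ MulAction.fixedPoints U (Matrix.symplecticGroup κ F ⧸ (sgB (F := F) (κ := κ))) →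
      q = ((1 : Matrix.symplecticGroup κ F) : Matrix.symplecticGroup κ F ⧸ sgB) := by
    intro q hq
    induction q using QuotientGroup.induction_on with
    | H g =>
      rw [eq_comm, QuotientGroup.eq, inv_one, one_mul]
      apply mem_sgB_of_conj h2
      intro M
      have h3 := hq ⟨sgU M, ⟨Multiplicative.ofAdd M, rfl⟩⟩
      have h4 : ((sgU M * g : Matrix.symplecticGroup κ F) :
          Matrix.symplecticGroup κ F ⧸ (sgB (F := F) (κ := κ))) = g := h3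
      rw [QuotientGroup.eq] at h4
      have h5 := inv_mem h4
      have h6 : ((sgU M * g)⁻¹ * g)⁻¹ = g⁻¹ * sgU M * g := by group
      rw [h6] at h5
      exact h5
  have h3 : Nat.card (MulAction.fixedPoints U
      (Matrix.symplecticGroup κ F ⧸ (sgB (F := F) (κ := κ)))) = 1 := by
    rw [Nat.card_eq_one_iff_unique]
    constructor
    · constructor
      rintro ⟨a, ha⟩ ⟨b, hb⟩
      apply Subtype.ext
      change a = b
      rw [key a ha, key b hb]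
    · refine ⟨⟨((1 : Matrix.symplecticGroup κ F) : Matrix.symplecticGroup κ F ⧸ sgB), ?_⟩⟩
      rintro ⟨u, M, rfl⟩
      change (((sgUhom M : Matrix.symplecticGroup κ F) * 1 : Matrix.symplecticGroup κ F) :
          Matrix.symplecticGroup κ F ⧸ (sgB (F := F) (κ := κ))) = _
      rw [QuotientGroup.eq, mul_one, mul_one]
      exact inv_mem (sgU_mem_sgB _)
  rw [h3] at h1
  exact h1

theorem sgB_index_coprime (h2 : (2 : F) ≠ 0) :
    Nat.Coprime (sgB (F := F) (κ := κ)).index (Fintype.card (κ → F)) := by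
  obtain ⟨p, hp⟩ := CharP.exists F
  haveI : Fact p.Prime := ⟨CharP.char_is_prime F p⟩
  obtain ⟨k, hpp, hk⟩ := FiniteField.card F p
  rw [Fintype.card_fun, hk, ← pow_mul]
  apply Nat.Coprime.pow_right
  rw [Nat.coprime_comm, Nat.Prime.coprime_iff_not_dvd hpp]
  intro hdvd
  have h1 := sgB_index_modEq (F := F) (κ := κ) h2 p
  have h0 := Nat.modEq_zero_iff_dvd.2 hdvd
  have h3 : 1 ≡ 0 [MOD p] := h1.symm.trans h0
  have h4 := Nat.modEq_zero_iff_dvd.1 h3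
  have := Nat.le_of_dvd one_pos h4
  have := hpp.one_lt
  omega

end index

end Cfsg.Agent.Lib.Helper46.Weil
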