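import Mathlib

set_option autoImplicit false
set_option linter.unusedSectionVars false
set_option linter.unusedSimpArgs false

namespace Cfsg.Agent.Lib.Helper46.Weil

open Subgroup
open scoped IsMulCommutative

section split

variable {G A : Type*} [Group G] [Group A]

/-- Abstract splitting lemma: a central extension `E ≤ G × A` of `G` (kernel = the centre of `A`)
which splits over a subgroup `B` of finite index coprime to `N`, where some homomorphism
`δ : A → Z(A)` is the `N`-th power map on the centre, splits over `G`. -/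
theorem exists_section_of_coprime_index
    (E : Subgroup (G × A))
    (hsurj : ∀ g : G, ∃ T : A, (g, T) ∈ E)
    (hker : ∀ T : A, ((1 : G), T) ∈ E → T ∈ Subgroup.center A)
    (hker' : ∀ T : A, T ∈ Subgroup.center A → ((1 : G), T) ∈ E)
    (B : Subgroup G) [B.FiniteIndex]
    (L : B →* A) (hL : ∀ b : B, ((b : G), L b) ∈ E)
    (N : ℕ) (δ : A →* A) (hδ1 : ∀ T, δ T ∈ Subgroup.center A)
    (hδ2 : ∀ T, T ∈ Subgroup.center A → δ T = T ^ N)
    (hcop : Nat.Coprime B.index N) :
    ∃ ρ : G →* A, ∀ g, (g, ρ g) ∈ E := by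
  classical
  -- the projection
  let π : E →* G := (MonoidHom.fst G A).comp E.subtype
  have hπsurj : Function.Surjective π := by
    intro g
    obtain ⟨T, hT⟩ := hsurj g
    exact ⟨⟨(g, T), hT⟩, rfl⟩
  let P : Subgroup E := B.comap π
  have hPidx : P.index = B.index := Subgroup.index_comap_of_surjective B hπsurj
  have : P.FiniteIndex := ⟨by rw [hPidx]; exact Subgroup.FiniteIndex.index_ne_zero⟩
  -- the character of `P`
  let toB : P → B := fun x => ⟨x.1.1.1, Subgroup.mem_comap.1 x.2⟩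
  have htoB1 : toB 1 = 1 := rfl
  have htoBmul : ∀ x y : P, toB (x * y) = toB x * toB y := fun _ _ => rfl
  have hχmem : ∀ x : P, (x.1.1.2 * (L (toB x))⁻¹) ∈ Subgroup.center A := by
    intro x
    apply hker
    have h1 : ((x.1.1.1, x.1.1.2) : G × A) ∈ E := x.1.2
    have h2 := hL (toB x)
    have h3 := E.mul_mem h1 (E.inv_mem h2)
    have h4 : ((x.1.1.1, x.1.1.2) : G × A) * ((((toB x : B) : G), L (toB x)))⁻¹
        = ((1 : G), x.1.1.2 * (L (toB x))⁻¹) := by
      have h5 : ((toB x : B) : G) = x.1.1.1 := rfl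
      ext
      · simp [h5]
      · simp
    rw [h4] at h3
    exact h3
  let χ : P →* Subgroup.center A :=
    { toFun := fun x => ⟨x.1.1.2 * (L (toB x))⁻¹, hχmem x⟩
      map_one' := by
        apply Subtype.ext
        change ((1 : P) : E).1.2 * (L (toB 1))⁻¹ = 1
        rw [htoB1, map_one]
        simp
      map_mul' := by
        intro x y
        apply Subtype.ext
        have hc := hχmem y
        rw [Subgroup.mem_center_iff] at hc
        change (x * y).1.1.2 * (L (toB (x * y)))⁻¹ =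
          (x.1.1.2 * (L (toB x))⁻¹) * (y.1.1.2 * (L (toB y))⁻¹)
        rw [htoBmul, map_mul, mul_inv_rev]
        have h4 : ((x * y : P) : E).1.2 = x.1.1.2 * y.1.1.2 := rfl
        rw [h4]
        have h5 := hc ((L (toB x))⁻¹)
        calc x.1.1.2 * y.1.1.2 * ((L (toB y))⁻¹ * (L (toB x))⁻¹)
            = x.1.1.2 * ((y.1.1.2 * (L (toB y))⁻¹) * (L (toB x))⁻¹) := by group
          _ = x.1.1.2 * ((L (toB x))⁻¹ * (y.1.1.2 * (L (toB y))⁻¹)) := by rw [h5]
          _ = _ := by group }
  let φ : E →* Subgroup.center A := MonoidHom.transfer χ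
  -- value on central elements
  have hφ : ∀ (T : A) (hT : T ∈ Subgroup.center A) (hTE : ((1 : G), T) ∈ E),
      ((φ ⟨((1 : G), T), hTE⟩ : Subgroup.center A) : A) = T ^ B.index := by
    intro T hT hTE
    have hcen : ∀ y : E, y * ⟨((1 : G), T), hTE⟩ = ⟨((1 : G), T), hTE⟩ * y := by
      intro y
      apply Subtype.ext
      rw [Subgroup.mem_center_iff] at hT
      change ((y : G × A) * ((1 : G), T)) = ((1 : G), T) * (y : G × A)
      ext
      · simp
      · simpa using hT _
    have key : ∀ (k : ℕ) (g₀ : E),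
        g₀⁻¹ * (⟨((1 : G), T), hTE⟩ : E) ^ k * g₀ ∈ P →
        g₀⁻¹ * (⟨((1 : G), T), hTE⟩ : E) ^ k * g₀ = (⟨((1 : G), T), hTE⟩ : E) ^ k := by
      intro k g₀ _
      have : (⟨((1 : G), T), hTE⟩ : E) ^ k * g₀ = g₀ * (⟨((1 : G), T), hTE⟩ : E) ^ k := by
        have hc : Commute (⟨((1 : G), T), hTE⟩ : E) g₀ := (hcen g₀).symm
        exact (hc.pow_left k).eq
      rw [mul_assoc, this, ← mul_assoc, inv_mul_cancel, one_mul]
    have h1 := MonoidHom.transfer_eq_pow χ (⟨((1 : G), T), hTE⟩ : E) key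
    change (((MonoidHom.transfer χ) ⟨((1 : G), T), hTE⟩ : Subgroup.center A) : A) = _
    rw [h1]
    have hχ1 : ∀ x : P, x.1.1.1 = 1 → ((χ x : Subgroup.center A) : A) = x.1.1.2 := by
      intro x hx
      change x.1.1.2 * (L (toB x))⁻¹ = _
      have : toB x = 1 := Subtype.ext hx
      rw [this, map_one, inv_one, mul_one]
    have h2 : ((⟨((1 : G), T), hTE⟩ : E) ^ P.index).1 = ((1 : G), T ^ P.index) := by
      rw [Subgroup.coe_pow]
      ext <;> simp
    rw [hχ1 _ (by rw [h2])]
    change ((⟨((1 : G), T), hTE⟩ : E) ^ P.index).1.2 = _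
    rw [h2, hPidx]
  -- Bezout
  obtain ⟨a, b, hab⟩ : ∃ a b : ℤ, a * (B.index : ℤ) + b * (N : ℤ) = 1 :=
    (Nat.isCoprime_iff_coprime.2 hcop)
  let δ' : E →* Subgroup.center A :=
    { toFun := fun x => ⟨δ x.1.2, hδ1 _⟩
      map_one' := by
        apply Subtype.ext
        simp
      map_mul' := by
        intro x y
        apply Subtype.ext
        simp }
  let θ : E →* Subgroup.center A :=
    (zpowGroupHom a).comp φ * (zpowGroupHom b).comp δ'
  have hθ : ∀ (T : A) (hT : T ∈ Subgroup.center A) (hTE : ((1 : G), T) ∈ E),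
      ((θ ⟨((1 : G), T), hTE⟩ : Subgroup.center A) : A) = T := by
    intro T hT hTE
    change (((φ ⟨((1 : G), T), hTE⟩) ^ a * (δ' ⟨((1 : G), T), hTE⟩) ^ b :
      Subgroup.center A) : A) = T
    rw [Subgroup.coe_mul, Subgroup.coe_zpow, Subgroup.coe_zpow, hφ T hT hTE]
    change (T ^ B.index) ^ a * (δ T) ^ b = T
    rw [hδ2 T hT, ← zpow_natCast, ← zpow_natCast, ← zpow_mul, ← zpow_mul, ← zpow_add]
    have : (B.index : ℤ) * a + (N : ℤ) * b = 1 := by linarith
    rw [this, zpow_one]
  -- the section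
  choose lift hlift using hsurj
  let ρf : G → A := fun g => lift g * ((θ ⟨(g, lift g), hlift g⟩ : Subgroup.center A) : A)⁻¹
  have hρ : ∀ (g : G) (T : A) (h : (g, T) ∈ E),
      T * ((θ ⟨(g, T), h⟩ : Subgroup.center A) : A)⁻¹ = ρf g := by
    intro g T h
    set c : A := T * (lift g)⁻¹ with hc
    have hcE : ((1 : G), c) ∈ E := by
      have := E.mul_mem h (E.inv_mem (hlift g))
      simpa using this
    have hcc := hker c hcE
    have hprod : (⟨(g, T), h⟩ : E) = ⟨((1 : G), c), hcE⟩ * ⟨(g, lift g), hlift g⟩ := by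
      apply Subtype.ext
      change (g, T) = ((1 : G), c) * (g, lift g)
      ext <;> simp [hc]
    rw [hprod, map_mul, Subgroup.coe_mul, hθ c hcc hcE]
    change _ = lift g * _
    rw [Subgroup.mem_center_iff] at hcc
    have hT : T = c * lift g := by simp [hc]
    rw [hT, mul_inv_rev]
    have h6 := hcc (((θ ⟨(g, lift g), hlift g⟩ : Subgroup.center A) : A)⁻¹)
    calc c * lift g * ((((θ ⟨(g, lift g), hlift g⟩ : Subgroup.center A) : A))⁻¹ * c⁻¹)
        = lift g * ((lift g)⁻¹ * c * lift g) *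
            (((θ ⟨(g, lift g), hlift g⟩ : Subgroup.center A) : A))⁻¹ * c⁻¹ := by group
      _ = lift g * c * (((θ ⟨(g, lift g), hlift g⟩ : Subgroup.center A) : A))⁻¹ * c⁻¹ := by
          have := hcc (lift g)
          rw [show (lift g)⁻¹ * c * lift g = c from by
            rw [mul_assoc, ← this, ← mul_assoc, inv_mul_cancel, one_mul]]
      _ = lift g * (c * (((θ ⟨(g, lift g), hlift g⟩ : Subgroup.center A) : A))⁻¹) * c⁻¹ := by
          group
      _ = lift g * ((((θ ⟨(g, lift g), hlift g⟩ : Subgroup.center A) : A))⁻¹ * c) * c⁻¹ := by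
          rw [h6]
      _ = _ := by group
  have hρmul : ∀ g h : G, ρf (g * h) = ρf g * ρf h := by
    intro g h
    have hgh : (g * h, lift g * lift h) ∈ E := by
      have := E.mul_mem (hlift g) (hlift h)
      simpa using this
    rw [← hρ (g * h) (lift g * lift h) hgh]
    have hprod : (⟨(g * h, lift g * lift h), hgh⟩ : E)
        = ⟨(g, lift g), hlift g⟩ * ⟨(h, lift h), hlift h⟩ := rfl
    rw [hprod, map_mul, Subgroup.coe_mul, mul_inv_rev]
    have hcg := (θ ⟨(g, lift g), hlift g⟩ : Subgroup.center A).2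
    rw [Subgroup.mem_center_iff] at hcg
    change _ = lift g * (((θ ⟨(g, lift g), hlift g⟩ : Subgroup.center A) : A))⁻¹ *
      (lift h * (((θ ⟨(h, lift h), hlift h⟩ : Subgroup.center A) : A))⁻¹)
    have h7 : ∀ y : A, y * (((θ ⟨(g, lift g), hlift g⟩ : Subgroup.center A) : A))⁻¹
        = (((θ ⟨(g, lift g), hlift g⟩ : Subgroup.center A) : A))⁻¹ * y := by
      intro y
      have := hcg y
      calc y * (((θ ⟨(g, lift g), hlift g⟩ : Subgroup.center A) : A))⁻¹
          = (((θ ⟨(g, lift g), hlift g⟩ : Subgroup.center A) : A))⁻¹ *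
            ((((θ ⟨(g, lift g), hlift g⟩ : Subgroup.center A) : A)) * y) *
            (((θ ⟨(g, lift g), hlift g⟩ : Subgroup.center A) : A))⁻¹ := by group
        _ = (((θ ⟨(g, lift g), hlift g⟩ : Subgroup.center A) : A))⁻¹ *
            (y * (((θ ⟨(g, lift g), hlift g⟩ : Subgroup.center A) : A))) *
            (((θ ⟨(g, lift g), hlift g⟩ : Subgroup.center A) : A))⁻¹ := by rw [this]
        _ = _ := by group
    calc lift g * lift h * ((((θ ⟨(h, lift h), hlift h⟩ : Subgroup.center A) : A))⁻¹ *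
          (((θ ⟨(g, lift g), hlift g⟩ : Subgroup.center A) : A))⁻¹)
        = lift g * ((lift h * (((θ ⟨(h, lift h), hlift h⟩ : Subgroup.center A) : A))⁻¹) *
          (((θ ⟨(g, lift g), hlift g⟩ : Subgroup.center A) : A))⁻¹) := by group
      _ = lift g * ((((θ ⟨(g, lift g), hlift g⟩ : Subgroup.center A) : A))⁻¹ *
          (lift h * (((θ ⟨(h, lift h), hlift h⟩ : Subgroup.center A) : A))⁻¹)) := by rw [h7]
      _ = _ := by group
  refine ⟨MonoidHom.mk' ρf hρmul, ?_⟩
  intro g
  change (g, ρf g) ∈ E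
  have h1 : ((1 : G), (((θ ⟨(g, lift g), hlift g⟩ : Subgroup.center A) : A))⁻¹) ∈ E :=
    hker' _ (inv_mem (θ ⟨(g, lift g), hlift g⟩ : Subgroup.center A).2)
  have := E.mul_mem (hlift g) h1
  simpa [ρf] using this

end split

end Cfsg.Agent.Lib.Helper46.Weil
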