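import Mathlib
import Cfsg.Agent.Lib.Helper46.WeilHeis
import Cfsg.Agent.Lib.Helper46.WeilSplit
import Cfsg.Agent.Lib.Helper46.WeilSiegel

set_option autoImplicit false
set_option linter.unusedSectionVars false
set_option linter.unusedSimpArgs false

namespace Cfsg.Agent.Lib.Helper46.Weil

open Matrix

section lift

variable {F : Type*} [Field F] [Fintype F] [DecidableEq F]
variable {κ : Type*} [Fintype κ] [DecidableEq κ]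

theorem mulVec_dot' (A : Matrix κ κ F) (v u : κ → F) :
    (A *ᵥ v) ⬝ᵥ u = v ⬝ᵥ (Aᵀ *ᵥ u) := by
  rw [← vecMul_transpose, ← dotProduct_mulVec]

theorem dot_mulVec' (A : Matrix κ κ F) (v u : κ → F) :
    u ⬝ᵥ (A *ᵥ v) = (Aᵀ *ᵥ u) ⬝ᵥ v := by
  rw [mulVec_dot', transpose_transpose]

variable (ψ : AddChar F ℂ)

/-- The explicit lift of an element of the Siegel parabolic subgroup. -/
noncomputable def siegelOp (g : Matrix.symplecticGroup κ F) :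
    Module.End ℂ ((κ → F) → ℂ) where
  toFun f := fun x =>
    ψ (-(2⁻¹ * (x ⬝ᵥ g.1.toBlocks₁₂ *ᵥ (g.1.toBlocks₁₁ᵀ *ᵥ x)))) * f (g.1.toBlocks₁₁ᵀ *ᵥ x)
  map_add' f h := by
    funext x
    simp [mul_add]
  map_smul' c f := by
    funext x
    simp [mul_left_comm]

theorem siegelOp_apply (g : Matrix.symplecticGroup κ F) (f : (κ → F) → ℂ) (x : κ → F) :
    siegelOp ψ g f x =
      ψ (-(2⁻¹ * (x ⬝ᵥ g.1.toBlocks₁₂ *ᵥ (g.1.toBlocks₁₁ᵀ *ᵥ x)))) *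
        f (g.1.toBlocks₁₁ᵀ *ᵥ x) := rfl

theorem siegelOp_one : siegelOp ψ (1 : Matrix.symplecticGroup κ F) = 1 := by
  apply LinearMap.ext
  intro f
  funext x
  rw [siegelOp_apply]
  have h1 : ((1 : Matrix.symplecticGroup κ F) : Matrix (κ ⊕ κ) (κ ⊕ κ) F) = fromBlocks 1 0 0 1 := by
    rw [fromBlocks_one]
    rfl
  rw [h1, toBlocks_fromBlocks₁₁, toBlocks_fromBlocks₁₂]
  simp

theorem vI_mulVec_of_mem {g : Matrix.symplecticGroup κ F} (hg : g ∈ sgB) (v : κ ⊕ κ → F) :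
    vI (g.1 *ᵥ v) = g.1.toBlocks₁₁ *ᵥ vI v + g.1.toBlocks₁₂ *ᵥ vR v := by
  conv_lhs => rw [sgB_eq hg, fromBlocks_mulVec]
  rfl

theorem vR_mulVec_of_mem {g : Matrix.symplecticGroup κ F} (hg : g ∈ sgB) (v : κ ⊕ κ → F) :
    vR (g.1 *ᵥ v) = g.1.toBlocks₂₂ *ᵥ vR v := by
  conv_lhs => rw [sgB_eq hg, fromBlocks_mulVec]
  have : vR (Sum.elim (g.1.toBlocks₁₁ *ᵥ (v ∘ Sum.inl) + g.1.toBlocks₁₂ *ᵥ (v ∘ Sum.inr))
      ((0 : Matrix κ κ F) *ᵥ (v ∘ Sum.inl) + g.1.toBlocks₂₂ *ᵥ (v ∘ Sum.inr)))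
      = (0 : Matrix κ κ F) *ᵥ (v ∘ Sum.inl) + g.1.toBlocks₂₂ *ᵥ (v ∘ Sum.inr) := rfl
  rw [this, Matrix.zero_mulVec, zero_add]
  rfl

/-- the explicit lift normalises the Heisenberg operators in the right way -/
theorem siegelOp_heis (h2 : (2 : F) ≠ 0) {g : Matrix.symplecticGroup κ F} (hg : g ∈ sgB)
    (v : κ ⊕ κ → F) :
    siegelOp ψ g * heis ψ v = heis ψ (g.1 *ᵥ v) * siegelOp ψ g := by
  obtain ⟨hPR, hRP, hQR⟩ := sgB_cond hg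
  apply LinearMap.ext
  intro f
  funext x
  rw [Module.End.mul_apply, Module.End.mul_apply, siegelOp_apply, heis_apply, heis_apply,
    siegelOp_apply, vI_mulVec_of_mem hg, vR_mulVec_of_mem hg]
  set P := g.1.toBlocks₁₁ with hP
  set Q := g.1.toBlocks₁₂ with hQ
  set R := g.1.toBlocks₂₂ with hR
  set b := vI v with hb
  set a := vR v with ha
  set y := Pᵀ *ᵥ x with hy
  have e0 : Pᵀ *ᵥ (x + R *ᵥ a) = y + a := by
    rw [mulVec_add, mulVec_mulVec, hPR, one_mulVec]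
  have eRy : R *ᵥ y = x := by
    rw [hy, mulVec_mulVec, hRP, one_mulVec]
  have e1 : (P *ᵥ b + Q *ᵥ a) ⬝ᵥ x = b ⬝ᵥ y + (Q *ᵥ a) ⬝ᵥ x := by
    rw [add_dotProduct, mulVec_dot']
  have e2 : (P *ᵥ b + Q *ᵥ a) ⬝ᵥ (R *ᵥ a) = b ⬝ᵥ a + (Q *ᵥ a) ⬝ᵥ (R *ᵥ a) := by
    rw [add_dotProduct, mulVec_dot', mulVec_mulVec, hPR, one_mulVec]
  have e4 : (R *ᵥ a) ⬝ᵥ (Q *ᵥ y) = (Q *ᵥ a) ⬝ᵥ x := by
    rw [mulVec_dot', mulVec_mulVec, ← hQR, ← mulVec_mulVec, ← mulVec_dot', eRy]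
  have e3 : (x + R *ᵥ a) ⬝ᵥ (Q *ᵥ (y + a)) =
      x ⬝ᵥ Q *ᵥ y + (Q *ᵥ a) ⬝ᵥ x + (Q *ᵥ a) ⬝ᵥ x + (Q *ᵥ a) ⬝ᵥ (R *ᵥ a) := by
    rw [mulVec_add, add_dotProduct, dotProduct_add, dotProduct_add, e4,
      dotProduct_comm x (Q *ᵥ a), dotProduct_comm (R *ᵥ a) (Q *ᵥ a)]
    ring
  rw [e0, ← mul_assoc, ← mul_assoc, ← AddChar.map_add_eq_mul, ← AddChar.map_add_eq_mul,
    e1, e2, e3]
  congr 2
  field_simp
  ring

/-- the explicit lift is multiplicative on the Siegel parabolic subgroup -/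
theorem siegelOp_mul {g g' : Matrix.symplecticGroup κ F} (hg : g ∈ sgB) (hg' : g' ∈ sgB) :
    siegelOp ψ (g * g') = siegelOp ψ g * siegelOp ψ g' := by
  obtain ⟨hPR', hRP', hQR'⟩ := sgB_cond hg'
  apply LinearMap.ext
  intro f
  funext x
  rw [Module.End.mul_apply, siegelOp_apply, siegelOp_apply, siegelOp_apply]
  have h11 : ((g * g' : Matrix.symplecticGroup κ F) : Matrix (κ ⊕ κ) (κ ⊕ κ) F).toBlocks₁₁
      = g.1.toBlocks₁₁ * g'.1.toBlocks₁₁ := by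
    change (g.1 * g'.1).toBlocks₁₁ = _
    rw [toBlocks₁₁_mul, (mem_sgB g').1 hg', Matrix.mul_zero, add_zero]
  have h12 : ((g * g' : Matrix.symplecticGroup κ F) : Matrix (κ ⊕ κ) (κ ⊕ κ) F).toBlocks₁₂
      = g.1.toBlocks₁₁ * g'.1.toBlocks₁₂ + g.1.toBlocks₁₂ * g'.1.toBlocks₂₂ := by
    change (g.1 * g'.1).toBlocks₁₂ = _
    rw [toBlocks₁₂_mul]
  rw [h11, h12]
  set P := g.1.toBlocks₁₁ with hP
  set Q := g.1.toBlocks₁₂ with hQ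
  set P' := g'.1.toBlocks₁₁ with hP'
  set Q' := g'.1.toBlocks₁₂ with hQ'
  set R' := g'.1.toBlocks₂₂ with hR'
  set y := Pᵀ *ᵥ x with hy
  have e0 : (P * P')ᵀ *ᵥ x = P'ᵀ *ᵥ y := by
    rw [transpose_mul, ← mulVec_mulVec]
  have e1 : x ⬝ᵥ (P * Q' + Q * R') *ᵥ (P'ᵀ *ᵥ y)
      = y ⬝ᵥ Q' *ᵥ (P'ᵀ *ᵥ y) + x ⬝ᵥ Q *ᵥ y := by
    have e5 : R' *ᵥ (P'ᵀ *ᵥ y) = y := by rw [mulVec_mulVec, hRP', one_mulVec]
    rw [add_mulVec, dotProduct_add, ← mulVec_mulVec, ← mulVec_mulVec, dot_mulVec' P, e5]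
  rw [e0, e1, ← mul_assoc, ← AddChar.map_add_eq_mul]
  congr 2
  ring

/-- the explicit lift as a homomorphism -/
noncomputable def siegelHom : (sgB (F := F) (κ := κ)) →* Module.End ℂ ((κ → F) → ℂ) where
  toFun g := siegelOp ψ g.1
  map_one' := siegelOp_one ψ
  map_mul' g g' := siegelOp_mul ψ g.2 g'.2

end lift

end Cfsg.Agent.Lib.Helper46.Weil
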