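import Mathlib
import Cfsg.Agent.Lib.Helper46.WeilLift

set_option autoImplicit false
set_option linter.unusedSectionVars false
set_option linter.unusedSimpArgs false

namespace Cfsg.Agent.Lib.Helper46.Weil

open Matrix

section rep

variable {F : Type*} [Field F] [Fintype F] [DecidableEq F]
variable {κ : Type*} [Fintype κ] [DecidableEq κ]
variable (ψ : AddChar F ℂ)

/-- The group of pairs `(g, T)` where `T` normalises the Heisenberg operators like `g`. -/
def weilExt : Subgroup (Matrix.symplecticGroup κ F × (Module.End ℂ ((κ → F) → ℂ))ˣ) where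
  carrier := {p | ∀ v : κ ⊕ κ → F,
    (p.2 : Module.End ℂ ((κ → F) → ℂ)) * heis ψ v
      = heis ψ (p.1.1 *ᵥ v) * (p.2 : Module.End ℂ ((κ → F) → ℂ))}
  mul_mem' := by
    intro p p' hp hp' v
    change ((p.2 * p'.2 : (Module.End ℂ ((κ → F) → ℂ))ˣ) : Module.End ℂ ((κ → F) → ℂ)) * heis ψ v
      = heis ψ ((p.1.1 * p'.1.1) *ᵥ v) *
        ((p.2 * p'.2 : (Module.End ℂ ((κ → F) → ℂ))ˣ) : Module.End ℂ ((κ → F) → ℂ))
    rw [Units.val_mul, mul_assoc, hp' v, ← mul_assoc, hp, mul_assoc, mulVec_mulVec]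
  one_mem' := by
    intro v
    change ((1 : (Module.End ℂ ((κ → F) → ℂ))ˣ) : Module.End ℂ ((κ → F) → ℂ)) * heis ψ v
      = heis ψ ((1 : Matrix (κ ⊕ κ) (κ ⊕ κ) F) *ᵥ v) *
        ((1 : (Module.End ℂ ((κ → F) → ℂ))ˣ) : Module.End ℂ ((κ → F) → ℂ))
    rw [Units.val_one, one_mul, mul_one, one_mulVec]
  inv_mem' := by
    intro p hp v
    change ((p.2⁻¹ : (Module.End ℂ ((κ → F) → ℂ))ˣ) : Module.End ℂ ((κ → F) → ℂ)) * heis ψ v
      = heis ψ ((p.1⁻¹).1 *ᵥ v) *
        ((p.2⁻¹ : (Module.End ℂ ((κ → F) → ℂ))ˣ) : Module.End ℂ ((κ → F) → ℂ))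
    have h1 := hp ((p.1⁻¹).1 *ᵥ v)
    have h3 : p.1.1 *ᵥ ((p.1⁻¹).1 *ᵥ v) = v := by
      rw [mulVec_mulVec, ← Submonoid.coe_mul, mul_inv_cancel]
      simp
    rw [h3] at h1
    calc ((p.2⁻¹ : (Module.End ℂ ((κ → F) → ℂ))ˣ) : Module.End ℂ ((κ → F) → ℂ)) * heis ψ v
        = ((p.2⁻¹ : (Module.End ℂ ((κ → F) → ℂ))ˣ) : Module.End ℂ ((κ → F) → ℂ)) *
            (heis ψ v * (p.2 : Module.End ℂ ((κ → F) → ℂ))) *
            ((p.2⁻¹ : (Module.End ℂ ((κ → F) → ℂ))ˣ) : Module.End ℂ ((κ → F) → ℂ)) := by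
          rw [mul_assoc, mul_assoc, Units.mul_inv, mul_one]
      _ = ((p.2⁻¹ : (Module.End ℂ ((κ → F) → ℂ))ˣ) : Module.End ℂ ((κ → F) → ℂ)) *
            ((p.2 : Module.End ℂ ((κ → F) → ℂ)) * heis ψ ((p.1⁻¹).1 *ᵥ v)) *
            ((p.2⁻¹ : (Module.End ℂ ((κ → F) → ℂ))ˣ) : Module.End ℂ ((κ → F) → ℂ)) := by
          rw [h1]
      _ = _ := by
          rw [← mul_assoc, Units.inv_mul, one_mul]

theorem mem_weilExt (p : Matrix.symplecticGroup κ F × (Module.End ℂ ((κ → F) → ℂ))ˣ) :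
    p ∈ weilExt ψ ↔ ∀ v : κ ⊕ κ → F,
      (p.2 : Module.End ℂ ((κ → F) → ℂ)) * heis ψ v
        = heis ψ (p.1.1 *ᵥ v) * (p.2 : Module.End ℂ ((κ → F) → ℂ)) := Iff.rfl

variable {ψ}

/-- The Weil representation: a genuine homomorphism lifting the action of the symplectic group on
the Heisenberg operators. -/
theorem exists_weil_rep (h2 : (2 : F) ≠ 0) (hψ : ψ.IsPrimitive) :
    ∃ ρ : Matrix.symplecticGroup κ F →* (Module.End ℂ ((κ → F) → ℂ))ˣ,
      ∀ (g : Matrix.symplecticGroup κ F) (v : κ ⊕ κ → F),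
        (ρ g : Module.End ℂ ((κ → F) → ℂ)) * heis ψ v
          = heis ψ (g.1 *ᵥ v) * (ρ g : Module.End ℂ ((κ → F) → ℂ)) := by
  classical
  have hcomm : ∀ T : (Module.End ℂ ((κ → F) → ℂ))ˣ,
      ((1 : Matrix.symplecticGroup κ F), T) ∈ weilExt ψ →
      ∀ v : κ ⊕ κ → F, (T : Module.End ℂ ((κ → F) → ℂ)) * heis ψ v
        = heis ψ v * (T : Module.End ℂ ((κ → F) → ℂ)) := by
    intro T hT v
    have := (mem_weilExt ψ _).1 hT v
    simpa using this
  let δ : (Module.End ℂ ((κ → F) → ℂ))ˣ →* (Module.End ℂ ((κ → F) → ℂ))ˣ :=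
    (Units.map ((algebraMap ℂ (Module.End ℂ ((κ → F) → ℂ)) : ℂ →* _))).comp
      (Units.map (LinearMap.det : Module.End ℂ ((κ → F) → ℂ) →* ℂ))
  have hδv : ∀ T : (Module.End ℂ ((κ → F) → ℂ))ˣ,
      ((δ T : (Module.End ℂ ((κ → F) → ℂ))ˣ) : Module.End ℂ ((κ → F) → ℂ))
        = algebraMap ℂ _ (LinearMap.det (T : Module.End ℂ ((κ → F) → ℂ))) := fun T => rfl
  have : (sgB (F := F) (κ := κ)).FiniteIndex := Subgroup.finiteIndex_of_finite
  obtain ⟨ρ, hρ⟩ := exists_section_of_coprime_index (weilExt ψ)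
    (fun g => by
      obtain ⟨T, hT⟩ := exists_lift h2 hψ g
      exact ⟨T, hT⟩)
    (fun T hT => by
      rw [Subgroup.mem_center_iff]
      intro S
      apply Units.ext
      rw [Units.val_mul, Units.val_mul]
      exact (commute_of_commute_heis hψ _ (hcomm T hT) _).symm)
    (fun T hT => by
      rw [mem_weilExt]
      intro v
      rw [Subgroup.mem_center_iff] at hT
      have := congrArg Units.val (hT (heisU ψ h2 v))
      rw [Units.val_mul, Units.val_mul] at this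
      change heis ψ v * _ = _ * heis ψ v at this
      change _ = heis ψ ((1 : Matrix (κ ⊕ κ) (κ ⊕ κ) F) *ᵥ v) * _
      rw [one_mulVec]
      exact this.symm)
    (sgB (F := F) (κ := κ)) (siegelHom ψ).toHomUnits
    (fun b => by
      rw [mem_weilExt]
      intro v
      exact siegelOp_heis ψ h2 b.2 v)
    (Fintype.card (κ → F)) δ
    (fun T => by
      rw [Subgroup.mem_center_iff]
      intro S
      apply Units.ext
      rw [Units.val_mul, Units.val_mul, hδv]
      exact (Algebra.commutes _ _).symm)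
    (fun T hT => by
      have hT' : ((1 : Matrix.symplecticGroup κ F), T) ∈ weilExt ψ := by
        rw [mem_weilExt]
        intro v
        rw [Subgroup.mem_center_iff] at hT
        have := congrArg Units.val (hT (heisU ψ h2 v))
        rw [Units.val_mul, Units.val_mul] at this
        change heis ψ v * _ = _ * heis ψ v at this
        change _ = heis ψ ((1 : Matrix (κ ⊕ κ) (κ ⊕ κ) F) *ᵥ v) * _
        rw [one_mulVec]
        exact this.symm
      obtain ⟨c, hc⟩ := scalar_of_commute_heis hψ _ (hcomm T hT')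
      apply Units.ext
      have hdet : LinearMap.det (algebraMap ℂ (Module.End ℂ ((κ → F) → ℂ)) c)
          = c ^ Fintype.card (κ → F) := by
        rw [Algebra.algebraMap_eq_smul_one, LinearMap.det_smul, map_one, mul_one,
          Module.finrank_fintype_fun_eq_card]
      rw [hδv, Units.val_pow_eq_pow_val, hc, ← map_pow, hdet])
    (sgB_index_coprime h2)
  refine ⟨ρ, ?_⟩
  intro g v
  exact (mem_weilExt ψ _).1 (hρ g) v

end rep

end Cfsg.Agent.Lib.Helper46.Weil
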