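import Mathlib
import Cfsg.Agent.Lib.Helper46.WeilRep
import Cfsg.Agent.Lib.Helper46.SymOrbit

set_option autoImplicit false
set_option linter.unusedSectionVars false
set_option linter.unusedSimpArgs false

namespace Cfsg.Agent.Lib.Helper46.Weil

open Matrix

section odd

variable {F : Type*} [Field F] [Fintype F] [DecidableEq F]
variable {κ : Type*} [Fintype κ] [DecidableEq κ]

/-- the parity operator -/
def par : Module.End ℂ ((κ → F) → ℂ) where
  toFun f := fun x => f (-x)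
  map_add' _ _ := rfl
  map_smul' _ _ := rfl

theorem par_apply (f : (κ → F) → ℂ) (x : κ → F) : par f x = f (-x) := rfl

theorem par_mul_par : (par : Module.End ℂ ((κ → F) → ℂ)) * par = 1 := by
  apply LinearMap.ext
  intro f
  funext x
  simp [par_apply]

variable (ψ : AddChar F ℂ)

theorem par_heis (v : κ ⊕ κ → F) : par * heis ψ v = heis ψ (-v) * par := by
  apply LinearMap.ext
  intro f
  funext x
  rw [Module.End.mul_apply, Module.End.mul_apply, par_apply, heis_apply, heis_apply, par_apply,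
    vI_neg, vR_neg]
  have h1 : -x + vR v = -(x + -vR v) := by rw [neg_add, neg_neg]
  rw [h1]
  congr 2
  simp [dotProduct_neg, neg_dotProduct]

/-- the central element `-1` of the symplectic group -/
def zneg : Matrix.symplecticGroup κ F :=
  ⟨-1, SymplecticGroup.neg_mem (Submonoid.one_mem _)⟩

theorem zneg_mulVec (v : κ ⊕ κ → F) : (zneg (F := F) (κ := κ)).1 *ᵥ v = -v := by
  change (-1 : Matrix (κ ⊕ κ) (κ ⊕ κ) F) *ᵥ v = -v
  rw [neg_mulVec, one_mulVec]

theorem zneg_comm (g : Matrix.symplecticGroup κ F) : g * zneg = zneg * g := by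
  apply Subtype.ext
  change g.1 * (-1) = (-1) * g.1
  simp

variable {ψ}

/-- operators of the Weil representation commute with the parity operator -/
theorem rho_comm_par (hψ : ψ.IsPrimitive)
    (ρ : Matrix.symplecticGroup κ F →* (Module.End ℂ ((κ → F) → ℂ))ˣ)
    (hρ : ∀ (g : Matrix.symplecticGroup κ F) (v : κ ⊕ κ → F),
        (ρ g : Module.End ℂ ((κ → F) → ℂ)) * heis ψ v
          = heis ψ (g.1 *ᵥ v) * (ρ g : Module.End ℂ ((κ → F) → ℂ)))
    (g : Matrix.symplecticGroup κ F) :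
    (ρ g : Module.End ℂ ((κ → F) → ℂ)) * par = par * (ρ g : Module.End ℂ ((κ → F) → ℂ)) := by
  obtain ⟨Z, hZ⟩ : ∃ Z : Module.End ℂ ((κ → F) → ℂ),
      Z = (ρ zneg : Module.End ℂ ((κ → F) → ℂ)) := ⟨_, rfl⟩
  obtain ⟨Zi, hZi⟩ : ∃ Zi : Module.End ℂ ((κ → F) → ℂ), Zi =
    (((ρ zneg)⁻¹ : (Module.End ℂ ((κ → F) → ℂ))ˣ) : Module.End ℂ ((κ → F) → ℂ)) := ⟨_, rfl⟩
  have hZZi : Z * Zi = 1 := by rw [hZ, hZi]; exact Units.mul_inv _
  have hZiZ : Zi * Z = 1 := by rw [hZ, hZi]; exact Units.inv_mul _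
  obtain ⟨K, hK⟩ : ∃ K : Module.End ℂ ((κ → F) → ℂ), K = Z * par := ⟨_, rfl⟩
  have hKheis : ∀ v : κ ⊕ κ → F, K * heis ψ v = heis ψ v * K := by
    intro v
    rw [hK, mul_assoc, par_heis, ← mul_assoc, hZ, hρ, zneg_mulVec, neg_neg, mul_assoc]
  have hKc := commute_of_commute_heis hψ K hKheis
  have hZK : Z = K * par := by rw [hK, mul_assoc, par_mul_par, mul_one]
  have hKi : (par * Zi) * K = 1 := by
    rw [hK, mul_assoc, ← mul_assoc Zi, hZiZ, one_mul, par_mul_par]
  have h1 : (ρ g : Module.End ℂ ((κ → F) → ℂ)) * Z = Z * (ρ g : Module.End ℂ ((κ → F) → ℂ)) := by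
    rw [hZ, ← Units.val_mul, ← Units.val_mul, ← map_mul, ← map_mul, zneg_comm]
  have h1' : K * ((ρ g : Module.End ℂ ((κ → F) → ℂ)) * par)
      = K * (par * (ρ g : Module.End ℂ ((κ → F) → ℂ))) := by
    calc K * ((ρ g : Module.End ℂ ((κ → F) → ℂ)) * par)
        = (K * (ρ g : Module.End ℂ ((κ → F) → ℂ))) * par := by rw [mul_assoc]
      _ = ((ρ g : Module.End ℂ ((κ → F) → ℂ)) * K) * par := by rw [hKc]
      _ = (ρ g : Module.End ℂ ((κ → F) → ℂ)) * (K * par) := by rw [mul_assoc]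
      _ = (ρ g : Module.End ℂ ((κ → F) → ℂ)) * Z := by rw [← hZK]
      _ = Z * (ρ g : Module.End ℂ ((κ → F) → ℂ)) := h1
      _ = K * par * (ρ g : Module.End ℂ ((κ → F) → ℂ)) := by rw [← hZK]
      _ = K * (par * (ρ g : Module.End ℂ ((κ → F) → ℂ))) := by rw [mul_assoc]
  calc (ρ g : Module.End ℂ ((κ → F) → ℂ)) * par
      = (par * Zi * K) * ((ρ g : Module.End ℂ ((κ → F) → ℂ)) * par) := by rw [hKi, one_mul]
    _ = par * Zi * (K * ((ρ g : Module.End ℂ ((κ → F) → ℂ)) * par)) := by rw [mul_assoc]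
    _ = par * Zi * (K * (par * (ρ g : Module.End ℂ ((κ → F) → ℂ)))) := by rw [h1']
    _ = (par * Zi * K) * (par * (ρ g : Module.End ℂ ((κ → F) → ℂ))) := by
        rw [mul_assoc (par * Zi)]
    _ = _ := by rw [hKi, one_mul]

/-- the space of odd functions -/
def Wm : Submodule ℂ ((κ → F) → ℂ) := LinearMap.ker (par + 1)

theorem mem_Wm (f : (κ → F) → ℂ) : f ∈ (Wm : Submodule ℂ ((κ → F) → ℂ)) ↔ par f = -f := by
  rw [Wm, LinearMap.mem_ker, LinearMap.add_apply, Module.End.one_apply, add_eq_zero_iff_eq_neg]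

theorem mem_Wm' (f : (κ → F) → ℂ) :
    f ∈ (Wm : Submodule ℂ ((κ → F) → ℂ)) ↔ ∀ x, f (-x) = -f x := by
  rw [mem_Wm]
  constructor
  · intro h x
    have := congrFun h x
    rwa [par_apply] at this
  · intro h
    funext x
    rw [par_apply, h]
    rfl

theorem rho_mem_Wm (hψ : ψ.IsPrimitive)
    (ρ : Matrix.symplecticGroup κ F →* (Module.End ℂ ((κ → F) → ℂ))ˣ)
    (hρ : ∀ (g : Matrix.symplecticGroup κ F) (v : κ ⊕ κ → F),
        (ρ g : Module.End ℂ ((κ → F) → ℂ)) * heis ψ v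
          = heis ψ (g.1 *ᵥ v) * (ρ g : Module.End ℂ ((κ → F) → ℂ)))
    (g : Matrix.symplecticGroup κ F) (f : (κ → F) → ℂ) (hf : f ∈ (Wm : Submodule ℂ _)) :
    (ρ g : Module.End ℂ ((κ → F) → ℂ)) f ∈ (Wm : Submodule ℂ ((κ → F) → ℂ)) := by
  rw [mem_Wm] at hf ⊢
  have := congrArg (fun A : Module.End ℂ ((κ → F) → ℂ) => A f) (rho_comm_par hψ ρ hρ g)
  simp only [Module.End.mul_apply] at this
  rw [← this, hf, map_neg]

theorem neg_eq_self_iff (h2 : (2 : F) ≠ 0) (x : κ → F) : -x = x ↔ x = 0 := by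
  constructor
  · intro h
    funext i
    have := congrFun h i
    rw [Pi.neg_apply] at this
    have h3 : (2 : F) * x i = 0 := by
      rw [two_mul]
      nth_rw 1 [← this]
      ring
    rcases mul_eq_zero.1 h3 with h4 | h4
    · exact absurd h4 h2
    · exact h4
  · intro h
    rw [h, neg_zero]

theorem trace_par (h2 : (2 : F) ≠ 0) :
    LinearMap.trace ℂ ((κ → F) → ℂ) par = 1 := by
  classical
  rw [LinearMap.trace_eq_matrix_trace ℂ (Pi.basisFun ℂ (κ → F)), Matrix.trace]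
  have h1 : ∀ x : κ → F, Matrix.diag (LinearMap.toMatrix (Pi.basisFun ℂ (κ → F))
      (Pi.basisFun ℂ (κ → F)) par) x = if x = 0 then 1 else 0 := by
    intro x
    rw [Matrix.diag_apply, LinearMap.toMatrix_apply, Pi.basisFun_apply, Pi.basisFun_repr,
      par_apply, Pi.single_apply]
    by_cases hx : x = 0
    · rw [if_pos hx, if_pos ((neg_eq_self_iff h2 x).2 hx)]
    · rw [if_neg hx, if_neg (fun h => hx ((neg_eq_self_iff h2 x).1 h))]
  rw [Finset.sum_congr rfl (fun x _ => h1 x)]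
  simp

/-- the dimension of the space of odd functions -/
theorem finrank_Wm (h2 : (2 : F) ≠ 0) :
    2 * Module.finrank ℂ (Wm : Submodule ℂ ((κ → F) → ℂ)) + 1 = Fintype.card (κ → F) := by
  set E : Module.End ℂ ((κ → F) → ℂ) := (2⁻¹ : ℂ) • (1 - par) with hE
  have hEE : IsIdempotentElem E := by
    change E * E = E
    rw [hE, smul_mul_smul_comm, mul_sub, sub_mul, sub_mul, par_mul_par, one_mul, one_mul, mul_one]
    rw [show (1 : Module.End ℂ ((κ → F) → ℂ)) - par - (par - 1) = (2 : ℂ) • (1 - par) by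
      rw [two_smul]; abel]
    rw [smul_smul]
    norm_num
  have hrange : LinearMap.range E = Wm := by
    apply le_antisymm
    · rintro f ⟨f', rfl⟩
      rw [mem_Wm, hE, LinearMap.smul_apply, LinearMap.sub_apply, Module.End.one_apply, map_smul,
        map_sub]
      have : par (par f') = f' := by
        have := congrArg (fun A : Module.End ℂ ((κ → F) → ℂ) => A f') (par_mul_par (F := F) (κ := κ))
        simpa using this
      rw [this, ← smul_neg, neg_sub]
    · intro f hf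
      rw [mem_Wm] at hf
      refine ⟨f, ?_⟩
      rw [hE, LinearMap.smul_apply, LinearMap.sub_apply, Module.End.one_apply, hf, sub_neg_eq_add,
        ← two_smul ℂ f, smul_smul]
      norm_num
  have htr := (LinearMap.IsIdempotentElem.isProj_range E hEE).trace
  rw [hrange] at htr
  have htr2 : LinearMap.trace ℂ ((κ → F) → ℂ) E = 2⁻¹ * ((Fintype.card (κ → F) : ℂ) - 1) := by
    rw [hE, map_smul, map_sub, trace_par h2, LinearMap.trace_one,
      Module.finrank_fintype_fun_eq_card, smul_eq_mul]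
  rw [htr2] at htr
  have h3 : ((2 * Module.finrank ℂ (Wm : Submodule ℂ ((κ → F) → ℂ)) + 1 : ℕ) : ℂ)
      = (Fintype.card (κ → F) : ℂ) := by
    push_cast
    rw [← htr]
    ring
  exact_mod_cast h3

end odd

end Cfsg.Agent.Lib.Helper46.Weil
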