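import Mathlib
import Cfsg.Agent.Lib.Helper46.WeilOdd
import Cfsg.Agent.Lib.Helper05.CharBasic

set_option autoImplicit false
set_option linter.unusedSectionVars false
set_option linter.unusedSimpArgs false

namespace Cfsg.Agent.Lib.Helper46.Weil

open Matrix

section irr

variable {F : Type*} [Field F] [Fintype F] [DecidableEq F]
variable {κ : Type*} [Fintype κ] [DecidableEq κ]
variable (ψ : AddChar F ℂ)

theorem siegelOp_sgU (h2 : (2 : F) ≠ 0) (M : Matrix κ κ F) (f : (κ → F) → ℂ) (x : κ → F) :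
    siegelOp ψ (sgU M) f x = ψ (-(x ⬝ᵥ M *ᵥ x)) * f x := by
  rw [siegelOp_apply]
  have h11 : ((sgU M : Matrix.symplecticGroup κ F) : Matrix (κ ⊕ κ) (κ ⊕ κ) F).toBlocks₁₁ = 1 := by
    change (sgUM (M + Mᵀ)).toBlocks₁₁ = 1
    rw [sgUM, toBlocks_fromBlocks₁₁]
  have h12 : ((sgU M : Matrix.symplecticGroup κ F) : Matrix (κ ⊕ κ) (κ ⊕ κ) F).toBlocks₁₂
      = M + Mᵀ := by
    change (sgUM (M + Mᵀ)).toBlocks₁₂ = _
    rw [sgUM, toBlocks_fromBlocks₁₂]
  rw [h11, h12, transpose_one, one_mulVec, add_mulVec, dotProduct_add, dot_mulVec' Mᵀ,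
    transpose_transpose, dotProduct_comm (M *ᵥ x) x]
  congr 2
  field_simp
  ring

theorem siegelOp_sgL (A A' : Matrix κ κ F) (h : A' * A = 1) (f : (κ → F) → ℂ) (x : κ → F) :
    siegelOp ψ (sgL A A' h) f x = f (Aᵀ *ᵥ x) := by
  rw [siegelOp_apply]
  have h11 : ((sgL A A' h : Matrix.symplecticGroup κ F) : Matrix (κ ⊕ κ) (κ ⊕ κ) F).toBlocks₁₁
      = A := by
    change (sgLM A A').toBlocks₁₁ = A
    rw [sgLM, toBlocks_fromBlocks₁₁]
  have h12 : ((sgL A A' h : Matrix.symplecticGroup κ F) : Matrix (κ ⊕ κ) (κ ⊕ κ) F).toBlocks₁₂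
      = 0 := by
    change (sgLM A A').toBlocks₁₂ = 0
    rw [sgLM, toBlocks_fromBlocks₁₂]
  rw [h11, h12]
  simp

variable {ψ}

/-- on the Siegel parabolic subgroup the Weil representation is the explicit lift up to scalars -/
theorem rho_eq_smul_siegelOp (h2 : (2 : F) ≠ 0) (hψ : ψ.IsPrimitive)
    (ρ : Matrix.symplecticGroup κ F →* (Module.End ℂ ((κ → F) → ℂ))ˣ)
    (hρ : ∀ (g : Matrix.symplecticGroup κ F) (v : κ ⊕ κ → F),
        (ρ g : Module.End ℂ ((κ → F) → ℂ)) * heis ψ v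
          = heis ψ (g.1 *ᵥ v) * (ρ g : Module.End ℂ ((κ → F) → ℂ)))
    {g : Matrix.symplecticGroup κ F} (hg : g ∈ sgB) :
    ∃ c : ℂ, c ≠ 0 ∧ siegelOp ψ g = c • (ρ g : Module.End ℂ ((κ → F) → ℂ)) := by
  have hg' : g⁻¹ ∈ sgB := inv_mem hg
  obtain ⟨Ri, hRi⟩ : ∃ Ri : Module.End ℂ ((κ → F) → ℂ), Ri =
    (((ρ g)⁻¹ : (Module.End ℂ ((κ → F) → ℂ))ˣ) : Module.End ℂ ((κ → F) → ℂ)) := ⟨_, rfl⟩
  have hRRi : (ρ g : Module.End ℂ ((κ → F) → ℂ)) * Ri = 1 := by rw [hRi]; exact Units.mul_inv _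
  have hRiR : Ri * (ρ g : Module.End ℂ ((κ → F) → ℂ)) = 1 := by rw [hRi]; exact Units.inv_mul _
  have hRi' : ∀ v : κ ⊕ κ → F, Ri * heis ψ (g.1 *ᵥ v) = heis ψ v * Ri := by
    intro v
    calc Ri * heis ψ (g.1 *ᵥ v)
        = Ri * (heis ψ (g.1 *ᵥ v) * (ρ g : Module.End ℂ ((κ → F) → ℂ))) * Ri := by
          rw [mul_assoc, mul_assoc, hRRi, mul_one]
      _ = Ri * ((ρ g : Module.End ℂ ((κ → F) → ℂ)) * heis ψ v) * Ri := by rw [hρ]
      _ = _ := by rw [← mul_assoc, hRiR, one_mul]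
  obtain ⟨K, hK⟩ : ∃ K : Module.End ℂ ((κ → F) → ℂ), K = siegelOp ψ g * Ri := ⟨_, rfl⟩
  have hKheis : ∀ v : κ ⊕ κ → F, K * heis ψ v = heis ψ v * K := by
    intro v
    have hv : v = g.1 *ᵥ ((g⁻¹).1 *ᵥ v) := by
      rw [mulVec_mulVec, ← Submonoid.coe_mul, mul_inv_cancel]
      simp
    conv_lhs => rw [hv]
    rw [hK, mul_assoc, hRi', ← mul_assoc, siegelOp_heis ψ h2 hg, ← hv, mul_assoc]
  obtain ⟨c, hc⟩ := scalar_of_commute_heis hψ K hKheis
  have hS : siegelOp ψ g = c • (ρ g : Module.End ℂ ((κ → F) → ℂ)) := by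
    calc siegelOp ψ g = siegelOp ψ g * (Ri * (ρ g : Module.End ℂ ((κ → F) → ℂ))) := by
          rw [hRiR, mul_one]
      _ = K * (ρ g : Module.End ℂ ((κ → F) → ℂ)) := by rw [hK, mul_assoc]
      _ = _ := by rw [hc, Algebra.algebraMap_eq_smul_one, smul_mul_assoc, one_mul]
  refine ⟨c, ?_, hS⟩
  intro hc0
  rw [hc0, zero_smul] at hS
  have h1 : siegelOp ψ g * siegelOp ψ g⁻¹ = 1 := by
    rw [← siegelOp_mul ψ hg hg', mul_inv_cancel, siegelOp_one]
  rw [hS, zero_mul] at h1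
  have h3 := congrArg (fun A : Module.End ℂ ((κ → F) → ℂ) => A (fun _ => 1) 0) h1
  simp at h3

/-- a subspace invariant under the Weil representation is invariant under the explicit lifts -/
theorem siegelOp_mem_of_invariant (h2 : (2 : F) ≠ 0) (hψ : ψ.IsPrimitive)
    (ρ : Matrix.symplecticGroup κ F →* (Module.End ℂ ((κ → F) → ℂ))ˣ)
    (hρ : ∀ (g : Matrix.symplecticGroup κ F) (v : κ ⊕ κ → F),
        (ρ g : Module.End ℂ ((κ → F) → ℂ)) * heis ψ v
          = heis ψ (g.1 *ᵥ v) * (ρ g : Module.End ℂ ((κ → F) → ℂ)))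
    (U : Submodule ℂ ((κ → F) → ℂ))
    (hU : ∀ (g : Matrix.symplecticGroup κ F), ∀ f ∈ U,
      (ρ g : Module.End ℂ ((κ → F) → ℂ)) f ∈ U)
    {g : Matrix.symplecticGroup κ F} (hg : g ∈ sgB) (f : (κ → F) → ℂ) (hf : f ∈ U) :
    siegelOp ψ g f ∈ U := by
  obtain ⟨c, _, hc⟩ := rho_eq_smul_siegelOp h2 hψ ρ hρ hg
  rw [hc, LinearMap.smul_apply]
  exact U.smul_mem _ (hU g f hf)

/-- the vector of products of coordinates -/
def wv (x : κ → F) : κ × κ → F := fun p => x p.1 * x p.2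

/-- the matrix of a vector of coefficients -/
def Mb (b : κ × κ → F) : Matrix κ κ F := Matrix.of fun i j => b (i, j)

theorem dot_Mb (b : κ × κ → F) (x : κ → F) : x ⬝ᵥ (Mb b) *ᵥ x = b ⬝ᵥ wv x := by
  simp only [dotProduct, mulVec, Mb, wv, Matrix.of_apply, Fintype.sum_prod_type, Finset.mul_sum]
  apply Finset.sum_congr rfl
  intro i _
  apply Finset.sum_congr rfl
  intro j _
  ring

theorem wv_eq_iff (x x₀ : κ → F) (hx₀ : x₀ ≠ 0) : wv x = wv x₀ ↔ x = x₀ ∨ x = -x₀ := by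
  constructor
  · intro h
    obtain ⟨i₀, hi₀⟩ : ∃ i, x₀ i ≠ 0 := by
      by_contra hcon
      push Not at hcon
      exact hx₀ (funext hcon)
    have h00 := congrFun h (i₀, i₀)
    simp only [wv] at h00
    have h5 : (x i₀ - x₀ i₀) * (x i₀ + x₀ i₀) = 0 := by
      ring_nf
      rw [pow_two, pow_two, h00]
      ring
    rcases mul_eq_zero.1 h5 with h6 | h6
    · left
      have h7 : x i₀ = x₀ i₀ := sub_eq_zero.1 h6
      funext j
      have h0j := congrFun h (i₀, j)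
      simp only [wv] at h0j
      rw [h7] at h0j
      exact mul_left_cancel₀ hi₀ h0j
    · right
      have h7 : x i₀ = -x₀ i₀ := eq_neg_of_add_eq_zero_left h6
      funext j
      have h0j := congrFun h (i₀, j)
      simp only [wv] at h0j
      rw [h7] at h0j
      rw [Pi.neg_apply]
      have : x₀ i₀ * x j = x₀ i₀ * (-x₀ j) := by
        rw [mul_neg, ← h0j]
        ring
      exact mul_left_cancel₀ hi₀ this
  · rintro (h | h)
    · rw [h]
    · rw [h]
      funext p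
      simp [wv]

/-- the odd basis functions -/
noncomputable def oddFn (x₀ : κ → F) : (κ → F) → ℂ :=
  Pi.single x₀ 1 - Pi.single (-x₀) 1

theorem oddFn_apply (x₀ x : κ → F) :
    oddFn x₀ x = (if x = x₀ then 1 else 0) - (if x = -x₀ then 1 else 0) := by
  rw [oddFn, Pi.sub_apply, Pi.single_apply, Pi.single_apply]

/-- an odd function is a combination of the odd basis functions -/
theorem eq_sum_oddFn (f : (κ → F) → ℂ) (hf : f ∈ (Wm : Submodule ℂ ((κ → F) → ℂ))) :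
    f = (2⁻¹ : ℂ) • ∑ x : κ → F, f x • oddFn x := by
  rw [mem_Wm'] at hf
  funext z
  rw [Pi.smul_apply, Finset.sum_apply]
  have h1 : ∀ x : κ → F, (f x • oddFn x) z
      = (if x = z then f x else 0) - (if x = -z then f x else 0) := by
    intro x
    rw [Pi.smul_apply, oddFn_apply, smul_eq_mul, mul_sub]
    congr 1
    · by_cases h : z = x
      · rw [if_pos h, if_pos h.symm, mul_one]
      · rw [if_neg h, if_neg (Ne.symm h), mul_zero]
    · by_cases h : z = -x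
      · rw [if_pos h, if_pos (by rw [h, neg_neg]), mul_one]
      · rw [if_neg h, if_neg (fun h' => h (by rw [h', neg_neg])), mul_zero]
  rw [Finset.sum_congr rfl (fun x _ => h1 x), Finset.sum_sub_distrib, Finset.sum_ite_eq',
    Finset.sum_ite_eq', if_pos (Finset.mem_univ _), if_pos (Finset.mem_univ _), hf, smul_eq_mul]
  ring

/-- **Irreducibility**: a nonzero subspace of odd functions which is invariant under the
Weil representation contains all odd functions. -/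
theorem Wm_le_of_invariant (h2 : (2 : F) ≠ 0) (hψ : ψ.IsPrimitive)
    (ρ : Matrix.symplecticGroup κ F →* (Module.End ℂ ((κ → F) → ℂ))ˣ)
    (hρ : ∀ (g : Matrix.symplecticGroup κ F) (v : κ ⊕ κ → F),
        (ρ g : Module.End ℂ ((κ → F) → ℂ)) * heis ψ v
          = heis ψ (g.1 *ᵥ v) * (ρ g : Module.End ℂ ((κ → F) → ℂ)))
    (U : Submodule ℂ ((κ → F) → ℂ)) (hUW : U ≤ Wm) (hU0 : U ≠ ⊥)
    (hU : ∀ (g : Matrix.symplecticGroup κ F), ∀ f ∈ U,
      (ρ g : Module.End ℂ ((κ → F) → ℂ)) f ∈ U) :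
    Wm ≤ U := by
  classical
  have hinv : ∀ {g : Matrix.symplecticGroup κ F}, g ∈ sgB → ∀ f : (κ → F) → ℂ, f ∈ U →
      siegelOp ψ g f ∈ U := fun hg f hf => siegelOp_mem_of_invariant h2 hψ ρ hρ U hU hg f hf
  -- step a : some odd basis function lies in `U`
  obtain ⟨f, hfU, hf0⟩ := (Submodule.ne_bot_iff U).1 hU0
  obtain ⟨x₀, hx₀⟩ : ∃ x₀, f x₀ ≠ 0 := by
    by_contra hcon
    push Not at hcon
    exact hf0 (funext hcon)
  have hfodd := (mem_Wm' f).1 (hUW hfU)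
  have hx₀0 : x₀ ≠ 0 := by
    intro h
    apply hx₀
    have := hfodd 0
    rw [neg_zero] at this
    rw [h]
    have h3 : (2 : ℂ) * f 0 = 0 := by
      rw [two_mul]
      nth_rw 1 [this]
      ring
    rcases mul_eq_zero.1 h3 with h4 | h4
    · norm_num at h4
    · exact h4
  have hx₀neg : x₀ ≠ -x₀ := fun h => hx₀0 ((neg_eq_self_iff h2 x₀).1 h.symm)
  have hg : (∑ b : κ × κ → F, ψ (b ⬝ᵥ wv x₀) • siegelOp ψ (sgU (Mb b)) f) ∈ U := by
    apply Submodule.sum_mem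
    intro b _
    apply Submodule.smul_mem
    exact hinv (sgU_mem_sgB _) f hfU
  have hgval : (∑ b : κ × κ → F, ψ (b ⬝ᵥ wv x₀) • siegelOp ψ (sgU (Mb b)) f)
      = ((Fintype.card (κ × κ → F) : ℂ) * f x₀) • oddFn x₀ := by
    funext x
    rw [Finset.sum_apply]
    have h1 : ∀ b : κ × κ → F, (ψ (b ⬝ᵥ wv x₀) • siegelOp ψ (sgU (Mb b)) f) x
        = ψ (b ⬝ᵥ (wv x₀ - wv x)) * f x := by
      intro b
      rw [Pi.smul_apply, siegelOp_sgU ψ h2, dot_Mb, smul_eq_mul, ← mul_assoc,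
        ← AddChar.map_add_eq_mul, dotProduct_sub, sub_eq_add_neg]
    rw [Finset.sum_congr rfl (fun b _ => h1 b), ← Finset.sum_mul, sum_char_dot hψ,
      Pi.smul_apply, oddFn_apply, smul_eq_mul]
    by_cases hx1 : x = x₀
    · subst hx1
      rw [if_pos (sub_self _), if_pos rfl, if_neg hx₀neg]
      ring
    · by_cases hx2 : x = -x₀
      · have hw : wv x₀ - wv x = 0 := by
          rw [sub_eq_zero, eq_comm, wv_eq_iff x x₀ hx₀0]
          exact Or.inr hx2
        rw [if_pos hw, if_neg hx1, if_pos hx2, hx2, hfodd]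
        ring
      · have hw : wv x₀ - wv x ≠ 0 := by
          rw [sub_ne_zero, ne_comm, Ne, wv_eq_iff x x₀ hx₀0]
          push Not
          exact ⟨hx1, hx2⟩
        rw [if_neg hw, if_neg hx1, if_neg hx2]
        ring
  have hodd0 : oddFn x₀ ∈ U := by
    rw [hgval] at hg
    have hne : (Fintype.card (κ × κ → F) : ℂ) * f x₀ ≠ 0 := by
      apply mul_ne_zero _ hx₀
      exact_mod_cast Fintype.card_ne_zero
    have := U.smul_mem ((Fintype.card (κ × κ → F) : ℂ) * f x₀)⁻¹ hg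
    rwa [smul_smul, inv_mul_cancel₀ hne, one_smul] at this
  -- step b : all odd basis functions lie in `U`
  have hoddall : ∀ x₁ : κ → F, oddFn x₁ ∈ U := by
    intro x₁
    by_cases hx₁ : x₁ = 0
    · rw [hx₁, oddFn, neg_zero, sub_self]
      exact U.zero_mem
    · obtain ⟨i₀⟩ : Nonempty κ := by
        by_contra hcon
        rw [not_nonempty_iff] at hcon
        exact hx₁ (Subsingleton.elim _ _)
      obtain ⟨A₀, hA₀, hA₀x⟩ := Cfsg.Agent.Lib.Helper46.exists_det_ne_zero_mulVec_single i₀ x₀ hx₀0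
      obtain ⟨A₁, hA₁, hA₁x⟩ := Cfsg.Agent.Lib.Helper46.exists_det_ne_zero_mulVec_single i₀ x₁ hx₁
      have hA₁' : A₁⁻¹ * A₁ = 1 := Matrix.nonsing_inv_mul _ (isUnit_iff_ne_zero.2 hA₁)
      have hA₀' : A₀⁻¹ * A₀ = 1 := Matrix.nonsing_inv_mul _ (isUnit_iff_ne_zero.2 hA₀)
      have hA₀'' : A₀ * A₀⁻¹ = 1 := Matrix.mul_nonsing_inv _ (isUnit_iff_ne_zero.2 hA₀)
      have hA₁'' : A₁ * A₁⁻¹ = 1 := Matrix.mul_nonsing_inv _ (isUnit_iff_ne_zero.2 hA₁)
      -- `C x₁ = x₀`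
      set C : Matrix κ κ F := A₀ * A₁⁻¹ with hC
      set C' : Matrix κ κ F := A₁ * A₀⁻¹ with hC'
      have hCC' : C * C' = 1 := by
        rw [hC, hC', Matrix.mul_assoc, ← Matrix.mul_assoc A₁⁻¹, hA₁', Matrix.one_mul, hA₀'']
      have hC'C : C' * C = 1 := by
        rw [hC, hC', Matrix.mul_assoc, ← Matrix.mul_assoc A₀⁻¹, hA₀', Matrix.one_mul, hA₁'']
      have hCx : C *ᵥ x₁ = x₀ := by
        rw [hC, ← hA₁x, mulVec_mulVec, Matrix.mul_assoc, hA₁', Matrix.mul_one, hA₀x]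
      have hC'x : C' *ᵥ x₀ = x₁ := by
        rw [← hCx, mulVec_mulVec, hC'C, one_mulVec]
      have hT : C'ᵀᵀ * Cᵀᵀ = 1 := by
        rw [transpose_transpose, transpose_transpose, hC'C]
      have hmem := hinv (sgL_mem_sgB Cᵀ C'ᵀ (by rw [← transpose_mul, hCC', transpose_one]))
        (oddFn x₀) hodd0
      have hval : siegelOp ψ (sgL Cᵀ C'ᵀ (by rw [← transpose_mul, hCC', transpose_one]))
          (oddFn x₀) = oddFn x₁ := by
        funext x
        rw [siegelOp_sgL, transpose_transpose, oddFn_apply, oddFn_apply]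
        have e1 : C *ᵥ x = x₀ ↔ x = x₁ := by
          constructor
          · intro h
            rw [← hC'x, ← h, mulVec_mulVec, hC'C, one_mulVec]
          · intro h
            rw [h, hCx]
        have e2 : C *ᵥ x = -x₀ ↔ x = -x₁ := by
          constructor
          · intro h
            rw [← hC'x, ← mulVec_neg, ← h, mulVec_mulVec, hC'C, one_mulVec]
          · intro h
            rw [h, mulVec_neg, hCx]
        simp only [e1, e2]
      rw [hval] at hmem
      exact hmem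
  -- step c
  intro f' hf'
  rw [eq_sum_oddFn f' hf']
  apply Submodule.smul_mem
  apply Submodule.sum_mem
  intro x _
  apply Submodule.smul_mem
  exact hoddall x

end irr

end Cfsg.Agent.Lib.Helper46.Weil
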