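import Mathlib
import Cfsg.Agent.Lib.Helper46.WeilIrr

set_option autoImplicit false
set_option linter.unusedSectionVars false
set_option linter.unusedSimpArgs false

namespace Cfsg.Agent.Lib.Helper46.Weil

open Matrix

section main

variable {F : Type*} [Field F] [Fintype F] [DecidableEq F]
variable {κ : Type*} [Fintype κ] [DecidableEq κ]

/-- The odd part of the Weil representation: an irreducible complex representation of
`Sp_{2n}(q)`, `q` odd, of degree `(q ^ n - 1) / 2`. -/
theorem exists_irreducible_weil (h2 : (2 : F) ≠ 0) (hN : 3 ≤ Fintype.card (κ → F)) :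
    ∃ ρ : Representation ℂ (Matrix.symplecticGroup κ F)
      (Fin ((Fintype.card (κ → F) - 1) / 2) → ℂ), ρ.IsIrreducible := by
  classical
  obtain ⟨ψ, hψ⟩ := Cfsg.Agent.Lib.Helper46.exists_primitive_char (F := F)
  obtain ⟨ρ, hρ⟩ := exists_weil_rep (κ := κ) h2 hψ
  have hdim := finrank_Wm (F := F) (κ := κ) h2
  let ρm : Representation ℂ (Matrix.symplecticGroup κ F)
      (Wm : Submodule ℂ ((κ → F) → ℂ)) :=
    { toFun := fun g => (ρ g : Module.End ℂ ((κ → F) → ℂ)).restrict
        (fun f hf => rho_mem_Wm hψ ρ hρ g f hf)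
      map_one' := by
        apply LinearMap.ext
        intro f
        apply Subtype.ext
        simp
      map_mul' := fun g h => by
        apply LinearMap.ext
        intro f
        apply Subtype.ext
        simp }
  have hρm : ∀ (g : Matrix.symplecticGroup κ F) (f : (Wm : Submodule ℂ ((κ → F) → ℂ))),
      ((ρm g f : (Wm : Submodule ℂ ((κ → F) → ℂ))) : (κ → F) → ℂ)
        = (ρ g : Module.End ℂ ((κ → F) → ℂ)) f.1 := fun g f => rfl
  have hirr : ρm.IsIrreducible := by
    rw [Cfsg.Agent.Lib.Helper05.isIrreducible_iff]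
    constructor
    · apply Module.nontrivial_of_finrank_pos (R := ℂ)
      omega
    · intro U hU
      by_cases hU0 : U = ⊥
      · exact Or.inl hU0
      · right
        have h1 := Wm_le_of_invariant h2 hψ ρ hρ (U.map (Wm : Submodule ℂ ((κ → F) → ℂ)).subtype)
          (by
            rintro f ⟨u, _, rfl⟩
            exact u.2)
          (by
            intro h
            apply hU0
            rw [Submodule.eq_bot_iff]
            intro u hu
            have h5 : (u : (κ → F) → ℂ) ∈ U.map (Wm : Submodule ℂ ((κ → F) → ℂ)).subtype :=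
              ⟨u, hu, rfl⟩
            rw [h, Submodule.mem_bot] at h5
            exact Subtype.ext h5)
          (by
            rintro g f ⟨u, hu, rfl⟩
            exact ⟨ρm g u, hU g u hu, rfl⟩)
        rw [eq_top_iff]
        intro w _
        obtain ⟨u, hu, huw⟩ := h1 w.2
        have : u = w := Subtype.ext huw
        rw [← this]
        exact hu
  have hfin : Module.finrank ℂ (Wm : Submodule ℂ ((κ → F) → ℂ))
      = Module.finrank ℂ (Fin ((Fintype.card (κ → F) - 1) / 2) → ℂ) := by
    rw [Module.finrank_fin_fun]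
    omega
  let e : (Wm : Submodule ℂ ((κ → F) → ℂ)) ≃ₗ[ℂ] (Fin ((Fintype.card (κ → F) - 1) / 2) → ℂ) :=
    LinearEquiv.ofFinrankEq _ _ hfin
  refine ⟨Cfsg.Agent.Lib.Helper05.conjRep ρm e, ?_⟩
  apply Cfsg.Agent.Lib.Helper05.isIrreducible_of_linearEquiv e _ hirr
  intro g v
  rw [Cfsg.Agent.Lib.Helper05.conjRep_apply, LinearEquiv.symm_apply_apply]

end main

end Cfsg.Agent.Lib.Helper46.Weil
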