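import Mathlib
import Cfsg.Agent.Lib.Helper46.WeilMain
import Cfsg.Agent.Lib.Helper46.PerfectRep
import Cfsg.Agent.Lib.Helper07.SpCenter

set_option autoImplicit false
set_option linter.unusedSectionVars false
set_option linter.unusedVariables false
set_option linter.unusedSimpArgs false

/-! The part of the Weil representation on which the centre acts trivially: a non-trivial
representation of `PSp_{2n}(q)`, `q` odd, of dimension at most `(q^n+1)/2`. -/

namespace Cfsg.Agent.Lib.Helper46.Weil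

open Matrix

section psp

variable {F : Type*} [Field F] [Fintype F] [DecidableEq F]
variable {κ : Type*} [Fintype κ] [DecidableEq κ]
variable {ψ : AddChar F ℂ}

theorem zneg_mul_zneg : (zneg (F := F) (κ := κ)) * zneg = 1 := by
  apply Subtype.ext
  change (-1 : Matrix (κ ⊕ κ) (κ ⊕ κ) F) * (-1) = 1
  rw [neg_mul_neg, one_mul]

/-- the central element acts as plus or minus the parity operator -/
theorem rho_zneg (hψ : ψ.IsPrimitive)
    (ρ : Matrix.symplecticGroup κ F →* (Module.End ℂ ((κ → F) → ℂ))ˣ)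
    (hρ : ∀ (g : Matrix.symplecticGroup κ F) (v : κ ⊕ κ → F),
        (ρ g : Module.End ℂ ((κ → F) → ℂ)) * heis ψ v
          = heis ψ (g.1 *ᵥ v) * (ρ g : Module.End ℂ ((κ → F) → ℂ))) :
    ∃ c : ℂ, (c = 1 ∨ c = -1) ∧ (ρ zneg : Module.End ℂ ((κ → F) → ℂ)) = c • par := by
  obtain ⟨Z, hZ⟩ : ∃ Z : Module.End ℂ ((κ → F) → ℂ),
      Z = (ρ zneg : Module.End ℂ ((κ → F) → ℂ)) := ⟨_, rfl⟩
  have hZZ : Z * Z = 1 := by
    rw [hZ, ← Units.val_mul, ← map_mul, zneg_mul_zneg, map_one]
    rfl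
  obtain ⟨K, hK⟩ : ∃ K : Module.End ℂ ((κ → F) → ℂ), K = Z * par := ⟨_, rfl⟩
  have hKheis : ∀ v : κ ⊕ κ → F, K * heis ψ v = heis ψ v * K := by
    intro v
    rw [hK, mul_assoc, par_heis, ← mul_assoc, hZ, hρ, zneg_mulVec, neg_neg, mul_assoc]
  obtain ⟨c, hc⟩ := scalar_of_commute_heis hψ K hKheis
  have hZK : Z = c • par := by
    calc Z = K * par := by rw [hK, mul_assoc, par_mul_par, mul_one]
      _ = c • par := by rw [hc, Algebra.algebraMap_eq_smul_one, smul_mul_assoc, one_mul]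
  refine ⟨c, ?_, by rw [← hZ, hZK]⟩
  have h1 : (c * c) • (1 : Module.End ℂ ((κ → F) → ℂ)) = 1 := by
    have h0 : Z * Z = (c * c) • (1 : Module.End ℂ ((κ → F) → ℂ)) := by
      rw [hZK, smul_mul_smul_comm, par_mul_par]
    rw [← h0, hZZ]
  have h3 := congrArg (fun A : Module.End ℂ ((κ → F) → ℂ) => A (fun _ => 1) 0) h1
  simp only [LinearMap.smul_apply, Module.End.one_apply, Pi.smul_apply, smul_eq_mul,
    mul_one] at h3
  exact mul_self_eq_one_iff.1 h3

variable (ρ : Matrix.symplecticGroup κ F →* (Module.End ℂ ((κ → F) → ℂ))ˣ)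

/-- the fixed space of the central element -/
def Vz : Submodule ℂ ((κ → F) → ℂ) :=
  LinearMap.ker ((ρ zneg : Module.End ℂ ((κ → F) → ℂ)) - 1)

theorem mem_Vz (f : (κ → F) → ℂ) :
    f ∈ Vz ρ ↔ (ρ zneg : Module.End ℂ ((κ → F) → ℂ)) f = f := by
  rw [Vz, LinearMap.mem_ker, LinearMap.sub_apply, Module.End.one_apply, sub_eq_zero]

theorem rho_mem_Vz (g : Matrix.symplecticGroup κ F) (f : (κ → F) → ℂ) (hf : f ∈ Vz ρ) :
    (ρ g : Module.End ℂ ((κ → F) → ℂ)) f ∈ Vz ρ := by
  rw [mem_Vz] at hf ⊢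
  have h1 : (ρ zneg : Module.End ℂ ((κ → F) → ℂ)) * (ρ g : Module.End ℂ ((κ → F) → ℂ))
      = (ρ g : Module.End ℂ ((κ → F) → ℂ)) * (ρ zneg : Module.End ℂ ((κ → F) → ℂ)) := by
    rw [← Units.val_mul, ← Units.val_mul, ← map_mul, ← map_mul, zneg_comm]
  have := congrArg (fun A : Module.End ℂ ((κ → F) → ℂ) => A f) h1
  simp only [Module.End.mul_apply] at this
  rw [this, hf]

/-- the representation on the fixed space of the centre -/
noncomputable def rhoV : Representation ℂ (Matrix.symplecticGroup κ F) (Vz ρ) where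
  toFun := fun g => (ρ g : Module.End ℂ ((κ → F) → ℂ)).restrict
    (fun f hf => rho_mem_Vz ρ g f hf)
  map_one' := by
    apply LinearMap.ext
    intro f
    apply Subtype.ext
    simp
  map_mul' := fun g h => by
    apply LinearMap.ext
    intro f
    apply Subtype.ext
    simp

theorem rhoV_apply (g : Matrix.symplecticGroup κ F) (f : Vz ρ) :
    ((rhoV ρ g f : Vz ρ) : (κ → F) → ℂ) = (ρ g : Module.End ℂ ((κ → F) → ℂ)) f.1 := rfl

theorem rhoV_zneg : rhoV ρ zneg = 1 := by
  apply LinearMap.ext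
  intro f
  apply Subtype.ext
  rw [rhoV_apply, (mem_Vz ρ f.1).1 f.2]
  rfl

/-- the centre acts trivially -/
theorem rhoV_center [Nonempty κ] (z : Matrix.symplecticGroup κ F)
    (hz : z ∈ Subgroup.center (Matrix.symplecticGroup κ F)) : rhoV ρ z = 1 := by
  rcases Cfsg.Agent.Lib.Helper07.center_val_eq z hz with h | h
  · have : z = 1 := Subtype.ext h
    rw [this, map_one]
  · have : z = zneg := Subtype.ext h
    rw [this, rhoV_zneg]

/-- the dimension of the fixed space of the centre -/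
theorem finrank_Vz_le (h2 : (2 : F) ≠ 0) (hψ : ψ.IsPrimitive)
    (hρ : ∀ (g : Matrix.symplecticGroup κ F) (v : κ ⊕ κ → F),
        (ρ g : Module.End ℂ ((κ → F) → ℂ)) * heis ψ v
          = heis ψ (g.1 *ᵥ v) * (ρ g : Module.End ℂ ((κ → F) → ℂ))) :
    2 * Module.finrank ℂ (Vz ρ) ≤ Fintype.card (κ → F) + 1 := by
  obtain ⟨c, hc, hZc⟩ := rho_zneg hψ ρ hρ
  obtain ⟨Z, hZ⟩ : ∃ Z : Module.End ℂ ((κ → F) → ℂ),
      Z = (ρ zneg : Module.End ℂ ((κ → F) → ℂ)) := ⟨_, rfl⟩
  have hZZ : Z * Z = 1 := by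
    rw [hZ, ← Units.val_mul, ← map_mul, zneg_mul_zneg, map_one]
    rfl
  have hZZf : ∀ f, Z (Z f) = f := by
    intro f
    have := congrArg (fun A : Module.End ℂ ((κ → F) → ℂ) => A f) hZZ
    simpa using this
  set E : Module.End ℂ ((κ → F) → ℂ) := (2⁻¹ : ℂ) • (1 + Z) with hE
  have hEE : IsIdempotentElem E := by
    change E * E = E
    rw [hE, smul_mul_smul_comm, mul_add, add_mul, add_mul, hZZ, one_mul, one_mul, mul_one]
    rw [show (1 : Module.End ℂ ((κ → F) → ℂ)) + Z + (Z + 1) = (2 : ℂ) • (1 + Z) by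
      rw [two_smul]; abel]
    rw [smul_smul]
    norm_num
  have hrange : LinearMap.range E = Vz ρ := by
    apply le_antisymm
    · rintro f ⟨f', rfl⟩
      rw [mem_Vz, ← hZ, hE, LinearMap.smul_apply, LinearMap.add_apply, Module.End.one_apply,
        map_smul, map_add, hZZf, add_comm]
    · intro f hf
      rw [mem_Vz, ← hZ] at hf
      refine ⟨f, ?_⟩
      rw [hE, LinearMap.smul_apply, LinearMap.add_apply, Module.End.one_apply, hf,
        ← two_smul ℂ f, smul_smul]
      norm_num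
  have htr := (LinearMap.IsIdempotentElem.isProj_range E hEE).trace
  rw [hrange] at htr
  have htr2 : LinearMap.trace ℂ ((κ → F) → ℂ) E = 2⁻¹ * ((Fintype.card (κ → F) : ℂ) + c) := by
    rw [hE, map_smul, map_add, hZ, hZc, map_smul, trace_par h2, LinearMap.trace_one,
      Module.finrank_fintype_fun_eq_card, smul_eq_mul, smul_eq_mul, mul_one]
  rw [htr2] at htr
  rcases hc with rfl | rfl
  · have h3 : ((2 * Module.finrank ℂ (Vz ρ) : ℕ) : ℂ)
        = ((Fintype.card (κ → F) + 1 : ℕ) : ℂ) := by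
      push_cast
      rw [← htr]
      ring
    have h4 : 2 * Module.finrank ℂ (Vz ρ) = Fintype.card (κ → F) + 1 := by exact_mod_cast h3
    omega
  · have h3 : ((2 * Module.finrank ℂ (Vz ρ) + 1 : ℕ) : ℂ)
        = ((Fintype.card (κ → F) : ℕ) : ℂ) := by
      push_cast
      rw [← htr]
      ring
    have h4 : 2 * Module.finrank ℂ (Vz ρ) + 1 = Fintype.card (κ → F) := by exact_mod_cast h3
    omega

/-- the symplectic group does not act trivially on the fixed space of the centre -/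
theorem exists_rhoV_ne_one (h2 : (2 : F) ≠ 0) (hψ : ψ.IsPrimitive)
    (hρ : ∀ (g : Matrix.symplecticGroup κ F) (v : κ ⊕ κ → F),
        (ρ g : Module.End ℂ ((κ → F) → ℂ)) * heis ψ v
          = heis ψ (g.1 *ᵥ v) * (ρ g : Module.End ℂ ((κ → F) → ℂ)))
    (i₁ i₂ : κ) (h12 : i₁ ≠ i₂) : ∃ g, rhoV ρ g ≠ 1 := by
  by_contra hcon
  push Not at hcon
  obtain ⟨c, hc, hZc⟩ := rho_zneg hψ ρ hρ
  have hcc : c * c = 1 := by
    rcases hc with rfl | rfl <;> norm_num
  obtain ⟨t, ht⟩ : ∃ t : F, ψ t ≠ 1 := by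
    have h1 := hψ (one_ne_zero (α := F))
    rw [AddChar.ne_one_iff] at h1
    obtain ⟨x, hx⟩ := h1
    rw [AddChar.mulShift_apply, one_mul] at hx
    exact ⟨x, hx⟩
  let fb : (κ → F) → (κ → F) → ℂ := fun b x =>
    (if x = b then 1 else 0) + c * (if x = -b then 1 else 0)
  have hfb : ∀ b, fb b ∈ Vz ρ := by
    intro b
    rw [mem_Vz, hZc, LinearMap.smul_apply]
    funext x
    rw [Pi.smul_apply, par_apply, smul_eq_mul]
    change c * ((if -x = b then 1 else 0) + c * (if -x = -b then 1 else 0))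
      = (if x = b then 1 else 0) + c * (if x = -b then 1 else 0)
    have e1 : (-x = b) = (x = -b) := propext neg_eq_iff_eq_neg
    have e2 : (-x = -b) = (x = b) := propext neg_inj
    simp only [e1, e2]
    rw [mul_add, ← mul_assoc, hcc, one_mul, add_comm]
  have hfbb : ∀ b : κ → F, b ≠ 0 → fb b b = 1 := by
    intro b hb
    have hne : b ≠ -b := by
      intro h
      exact hb ((neg_eq_self_iff h2 b).1 h.symm)
    change (if b = b then (1 : ℂ) else 0) + c * (if b = -b then 1 else 0) = 1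
    rw [if_pos rfl, if_neg hne, mul_zero, add_zero]
  set M : Matrix κ κ F := Matrix.diagonal (Pi.single i₁ (-t)) with hM
  obtain ⟨c', hc'0, hc'⟩ := rho_eq_smul_siegelOp h2 hψ ρ hρ (sgU_mem_sgB M)
  have hfix : ∀ b, (ρ (sgU M) : Module.End ℂ ((κ → F) → ℂ)) (fb b) = fb b := by
    intro b
    have h1 := congrArg (fun A : Module.End ℂ (Vz ρ) => ((A ⟨fb b, hfb b⟩ : Vz ρ) : (κ → F) → ℂ))
      (hcon (sgU M))
    simp only [Module.End.one_apply] at h1
    rw [rhoV_apply] at h1
    exact h1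
  have hkey : ∀ b : κ → F, b ≠ 0 → ψ (-(b ⬝ᵥ M *ᵥ b)) = c' := by
    intro b hb
    have h1 := congrArg (fun A : Module.End ℂ ((κ → F) → ℂ) => A (fb b) b) hc'
    simp only [LinearMap.smul_apply, Pi.smul_apply, smul_eq_mul] at h1
    rw [siegelOp_sgU ψ h2, hfix b, hfbb b hb, mul_one, mul_one] at h1
    exact h1
  have hdot : ∀ j : κ, (Pi.single j (1 : F)) ⬝ᵥ M *ᵥ (Pi.single j (1 : F))
      = (Pi.single i₁ (-t) : κ → F) j := by
    intro j
    rw [single_one_dotProduct, hM, mulVec_diagonal, Pi.single_eq_same, mul_one]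
  have hne : ∀ j : κ, (Pi.single j (1 : F) : κ → F) ≠ 0 := by
    intro j h
    have := congrFun h j
    rw [Pi.single_eq_same] at this
    exact one_ne_zero this
  have h1 := hkey (Pi.single i₁ 1) (hne i₁)
  have h2' := hkey (Pi.single i₂ 1) (hne i₂)
  rw [hdot, Pi.single_eq_same, neg_neg] at h1
  rw [hdot, Pi.single_eq_of_ne h12.symm, neg_zero, AddChar.map_zero_eq_one] at h2'
  apply ht
  rw [h1, ← h2']

end psp

section final

theorem commutator_quotient_eq_top {G : Type*} [Group G] (N : Subgroup G) [N.Normal]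
    (h : commutator G = ⊤) : commutator (G ⧸ N) = ⊤ := by
  rw [commutator_def] at h ⊢
  have h1 := Subgroup.map_commutator (⊤ : Subgroup G) ⊤ (QuotientGroup.mk' N)
  rw [Subgroup.map_top_of_surjective _ (QuotientGroup.mk'_surjective N), h,
    Subgroup.map_top_of_surjective _ (QuotientGroup.mk'_surjective N)] at h1
  exact h1.symm

variable {F : Type*} [Field F] [Fintype F]

/-- `PSp_{2m}(q)`, `q` odd, has an irreducible complex representation of degree `d` with
`2 ≤ d ≤ (q^m+1)/2`, as soon as `Sp_{2m}(q)` is perfect. -/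
theorem exists_irreducible_PSp (h2 : (2 : F) ≠ 0) (m : ℕ) (hm : 2 ≤ m)
    (hperf : commutator (Matrix.symplecticGroup (Fin m) F) = ⊤) :
    ∃ d : ℕ, 2 ≤ d ∧ 2 * d ≤ Fintype.card F ^ m + 1 ∧
      ∃ σ : Representation ℂ (Matrix.symplecticGroup (Fin m) F ⧸
        Subgroup.center (Matrix.symplecticGroup (Fin m) F)) (Fin d → ℂ), σ.IsIrreducible := by
  classical
  obtain ⟨ψ, hψ⟩ := Cfsg.Agent.Lib.Helper46.exists_primitive_char (F := F)
  obtain ⟨ρ, hρ⟩ := exists_weil_rep (κ := Fin m) h2 hψ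
  have : Nonempty (Fin m) := ⟨⟨0, by omega⟩⟩
  let σ₀ : Representation ℂ (Matrix.symplecticGroup (Fin m) F ⧸
      Subgroup.center (Matrix.symplecticGroup (Fin m) F)) (Vz ρ) :=
    QuotientGroup.lift (Subgroup.center (Matrix.symplecticGroup (Fin m) F)) (rhoV ρ)
      (fun z hz => MonoidHom.mem_ker.2 (rhoV_center ρ z hz))
  have hσ₀ : ∃ q, σ₀ q ≠ 1 := by
    obtain ⟨g, hg⟩ := exists_rhoV_ne_one ρ h2 hψ hρ (⟨0, by omega⟩ : Fin m) ⟨1, by omega⟩
      (by
        intro h
        have := congrArg Fin.val h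
        simp at this)
    exact ⟨QuotientGroup.mk g, hg⟩
  have hperf' := commutator_quotient_eq_top
    (Subgroup.center (Matrix.symplecticGroup (Fin m) F)) hperf
  obtain ⟨d, hd2, hdle, σ, hσ⟩ := exists_irreducible_of_perfect hperf' (Vz ρ) σ₀ hσ₀
  have hdim := finrank_Vz_le ρ h2 hψ hρ
  rw [Fintype.card_fun, Fintype.card_fin] at hdim
  exact ⟨d, hd2, by omega, σ, hσ⟩

end final

end Cfsg.Agent.Lib.Helper46.Weil
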